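import Cfsg.Agent.FischerTypes.M22FiveCent

/-!
# All elements of order five in type M(22)

Each commutes with a member, hence generates the same group as the product of a chain.
-/

set_option autoImplicit false
set_option maxHeartbeats 1000000

namespace CfsgLib.FischerTypes

open Cfsg CfsgLib.U62 CfsgLib.RepBounds.Unit

/-- Multiplication by two on five points. -/
def dblFive : Equiv.Perm (Fin 5) := ⟨fun i => 2 * i, fun i => 3 * i, by decide, by decide⟩

theorem dblFive_conj : dblFive * cycFive * dblFive⁻¹ = cycFive ^ 2 := by decide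

variable {G : Type*} [Group G] [Finite G] {D : Set G}
variable (h : IsThreeTranspositionGroup D) (hp : IsPrimitiveUnderConj D) (h22 : IsOfTypeM22 G D)

include h hp h22

/-- The order-five subgroups of the centralizer of a member are conjugate in it. -/
theorem conj_in_centralizer {e y y' : G} (he : e ∈ D) (hy : orderOf y = 5) (hy' : orderOf y' = 5)
    (hye : Commute y e) (hye' : Commute y' e) :
    ∃ g : G, g * e * g⁻¹ = e ∧ Subgroup.zpowers (g * y * g⁻¹) = Subgroup.zpowers y' := by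
  have : Fact (Nat.Prime 5) := ⟨by norm_num⟩
  set K := Subgroup.centralizer ({e} : Set G) with hK
  have hKcard : Nat.card K = 5 * 3678732288 := by rw [hK, card_centralizer h hp h22 he]
  obtain ⟨k, hk⟩ := (sylow_conj_count (p := 5) hKcard (by norm_num)
    (X := Subgroup.zpowers (⟨y, Subgroup.mem_centralizer_singleton_iff.2 hye⟩ : K))
    (by rw [Nat.card_zpowers, ← Subgroup.orderOf_coe]; exact hy)).1
    (Subgroup.zpowers (⟨y', Subgroup.mem_centralizer_singleton_iff.2 hye'⟩ : K))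
    (by rw [Nat.card_zpowers, ← Subgroup.orderOf_coe]; exact hy')
  refine ⟨k, mul_inv_eq_iff_eq_mul.2 (Subgroup.mem_centralizer_singleton_iff.1 k.2), ?_⟩
  have h1 := congrArg (Subgroup.map K.subtype) hk
  rw [MonoidHom.map_zpowers, MonoidHom.map_zpowers, MonoidHom.map_zpowers] at h1
  exact h1

/-- An element of order five commuting with a member generates the group of a chain product. -/
theorem exists_chain_of_member {y e : G} (hy : orderOf y = 5) (he : e ∈ D) (hye : Commute y e) :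
    ∃ a : Fin 4 → G, MemberChain D a ∧ (∀ i, a i ∈ perp D e) ∧
      Subgroup.zpowers y = Subgroup.zpowers (five a) := by
  obtain ⟨a, ha, hae⟩ := exists_memberChain h h22 he
  obtain ⟨-, hxo, -⟩ := ha.five_props h
  obtain ⟨g, hg, hz⟩ := conj_in_centralizer h hp h22 he hxo hy (five_commute fun i => (hae i).2.2).symm hye
  refine ⟨fun i => g * a i * g⁻¹, ⟨fun i => h.2.1 g _ (ha.mem i), fun hc => ha.nc01 ((commute_conj_iff' g _ _).1 hc),
    fun hc => ha.nc12 ((commute_conj_iff' g _ _).1 hc), fun hc => ha.nc23 ((commute_conj_iff' g _ _).1 hc),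
    (commute_conj_iff' g _ _).2 ha.c02, (commute_conj_iff' g _ _).2 ha.c03, (commute_conj_iff' g _ _).2 ha.c13⟩,
    fun i => ⟨h.2.1 g _ (ha.mem i), fun hh => (hae i).2.1 (mul_left_cancel (mul_right_cancel (hh.trans hg.symm))),
      by have := (commute_conj_iff' g _ _).2 (hae i).2.2; rwa [hg] at this⟩, ?_⟩
  rw [← hz]
  congr 1
  simp [five, mul_assoc]

theorem ncard_fixed_five {y e : G} (hy : orderOf y = 5) (he : e ∈ D) (hye : Commute y e) :
    {z : G | z ∈ D ∧ Commute z y}.ncard = 10 := by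
  obtain ⟨a, ha, hae, hz⟩ := exists_chain_of_member h hp h22 hy he hye
  rw [← (five_fixed h hp h22 ha he fun i => (hae i).2.2).1]
  congr 1
  ext z
  refine ⟨fun ⟨h1, h2⟩ => ⟨h1, ?_⟩, fun ⟨h1, h2⟩ => ⟨h1, ?_⟩⟩
  · obtain ⟨i, hi⟩ : five a ∈ Subgroup.zpowers y := hz ▸ Subgroup.mem_zpowers _
    rw [← hi]; exact h2.zpow_right i
  · obtain ⟨i, hi⟩ : y ∈ Subgroup.zpowers (five a) := hz ▸ Subgroup.mem_zpowers _
    rw [← hi]; exact h2.zpow_right i

/-- Every element of order five commutes with a member. -/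
theorem five_has_fixed {y : G} (hy : orderOf y = 5) : ∃ e ∈ D, Commute y e := by
  classical
  have := Fintype.ofFinite G
  have : Fact (Nat.Prime 5) := ⟨by norm_num⟩
  obtain ⟨e, he⟩ : D.Nonempty := let ⟨d, hd, _⟩ := hp.2.1; ⟨d, hd⟩
  obtain ⟨a, ha, hae⟩ := exists_memberChain h h22 he
  obtain ⟨b, hb, hba, -, -, hdisj, -, -⟩ := five_centralizer h hp h22 ha he hae
  obtain ⟨-, hxo, -⟩ := ha.five_props h
  obtain ⟨-, hx'o, -⟩ := hb.five_props h
  obtain ⟨φ, hφ, -, hφc, hφr⟩ := ha.exists_perm_hom h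
  obtain ⟨ψ, hψ, -, hψc, hψr⟩ := hb.exists_perm_hom h
  have hab : ∀ s ∈ φ.range, ∀ t ∈ ψ.range, Commute s t := by
    intro s hs t ht
    rw [hφr] at hs; rw [hψr] at ht
    have h1 : Subgroup.closure (Set.range a) ≤ Subgroup.centralizer (Set.range b) := by
      rw [Subgroup.closure_le]
      rintro _ ⟨i, rfl⟩
      rw [SetLike.mem_coe, Subgroup.mem_centralizer_iff]
      rintro _ ⟨j, rfl⟩
      exact (hba j i).eq
    have h2 : Subgroup.closure (Set.range b) ≤ Subgroup.centralizer ({s} : Set G) := by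
      rw [Subgroup.closure_le]
      intro w hw
      exact Subgroup.mem_centralizer_singleton_iff.2 (Subgroup.mem_centralizer_iff.1 (h1 hs) w hw)
    exact (Subgroup.mem_centralizer_singleton_iff.1 (h2 ht)).symm
  set x := five a with hx
  set x' := five b with hx'
  have hxx : Commute x x' := hab x ⟨cycFive, hφc⟩ x' ⟨cycFive, hψc⟩
  let P : ℕ → ℕ → Prop := fun i j => ∃ d ∈ D, Commute d (x ^ i * x' ^ j)
  have hmod : ∀ {z : G}, orderOf z = 5 → ∀ i, z ^ (i % 5) = z ^ i := fun hz i => by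
    rw [← hz, pow_mod_orderOf]
  have hP1 : ∀ i j, P i j → P (2 * i % 5) j := by
    rintro i j ⟨d, hd, hc⟩
    refine ⟨φ dblFive * d * (φ dblFive)⁻¹, h.2.1 _ d hd, ?_⟩
    have h1 := (commute_conj_iff' (φ dblFive) _ _).2 hc
    rwa [show φ dblFive * (x ^ i * x' ^ j) * (φ dblFive)⁻¹ =
      (φ dblFive * x * (φ dblFive)⁻¹) ^ i * (φ dblFive * x' * (φ dblFive)⁻¹) ^ j by
        rw [conj_pow, conj_pow]; group,
      show φ dblFive * x * (φ dblFive)⁻¹ = x ^ 2 by rw [← hφc, ← map_inv, ← map_mul, ← map_mul, dblFive_conj, map_pow],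
      show φ dblFive * x' * (φ dblFive)⁻¹ = x' by
        rw [(hab _ ⟨dblFive, rfl⟩ x' ⟨cycFive, hψc⟩).eq, mul_inv_cancel_right],
      ← pow_mul, ← hmod hxo] at h1
  have hP2 : ∀ i j, P i j → P i (2 * j % 5) := by
    rintro i j ⟨d, hd, hc⟩
    refine ⟨ψ dblFive * d * (ψ dblFive)⁻¹, h.2.1 _ d hd, ?_⟩
    have h1 := (commute_conj_iff' (ψ dblFive) _ _).2 hc
    rwa [show ψ dblFive * (x ^ i * x' ^ j) * (ψ dblFive)⁻¹ =
      (ψ dblFive * x * (ψ dblFive)⁻¹) ^ i * (ψ dblFive * x' * (ψ dblFive)⁻¹) ^ j by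
        rw [conj_pow, conj_pow]; group,
      show ψ dblFive * x' * (ψ dblFive)⁻¹ = x' ^ 2 by
        rw [← hψc, ← map_inv, ← map_mul, ← map_mul, dblFive_conj, map_pow],
      show ψ dblFive * x * (ψ dblFive)⁻¹ = x by
        rw [← (hab x ⟨cycFive, hφc⟩ _ ⟨dblFive, rfl⟩).eq, mul_inv_cancel_right],
      ← pow_mul, ← hmod hx'o] at h1
  -- all powers are as `x * x'`
  have hspread : ∀ i j, 0 < i → i < 5 → 0 < j → j < 5 → (P i j ↔ P 1 1) := by
    intro i j i0 i5 j0 j5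
    have s1 : ∀ j, P 1 j → P 2 j ∧ P 4 j ∧ P 3 j := fun j hP =>
      ⟨hP1 1 j hP, hP1 2 j (hP1 1 j hP), hP1 4 j (hP1 2 j (hP1 1 j hP))⟩
    have s2 : ∀ j, (P 2 j → P 1 j) ∧ (P 4 j → P 1 j) ∧ (P 3 j → P 1 j) := fun j =>
      ⟨fun hP => hP1 3 j (hP1 4 j (hP1 2 j hP)), fun hP => hP1 3 j (hP1 4 j hP), fun hP => hP1 3 j hP⟩
    have t1 : P 1 1 → P 1 2 ∧ P 1 4 ∧ P 1 3 := fun hP =>
      ⟨hP2 1 1 hP, hP2 1 2 (hP2 1 1 hP), hP2 1 4 (hP2 1 2 (hP2 1 1 hP))⟩
    have t2 : (P 1 2 → P 1 1) ∧ (P 1 4 → P 1 1) ∧ (P 1 3 → P 1 1) :=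
      ⟨fun hP => hP2 1 3 (hP2 1 4 (hP2 1 2 hP)), fun hP => hP2 1 3 (hP2 1 4 hP), fun hP => hP2 1 3 hP⟩
    have hi : P i j ↔ P 1 j := by
      obtain ⟨a1, a2, a3⟩ := s2 j
      interval_cases i
      exacts [Iff.rfl, ⟨a1, fun hP => (s1 j hP).1⟩, ⟨a3, fun hP => (s1 j hP).2.2⟩, ⟨a2, fun hP => (s1 j hP).2.1⟩]
    rw [hi]
    obtain ⟨b1, b2, b3⟩ := t2
    interval_cases j
    exacts [Iff.rfl, ⟨b1, fun hP => (t1 hP).1⟩, ⟨b3, fun hP => (t1 hP).2.2⟩, ⟨b2, fun hP => (t1 hP).2.1⟩]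
  -- the group of order twenty-five
  let ρ : ↥(Subgroup.zpowers x) × ↥(Subgroup.zpowers x') →* G :=
    MonoidHom.noncommCoprod (Subgroup.zpowers x).subtype (Subgroup.zpowers x').subtype (by
      rintro ⟨_, i, rfl⟩ ⟨_, j, rfl⟩; exact (hxx.zpow_left i).zpow_right j)
  have hx'R : Subgroup.zpowers x' ≤ Subgroup.closure (Set.range b) :=
    Subgroup.zpowers_le.2 (hψr ▸ ⟨cycFive, hψc⟩)
  have hρ : Function.Injective ρ := by
    intro q q' hq
    have hq' : q.1.1 * q.2.1 = q'.1.1 * q'.2.1 := hq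
    have h1 : q'.1.1⁻¹ * q.1.1 = q'.2.1 * q.2.1⁻¹ := by
      rw [eq_mul_inv_iff_mul_eq, mul_assoc, hq', inv_mul_cancel_left]
    have h2 : q'.1.1⁻¹ * q.1.1 ∈ Subgroup.zpowers x ⊓ Subgroup.closure (Set.range b) :=
      Subgroup.mem_inf.2 ⟨mul_mem (inv_mem q'.1.2) q.1.2, h1 ▸ hx'R (mul_mem q'.2.2 (inv_mem q.2.2))⟩
    rw [hdisj, Subgroup.mem_bot] at h2
    rw [h2, eq_comm, mul_inv_eq_one] at h1
    exact Prod.ext (Subtype.ext (inv_mul_eq_one.1 h2).symm) (Subtype.ext h1.symm)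
  let f : Fin 5 × Fin 5 → ↥(Subgroup.zpowers x) × ↥(Subgroup.zpowers x') := fun q =>
    (⟨x ^ (q.1 : ℕ), pow_mem (Subgroup.mem_zpowers x) _⟩, ⟨x' ^ (q.2 : ℕ), pow_mem (Subgroup.mem_zpowers x') _⟩)
  have hf : Function.Bijective f := by
    refine (Nat.bijective_iff_injective_and_card f).2 ⟨fun q q' hq => ?_, ?_⟩
    · simp only [f, Prod.mk.injEq, Subtype.mk.injEq] at hq
      have e1 : (q.1 : ℕ) = q'.1 :=
        pow_injOn_Iio_orderOf (by rw [hxo]; exact Set.mem_Iio.2 q.1.2) (by rw [hxo]; exact Set.mem_Iio.2 q'.1.2) hq.1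
      have e2 : (q.2 : ℕ) = q'.2 :=
        pow_injOn_Iio_orderOf (by rw [hx'o]; exact Set.mem_Iio.2 q.2.2) (by rw [hx'o]; exact Set.mem_Iio.2 q'.2.2) hq.2
      exact Prod.ext (Fin.ext e1) (Fin.ext e2)
    · rw [Nat.card_prod, Nat.card_prod, Nat.card_zpowers, Nat.card_zpowers, hxo, hx'o]; simp
  have hρo : ∀ g, g ≠ 1 → orderOf (ρ g) = 5 := fun g hg => by
    rw [orderOf_injective ρ hρ]
    have h5 : g ^ 5 = 1 := by
      obtain ⟨⟨i, j⟩, rfl⟩ := hf.2 g
      refine Prod.ext (Subtype.ext ?_) (Subtype.ext ?_) <;>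
        simp only [f, Prod.pow_fst, Prod.pow_snd, SubmonoidClass.coe_pow, Prod.fst_one, Prod.snd_one, OneMemClass.coe_one]
      · rw [← pow_mul, mul_comm, pow_mul, (show x ^ 5 = 1 from hxo ▸ pow_orderOf_eq_one x), one_pow]
      · rw [← pow_mul, mul_comm, pow_mul, (show x' ^ 5 = 1 from hx'o ▸ pow_orderOf_eq_one x'), one_pow]
    exact orderOf_eq_prime h5 hg
  have hPall : ∀ q : Fin 5 × Fin 5, P q.1 q.2 := by
    by_contra hno
    push Not at hno
    obtain ⟨⟨i0, j0⟩, hno⟩ := hno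
    have ex : ∀ i : ℕ, P i 0 ∧ P 0 i := fun i =>
      ⟨⟨e, he, by simpa using (five_commute fun k => (hae k).2.2).pow_right i⟩,
        ⟨a 0, ha.mem 0, by simpa using (five_commute fun k => (hba k 0).symm).pow_right i⟩⟩
    have h11 : ¬ P 1 1 := fun hP => by
      rcases Nat.eq_zero_or_pos i0.1 with hi | hi
      · exact hno (hi ▸ (ex j0).2)
      rcases Nat.eq_zero_or_pos j0.1 with hj | hj
      · exact hno (hj ▸ (ex i0).1)
      exact hno ((hspread _ _ hi i0.2 hj j0.2).2 hP)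
    letI : MulAction (↥(Subgroup.zpowers x) × ↥(Subgroup.zpowers x')) ↥D :=
      { smul := fun g d => ⟨ρ g * d.1 * (ρ g)⁻¹, h.2.1 _ d.1 d.2⟩
        one_smul := fun d => Subtype.ext (by show ρ 1 * d.1 * (ρ 1)⁻¹ = d.1; simp)
        mul_smul := fun g k d => Subtype.ext (by
          show ρ (g * k) * d.1 * (ρ (g * k))⁻¹ = ρ g * (ρ k * d.1 * (ρ k)⁻¹) * (ρ g)⁻¹
          rw [map_mul]; group) }
    have := Fintype.ofFinite (Quotient (MulAction.orbitRel (↥(Subgroup.zpowers x) × ↥(Subgroup.zpowers x')) ↥D))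
    have hsum := MulAction.sum_card_fixedBy_eq_card_orbits_mul_card_group
      (↥(Subgroup.zpowers x) × ↥(Subgroup.zpowers x')) ↥D
    have hval : ∀ g, Fintype.card (MulAction.fixedBy ↥D g) = {z : G | z ∈ D ∧ Commute z (ρ g)}.ncard := by
      intro g
      rw [← Nat.card_eq_fintype_card, ← Nat.card_coe_set_eq]
      refine Nat.card_congr
        { toFun := fun d => ⟨d.1.1, d.1.2, ?_⟩
          invFun := fun z => ⟨⟨z.1, z.2.1⟩, ?_⟩
          left_inv := fun _ => rfl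
          right_inv := fun _ => rfl }
      · have h2 : ρ g * d.1.1 * (ρ g)⁻¹ = d.1.1 := congrArg Subtype.val d.2
        exact (mul_inv_eq_iff_eq_mul.1 h2).symm
      · exact Subtype.ext (mul_inv_eq_iff_eq_mul.2 z.2.2.eq.symm)
    have hfq : ∀ q, Fintype.card (MulAction.fixedBy ↥D (f q)) =
        if q = (0, 0) then 3510 else if q.1 = 0 ∨ q.2 = 0 then 10 else 0 := by
      intro q
      rw [hval]
      have hρf : ρ (f q) = x ^ (q.1 : ℕ) * x' ^ (q.2 : ℕ) := rfl
      split_ifs with h0 h1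
      · rw [show ρ (f q) = 1 by rw [hρf, h0]; simp]
        rw [show {z : G | z ∈ D ∧ Commute z (1 : G)} = D by ext; simp]
        exact ncard_D h hp h22
      · have hne : f q ≠ 1 := fun hh => h0 (hf.1 (hh.trans (by simp [f, Prod.ext_iff, Subtype.ext_iff])))
        obtain ⟨d, hd, hc⟩ : P q.1 q.2 := by
          rcases h1 with h1 | h1
          · rw [h1]; exact (ex _).2
          · rw [h1]; exact (ex _).1
        exact ncard_fixed_five h hp h22 (hρo _ hne) hd (hρf ▸ hc.symm)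
      · rw [show {z : G | z ∈ D ∧ Commute z (ρ (f q))} = ∅ from ?_, Set.ncard_empty]
        push Not at h1
        refine Set.eq_empty_of_forall_notMem fun z hz => h11 ((hspread _ _ (Nat.pos_of_ne_zero fun hh =>
          h1.1 (Fin.ext hh)) q.1.2 (Nat.pos_of_ne_zero fun hh => h1.2 (Fin.ext hh)) q.2.2).1 ⟨z, hz.1, hρf ▸ hz.2⟩)
    rw [← Fintype.sum_bijective f hf _ _ (fun _ => rfl), Finset.sum_congr rfl (fun q _ => hfq q)] at hsum
    have h25 : Fintype.card (↥(Subgroup.zpowers x) × ↥(Subgroup.zpowers x')) = 25 := by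
      rw [← Fintype.card_of_bijective hf]; rfl
    rw [h25, Fintype.sum_prod_type] at hsum
    simp [Fin.sum_univ_five, Prod.ext_iff] at hsum
    omega
  -- Sylow
  have hcardP : Nat.card ρ.range = 5 ^ (Nat.card G).factorization 5 := by
    rw [← Nat.card_congr (MonoidHom.ofInjective hρ).toEquiv, Nat.card_prod, Nat.card_zpowers, Nat.card_zpowers,
      hxo, hx'o, card_group h hp h22, show (64561751654400 : ℕ) = 5 ^ 2 * 2582470066176 by norm_num,
      Nat.factorization_mul (by norm_num) (by norm_num), Finsupp.add_apply,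
      (by norm_num : Nat.Prime 5).factorization_pow, Finsupp.single_eq_same,
      Nat.factorization_eq_zero_of_not_dvd (by norm_num : ¬ 5 ∣ 2582470066176)]
    rfl
  have hYp : IsPGroup 5 ↥(Subgroup.zpowers y) := IsPGroup.of_card (n := 1) (by rw [Nat.card_zpowers, hy, pow_one])
  obtain ⟨Q, hQ⟩ := hYp.exists_le_sylow
  obtain ⟨g, hg⟩ := MulAction.exists_smul_eq G (Sylow.ofCard ρ.range hcardP) Q
  have hymem : y ∈ ρ.range.map (MulAut.conj g).toMonoidHom := by
    have hgc : ρ.range.map (MulAut.conj g).toMonoidHom = (Q : Subgroup G) :=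
      congrArg (fun S : Sylow 5 G => (S : Subgroup G)) hg
    exact hgc ▸ hQ (Subgroup.mem_zpowers y)
  obtain ⟨_, ⟨k, rfl⟩, rfl⟩ := hymem
  obtain ⟨q, rfl⟩ := hf.2 k
  obtain ⟨d, hd, hc⟩ := hPall q
  exact ⟨g * d * g⁻¹, h.2.1 g d hd, (commute_conj_iff' g _ d).2 hc.symm⟩

theorem five_local {y : G} (hy : orderOf y = 5) : ∃ (a : Fin 4 → G) (e : G), e ∈ D ∧ MemberChain D a ∧
    (∀ i, a i ∈ perp D e) ∧ Subgroup.zpowers y = Subgroup.zpowers (five a) := by
  obtain ⟨e, he, hye⟩ := five_has_fixed h hp h22 hy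
  obtain ⟨a, ha, hae, hz⟩ := exists_chain_of_member h hp h22 hy he hye
  exact ⟨a, e, he, ha, hae, hz⟩

end CfsgLib.FischerTypes
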