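import Cfsg.Agent.FischerTypes.M22Five

/-!
# The centralizer of an element of order five in type M(22)

It is the product of its cyclic group and a symmetric group of degree five, and every element of order five
is of this kind.
-/

set_option autoImplicit false
set_option maxHeartbeats 1000000

namespace CfsgLib.FischerTypes

open Cfsg CfsgLib.U62 CfsgLib.RepBounds.Unit

variable {G : Type*} [Group G] [Finite G] {D : Set G}
variable (h : IsThreeTranspositionGroup D) (hp : IsPrimitiveUnderConj D) (h22 : IsOfTypeM22 G D)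

include h hp h22

theorem card_five_stab {a : Fin 4 → G} (ha : MemberChain D a) {e q q' : G} (he : e ∈ D)
    (hea : ∀ i, a i ∈ perp D e) (hq : q ∈ perp D e) (hq' : q' ∈ perp D e) (hnc : ¬ Commute q q')
    (hqa : ∀ i, Commute q (a i)) (hq'a : ∀ i, Commute q' (a i)) :
    Nat.card ↥(Subgroup.centralizer ({five a, e, q, q'} : Set G)) ≤ 10 := by
  classical
  obtain ⟨M⟩ := exists_perpModel h h22 he
  choose p p1 p2 p3 using fun i => M.exists_pt (hea i)
  have cm : ∀ i j, Commute (a i) (a j) ↔ herm M.C (p j) (p i) = 0 := fun i j =>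
    M.commute_iff (hea i) (hea j) (p1 i) (p1 j) (p2 j) (p3 i) (p3 j)
  have sw : ∀ {x y : I6 → M.K}, herm M.C x y = 0 → herm M.C y x = 0 := fun hxy => by
    rw [← conj_herm, hxy, map_zero]
  have hch : IsChain4 M.C p := ⟨p1, fun h0 => ha.nc01 ((cm 0 1).2 (sw h0)),
    fun h0 => ha.nc12 ((cm 1 2).2 (sw h0)), fun h0 => ha.nc23 ((cm 2 3).2 (sw h0)),
    sw ((cm 0 2).1 ha.c02), sw ((cm 0 3).1 ha.c03), sw ((cm 1 3).1 ha.c13)⟩
  obtain ⟨u, hu, hu0, hqu⟩ := M.exists_pt hq
  obtain ⟨v, hv, hv0, hqv⟩ := M.exists_pt hq'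
  have hvu : herm M.C v u ≠ 0 := fun h0 => hnc ((M.commute_iff hq hq' hu hv hv0 hqu hqv).2 h0)
  have huo : u ∈ orthSub M.C p := (mem_orthSub M.C).2 fun i =>
    sw ((M.commute_iff hq (hea i) hu (p1 i) (p2 i) hqu (p3 i)).1 (hqa i))
  have hvo : v ∈ orthSub M.C p := (mem_orthSub M.C).2 fun i =>
    sw ((M.commute_iff hq' (hea i) hv (p1 i) (p2 i) hqv (p3 i)).1 (hq'a i))
  have hspan : ∀ w ∈ orthSub M.C p, ∃ a b : M.K, w = a • u + b • v := by
    intro w hw
    have hli : LinearIndependent M.K ![u, v] := by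
      rw [LinearIndependent.pair_iff' hu0]
      intro a ha
      exact hvu (by rw [← ha, herm_smul_left, hu, mul_zero])
    have hs : Submodule.span M.K (Set.range ![u, v]) = orthSub M.C p := by
      refine Submodule.eq_of_le_of_finrank_eq (Submodule.span_le.2 ?_)
        (by rw [finrank_span_eq_card hli, (hch.split M.C).2]; rfl)
      rintro _ ⟨i, rfl⟩
      fin_cases i
      exacts [huo, hvo]
    rw [← hs, Matrix.range_cons, Matrix.range_cons, Matrix.range_empty, Set.union_empty,
      Set.singleton_union, Submodule.mem_span_pair] at hw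
    obtain ⟨a, b, rfl⟩ := hw
    exact ⟨a, b, rfl⟩
  set L := planeStab M.C p u v with hL
  have hg := hch
  set H := Subgroup.closure (perp D e) with hH
  have hxH : five a ∈ H :=
    mul_mem (mul_mem (mul_mem (mem_perp_closure (hea 0)) (mem_perp_closure (hea 1))) (mem_perp_closure (hea 2)))
      (mem_perp_closure (hea 3))
  have hθ : M.θ (chainProd M.C p) = QuotientGroup.mk (⟨five a, hxH⟩ : ↥H) := by
    rw [chainProd, map_mul, map_mul, map_mul, ← p3, ← p3, ← p3, ← p3]
    rfl
  have hker : ∀ z ∈ M.θ.ker, z ^ 3 = 1 := fun z hz => center_pow_three M.C M.hq (M.hker ▸ hz)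
  -- what fixes the two points and commutes with the product is in `L`
  have hmemL : ∀ k : suG M.C I6, Commute k (chainProd M.C p) →
      M.θ (k * tv M.C u * k⁻¹) = M.θ (tv M.C u) → M.θ (k * tv M.C v * k⁻¹) = M.θ (tv M.C v) → k ∈ L := by
    intro k hc h1 h2
    rw [conj_tv M.C M.hq _ hu] at h1
    rw [conj_tv M.C M.hq _ hv] at h2
    have nz : ∀ {w : I6 → M.K}, w ≠ 0 → app M.C k w ≠ 0 := fun {w} hw0 h0 =>
      hw0 (by rw [← app_inv_app M.C k w, h0]; simp [app])
    obtain ⟨α, hα, hαu⟩ := eq_smul_of_map_eq M.C M.hq M.θ M.hker hu (by rw [herm_app, hu]) (nz hu0) h1.symm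
    obtain ⟨β, -, hβv⟩ := eq_smul_of_map_eq M.C M.hq M.θ M.hker hv (by rw [herm_app, hv]) (nz hv0) h2.symm
    refine ⟨hc, α, hαu, ?_⟩
    have h3 : herm M.C (app M.C k v) (app M.C k u) = herm M.C v u := herm_app M.C k v u
    rw [hαu, hβv, herm_smul_left, herm_smul_right, ← mul_assoc] at h3
    have h4 : β * M.C.σ α = 1 := mul_right_cancel₀ hvu (h3.trans (one_mul _).symm)
    have h5 : β = α := by
      calc β = β * (α * M.C.σ α) := by rw [norm_eq_one M.C M.hq hα, mul_one]
        _ = (β * M.C.σ α) * α := by ring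
        _ = α := by rw [h4, one_mul]
    rwa [h5] at hβv
  set K := Subgroup.centralizer ({five a, e, q, q'} : Set G) with hK
  have hKH : K ≤ H := by
    rw [hH, ← centralizer_eq h hp h22 he]
    exact Subgroup.centralizer_le (by simp)
  let f : ↥K →* PerpQuot D e :=
    (QuotientGroup.mk' (Subgroup.center ↥H)).comp (Subgroup.inclusion hKH)
  have hrange : f.range ≤ L.map M.θ := by
    rintro _ ⟨k, rfl⟩
    obtain ⟨k', hk'⟩ := M.surj (f k)
    have hk := Subgroup.mem_centralizer_iff.1 (k.2 : (k : G) ∈ Subgroup.centralizer ({five a, e, q, q'} : Set G))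
    have fix : ∀ {z : G} (hz : z ∈ H), z * (k : G) = k * z →
        f k * QuotientGroup.mk (⟨z, hz⟩ : ↥H) * (f k)⁻¹ = QuotientGroup.mk (⟨z, hz⟩ : ↥H) := by
      intro z hz hzk
      refine mul_inv_eq_iff_eq_mul.2 ?_
      show QuotientGroup.mk (Subgroup.inclusion hKH k * ⟨z, hz⟩ : ↥H) =
        QuotientGroup.mk ((⟨z, hz⟩ : ↥H) * Subgroup.inclusion hKH k)
      congr 1
      exact Subtype.ext hzk.symm
    refine ⟨k', hmemL k' ?_ ?_ ?_, hk'⟩
    · refine commute_of_map_commute M.θ (le_of_eq M.hker) hker (chainProd_pow_five M.C M.hq hch)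
        (by norm_num) ?_
      rw [hk', hθ]
      exact mul_inv_eq_iff_eq_mul.1 (fix hxH (hk _ (by simp)))
    · rw [map_mul, map_mul, map_inv, hk', ← hqu]
      exact fix _ (hk _ (by simp))
    · rw [map_mul, map_mul, map_inv, hk', ← hqv]
      exact fix _ (hk _ (by simp))
  have hkerL : M.θ.ker ≤ L := by
    intro z hz
    have hzc : z ∈ Subgroup.center (suG M.C I6) := M.hker ▸ hz
    refine hmemL z (Subgroup.mem_center_iff.1 hzc _).symm ?_ ?_ <;>
      rw [map_mul, map_mul, map_inv, MonoidHom.mem_ker.1 hz, one_mul, inv_one, mul_one]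
  have hLcard : Nat.card ↥(L.map M.θ) * 3 ≤ 15 := by
    have h1 : Nat.card L = Nat.card ↥(L.map M.θ) * Nat.card M.θ.ker := by
      have hidx' : (L.map M.θ).index = L.index := Subgroup.index_map_eq L M.surj hkerL
      have e1 := L.card_mul_index
      have e2 := (L.map M.θ).card_mul_index
      rw [hidx'] at e2
      have e3 : Nat.card (suG M.C I6) = Nat.card (PerpQuot D e) * Nat.card M.θ.ker := by
        rw [← Nat.card_congr (QuotientGroup.quotientKerEquivOfSurjective M.θ M.surj).toEquiv]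
        exact Subgroup.card_eq_card_quotient_mul_card_subgroup _
      refine Nat.eq_of_mul_eq_mul_right (Nat.pos_of_ne_zero Subgroup.index_ne_zero_of_finite : 0 < L.index) ?_
      rw [e1, e3, ← e2]; ring
    have h3k : 3 ∣ Nat.card M.θ.ker := by
      obtain ⟨z, hz, hz3⟩ := exists_scalar_three M.C M.hq
      rw [← hz3, ← Subgroup.orderOf_mk z (M.hker.symm ▸ hz : z ∈ M.θ.ker)]
      exact orderOf_dvd_natCard _
    have h15 := Nat.le_of_dvd (by norm_num) (card_planeStab M.C M.hq hch huo hvo hspan hu0 hvu hu)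
    rw [← hL, h1] at h15
    exact le_trans (Nat.mul_le_mul_left _ (Nat.le_of_dvd Nat.card_pos h3k)) h15
  have hkf : Nat.card f.ker ≤ 2 := by
    have hval : ∀ k : f.ker, ((k : ↥K) : G) ∈ ({1, e} : Set G) := by
      intro k
      have h1 : Subgroup.inclusion hKH (k : ↥K) ∈ Subgroup.center ↥H := (QuotientGroup.eq_one_iff _).1 k.2
      simpa using (center_closure_perp h hp h22 he (hKH (k : ↥K).2)).1 (mem_center_closure_iff.1 h1)
    refine le_trans (Nat.card_le_card_of_injective (fun k : f.ker => (⟨((k : ↥K) : G), hval k⟩ : ↥({1, e} : Set G)))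
      fun x y hxy => Subtype.ext (Subtype.ext (by simpa using hxy))) ?_
    rw [Nat.card_coe_set_eq]
    exact (Set.ncard_insert_le _ _).trans (by simp)
  calc Nat.card ↥K = Nat.card f.range * Nat.card f.ker := by
        rw [← Nat.card_congr (QuotientGroup.quotientKerEquivRange f).toEquiv]
        exact Subgroup.card_eq_card_quotient_mul_card_subgroup _
    _ ≤ 5 * 2 := Nat.mul_le_mul ((Subgroup.card_le_of_le hrange).trans (by omega)) hkf
    _ = 10 := rfl

/-- The centralizer of the product of a chain. -/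
theorem five_centralizer {a : Fin 4 → G} (ha : MemberChain D a) {e : G} (he : e ∈ D)
    (hea : ∀ i, a i ∈ perp D e) :
    ∃ b : Fin 4 → G, MemberChain D b ∧ (∀ j i, Commute (b j) (a i)) ∧
      Subgroup.closure (D ∩ (Subgroup.centralizer ({five a} : Set G) : Set G)) = Subgroup.closure (Set.range b) ∧
      Nat.card ↥(Subgroup.closure (Set.range b)) = 120 ∧
      Subgroup.zpowers (five a) ⊓ Subgroup.closure (Set.range b) = ⊥ ∧
      Subgroup.centralizer ({five a} : Set G) = Subgroup.zpowers (five a) ⊔ Subgroup.closure (Set.range b) ∧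
      Nat.card ↥(Subgroup.centralizer ({five a} : Set G)) = 600 := by
  classical
  have hec : ∀ i, Commute e (a i) := fun i => (hea i).2.2
  obtain ⟨h10, hall, b, hb, hba, hgen⟩ := five_fixed h hp h22 ha he hec
  obtain ⟨hx5, hxo, hx0⟩ := ha.five_props h
  obtain ⟨φ, hφ, -, -, hrange⟩ := hb.exists_perm_hom h
  set R := Subgroup.closure (Set.range b) with hR
  have hRa : ∀ k ∈ R, ∀ i, Commute k (a i) := by
    intro k hk i
    have hle : R ≤ Subgroup.centralizer ({a i} : Set G) := by
      rw [hR, Subgroup.closure_le]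
      rintro _ ⟨j, rfl⟩
      exact Subgroup.mem_centralizer_singleton_iff.2 (hba j i).eq
    exact Subgroup.mem_centralizer_singleton_iff.1 (hle hk)
  have hRcard : Nat.card ↥R = 120 := by
    rw [← hrange, ← Nat.card_congr (MonoidHom.ofInjective hφ).toEquiv, Nat.card_perm, Nat.card_eq_fintype_card]
    rfl
  have hdisj : Subgroup.zpowers (five a) ⊓ R = ⊥ := by
    rw [Subgroup.eq_bot_iff_forall]
    intro z hz
    obtain ⟨hz1, hz2⟩ := Subgroup.mem_inf.1 hz
    by_contra hz0
    have : Fact (Nat.Prime 5) := ⟨by norm_num⟩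
    have h1 : orderOf z = 5 := by
      rcases (Nat.dvd_prime (by norm_num : Nat.Prime 5)).1
        (hxo ▸ orderOf_dvd_of_mem_zpowers hz1) with h0 | h0
      · exact absurd (orderOf_eq_one_iff.1 h0) hz0
      · exact h0
    have h2 : five a ∈ Subgroup.zpowers z := by
      rw [Subgroup.eq_of_le_of_card_ge (Subgroup.zpowers_le.2 hz1) (by rw [Nat.card_zpowers, Nat.card_zpowers,
        h1, hxo])]
      exact Subgroup.mem_zpowers _
    obtain ⟨i, hi⟩ := h2
    exact hx0 (hi ▸ (hRa z hz2 0).zpow_left i)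
  set C := Subgroup.centralizer ({five a} : Set G) with hC
  have hclos : Subgroup.closure (D ∩ (C : Set G)) = R := by
    refine le_antisymm ((Subgroup.closure_le _).2 fun z hz => ?_) ((Subgroup.closure_le _).2 ?_)
    · exact hgen z hz.1 (Subgroup.mem_centralizer_singleton_iff.1 hz.2)
    · rintro _ ⟨j, rfl⟩
      exact Subgroup.subset_closure ⟨hb.mem j, Subgroup.mem_centralizer_singleton_iff.2
        (five_commute (hba j)).eq⟩
  have hle : Subgroup.zpowers (five a) ⊔ R ≤ C :=
    sup_le (Subgroup.zpowers_le.2 (Subgroup.mem_centralizer_singleton_iff.2 rfl))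
      (fun k hk => Subgroup.mem_centralizer_singleton_iff.2 (five_commute (hRa k hk)).eq)
  have hlow : 600 ≤ Nat.card ↥(Subgroup.zpowers (five a) ⊔ R : Subgroup G) := by
    have hinj : Function.Injective (fun q : ↥(Subgroup.zpowers (five a)) × ↥R =>
        (⟨q.1.1 * q.2.1, mul_mem (Subgroup.mem_sup_left q.1.2) (Subgroup.mem_sup_right q.2.2)⟩ :
          ↥(Subgroup.zpowers (five a) ⊔ R : Subgroup G))) := by
      intro q q' hq
      have hq' : q.1.1 * q.2.1 = q'.1.1 * q'.2.1 := congrArg Subtype.val hq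
      have h1 : q'.1.1⁻¹ * q.1.1 = q'.2.1 * q.2.1⁻¹ := by
        rw [eq_mul_inv_iff_mul_eq, mul_assoc, hq', inv_mul_cancel_left]
      have h2 : q'.1.1⁻¹ * q.1.1 ∈ Subgroup.zpowers (five a) ⊓ R :=
        Subgroup.mem_inf.2 ⟨mul_mem (inv_mem q'.1.2) q.1.2, h1 ▸ mul_mem q'.2.2 (inv_mem q.2.2)⟩
      rw [hdisj, Subgroup.mem_bot] at h2
      rw [h2, eq_comm, mul_inv_eq_one] at h1
      exact Prod.ext (Subtype.ext (inv_mul_eq_one.1 h2).symm) (Subtype.ext h1.symm)
    have h1 := Nat.card_le_card_of_injective _ hinj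
    rwa [Nat.card_prod, Nat.card_zpowers, hxo, hRcard] at h1
  have hmemC : ∀ {k}, k ∈ C ↔ Commute k (five a) := fun {k} => Subgroup.mem_centralizer_singleton_iff
  have hex : Commute e (five a) := five_commute hec
  have conjS : ∀ k ∈ C, ∀ w, w ∈ D → Commute w (five a) → k * w * k⁻¹ ∈ D ∧ Commute (k * w * k⁻¹) (five a) := by
    intro k hk w hw hwx
    refine ⟨h.2.1 k w hw, ?_⟩
    have h1 := (commute_conj_iff' k w (five a)).2 hwx
    rwa [show k * five a * k⁻¹ = five a by rw [(hmemC.1 hk).eq, mul_inv_cancel_right]] at h1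
  set Ce := Subgroup.centralizer ({five a, e} : Set G) with hCe
  have hCeC : Ce ≤ C := Subgroup.centralizer_le (by simp)
  have hup1 : Nat.card ↥C ≤ 10 * Nat.card ↥Ce := by
    rw [card_eq_ncard_mul_card hCeC (fun k => k * e * k⁻¹) (S := (fun k => k * e * k⁻¹) '' (C : Set G))
      (fun k hk => ⟨k, hk, rfl⟩) (fun z hz => hz) fun k hk l hl => by
        rw [conj_eq_conj_iff, Subgroup.mem_centralizer_iff]
        refine ⟨fun hc => ?_, fun hc => (hc e (by simp)).symm⟩
        rintro w (rfl | rfl)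
        · exact (hmemC.1 (mul_mem (inv_mem hk) hl)).symm.eq
        · exact hc.symm]
    refine Nat.mul_le_mul_right _ ?_
    rw [← h10]
    refine Set.ncard_le_ncard ?_ (Set.toFinite _)
    rintro _ ⟨k, hk, rfl⟩
    exact conjS k hk e he hex
  obtain ⟨q, q', hq, hq', hnc, hqa, hq'a, hQ⟩ := exists_nbrs h h22 ha he hec
  set K := Subgroup.centralizer ({five a, e, q, q'} : Set G) with hK
  have hup2 : Nat.card ↥Ce ≤ 60 := by
    have hKC : K ≤ Ce := Subgroup.centralizer_le (by intro w hw; simp at hw ⊢; tauto)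
    have hCe' : ∀ {k}, k ∈ Ce → Commute k (five a) ∧ Commute k e := fun {k} hk =>
      ⟨((Subgroup.mem_centralizer_iff.1 hk) _ (by simp)).symm, ((Subgroup.mem_centralizer_iff.1 hk) _ (by simp)).symm⟩
    rw [card_eq_ncard_mul_card hKC (fun k => (k * q * k⁻¹, k * q' * k⁻¹))
      (S := (fun k => (k * q * k⁻¹, k * q' * k⁻¹)) '' (Ce : Set G))
      (fun k hk => ⟨k, hk, rfl⟩) (fun z hz => hz) fun k hk l hl => by
        rw [Prod.mk.injEq, conj_eq_conj_iff, conj_eq_conj_iff, Subgroup.mem_centralizer_iff]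
        refine ⟨fun hc => ?_, fun hc => ⟨(hc q (by simp)).symm, (hc q' (by simp)).symm⟩⟩
        have hkl := hCe' (mul_mem (inv_mem hk) hl)
        rintro w (rfl | rfl | rfl | rfl)
        exacts [hkl.1.symm.eq, hkl.2.symm.eq, hc.1.symm, hc.2.symm]]
    refine le_trans (Nat.mul_le_mul ?_ (card_five_stab h hp h22 ha he hea hq hq' hnc hqa hq'a)) (le_of_eq
      (rfl : 6 * 10 = 60))
    set q'' := q * q' * q
    have hsub : ((fun k => (k * q * k⁻¹, k * q' * k⁻¹)) '' (Ce : Set G)) ⊆
        ↑({(q, q'), (q, q''), (q', q), (q', q''), (q'', q), (q'', q')} : Finset (G × G)) := by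
      rintro _ ⟨k, hk, rfl⟩
      have line : ∀ w ∈ perp D e, Commute w (five a) → k * w * k⁻¹ = q ∨ k * w * k⁻¹ = q' ∨ k * w * k⁻¹ = q'' :=
        fun w hw hwx => hQ _ (conj_mem_perp h (hCe' hk).2 hw) (conjS k (hCeC hk) w hw.1 hwx).2
      have hne : k * q * k⁻¹ ≠ k * q' * k⁻¹ := fun hh => hnc (by
        rw [mul_left_cancel (mul_right_cancel hh)])
      simp only [Finset.coe_insert, Finset.coe_singleton, Set.mem_insert_iff, Set.mem_singleton_iff, Prod.mk.injEq]
      rcases line q hq (five_commute hqa) with e1 | e1 | e1 <;>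
        rcases line q' hq' (five_commute hq'a) with e2 | e2 | e2 <;> rw [e1, e2] at hne ⊢ <;>
        first | exact absurd rfl hne | tauto
    exact (Set.ncard_le_ncard hsub (Set.toFinite _)).trans (by rw [Set.ncard_coe_finset]; exact Finset.card_le_six)
  have hcard : Nat.card ↥C = 600 := by
    have := Subgroup.card_le_of_le hle
    omega
  refine ⟨b, hb, hba, hclos, hRcard, hdisj, (Subgroup.eq_of_le_of_card_ge hle (by omega)).symm, hcard⟩

end CfsgLib.FischerTypes
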