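import Cfsg.Agent.FischerTypes.M22Six

/-!
# Factorizations of products of two or three commuting members in type M(22)
-/

set_option autoImplicit false
set_option maxHeartbeats 400000

namespace CfsgLib.FischerTypes

open Cfsg

variable {G : Type*} [Group G] [Finite G] {D : Set G}

/-- A product of two commuting members determines them; a product of three determines exactly two triples. -/
theorem m22_factorizations (h : IsThreeTranspositionGroup D) (hp : IsPrimitiveUnderConj D)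
    (h22 : IsOfTypeM22 G D) :
    (∀ (j : G) (l l' : List G),
      (l.Nodup ∧ l.length = 2 ∧ (∀ a ∈ l, a ∈ D) ∧ (∀ a ∈ l, ∀ b ∈ l, Commute a b) ∧ l.prod = j) →
      (l'.Nodup ∧ l'.length = 2 ∧ (∀ a ∈ l', a ∈ D) ∧ (∀ a ∈ l', ∀ b ∈ l', Commute a b) ∧ l'.prod = j) →
      (∀ x : G, x ∈ l ↔ x ∈ l')) ∧
    ∀ (j : G) (l₀ : List G),
      (l₀.Nodup ∧ l₀.length = 3 ∧ (∀ a ∈ l₀, a ∈ D) ∧ (∀ a ∈ l₀, ∀ b ∈ l₀, Commute a b) ∧ l₀.prod = j) →
      ∃ l₁ l₂ : List G,
        (l₁.Nodup ∧ l₁.length = 3 ∧ (∀ a ∈ l₁, a ∈ D) ∧ (∀ a ∈ l₁, ∀ b ∈ l₁, Commute a b) ∧ l₁.prod = j) ∧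
        (l₂.Nodup ∧ l₂.length = 3 ∧ (∀ a ∈ l₂, a ∈ D) ∧ (∀ a ∈ l₂, ∀ b ∈ l₂, Commute a b) ∧ l₂.prod = j) ∧
        ¬ (∀ x : G, x ∈ l₁ ↔ x ∈ l₂) ∧
        ∀ l : List G,
          (l.Nodup ∧ l.length = 3 ∧ (∀ a ∈ l, a ∈ D) ∧ (∀ a ∈ l, ∀ b ∈ l, Commute a b) ∧ l.prod = j) →
          ((∀ x : G, x ∈ l ↔ x ∈ l₁) ∨ (∀ x : G, x ∈ l ↔ x ∈ l₂)) := by
  classical
  have hpu := pairUnique h.1 (noTwins_of_primitive h h22.1 hp)
  constructor
  · rintro j l l' ⟨hn, hlen, hD, hc, hpr⟩ ⟨hn', hlen', hD', hc', hpr'⟩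
    obtain ⟨a, b, rfl⟩ := List.length_eq_two.mp hlen
    obtain ⟨c, e, rfl⟩ := List.length_eq_two.mp hlen'
    simp only [List.prod_cons, List.prod_nil, mul_one] at hpr hpr'
    simp only [List.nodup_cons, List.mem_singleton, List.not_mem_nil, not_false_eq_true,
      List.nodup_nil, and_true] at hn hn'
    rcases hpu a (hD a (by simp)) b (hD b (by simp)) c (hD' c (by simp)) e (hD' e (by simp)) hn
      (hc a (by simp) b (by simp)) hn' (hc' c (by simp) e (by simp)) (hpr.trans hpr'.symm) with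
      ⟨rfl, rfl⟩ | ⟨rfl, rfl⟩ <;> intro x <;> simp only [List.mem_cons, List.not_mem_nil, or_false] <;>
      tauto
  rintro j l₀ ⟨hn, hlen, hD, hc, hpr⟩
  obtain ⟨d, e, f, rfl⟩ := List.length_eq_three.mp hlen
  simp only [List.prod_cons, List.prod_nil, mul_one, ← mul_assoc] at hpr
  have hn' := hn
  simp only [List.nodup_cons, List.mem_cons, List.not_mem_nil, not_or, not_false_eq_true, List.nodup_nil,
    and_true, or_false] at hn'
  obtain ⟨⟨hde, hdf⟩, hef⟩ := hn'
  have cde : Commute d e := hc d (by simp) e (by simp)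
  have cdf : Commute d f := hc d (by simp) f (by simp)
  have cef : Commute e f := hc e (by simp) f (by simp)
  have hd := hD d (by simp)
  have he := hD e (by simp)
  have hf := hD f (by simp)
  obtain ⟨a, b, c, hn6, hD6, hc6, heq, huniq⟩ :=
    exists_six h hp h22 hd ⟨he, Ne.symm hde, cde⟩ ⟨hf, Ne.symm hdf, cdf⟩ hef cef
  have hsub : ∀ u ∈ [a, b, c], u ∈ [d, e, f, a, b, c] := by intro u hu; simp at hu ⊢; tauto
  have hn3 : [a, b, c].Nodup := List.Nodup.of_append_right (l₁ := [d, e, f]) hn6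
  refine ⟨[d, e, f], [a, b, c], ⟨hn, hlen, hD, hc, by simpa [mul_assoc] using hpr⟩,
    ⟨hn3, rfl, fun u hu => hD6 u (hsub u hu), fun u hu v hv => hc6 u (hsub u hu) v (hsub v hv),
      by rw [← hpr, heq]; simp [mul_assoc]⟩, ?_, ?_⟩
  · intro hiff
    have h1 := (hiff d).1 (by simp)
    simp only [List.nodup_cons, List.mem_cons, List.not_mem_nil, or_false, not_or] at hn6 h1
    tauto
  rintro l ⟨hnl, hlenl, hDl, hcl, hprl⟩
  obtain ⟨p, q, r, rfl⟩ := List.length_eq_three.mp hlenl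
  simp only [List.prod_cons, List.prod_nil, mul_one, ← mul_assoc] at hprl
  have hnl' := hnl
  simp only [List.nodup_cons, List.mem_cons, List.not_mem_nil, not_or, not_false_eq_true, List.nodup_nil,
    and_true, or_false] at hnl'
  obtain ⟨⟨hpq, hpr0⟩, hqr⟩ := hnl'
  have cpq : Commute p q := hcl p (by simp) q (by simp)
  have cpr : Commute p r := hcl p (by simp) r (by simp)
  have cqr : Commute q r := hcl q (by simp) r (by simp)
  -- every member of the new triple commutes with the old ones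
  have hcross : ∀ x ∈ [p, q, r], ∀ y ∈ [d, e, f], Commute x y := by
    intro x hx
    have hxD := hDl x hx
    have hxj : Commute x (d * e * f) := by
      rw [hpr, ← hprl]
      exact ((hcl x hx p (by simp)).mul_right (hcl x hx q (by simp))).mul_right (hcl x hx r (by simp))
    intro y hy
    simp only [List.mem_cons, List.not_mem_nil, or_false] at hy
    rcases hy with h0 | h0 | h0 <;> rw [h0]
    · exact commute_of_commute_mul3 h.1 hd he hf hxD cde cdf cef hde hdf hef hxj
    · refine commute_of_commute_mul3 h.1 he hd hf hxD cde.symm cef cdf (Ne.symm hde) hef hdf ?_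
      rwa [cde.symm.eq]
    · refine commute_of_commute_mul3 h.1 hf he hd hxD cef.symm cdf.symm cde.symm (Ne.symm hef) (Ne.symm hdf)
        (Ne.symm hde) ?_
      rwa [show f * e * d = d * e * f by rw [cef.symm.eq, mul_assoc, cdf.symm.eq, ← mul_assoc, cde.symm.eq]]
  by_cases hmeet : ∃ x, x ∈ [p, q, r] ∧ x ∈ [d, e, f]
  · left
    obtain ⟨x, hx, hx'⟩ := hmeet
    -- cancel the common member
    obtain ⟨u, v, huv, hux, hvx, hl1, he1⟩ := split_triple hx hpq hpr0 hqr cpq cpr cqr
    obtain ⟨u', v', huv', hux', hvx', hl2, he2⟩ := split_triple hx' hde hdf hef cde cdf cef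
    have hmem : ∀ {y}, y ∈ [x, u, v] → y ∈ [p, q, r] := fun hy => (hl1 _).2 hy
    have hmem' : ∀ {y}, y ∈ [x, u', v'] → y ∈ [d, e, f] := fun hy => (hl2 _).2 hy
    have hprod : u * v = u' * v' := by
      rw [hprl, ← hpr, he2] at he1
      exact (mul_left_cancel he1).symm
    rcases hpu u (hDl u (hmem (by simp))) v (hDl v (hmem (by simp))) u' (hD u' (hmem' (by simp)))
      v' (hD v' (hmem' (by simp))) huv (hcl u (hmem (by simp)) v (hmem (by simp))) huv'
      (hc u' (hmem' (by simp)) v' (hmem' (by simp))) hprod with ⟨rfl, rfl⟩ | ⟨rfl, rfl⟩ <;>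
    · intro y
      rw [hl1, hl2]
      first
        | done
        | (simp only [List.mem_cons, List.not_mem_nil, or_false]; tauto)
  · right
    push Not at hmeet
    have hn6' : [d, e, f, p, q, r].Nodup :=
      List.nodup_append'.2 ⟨hn, hnl, fun y hy hy' => hmeet y hy' hy⟩
    have hsubl : ∀ z ∈ [p, q, r], z ∈ [a, b, c] := by
      refine huniq p q r hn6' hDl ?_ (by rw [hpr, hprl])
      intro x hx y hy
      rcases List.mem_append.1 (show x ∈ [d, e, f] ++ [p, q, r] from hx) with hx | hx <;>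
        rcases List.mem_append.1 (show y ∈ [d, e, f] ++ [p, q, r] from hy) with hy | hy
      · exact hc x hx y hy
      · exact (hcross y hy x hx).symm
      · exact hcross x hx y hy
      · exact hcl x hx y hy
    have hperm : [p, q, r].Perm [a, b, c] :=
      (hnl.subperm hsubl).perm_of_length_le (by simp)
    exact fun z => hperm.mem_iff
where
  split_triple {p q r x : G} (hx : x ∈ [p, q, r]) (hpq : p ≠ q) (hpr : p ≠ r) (hqr : q ≠ r)
      (cpq : Commute p q) (cpr : Commute p r) (cqr : Commute q r) :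
      ∃ u v, u ≠ v ∧ u ≠ x ∧ v ≠ x ∧ (∀ y, y ∈ [p, q, r] ↔ y ∈ [x, u, v]) ∧ p * q * r = x * (u * v) := by
    simp only [List.mem_cons, List.not_mem_nil, or_false] at hx
    rcases hx with rfl | rfl | rfl
    · exact ⟨q, r, hqr, Ne.symm hpq, Ne.symm hpr, fun y => Iff.rfl, mul_assoc _ _ _⟩
    · exact ⟨p, r, hpr, hpq, Ne.symm hqr, fun y => by simp; tauto, by rw [cpq.eq, mul_assoc]⟩
    · exact ⟨p, q, hpq, hpr, hqr, fun y => by simp; tauto, ((cpr.symm).mul_right cqr.symm).eq.symm⟩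

end CfsgLib.FischerTypes
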