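import Cfsg.Agent.FischerTypes.M22Centralizer
import Cfsg.Agent.FischerTypes.M22Factor

/-!
# Commuting triples in type M(22)

Ordered commuting triples form one orbit; the orders of their centralizers and of the centralizers of their
products.
-/

set_option autoImplicit false
set_option maxHeartbeats 400000

namespace CfsgLib.FischerTypes

open Cfsg CfsgLib.U62

variable {G : Type*} [Group G] {D : Set G}

/-- Orbit counting for a map which is injective on the cosets of a subgroup. -/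
theorem card_eq_ncard_mul_card {β : Type*} {H K : Subgroup G} (hKH : K ≤ H) (f : G → β) {S : Set β}
    (hf : ∀ g ∈ H, f g ∈ S) (hs : ∀ s ∈ S, ∃ g ∈ H, f g = s)
    (hi : ∀ g ∈ H, ∀ k ∈ H, f g = f k ↔ g⁻¹ * k ∈ K) : Nat.card H = S.ncard * Nat.card K := by
  rw [Subgroup.card_eq_card_quotient_mul_card_subgroup (K.subgroupOf H), ← Nat.card_coe_set_eq S,
    Nat.card_congr (Subgroup.subgroupOfEquivOfLe hKH).toEquiv]
  congr 1
  refine Nat.card_eq_of_bijective
    (Quotient.lift (fun g : H => (⟨f g, hf g g.2⟩ : S)) fun g k hgk => ?_) ⟨?_, ?_⟩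
  · have h1 := QuotientGroup.leftRel_apply.1 hgk
    exact Subtype.ext ((hi g g.2 k k.2).2 h1)
  · rintro ⟨g⟩ ⟨k⟩ hgk
    refine Quotient.sound (QuotientGroup.leftRel_apply.2 ?_)
    exact (hi g g.2 k k.2).1 (congrArg Subtype.val hgk)
  · rintro ⟨s, hss⟩
    obtain ⟨g, hg, hgs⟩ := hs s hss
    exact ⟨Quotient.mk'' ⟨g, hg⟩, Subtype.ext hgs⟩

theorem conj_eq_conj_iff {g k x : G} : g * x * g⁻¹ = k * x * k⁻¹ ↔ Commute (g⁻¹ * k) x := by
  constructor
  · intro he
    show g⁻¹ * k * x = x * (g⁻¹ * k)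
    calc g⁻¹ * k * x = g⁻¹ * (k * x * k⁻¹) * k := by group
      _ = g⁻¹ * (g * x * g⁻¹) * k := by rw [he]
      _ = x * (g⁻¹ * k) := by group
  · intro hc
    calc g * x * g⁻¹ = g * (x * (g⁻¹ * k)) * k⁻¹ := by group
      _ = g * (g⁻¹ * k * x) * k⁻¹ := by rw [hc.eq]
      _ = k * x * k⁻¹ := by group

variable [Finite G] (h : IsThreeTranspositionGroup D) (h22 : IsOfTypeM22 G D)

include h h22

theorem single_class {x y : G} (hx : x ∈ D) (hy : y ∈ D) : ∃ g : G, g * x * g⁻¹ = y := by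
  obtain ⟨-, -, hN, -, -⟩ := nice_of_isOfTypeM22 psu62Facts h h22
  exact isConj_iff.1 (hN.single x hx y hy)

/-- `G` is transitive on ordered triples of commuting members. -/
theorem exists_conj_triple {a b c a' b' c' : G} (ha : a ∈ D) (hb : b ∈ perp D a) (hc : c ∈ perp D a)
    (hcb : c ∈ perp D b) (ha' : a' ∈ D) (hb' : b' ∈ perp D a') (hc' : c' ∈ perp D a') (hcb' : c' ∈ perp D b') :
    ∃ g : G, g * a * g⁻¹ = a' ∧ g * b * g⁻¹ = b' ∧ g * c * g⁻¹ = c' := by
  obtain ⟨g, hg⟩ := single_class h h22 ha ha'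
  have cj : ∀ {x z : G}, z ∈ perp D x → g * z * g⁻¹ ∈ perp D (g * x * g⁻¹) := fun {x z} hz =>
    ⟨h.2.1 g z hz.1, fun he => hz.2.1 (mul_left_cancel (mul_right_cancel he)),
      (commute_conj_iff' g _ _).2 hz.2.2⟩
  have hb1 := cj hb
  have hc1 := cj hc
  have hcb1 := cj hcb
  rw [hg] at hb1 hc1
  obtain ⟨M⟩ := exists_perpModel h h22 ha'
  obtain ⟨k, hk, hkb, hkc⟩ := M.exists_conj_pair hb1 hc1 hb' hc' (Ne.symm hcb1.2.1) (Ne.symm hcb'.2.1)
    hcb1.2.2 hcb'.2.2
  refine ⟨k * g, ?_, by rw [← hkb]; group, by rw [← hkc]; group⟩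
  rw [show k * g * a * (k * g)⁻¹ = k * (g * a * g⁻¹) * k⁻¹ by group, hg, conj_of_mem hk]

variable (hp : IsPrimitiveUnderConj D)

include hp

/-- The order of the centralizer of three commuting members. -/
theorem card_centralizer_triple {a b c : G} (ha : a ∈ D) (hb : b ∈ perp D a) (hc : c ∈ perp D a)
    (hcb : c ∈ perp D b) : Nat.card (Subgroup.centralizer ({a, b, c} : Set G)) = 147456 := by
  obtain ⟨M⟩ := exists_perpModel h h22 ha
  set S : Set (G × G) := {p | p.1 ∈ perp D a ∧ p.2 ∈ perp D a ∩ perp D p.1} with hS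
  have hle : Subgroup.centralizer ({a, b, c} : Set G) ≤ Subgroup.centralizer ({a} : Set G) :=
    Subgroup.centralizer_le (by simp)
  have hH : ∀ {g}, g ∈ Subgroup.centralizer ({a} : Set G) → g * a * g⁻¹ = a := fun {g} hg => by
    rw [Subgroup.mem_centralizer_singleton_iff.1 hg, mul_inv_cancel_right]
  have key : Nat.card (Subgroup.centralizer ({a} : Set G)) =
      S.ncard * Nat.card (Subgroup.centralizer ({a, b, c} : Set G)) := by
    refine card_eq_ncard_mul_card hle (fun g => (g * b * g⁻¹, g * c * g⁻¹)) ?_ ?_ ?_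
    · intro g hg
      have hga : Commute g a := Subgroup.mem_centralizer_singleton_iff.1 hg
      exact ⟨conj_mem_perp h hga hb, conj_mem_perp h hga hc, h.2.1 g c hc.1,
        fun he => hcb.2.1 (mul_left_cancel (mul_right_cancel he)), (commute_conj_iff' g _ _).2 hcb.2.2⟩
    · rintro ⟨e, f⟩ ⟨he, hf, hfe⟩
      obtain ⟨g, hga, hgb, hgc⟩ := exists_conj_triple h h22 ha hb hc hcb ha he hf hfe
      exact ⟨g, Subgroup.mem_centralizer_singleton_iff.2 (mul_inv_eq_iff_eq_mul.1 hga),
        Prod.ext hgb hgc⟩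
    · intro g hg k hk
      rw [Prod.mk.injEq, conj_eq_conj_iff, conj_eq_conj_iff, Subgroup.mem_centralizer_iff]
      have hga : Commute (g⁻¹ * k) a := conj_eq_conj_iff.1 ((hH hg).trans (hH hk).symm)
      constructor
      · rintro ⟨h1, h2⟩ x (rfl | rfl | rfl)
        exacts [hga.eq.symm, h1.eq.symm, h2.eq.symm]
      · exact fun h0 => ⟨(h0 b (by simp)).symm, (h0 c (by simp)).symm⟩
  have hcard : S.ncard = 693 * 180 := by
    let e : S ≃ Σ x : perp D a, ↥(perp D a ∩ perp D (x : G)) :=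
      { toFun := fun p => ⟨⟨p.1.1, p.2.1⟩, ⟨p.1.2, p.2.2⟩⟩
        invFun := fun q => ⟨(q.1.1, q.2.1), q.1.2, q.2.2⟩
        left_inv := fun p => rfl
        right_inv := fun q => rfl }
    classical
    have := Fintype.ofFinite (perp D a)
    rw [← Nat.card_coe_set_eq, Nat.card_congr e, Nat.card_sigma,
      Finset.sum_eq_card_nsmul (b := 180) fun x _ => by rw [Nat.card_coe_set_eq]; exact M.ncard_perp_perp x.2,
      Finset.card_univ, ← Nat.card_eq_fintype_card, Nat.card_coe_set_eq, M.ncard_perp, smul_eq_mul]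
  rw [card_centralizer h hp h22 ha, hcard] at key
  omega

/-- The order of the centralizer of a product of three commuting members. -/
theorem card_centralizer_prod {a b c : G} (ha : a ∈ D) (hb : b ∈ perp D a) (hc : c ∈ perp D a)
    (hcb : c ∈ perp D b) : Nat.card (Subgroup.centralizer ({a * b * c} : Set G)) = 2 ^ 16 * 3 ^ 3 := by
  classical
  set j := a * b * c with hj
  have hl₀ : [a, b, c].Nodup := by simp [Ne.symm hb.2.1, Ne.symm hc.2.1, Ne.symm hcb.2.1]
  obtain ⟨l₁, l₂, h₁, h₂, h12, hu⟩ := (m22_factorizations h hp h22).2 j [a, b, c] ⟨hl₀, rfl, by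
    simp [ha, hb.1, hc.1], by
    simp only [List.mem_cons, List.not_mem_nil, or_false]
    rintro x (rfl | rfl | rfl) y (rfl | rfl | rfl)
    exacts [Commute.refl _, hb.2.2, hc.2.2, hb.2.2.symm, Commute.refl _, hcb.2.2, hc.2.2.symm, hcb.2.2.symm,
      Commute.refl _], by simp [hj, mul_assoc]⟩
  set T : Set (List G) := {l | l.Nodup ∧ l.length = 3 ∧ (∀ x ∈ l, x ∈ D) ∧
    (∀ x ∈ l, ∀ y ∈ l, Commute x y) ∧ l.prod = j} with hT
  have hperm : ∀ {l l' : List G}, l ∈ T → l.Perm l' → l' ∈ T := fun {l l'} ⟨t1, t2, t3, t4, t5⟩ hp =>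
    ⟨hp.nodup_iff.1 t1, hp.length_eq ▸ t2, fun x hx => t3 x (hp.mem_iff.2 hx),
      fun x hx y hy => t4 x (hp.mem_iff.2 hx) y (hp.mem_iff.2 hy),
      (hp.prod_eq' (t1.pairwise_of_forall_ne fun x hx y hy _ => t4 x hx y hy)).symm.trans t5⟩
  have hTcard : T.ncard = 12 := by
    have hTeq : T = ↑(l₁.permutations ++ l₂.permutations).toFinset := by
      ext l
      simp only [List.coe_toFinset, List.mem_append, List.mem_permutations]
      constructor
      · intro hl
        rcases hu l hl with h0 | h0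
        · exact Or.inl ((List.perm_ext_iff_of_nodup hl.1 h₁.1).2 h0)
        · exact Or.inr ((List.perm_ext_iff_of_nodup hl.1 h₂.1).2 h0)
      · rintro (h0 | h0)
        exacts [hperm h₁ h0.symm, hperm h₂ h0.symm]
    rw [hTeq, Set.ncard_coe_finset, List.toFinset_card_of_nodup, List.length_append,
      List.length_permutations, List.length_permutations, h₁.2.1, h₂.2.1]
    · rfl
    · refine List.nodup_append'.2 ⟨List.nodup_permutations _ h₁.1, List.nodup_permutations _ h₂.1,
        fun l hl hl' => h12 ?_⟩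
      rw [List.mem_permutations] at hl hl'
      exact fun x => (hl.symm.trans hl').mem_iff
  have hle : Subgroup.centralizer ({a, b, c} : Set G) ≤ Subgroup.centralizer ({j} : Set G) := fun g hg => by
    rw [Subgroup.mem_centralizer_iff] at hg
    refine Subgroup.mem_centralizer_singleton_iff.2 ?_
    exact ((((show Commute g a from (hg a (by simp)).symm).mul_right (hg b (by simp)).symm)).mul_right
      (hg c (by simp)).symm).eq
  have key := card_eq_ncard_mul_card (S := T) hle (fun g => [g * a * g⁻¹, g * b * g⁻¹, g * c * g⁻¹]) ?_ ?_ ?_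
  · rw [key, hTcard, card_centralizer_triple h h22 hp ha hb hc hcb]; norm_num
  · intro g hg
    have inj : ∀ {x y : G}, x ≠ y → g * x * g⁻¹ ≠ g * y * g⁻¹ :=
      fun hne he => hne (mul_left_cancel (mul_right_cancel he))
    refine ⟨?_, rfl, ?_, ?_, ?_⟩
    · simp [Ne.symm hb.2.1, Ne.symm hc.2.1, Ne.symm hcb.2.1]
    · simp [h.2.1 g a ha, h.2.1 g b hb.1, h.2.1 g c hc.1]
    · simp only [List.mem_cons, List.not_mem_nil, or_false]
      have cc : ∀ {x y : G}, Commute x y → Commute (g * x * g⁻¹) (g * y * g⁻¹) :=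
        fun {x y} hxy => (commute_conj_iff' g x y).2 hxy
      rintro x (rfl | rfl | rfl) y (rfl | rfl | rfl)
      exacts [Commute.refl _, cc hb.2.2, cc hc.2.2, cc hb.2.2.symm, Commute.refl _, cc hcb.2.2,
        cc hc.2.2.symm, cc hcb.2.2.symm, Commute.refl _]
    · have h1 := Subgroup.mem_centralizer_singleton_iff.1 hg
      simp only [List.prod_cons, List.prod_nil, mul_one]
      calc g * a * g⁻¹ * (g * b * g⁻¹ * (g * c * g⁻¹)) = g * j * g⁻¹ := by rw [hj]; group
        _ = j := by rw [h1, mul_inv_cancel_right]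
  · intro l hl
    obtain ⟨t1, t2, t3, t4, t5⟩ := hl
    obtain ⟨p, q, r, rfl⟩ := List.length_eq_three.mp t2
    simp only [List.nodup_cons, List.mem_cons, List.not_mem_nil, or_false, not_or, not_false_eq_true,
      List.nodup_nil, and_true] at t1
    obtain ⟨g, h1, h2, h3⟩ := exists_conj_triple h h22 ha hb hc hcb (t3 p (by simp))
      ⟨t3 q (by simp), Ne.symm t1.1.1, t4 p (by simp) q (by simp)⟩
      ⟨t3 r (by simp), Ne.symm t1.1.2, t4 p (by simp) r (by simp)⟩
      ⟨t3 r (by simp), Ne.symm t1.2, t4 q (by simp) r (by simp)⟩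
    refine ⟨g, Subgroup.mem_centralizer_singleton_iff.2 (mul_inv_eq_iff_eq_mul.1 ?_), by rw [h1, h2, h3]⟩
    rw [show g * j * g⁻¹ = g * a * g⁻¹ * (g * b * g⁻¹) * (g * c * g⁻¹) by rw [hj]; group, h1, h2, h3]
    simpa [mul_assoc] using t5
  · intro g _ k _
    simp only [List.cons.injEq, and_true, conj_eq_conj_iff, Subgroup.mem_centralizer_iff]
    constructor
    · rintro ⟨h1, h2, h3⟩ x (rfl | rfl | rfl)
      exacts [h1.eq.symm, h2.eq.symm, h3.eq.symm]
    · exact fun h0 => ⟨(h0 a (by simp)).symm, (h0 b (by simp)).symm, (h0 c (by simp)).symm⟩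

end CfsgLib.FischerTypes
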