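import Cfsg.Agent.Transpositions.ReflectionsModThree
import Cfsg.Agent.Forms.OrthClasses
import Cfsg.Agent.Forms.PlusType
import Cfsg.Agent.Forms4.OrthogonalOrders

/-!
# The order of the projective reflection group in dimension six

For polar determinant one the space is of minus type, so the order is divisible by `3 ^ 6` and by `7`.
-/

set_option autoImplicit false

namespace CfsgLib.FischerTypes

open Cfsg Matrix Module CfsgLib.Forms CfsgLib.Spinor

/-- The isometry group of a six-dimensional form over `ZMod 3` of polar determinant one. -/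
theorem card_isometryGroup_six (Q : QuadraticForm (ZMod 3) (Fin 6 → ZMod 3)) (hμ : polarGramDet (⇑Q) = 1) :
    Nat.card (isometryGroup (ZMod 3) ⇑Q) = 2 * 3 ^ 6 * 28 * (8 * 80) := by
  have h2 : (2 : ZMod 3) ≠ 0 := by decide
  have hab : ∀ z₁ z₂ : ZMod 3, z₁ ^ 2 + 0 * z₁ * z₂ + 1 * z₂ ^ 2 = 0 → z₁ = 0 ∧ z₂ = 0 := by decide
  let Qm : QuadraticForm (ZMod 3) ((Fin 2 ⊕ Fin 2) ⊕ Fin 2 → ZMod 3) :=
    Forms4.sumForm 2 (Forms4.binForm (0 : ZMod 3) 1)
  let bm := Pi.basisFun (ZMod 3) ((Fin 2 ⊕ Fin 2) ⊕ Fin 2)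
  let bq := Pi.basisFun (ZMod 3) (Fin 6)
  -- the determinant of the minus form
  have hM : LinearMap.BilinForm.toMatrix bm (QuadraticMap.polarBilin Qm) =
      fromBlocks (fromBlocks 0 1 1 0) 0 0 (diagonal fun _ : Fin 2 => (2 : ZMod 3)) := by
    ext i j
    rw [LinearMap.BilinForm.toMatrix_apply, QuadraticMap.polarBilin_apply_apply, Forms4.polar_sumForm,
      Pi.basisFun_apply, Pi.basisFun_apply, QuadraticMap.polar, Forms4.coe_binForm]
    rcases i with (i | i) | i <;> rcases j with (j | j) | j <;> fin_cases i <;> fin_cases j <;>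
      simp [fromBlocks, Pi.single_apply, Fin.sum_univ_two, one_add_one_eq_two] <;> rfl
  have hdm : (LinearMap.BilinForm.toMatrix bm (QuadraticMap.polarBilin Qm)).det = 1 := by
    rw [hM, det_fromBlocks_zero₁₂, det_fromBlocks_zero₁₁', det_diagonal, det_one]
    decide
  have hdq : (LinearMap.BilinForm.toMatrix bq (QuadraticMap.polarBilin Q)).det = 1 := by
    rw [← hμ, polarGramDet]
    congr 1
  obtain ⟨L, hL⟩ := exists_isometry_of_isSquare h2 (QuadraticMap.polarBilin Q) (QuadraticMap.polarBilin Qm)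
    ⟨fun x y => QuadraticMap.polar_comm _ x y⟩ ⟨fun x y => QuadraticMap.polar_comm _ x y⟩ bq bm (by decide)
    (by rw [hdq]; exact one_ne_zero) (by rw [hdm]; exact one_ne_zero) (by rw [hdq, hdm]; exact ⟨1, rfl⟩)
  have hLQ : ∀ x, Qm (L x) = Q x := fun x => by
    have h1 := hL x x
    rw [QuadraticMap.polarBilin_apply_apply, QuadraticMap.polarBilin_apply_apply, polar_self', polar_self'] at h1
    exact mul_left_cancel₀ h2 h1
  obtain ⟨φ, hφ⟩ := CfsgLib.FieldEmb.exists_hom_of_equiv (⇑Q) (⇑Qm) L (fun v => hLQ v)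
  obtain ⟨χ, hχ⟩ := CfsgLib.FieldEmb.exists_hom_of_equiv (⇑Qm) (⇑Q) L.symm
    (fun v => by rw [← hLQ (L.symm v), L.apply_symm_apply])
  have hcard : Nat.card (isometryGroup (ZMod 3) ⇑Q) = Nat.card (isometryGroup (ZMod 3) ⇑Qm) :=
    le_antisymm (Nat.card_le_card_of_injective φ hφ) (Nat.card_le_card_of_injective χ hχ)
  rw [hcard, Forms4.coe_sumForm, Forms4.hsum_minus]
  have h := Forms4.card_isometryGroup_quadFormMinus (q := 3) (ZMod.card 3) 3 (by norm_num) _ _ hab
  norm_num [Finset.prod_range_succ] at h ⊢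
  exact h

/-- The order of the projective reflection group of dimension six and determinant one. -/
theorem card_projReflection_six {X : Type*} [Group X] {c : ZMod 3} (hc : c ≠ 0)
    (hX : IsProjReflectionGroupModThree X 6 1 c) :
    Nat.card X = 13063680 ∨ Nat.card X = 6531840 := by
  obtain ⟨Q, hQ, hμ, ⟨e⟩⟩ := hX
  have h2 : (2 : ZMod 3) ≠ 0 := by decide
  have hidx : (reflectionSubgroup (⇑Q) c).index = 2 := by
    have h := index_closure_class_of_dim h2 hQ (by simp) (Or.inr (by simp))
      (fun h => by simp only [Fintype.card_fin] at h; omega) hc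
    have ht : ∀ t : ZMod 3, t ≠ 0 → t ^ 2 = 1 := by decide
    rw [reflectionSubgroup]
    convert h using 3
    ext g
    constructor
    · rintro ⟨v, hv, hg⟩
      exact ⟨v, 1, one_ne_zero, by rw [hv]; ring, hg⟩
    · rintro ⟨v, t, ht0, hv, hg⟩
      exact ⟨v, by rw [hv, ht t ht0, mul_one], hg⟩
  have hR : Nat.card ↥(reflectionSubgroup (⇑Q) c) = 3 ^ 6 * 28 * (8 * 80) := by
    have h := Subgroup.index_mul_card (reflectionSubgroup (⇑Q) c)
    rw [hidx, card_isometryGroup_six Q hμ] at h
    omega
  -- the centre is at most `±1`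
  set Z := Subgroup.center ↥(reflectionSubgroup (⇑Q) c) with hZdef
  have hM : ∀ z : Z, mat Q ((z : ↥(reflectionSubgroup (⇑Q) c)) : ↥(isometryGroup (ZMod 3) ⇑Q)) = 1 ∨
      mat Q ((z : ↥(reflectionSubgroup (⇑Q) c)) : ↥(isometryGroup (ZMod 3) ⇑Q)) = -1 := by
    rintro ⟨z, hz⟩
    set M := mat Q (z : ↥(isometryGroup (ZMod 3) ⇑Q)) with hMdef
    have hpm : ∀ v, Q v = c → M *ᵥ v = v ∨ M *ᵥ v = -v := by
      intro v hv
      have hQz : Q (M *ᵥ v) = c := by rw [hMdef, quad_mulVec, hv]
      have h1 : z * Transpositions.classRefl hc v hv * z⁻¹ = Transpositions.classRefl hc (M *ᵥ v) hQz :=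
        Subtype.ext (conj_reflIso Q _ v (hv ▸ hc))
      rw [← Subgroup.mem_center_iff.1 hz, mul_inv_cancel_right] at h1
      rcases (Transpositions.commute_classRefl_iff hc hv hQz).1 (h1 ▸ Commute.refl _) with h0 | h0
      · exact absurd h1 (Transpositions.classRefl_ne hc hv hQz h0)
      · exact h0
    -- an isotropic vector orthogonal to `v` follows `v`
    have hiso : ∀ (v : Fin 6 → ZMod 3) (ε : ZMod 3), Q v = c → ε ≠ 0 → M *ᵥ v = ε • v → ∀ s, Q s = 0 →
        QuadraticMap.polar (⇑Q) v s = 0 → M *ᵥ s = ε • s := by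
      intro v ε hv hε hMv s hs hvs
      have hz : QuadraticMap.polar (⇑Q) (M *ᵥ v) (M *ᵥ s) = 0 := by rw [hMdef, polar_mulVec, hvs]
      rw [hMv, QuadraticMap.polar_smul_left, smul_eq_zero] at hz
      have hvMs := hz.resolve_left hε
      rcases hpm (v + s) (by rw [QuadraticMap.map_add (⇑Q), hv, hs, hvs, add_zero, add_zero]) with h0 | h0 <;>
        rw [mulVec_add, hMv] at h0 <;> rcases Transpositions.zmod_three_cases ε with rfl | rfl | rfl
      · exact absurd rfl hε
      · rw [one_smul] at h0 ⊢; exact add_left_cancel h0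
      · exfalso
        have h3 : M *ᵥ s = (2 : ZMod 3) • v + s := by linear_combination (norm := module) h0
        rw [h3, QuadraticMap.polar_add_right, QuadraticMap.polar_smul_right, hvs, add_zero, polar_self',
          hv, smul_eq_mul] at hvMs
        exact mul_ne_zero h2 (mul_ne_zero h2 hc) hvMs
      · exact absurd rfl hε
      · exfalso
        have h3 : M *ᵥ s = (-2 : ZMod 3) • v + -s := by linear_combination (norm := module) h0
        rw [h3, QuadraticMap.polar_add_right, QuadraticMap.polar_smul_right, QuadraticMap.polar_neg_right, hvs,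
          neg_zero, add_zero, polar_self', hv, smul_eq_mul] at hvMs
        exact mul_ne_zero (neg_ne_zero.2 h2) (mul_ne_zero h2 hc) hvMs
      · rw [neg_one_smul] at h0 ⊢
        rw [neg_add] at h0
        exact add_left_cancel h0
    -- all vectors of norm `c` have one sign
    have hne : ∀ v : Fin 6 → ZMod 3, v ≠ 0 → -v ≠ v := fun v hv he => hv
      ((smul_eq_zero.1 (show (2 : ZMod 3) • v = 0 by linear_combination (norm := module) -he)).resolve_left h2)
    have hsame : ∀ v w, Q v = c → Q w = c → M *ᵥ v = v → M *ᵥ w = w := by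
      intro v w hv hw hMv
      by_contra hMw
      have hMw' := (hpm w hw).resolve_left hMw
      have ho : QuadraticMap.polar (⇑Q) v w = 0 := by
        have h1 := polar_mulVec Q (z : ↥(isometryGroup (ZMod 3) ⇑Q)) v w
        rw [← hMdef, hMv, hMw', QuadraticMap.polar_neg_right] at h1
        have key : ∀ a : ZMod 3, -a = a → a = 0 := by decide
        exact key _ h1
      obtain ⟨s, hs, hs0, hvs, hws⟩ := Transpositions.exists_orth_norm hQ (by simp) hc 0 hv hw ho
      have h1 := hiso v 1 hv one_ne_zero (by rw [hMv, one_smul]) s hs hvs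
      rw [hiso w (-1) hw (by decide) (by rw [hMw', neg_one_smul]) s hs hws, one_smul, neg_one_smul] at h1
      exact hne s (hs0 rfl) h1
    obtain ⟨u, hu⟩ := exists_value h2 hQ (by simp) c
    obtain ⟨ε, hε⟩ : ∃ ε : ZMod 3, (ε = 1 ∨ ε = -1) ∧ ∀ v, Q v = c → M *ᵥ v = ε • v := by
      rcases hpm u hu with h0 | h0
      · exact ⟨1, Or.inl rfl, fun v hv => by rw [one_smul]; exact hsame u v hu hv h0⟩
      · refine ⟨-1, Or.inr rfl, fun v hv => ?_⟩
        rw [neg_one_smul]
        refine (hpm v hv).resolve_left fun h1 => ?_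
        have h2' := hsame v u hv hu h1
        rw [h0] at h2'
        exact hne u (fun h3 => hc (by rw [← hu, h3, QuadraticMap.map_zero])) h2'
    obtain ⟨b, -, hb⟩ := exists_orthogonal_anisotropic_basis h2 hQ
    have hspan : ∀ i, M *ᵥ b i = ε • b i := by
      intro i
      by_cases hbc : Q (b i) = c
      · exact hε.2 _ hbc
      have hbn : Q (b i) = -c := by
        have key : ∀ a x : ZMod 3, a ≠ 0 → x ≠ 0 → x ≠ a → x = -a := by decide
        exact key c _ hc (hb i) hbc
      obtain ⟨g, hg⟩ := exists_quad_value h2 (Q.comp (perpSub Q ![b i]).subtype)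
        (sep_perpSub Q hQ.1 ![b i] (by simpa [polar_self', hbn] using mul_ne_zero h2 hc))
        (by
          have := le_finrank_perpSub Q ![b i]
          have h6 : finrank (ZMod 3) (Fin 6 → ZMod 3) = 6 := by rw [Transpositions.finrank_fun_zmod, Fintype.card_fin]
          omega) (-c)
      have hpg : QuadraticMap.polar (⇑Q) (b i) (g : Fin 6 → ZMod 3) = 0 := mem_perpSub.1 g.2 0
      have hg' : Q (g : Fin 6 → ZMod 3) = -c := hg
      have key2 : ∀ a : ZMod 3, -a + -a + 0 = a := by decide
      have h1 := hε.2 (b i + g) (by rw [QuadraticMap.map_add (⇑Q), hbn, hg', hpg, key2])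
      have h2' := hε.2 (b i + -(g : Fin 6 → ZMod 3)) (by
        rw [QuadraticMap.map_add (⇑Q), hbn, QuadraticMap.map_neg, hg', QuadraticMap.polar_neg_right, hpg,
          neg_zero, key2])
      simp only [mulVec_add, mulVec_neg] at h1 h2'
      have h3 : (2 : ZMod 3) • M *ᵥ b i = (2 : ZMod 3) • ε • b i := by
        linear_combination (norm := module) h1 + h2'
      exact smul_right_injective _ h2 h3
    rcases hε.1 with rfl | rfl
    · left
      refine toLin'.injective (b.ext fun i => ?_)
      rw [toLin'_apply, toLin'_one, LinearMap.id_apply, hspan i, one_smul]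
    · right
      refine toLin'.injective (b.ext fun i => ?_)
      rw [toLin'_apply, map_neg, toLin'_one, LinearMap.neg_apply, LinearMap.id_apply, hspan i, neg_one_smul]
  have hcard : Nat.card Z ≤ 2 := by
    let f : Z → Bool := fun z =>
      decide (mat Q ((z : ↥(reflectionSubgroup (⇑Q) c)) : ↥(isometryGroup (ZMod 3) ⇑Q)) = 1)
    have hf : Function.Injective f := fun z z' he => by
      have he' := decide_eq_decide.1 he
      refine Subtype.ext (Subtype.ext (mat_ext Q ?_))
      rcases hM z with h0 | h0 <;> rcases hM z' with h1 | h1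
      · rw [h0, h1]
      · rw [h0, he'.1 h0]
      · rw [he'.2 h1, h1]
      · rw [h0, h1]
    exact (Nat.card_le_card_of_injective f hf).trans (by simp)
  rw [Nat.card_congr e.toEquiv]
  show Nat.card (↥(reflectionSubgroup (⇑Q) c) ⧸ Z) = _ ∨ Nat.card (↥(reflectionSubgroup (⇑Q) c) ⧸ Z) = _
  have hmul := Subgroup.card_eq_card_quotient_mul_card_subgroup Z
  rw [hR] at hmul
  have hpos : 0 < Nat.card Z := Nat.card_pos
  rcases (show Nat.card Z = 1 ∨ Nat.card Z = 2 by omega) with h0 | h0 <;> rw [h0] at hmul <;> omega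

/-- Its order is divisible by `3 ^ 6 * 7`. -/
theorem dvd_card_projReflection_six {X : Type*} [Group X] {c : ZMod 3} (hc : c ≠ 0)
    (hX : IsProjReflectionGroupModThree X 6 1 c) : 3 ^ 6 * 7 ∣ Nat.card X := by
  rcases card_projReflection_six hc hX with h | h <;> rw [h] <;> norm_num

end CfsgLib.FischerTypes
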