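import Cfsg.Agent.FischerTypes.M22Triples
import Cfsg.Agent.FischerTypes.ReflectionOrder

/-!
# Non-commuting pairs and the order of a group of type M(22)

The group is transitive on non-commuting pairs; two such members have 126 common neighbours, `|D| = 3510`
and `|G| = 64561751654400`.
-/

set_option autoImplicit false
set_option maxHeartbeats 400000

namespace CfsgLib.FischerTypes

open Cfsg CfsgLib.U62 CfsgLib.RepBounds.Unit

variable {G : Type*} [Group G] {D : Set G}

/-- `SU(6,2)` is transitive on pairs of non-orthogonal isotropic points. -/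
theorem exists_map_nonorth {F : Type*} [Field F] [Fintype F] (C : ConjField F) {u v : I6 → F}
    (hu : herm C u u = 0) (hv : herm C v v = 0) (hvu : herm C v u ≠ 0) :
    ∃ (g : suG C I6) (b : F), b ≠ 0 ∧ app C g u = vE C (Fin 2 ⊕ Fin 2) ∧
      app C g v = b • vF C (Fin 2 ⊕ Fin 2) := by
  have hu0 : u ≠ 0 := fun h => hvu (by rw [h, herm_zero_right])
  obtain ⟨g, hg⟩ := exists_map_eq C hu hu0
  have hx : herm C (app C g v) (vE C (Fin 2 ⊕ Fin 2)) ≠ 0 := by rw [← hg, herm_app]; exact hvu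
  obtain ⟨k, hk, hk'⟩ := CfsgLib.Forms4.exists_translate C (x := app C g v) (by rw [herm_app, hv]) hx
  refine ⟨k⁻¹ * g, _, hx, ?_, ?_⟩
  · rw [app_mul, hg]
    conv_lhs => rw [← hk, app_inv_app]
  · rw [app_mul]
    conv_lhs => rw [hk', app_smul, app_inv_app]

namespace PerpModel

variable {d : G} (M : PerpModel D d)

include M in
/-- `⟨D_d⟩` is transitive on ordered pairs of non-commuting members of `D_d`. -/
theorem exists_conj_nonorth {e f e' f' : G} (he : e ∈ perp D d) (hf : f ∈ perp D d) (he' : e' ∈ perp D d)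
    (hf' : f' ∈ perp D d) (hc : ¬ Commute e f) (hc' : ¬ Commute e' f') :
    ∃ g ∈ Subgroup.closure (perp D d), g * e * g⁻¹ = e' ∧ g * f * g⁻¹ = f' := by
  obtain ⟨v, hv, hv0, hve⟩ := M.exists_pt he
  obtain ⟨w, hw, hw0, hwf⟩ := M.exists_pt hf
  obtain ⟨v', hv', hv'0, hve'⟩ := M.exists_pt he'
  obtain ⟨w', hw', hw'0, hwf'⟩ := M.exists_pt hf'
  obtain ⟨a, α, hα, ha1, ha2⟩ := exists_map_nonorth M.C hv hw
    (fun h0 => hc ((M.commute_iff he hf hv hw hw0 hve hwf).2 h0))
  obtain ⟨b, β, hβ, hb1, hb2⟩ := exists_map_nonorth M.C hv' hw'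
    (fun h0 => hc' ((M.commute_iff he' hf' hv' hw' hw'0 hve' hwf').2 h0))
  obtain ⟨g, hg⟩ := QuotientGroup.mk_surjective (M.θ (b⁻¹ * a))
  have key : ∀ {x x' : G} (hx : x ∈ perp D d) (hx' : x' ∈ perp D d) {p p' : I6 → M.K},
      herm M.C p p = 0 → bar hx = M.θ (tv M.C p) → bar hx' = M.θ (tv M.C p') →
      (∃ t : M.K, t ≠ 0 ∧ app M.C (b⁻¹ * a) p = t • p') → herm M.C p' p' = 0 →
      (g : G) * x * (g : G)⁻¹ = x' := by
    intro x x' hx hx' p p' hp hpx hpx' ⟨t, ht, hmap⟩ hp'
    refine M.bar_inj (conj_mem_perp' M.group g.2 hx) hx' ?_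
    have e1 : bar (conj_mem_perp' M.group g.2 hx) =
        (QuotientGroup.mk g : PerpQuot D d) * bar hx * (QuotientGroup.mk g : PerpQuot D d)⁻¹ := rfl
    rw [e1, hg, hpx, hpx', ← map_inv, ← map_mul, ← map_mul, conj_tv M.C M.hq _ hp, hmap,
      tv_smul M.C M.hq ht hp']
  refine ⟨g, g.2, key he he' hv hve hve' ⟨1, one_ne_zero, ?_⟩ hv', key hf hf' hw hwf hwf' ⟨α * β⁻¹, ?_, ?_⟩ hw'⟩
  · rw [one_smul, app_mul, ha1, ← hb1, app_inv_app]
  · exact mul_ne_zero hα (inv_ne_zero hβ)
  · rw [app_mul, ha2, mul_smul,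
      show (vF M.C (Fin 2 ⊕ Fin 2)) = β⁻¹ • app M.C b w' by rw [hb2, inv_smul_smul₀ hβ], app_smul, app_smul,
      app_inv_app]

end PerpModel

variable [Finite G] (h : IsThreeTranspositionGroup D) (hp : IsPrimitiveUnderConj D) (h22 : IsOfTypeM22 G D)

include h hp h22

/-- `G` is transitive on ordered non-commuting pairs. -/
theorem exists_conj_noncommute {d y d' y' : G} (hd : d ∈ D) (hy : y ∈ D) (hdy : ¬ Commute d y) (hd' : d' ∈ D)
    (hy' : y' ∈ D) (hdy' : ¬ Commute d' y') : ∃ g : G, g * d * g⁻¹ = d' ∧ g * y * g⁻¹ = y' := by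
  obtain ⟨x, hxd, hxy⟩ := common_nonempty h hp h22 hd hy hdy
  obtain ⟨x', hxd', hxy'⟩ := common_nonempty h hp h22 hd' hy' hdy'
  obtain ⟨g, hg⟩ := single_class h h22 hxd.1 hxd'.1
  have cj : ∀ {z : G}, z ∈ D → x ∈ perp D z → g * z * g⁻¹ ∈ perp D x' := fun {z} hz hxz =>
    hg ▸ ⟨h.2.1 g z hz, fun he => hxz.2.1 (mul_left_cancel (mul_right_cancel he)).symm,
      (commute_conj_iff' g _ _).2 hxz.2.2.symm⟩
  obtain ⟨M⟩ := exists_perpModel h h22 hxd'.1
  obtain ⟨k, -, hk1, hk2⟩ := M.exists_conj_nonorth (cj hd hxd) (cj hy hxy) (perp_symm hd' hxd')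
    (perp_symm hy' hxy') (fun hc => hdy ((commute_conj_iff' g _ _).1 hc)) hdy'
  exact ⟨k * g, by rw [← hk1]; group, by rw [← hk2]; group⟩

theorem mu_props {d y : G} (hd : d ∈ D) (hy : y ∈ D) (hdy : ¬ Commute d y) :
    (perp D d ∩ perp D y).ncard = 126 ∧ {z : G | z ∈ D ∧ ¬ Commute d z}.ncard = 2816 ∧
      Nat.card (Subgroup.centralizer ({d, y} : Set G)) = 6531840 := by
  classical
  have := Fintype.ofFinite G
  set k := (perp D d ∩ perp D y).ncard with hk
  set N := {z : G | z ∈ D ∧ ¬ Commute d z} with hN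
  obtain ⟨M⟩ := exists_perpModel h h22 hd
  have cj : ∀ (g : G) {u v : G}, v ∈ perp D u → g * v * g⁻¹ ∈ perp D (g * u * g⁻¹) := fun g u v hv =>
    ⟨h.2.1 g v hv.1, fun he => hv.2.1 (mul_left_cancel (mul_right_cancel he)),
      (commute_conj_iff' g _ _).2 hv.2.2⟩
  have hconst : ∀ {d' y' : G}, d' ∈ D → y' ∈ D → ¬ Commute d' y' → (perp D d' ∩ perp D y').ncard = k := by
    intro d' y' hd' hy' hdy'
    obtain ⟨g, g1, g2⟩ := exists_conj_noncommute h hp h22 hd hy hdy hd' hy' hdy'
    have himg : perp D d' ∩ perp D y' = (fun x => g * x * g⁻¹) '' (perp D d ∩ perp D y) := by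
      ext z
      constructor
      · rintro ⟨z1, z2⟩
        have e1 := cj g⁻¹ z1
        have e2 := cj g⁻¹ z2
        rw [← g1, show g⁻¹ * (g * d * g⁻¹) * g⁻¹⁻¹ = d by group] at e1
        rw [← g2, show g⁻¹ * (g * y * g⁻¹) * g⁻¹⁻¹ = y by group] at e2
        exact ⟨_, ⟨e1, e2⟩, by group⟩
      · rintro ⟨x, ⟨x1, x2⟩, rfl⟩
        exact ⟨g1 ▸ cj g x1, g2 ▸ cj g x2⟩
    rw [himg, Set.ncard_image_of_injective _ fun a b he => mul_left_cancel (mul_right_cancel he)]
  -- the edges between `D_d` and the members not commuting with `d`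
  have hcount : N.ncard * k = 693 * 512 := by
    have h1 := Finset.sum_card_bipartiteAbove_eq_sum_card_bipartiteBelow
      (r := fun x z => z ∈ perp D x) (s := (perp D d).toFinset) (t := N.toFinset)
    have e1 : ∀ x ∈ (perp D d).toFinset,
        (Finset.bipartiteAbove (fun x z => z ∈ perp D x) N.toFinset x).card = 512 := by
      intro x hx
      rw [Set.mem_toFinset] at hx
      obtain ⟨Mx⟩ := exists_perpModel h h22 hx.1
      have hset : Finset.bipartiteAbove (fun x z => z ∈ perp D x) N.toFinset x =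
          (perp D x \ insert d (perp D d ∩ perp D x)).toFinset := by
        ext z
        simp only [Finset.bipartiteAbove, Finset.mem_filter, Set.mem_toFinset, Set.mem_sdiff, Set.mem_insert_iff,
          Set.mem_inter_iff, hN, Set.mem_ofPred_eq, not_or, not_and]
        constructor
        · exact fun ⟨⟨_, hdz⟩, hxz⟩ => ⟨hxz, fun he => hdz (he ▸ Commute.refl _), fun hz => absurd hz.2.2 hdz⟩
        · exact fun ⟨hxz, hzd, hz⟩ => ⟨⟨hxz.1, fun hc => hz ⟨hxz.1, hzd, hc⟩ hxz.1 hxz.2.1 hxz.2.2⟩, hxz⟩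
      rw [hset, ← Set.ncard_eq_toFinset_card', Set.ncard_sdiff
        (Set.insert_subset (perp_symm hd hx) Set.inter_subset_right), Mx.ncard_perp,
        Set.ncard_insert_of_notMem (fun h0 => h0.1.2.1 rfl), M.ncard_perp_perp hx]
    have e2 : ∀ z ∈ N.toFinset,
        (Finset.bipartiteBelow (fun x z => z ∈ perp D x) (perp D d).toFinset z).card = k := by
      intro z hz
      rw [Set.mem_toFinset] at hz
      have hset : Finset.bipartiteBelow (fun x z => z ∈ perp D x) (perp D d).toFinset z =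
          (perp D d ∩ perp D z).toFinset := by
        ext x
        simp only [Finset.bipartiteBelow, Finset.mem_filter, Set.mem_toFinset, Set.mem_inter_iff]
        exact ⟨fun ⟨hx, hzx⟩ => ⟨hx, perp_symm hx.1 hzx⟩, fun ⟨hx, hxz⟩ => ⟨hx, perp_symm hz.1 hxz⟩⟩
      rw [hset, ← Set.ncard_eq_toFinset_card', hconst hd hz.1 hz.2]
    rw [Finset.sum_congr rfl e1, Finset.sum_congr rfl e2, Finset.sum_const, Finset.sum_const, smul_eq_mul,
      smul_eq_mul, ← Set.ncard_eq_toFinset_card', ← Set.ncard_eq_toFinset_card', M.ncard_perp] at h1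
    exact h1.symm
  -- the stabilizer
  have hle : Subgroup.centralizer ({d, y} : Set G) ≤ Subgroup.centralizer ({d} : Set G) :=
    Subgroup.centralizer_le (by simp)
  have hH : Nat.card (Subgroup.centralizer ({d} : Set G)) =
      N.ncard * Nat.card (Subgroup.centralizer ({d, y} : Set G)) := by
    refine card_eq_ncard_mul_card hle (fun g => g * y * g⁻¹) ?_ ?_ ?_
    · intro g hg
      have hgd : Commute g d := Subgroup.mem_centralizer_singleton_iff.1 hg
      refine ⟨h.2.1 g y hy, fun hc => hdy ?_⟩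
      rw [← commute_conj_iff' g, hgd.eq, mul_inv_cancel_right]
      exact hc
    · rintro z ⟨hz, hdz⟩
      obtain ⟨g, g1, g2⟩ := exists_conj_noncommute h hp h22 hd hy hdy hd hz hdz
      exact ⟨g, Subgroup.mem_centralizer_singleton_iff.2 (mul_inv_eq_iff_eq_mul.1 g1), g2⟩
    · intro g hg g' hg'
      rw [conj_eq_conj_iff, Subgroup.mem_centralizer_iff]
      constructor
      · rintro hc x (rfl | rfl)
        · exact ((show Commute g⁻¹ x from (show Commute g x from
            Subgroup.mem_centralizer_singleton_iff.1 hg).inv_left).mul_left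
              (Subgroup.mem_centralizer_singleton_iff.1 hg')).eq.symm
        · exact hc.eq.symm
      · exact fun h0 => (h0 y (by simp)).symm
  rw [card_centralizer h hp h22 hd] at hH
  have hs : Nat.card (Subgroup.centralizer ({d, y} : Set G)) = 51840 * k := by
    have h1 : 693 * 512 * Nat.card (Subgroup.centralizer ({d, y} : Set G)) = 18393661440 * k := by
      rw [← hcount, hH]; ring
    omega
  -- bounds from the commuting graph
  have hdeg : ∀ q ∈ (perp D d ∩ perp D y).toFinset,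
      ((((perp D d ∩ perp D y).toFinset : Finset G) : Set G) ∩ perp D q).ncard = 45 := fun q hq => by
    rw [Set.coe_toFinset]
    rw [Set.mem_toFinset] at hq
    exact ncard_common_perp h hp h22 hd hy hdy hq.1 hq.2
  have hbound := component_bound M (perp D d ∩ perp D y).toFinset ∅
    (fun q hq => (Set.mem_toFinset.1 hq).1) hdeg
    (Set.toFinset_nonempty.2 (common_nonempty h hp h22 hd hy hdy))
    (fun p hp' => absurd hp' (Finset.notMem_empty p))
  rw [← Set.ncard_eq_toFinset_card', ← hk, Finset.card_empty, Nat.cast_zero, sub_zero] at hbound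
  have hk1 : 126 ≤ k := by
    have : (126 : ℤ) ≤ k := by nlinarith
    exact_mod_cast this
  have hk2 : k ≤ 198 := by
    have : (k : ℤ) ≤ 198 := by nlinarith
    exact_mod_cast this
  -- the reflection group
  obtain ⟨-, d₀, hd₀, c₀, hc₀, hdc₀, -, c₃, hc₃, hL⟩ := id h22
  obtain ⟨g, g1, g2⟩ := exists_conj_noncommute h hp h22 hd₀ hc₀ hdc₀ hd hy hdy
  have hdvd : 3 ^ 6 * 7 ∣ Nat.card (Subgroup.centralizer ({d, y} : Set G)) := by
    refine ((dvd_card_projReflection_six hc₃ hL).trans (Subgroup.card_quotient_dvd_card _)).trans ?_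
    refine (Subgroup.card_dvd_of_le (K := Subgroup.centralizer ({d₀, c₀} : Set G)) ?_).trans (dvd_of_eq ?_)
    · rw [Subgroup.closure_le]
      intro x hx
      rw [SetLike.mem_coe, Subgroup.mem_centralizer_iff]
      rintro z (rfl | rfl)
      exacts [hx.1.2.2.eq, hx.2.2.2.eq]
    · have hmap : (Subgroup.centralizer ({d₀, c₀} : Set G)).map (MulAut.conj g).toMonoidHom =
          Subgroup.centralizer ({d, y} : Set G) := by
        ext x
        simp only [Subgroup.mem_map, Subgroup.mem_centralizer_iff, MulEquiv.coe_toMonoidHom, MulAut.conj_apply,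
          Set.mem_insert_iff, Set.mem_singleton_iff, forall_eq_or_imp, forall_eq]
        constructor
        · rintro ⟨z, ⟨z1, z2⟩, rfl⟩
          exact ⟨g1 ▸ ((commute_conj_iff' g d₀ z).2 z1).eq, g2 ▸ ((commute_conj_iff' g c₀ z).2 z2).eq⟩
        · rintro ⟨x1, x2⟩
          refine ⟨g⁻¹ * x * g, ⟨?_, ?_⟩, by group⟩
          · refine ((commute_conj_iff' g d₀ _).1 ?_).eq
            rw [g1, show g * (g⁻¹ * x * g) * g⁻¹ = x by group]
            exact x1
          · refine ((commute_conj_iff' g c₀ _).1 ?_).eq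
            rw [g2, show g * (g⁻¹ * x * g) * g⁻¹ = x by group]
            exact x2
      rw [← hmap]
      exact Nat.card_congr (Subgroup.equivMapOfInjective _ _ (MulAut.conj g).injective).toEquiv
  rw [hs] at hdvd
  obtain ⟨t, ht⟩ := hdvd
  have hk126 : k = 126 := by
    clear hbound hdeg
    interval_cases k <;> omega
  rw [hk126] at hs hcount
  exact ⟨hk126, by omega, by rw [hs]⟩

/-- Two non-commuting members have 126 common neighbours. -/
theorem ncard_common {d y : G} (hd : d ∈ D) (hy : y ∈ D) (hdy : ¬ Commute d y) :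
    (perp D d ∩ perp D y).ncard = 126 :=
  (mu_props h hp h22 hd hy hdy).1

theorem card_centralizer_pair {d y : G} (hd : d ∈ D) (hy : y ∈ D) (hdy : ¬ Commute d y) :
    Nat.card (Subgroup.centralizer ({d, y} : Set G)) = 6531840 :=
  (mu_props h hp h22 hd hy hdy).2.2

/-- The number of members. -/
theorem ncard_D : D.ncard = 3510 := by
  obtain ⟨d, hd, c, hc, hne⟩ := hp.2.1
  obtain ⟨M⟩ := exists_perpModel h h22 hd
  obtain ⟨-, d₀, hd₀, c₀, hc₀, hdc₀, -⟩ := id h22
  obtain ⟨g, hg⟩ := single_class h h22 hd₀ hd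
  have hy : g * c₀ * g⁻¹ ∈ D ∧ ¬ Commute d (g * c₀ * g⁻¹) :=
    ⟨h.2.1 g c₀ hc₀, by rw [← hg, commute_conj_iff']; exact hdc₀⟩
  have hN := (mu_props h hp h22 hd hy.1 hy.2).2.1
  have hD : D = insert d (perp D d) ∪ {z : G | z ∈ D ∧ ¬ Commute d z} := by
    ext z
    simp only [Set.mem_union, Set.mem_insert_iff, Set.mem_ofPred_eq]
    constructor
    · intro hz
      by_cases hzd : z = d
      · exact Or.inl (Or.inl hzd)
      by_cases hc' : Commute d z
      · exact Or.inl (Or.inr ⟨hz, hzd, hc'⟩)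
      · exact Or.inr ⟨hz, hc'⟩
    · rintro ((rfl | hz) | hz)
      exacts [hd, hz.1, hz.1]
  rw [hD, Set.ncard_union_eq ?_ (Set.toFinite _) (Set.toFinite _),
    Set.ncard_insert_of_notMem (fun h0 => h0.2.1 rfl), M.ncard_perp, hN]
  refine Set.disjoint_left.2 ?_
  rintro z (rfl | hz) hz'
  · exact hz'.2 (Commute.refl _)
  · exact hz'.2 hz.2.2

/-- The order of the group. -/
theorem card_group : Nat.card G = 64561751654400 := by
  obtain ⟨d, hd, -⟩ := hp.2.1
  have h1 : Nat.card (⊤ : Subgroup G) = D.ncard * Nat.card (Subgroup.centralizer ({d} : Set G)) := by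
    refine card_eq_ncard_mul_card le_top (fun g => g * d * g⁻¹) (fun g _ => h.2.1 g d hd) ?_ ?_
    · intro z hz
      obtain ⟨g, hg⟩ := single_class h h22 hd hz
      exact ⟨g, Subgroup.mem_top g, hg⟩
    · intro g _ g' _
      rw [conj_eq_conj_iff, Subgroup.mem_centralizer_singleton_iff]
      rfl
  rw [Subgroup.card_top, ncard_D h hp h22, card_centralizer h hp h22 hd] at h1
  omega

end CfsgLib.FischerTypes
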