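import Cfsg.Agent.FischerTypes.U62Geometry

/-!
# Involutions of `SU(6,2)`

An involution is a product of at most three transvections at independent, pairwise orthogonal points, and a
product of three is also the product of three at the other points of a hyperoval of their plane.
-/

set_option autoImplicit false

namespace CfsgLib.U62

open Matrix CfsgLib.RepBounds.Unit

variable {F : Type*} [Field F] [Fintype F] (C : ConjField F)

local notation "V6" => (I6 → F)

/-- There are no four independent, pairwise orthogonal isotropic vectors in six dimensions. -/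
theorem not_four_orth {v : Fin 4 → V6} (hv : ∀ i j, herm C (v i) (v j) = 0)
    (hli : LinearIndependent F v) : False := by
  let L : V6 →ₗ[F] (Fin 4 → F) :=
    { toFun := fun x i => herm C x (v i)
      map_add' := fun x y => funext fun i => herm_add_left C x y _
      map_smul' := fun a x => funext fun i => herm_smul_left C a x _ }
  have htop : LinearMap.range L = ⊤ := by
    by_contra hne
    obtain ⟨f, hf0, hf⟩ := Submodule.exists_dual_map_eq_bot_of_lt_top (lt_top_iff_ne_top.2 hne) inferInstance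
    apply hf0
    have hz : ∀ x, herm C x (∑ i, C.σ (f (Pi.single i 1)) • v i) = 0 := fun x => by
      have h1 : f (L x) = 0 := by
        have h2 : f (L x) ∈ (LinearMap.range L).map f := Submodule.mem_map_of_mem (LinearMap.mem_range_self L x)
        rwa [hf, Submodule.mem_bot] at h2
      rw [show herm C x (∑ i, C.σ (f (Pi.single i 1)) • v i) =
        ∑ i, f (Pi.single i 1) * herm C x (v i) by
          simp only [Fin.sum_univ_four, herm_add_right, herm_smul_right, C.invol]]
      rw [pi_eq_sum_univ' (L x), map_sum] at h1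
      rw [← h1]
      exact Finset.sum_congr rfl fun i _ => by rw [map_smul, smul_eq_mul, mul_comm]; rfl
    have h0 : ∑ i, C.σ (f (Pi.single i 1)) • v i = 0 := by
      by_contra h0
      obtain ⟨y, hy⟩ := exists_herm_eq C h0 1
      exact one_ne_zero (hy.symm.trans (hz y))
    have h1 := Fintype.linearIndependent_iff.1 hli _ h0
    refine LinearMap.pi_ext fun i a => ?_
    rw [show (Pi.single i a : Fin 4 → F) = a • Pi.single i 1 by rw [← Pi.single_smul, smul_eq_mul, mul_one],
      map_smul, (map_eq_zero C.σ).1 (h1 i), smul_zero, LinearMap.zero_apply]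
  have hker : Submodule.span F (Set.range v) ≤ LinearMap.ker L :=
    Submodule.span_le.2 (Set.range_subset_iff.2 fun i => LinearMap.mem_ker.2 (funext fun j => hv i j))
  have h1 := LinearMap.finrank_range_add_finrank_ker L
  have h2 := Submodule.finrank_mono hker
  rw [finrank_span_eq_card hli, Fintype.card_fin] at h2
  rw [htop, finrank_top, Module.finrank_fintype_fun_eq_card, Module.finrank_fintype_fun_eq_card] at h1
  simp at h1
  omega

variable (hC : C.q = 2)
include hC

/-- An involution is a product of at most three transvections at independent orthogonal points. -/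
theorem involution_cases {g : suG C I6} (hg : g * g = 1) :
    g = 1 ∨ (∃ v : V6, herm C v v = 0 ∧ v ≠ 0 ∧ g = tv C v) ∨
      (∃ v w : V6, herm C v v = 0 ∧ herm C w w = 0 ∧ herm C w v = 0 ∧ v ≠ 0 ∧ (∀ a : F, w ≠ a • v) ∧
        g = tv C v * tv C w) ∨
      ∃ v : Fin 3 → V6, (∀ i j, herm C (v i) (v j) = 0) ∧ LinearIndependent F v ∧
        g = tv C (v 0) * tv C (v 1) * tv C (v 2) := by
  by_cases h0 : g = 1
  · exact Or.inl h0
  obtain ⟨u₁, v₁, hv₁, hvv₁, hvu₁, hg₁, hap₁, hper₁⟩ := exists_peel C hC hg h0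
  have ne₀ : ∀ {v u : V6}, herm C v u = 1 → v ≠ 0 := fun {v u} h1 h2 => by
    rw [h2, herm_zero_left] at h1; exact zero_ne_one h1
  have hg0 : g = g * tv C v₁ * tv C v₁ := by rw [mul_assoc, tv_mul_self C hC hvv₁, mul_one]
  by_cases h1 : g * tv C v₁ = 1
  · exact Or.inr (Or.inl ⟨v₁, hvv₁, ne₀ hvu₁, hg0.trans (by rw [h1, one_mul])⟩)
  obtain ⟨u₂, v₂, hv₂, hvv₂, hvu₂, hg₂, hap₂, hper₂⟩ := exists_peel C hC hg₁ h1
  have e21 : herm C v₂ u₁ = 0 := by rw [hv₂]; exact hper₁ _
  have o21 : herm C v₂ v₁ = 0 := by rw [hv₂, hap₁, hv₁]; exact herm_image C hC hg _ _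
  have hg1 : g = g * tv C v₁ * tv C v₂ * tv C v₂ * tv C v₁ := by
    rw [mul_assoc (g * tv C v₁) (tv C v₂) (tv C v₂), tv_mul_self C hC hvv₂, mul_one]; exact hg0
  by_cases h2 : g * tv C v₁ * tv C v₂ = 1
  · refine Or.inr (Or.inr (Or.inl ⟨v₁, v₂, hvv₁, hvv₂, o21, ne₀ hvu₁, fun a ha => ?_, ?_⟩))
    · have : herm C v₂ u₁ = a := by rw [ha, herm_smul_left, hvu₁, mul_one]
      rw [e21] at this
      exact ne₀ hvu₂ (by rw [ha, ← this, zero_smul])
    · conv_lhs => rw [hg1, h2, one_mul]
      exact (commute_tv C hC hvv₁ hvv₂ o21).eq.symm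
  obtain ⟨u₃, v₃, hv₃, hvv₃, hvu₃, hg₃, hap₃, hper₃⟩ := exists_peel C hC hg₂ h2
  have e32 : herm C v₃ u₂ = 0 := by rw [hv₃]; exact hper₂ _
  have e31 : herm C v₃ u₁ = 0 := by rw [hv₃, hap₂]; exact hper₁ _
  have o31 : herm C v₃ v₁ = 0 := by rw [hv₃, hap₂, hap₁, hv₁]; exact herm_image C hC hg _ _
  have o32 : herm C v₃ v₂ = 0 := by rw [hv₃, hap₂, hv₂]; exact herm_image C hC hg₁ _ _
  have hg2 : g = g * tv C v₁ * tv C v₂ * tv C v₃ * tv C v₃ * tv C v₂ * tv C v₁ := by
    rw [mul_assoc (g * tv C v₁ * tv C v₂) (tv C v₃) (tv C v₃), tv_mul_self C hC hvv₃, mul_one]; exact hg1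
  have sym : ∀ {a b : V6}, herm C a b = 0 → herm C b a = 0 := fun {a b} h => by
    rw [← conj_herm, h, map_zero]
  refine Or.inr (Or.inr (Or.inr ⟨![v₃, v₂, v₁], ?_, ?_, ?_⟩))
  · intro i j
    fin_cases i <;> fin_cases j <;> simp [hvv₁, hvv₂, hvv₃, o21, o31, o32, sym o21, sym o31, sym o32]
  · rw [Fintype.linearIndependent_iff]
    intro c hc
    simp only [Fin.sum_univ_three, Matrix.cons_val_zero, Matrix.cons_val_one, Matrix.cons_val_two,
      Matrix.tail_cons, Matrix.head_cons] at hc
    have c2 := congrArg (fun z => herm C z u₁) hc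
    simp [herm_add_left, herm_smul_left, herm_zero_left, e31, e21, hvu₁] at c2
    have c1 := congrArg (fun z => herm C z u₂) hc
    simp [herm_add_left, herm_smul_left, herm_zero_left, e32, hvu₂, c2] at c1
    have c0 := congrArg (fun z => herm C z u₃) hc
    simp [herm_add_left, herm_smul_left, herm_zero_left, hvu₃, c1, c2] at c0
    intro i
    fin_cases i <;> simp [c0, c1, c2]
  · by_cases h3 : g * tv C v₁ * tv C v₂ * tv C v₃ = 1
    · conv_lhs => rw [hg2, h3, one_mul]
      rfl
    exfalso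
    obtain ⟨u₄, v₄, hv₄, hvv₄, hvu₄, -, -, -⟩ := exists_peel C hC hg₃ h3
    have e43 : herm C v₄ u₃ = 0 := by rw [hv₄]; exact hper₃ _
    have e42 : herm C v₄ u₂ = 0 := by rw [hv₄, hap₃]; exact hper₂ _
    have e41 : herm C v₄ u₁ = 0 := by rw [hv₄, hap₃, hap₂]; exact hper₁ _
    have o43 : herm C v₄ v₃ = 0 := by rw [hv₄, hap₃, hv₃]; exact herm_image C hC hg₂ _ _
    have o42 : herm C v₄ v₂ = 0 := by rw [hv₄, hap₃, hap₂, hv₂]; exact herm_image C hC hg₁ _ _
    have o41 : herm C v₄ v₁ = 0 := by rw [hv₄, hap₃, hap₂, hap₁, hv₁]; exact herm_image C hC hg _ _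
    refine not_four_orth C (v := ![v₄, v₃, v₂, v₁]) ?_ ?_
    · intro i j
      fin_cases i <;> fin_cases j <;>
        simp [hvv₁, hvv₂, hvv₃, hvv₄, o21, o31, o32, o41, o42, o43, sym o21, sym o31, sym o32, sym o41,
          sym o42, sym o43]
    · rw [Fintype.linearIndependent_iff]
      intro c hc
      simp [Fin.sum_univ_four] at hc
      have c3 := congrArg (fun z => herm C z u₁) hc
      simp [herm_add_left, herm_smul_left, herm_zero_left, e41, e31, e21, hvu₁] at c3
      have c2 := congrArg (fun z => herm C z u₂) hc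
      simp [herm_add_left, herm_smul_left, herm_zero_left, e42, e32, hvu₂, c3] at c2
      have c1 := congrArg (fun z => herm C z u₃) hc
      simp [herm_add_left, herm_smul_left, herm_zero_left, e43, hvu₃, c2, c3] at c1
      have c0 := congrArg (fun z => herm C z u₄) hc
      simp [herm_add_left, herm_smul_left, herm_zero_left, hvu₄, c1, c2, c3] at c0
      intro i
      fin_cases i <;> simp [c0, c1, c2, c3]

/-- The point `v₀ + a t v₁ + b t² v₂`. -/
def planePt {ι : Type*} (v : Fin 3 → ι → F) (a b t : F) : ι → F := v 0 + (a * t) • v 1 + (b * t ^ 2) • v 2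

omit hC in
theorem herm_planePt {v : Fin 3 → V6} (hv : ∀ i j, herm C (v i) (v j) = 0) (a b s a' b' t : F) :
    herm C (planePt v a b s) (planePt v a' b' t) = 0 := by
  simp [planePt, herm_add_left, herm_add_right, herm_smul_left, herm_smul_right, hv]

/-- Two triangles of a hyperoval of an isotropic plane have the same product. -/
theorem tv_triangle {v : Fin 3 → V6} (hv : ∀ i j, herm C (v i) (v j) = 0) {a b : F} (ha : a ≠ 0)
    (hb : b ≠ 0) {ω : F} (hω : ω ^ 2 + ω + 1 = 0) :
    tv C (v 0) * tv C (v 1) * tv C (v 2) =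
      tv C (planePt v a b 1) * tv C (planePt v a b ω) * tv C (planePt v a b (ω ^ 2)) := by
  refine suG_ext C fun x => ?_
  have hp := herm_planePt C hv
  simp only [app_mul, app_tv C hC (hv _ _), app_tv C hC (hp _ _ _ _ _ _), herm_add_left, herm_smul_left, hv, hp,
    mul_zero, add_zero]
  simp only [planePt, herm_add_right, herm_smul_right, sigma_eq C hC]
  match_scalars
  · simp
  · linear_combination (-herm C x (v 2)) * two_eq_zero C hC -
      (herm C x (v 2) * (1 + ω ^ 6 + ω ^ 12)) * pow_three C hC hb +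
      (-(b * herm C x (v 0) * (ω ^ 2 - ω + 1)) -
        b * a ^ 2 * herm C x (v 1) * ((ω ^ 2 - ω + 1) * (ω ^ 4 - ω ^ 2 + 1)) -
        herm C x (v 2) * ((ω - 1) * (ω ^ 3 + 1) * (ω ^ 6 + 2))) * hω
  · linear_combination (-herm C x (v 1)) * two_eq_zero C hC -
      (herm C x (v 1) * (1 + ω ^ 3 + ω ^ 6)) * pow_three C hC ha +
      (-(a * herm C x (v 0)) - herm C x (v 1) * ((ω - 1) * (ω ^ 3 + 2)) -
        a * b ^ 2 * herm C x (v 2) * (1 + ω ^ 2 * (ω - 1) + ω * (ω - 1) * (ω ^ 6 + ω ^ 3 + 1))) * hω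
  · linear_combination (-herm C x (v 0)) * two_eq_zero C hC +
      (-(a ^ 2 * herm C x (v 1) * (ω ^ 2 - ω + 1)) -
        b ^ 2 * herm C x (v 2) * ((ω ^ 2 - ω + 1) * (ω ^ 4 - ω ^ 2 + 1))) * hω

omit hC in
/-- Coordinates in an independent triple. -/
theorem coeff_eq {v : Fin 3 → V6} (hli : LinearIndependent F v) {x y z x' y' z' : F}
    (h : x • v 0 + y • v 1 + z • v 2 = x' • v 0 + y' • v 1 + z' • v 2) : x = x' ∧ y = y' ∧ z = z' := by
  have h0 : ∑ i, ![x - x', y - y', z - z'] i • v i = 0 := by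
    rw [Fin.sum_univ_three]
    simp only [Matrix.cons_val_zero, Matrix.cons_val_one, Matrix.cons_val_two, Matrix.tail_cons, Matrix.head_cons,
      sub_smul]
    linear_combination (norm := module) h
  have h1 := Fintype.linearIndependent_iff.1 hli _ h0
  exact ⟨sub_eq_zero.1 (by simpa using h1 0), sub_eq_zero.1 (by simpa using h1 1),
    sub_eq_zero.1 (by simpa using h1 2)⟩

omit hC in
theorem planePt_ne_smul_base {v : Fin 3 → V6} (hli : LinearIndependent F v) {a b t : F} (ha : a ≠ 0)
    (ht : t ≠ 0) (i : Fin 3) (c : F) : planePt v a b t ≠ c • v i := by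
  intro he
  rw [planePt, show v 0 = (1 : F) • v 0 from (one_smul _ _).symm] at he
  fin_cases i
  · exact mul_ne_zero ha ht (coeff_eq hli (x' := c) (y' := 0) (z' := 0) (he.trans (by simp))).2.1
  · exact one_ne_zero (coeff_eq hli (x' := 0) (y' := c) (z' := 0) (he.trans (by simp))).1
  · exact one_ne_zero (coeff_eq hli (x' := 0) (y' := 0) (z' := c) (he.trans (by simp))).1

omit hC in
theorem planePt_inj {v : Fin 3 → V6} (hli : LinearIndependent F v) {a b s a' b' t c : F}
    (he : planePt v a b s = c • planePt v a' b' t) : a * s = a' * t ∧ b * s ^ 2 = b' * t ^ 2 := by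
  have h1 : (1 : F) • v 0 + (a * s) • v 1 + (b * s ^ 2) • v 2 =
      c • v 0 + (c * (a' * t)) • v 1 + (c * (b' * t ^ 2)) • v 2 := by
    rw [one_smul]
    exact he.trans (by simp [planePt, smul_add, smul_smul])
  obtain ⟨h2, h3, h4⟩ := coeff_eq hli h1
  subst h2
  exact ⟨h3.trans (one_mul _), h4.trans (one_mul _)⟩

end CfsgLib.U62
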