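import Cfsg.Agent.FischerTypes.M22Centralizer
import Cfsg.Agent.FischerTypes.U62Involution

/-!
# Involutions of a group of type M(22)

Three members of `D_z` in general position in a plane lie with `z` and three others in a relation of length
seven.  Hence the action on `D` is even, every involution fixes a member, and is a product of at most three
commuting members.
-/

set_option autoImplicit false
set_option maxHeartbeats 400000

namespace CfsgLib.FischerTypes

open Cfsg CfsgLib.U62 CfsgLib.RepBounds.Unit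

variable {G : Type*} [Group G] {D : Set G}

namespace PerpModel

variable {d : G} (M : PerpModel D d)

theorem ne_of_not_smul {x y : G} (hx : x ∈ perp D d) (hy : y ∈ perp D d) {v w : I6 → M.K}
    (hv : herm M.C v v = 0) (hw : herm M.C w w = 0) (hw0 : w ≠ 0) (hvx : bar hx = M.θ (tv M.C v))
    (hwy : bar hy = M.θ (tv M.C w)) (hns : ∀ a : M.K, w ≠ a • v) : x ≠ y := by
  rintro rfl
  obtain ⟨a, -, ha⟩ := eq_smul_of_map_eq M.C M.hq M.θ M.hker hv hw hw0 (hvx.symm.trans hwy)
  exact hns a ha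

end PerpModel

variable [Finite G] (h : IsThreeTranspositionGroup D) (hp : IsPrimitiveUnderConj D) (h22 : IsOfTypeM22 G D)

include h hp h22

/-- The relation of length seven. -/
theorem exists_heptad' {z : G} (hz : z ∈ D) (M : PerpModel D z) {v : Fin 3 → I6 → M.K}
    (hv : ∀ i j, herm M.C (v i) (v j) = 0) (hli : LinearIndependent M.K v) (x : Fin 3 → G)
    (hx : ∀ i, x i ∈ perp D z) (hbar : ∀ i, bar (hx i) = M.θ (tv M.C (v i))) :
    ∃ a b c, a ∈ perp D z ∧ b ∈ perp D z ∧ c ∈ perp D z ∧ b ∈ perp D a ∧ c ∈ perp D a ∧ c ∈ perp D b ∧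
      z * (x 0 * x 1 * x 2) = a * b * c ∧
      ∀ o ∈ [a, b, c], ∀ y ∈ perp D z, (∀ i, Commute y (x i)) → Commute o y := by
  classical
  obtain ⟨ω, hω0, hω1, hω⟩ := exists_omega M.C M.hq
  have hω2 : ω ^ 2 ≠ 1 := fun h0 => hω1 (by
    have h3 := U62.pow_three M.C M.hq hω0
    rwa [pow_succ, h0, one_mul] at h3)
  have hωω : ω ≠ ω ^ 2 := fun h0 => hω1 (by
    rw [pow_two] at h0; exact mul_left_cancel₀ hω0 (by rw [mul_one]; exact h0.symm))
  have hv0 : ∀ i, v i ≠ 0 := fun i => hli.ne_zero i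
  have hn : ∀ i j, i ≠ j → ∀ a : M.K, v j ≠ a • v i := fun i j hij a he => by
    have h1 := Fintype.linearIndependent_iff.1 hli (fun k => if k = i then a else if k = j then -1 else 0)
      (by
        have hsum : ∀ k, (if k = i then a else if k = j then -1 else 0) • v k =
            (if k = i then a • v i else 0) + (if k = j then -v j else 0) := fun k => by
          by_cases hk : k = i
          · subst hk; rw [if_pos rfl, if_pos rfl, if_neg hij, add_zero]
          by_cases hk' : k = j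
          · subst hk'; rw [if_neg hk, if_pos rfl, if_neg hk, if_pos rfl, zero_add, neg_one_smul]
          · rw [if_neg hk, if_neg hk', if_neg hk, if_neg hk', zero_smul, add_zero]
        simp only [hsum, Finset.sum_add_distrib, Finset.sum_ite_eq', Finset.mem_univ, if_true]
        rw [he, add_neg_cancel]) j
    rw [if_neg (Ne.symm hij), if_pos rfl] at h1
    exact neg_ne_zero.2 one_ne_zero h1
  have hx3 : x 1 ∈ perp D (x 0) ∧ x 2 ∈ perp D (x 0) ∧ x 2 ∈ perp D (x 1) := by
    have e : ∀ i j, i ≠ j → x j ∈ perp D (x i) := fun i j hij =>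
      ⟨(hx j).1, (M.ne_of_not_smul (hx i) (hx j) (hv i i) (hv j j) (hv0 j) (hbar i) (hbar j) (hn i j hij)).symm,
        (M.commute_iff (hx i) (hx j) (hv i i) (hv j j) (hv0 j) (hbar i) (hbar j)).2 (hv j i)⟩
    exact ⟨e 0 1 (by decide), e 0 2 (by decide), e 1 2 (by decide)⟩
  -- the two hyperovals
  have key : ∀ a b : M.K, a ≠ 0 → b ≠ 0 → ∃ p q r, ∃ hp' : p ∈ perp D z, ∃ hq : q ∈ perp D z,
      ∃ hr : r ∈ perp D z, bar hp' = M.θ (tv M.C (planePt v a b 1)) ∧ bar hq = M.θ (tv M.C (planePt v a b ω)) ∧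
      bar hr = M.θ (tv M.C (planePt v a b (ω ^ 2))) ∧ q ∈ perp D p ∧ r ∈ perp D p ∧ r ∈ perp D q ∧
      [x 0, x 1, x 2, p, q, r].Nodup ∧
      (∀ u ∈ [x 0, x 1, x 2, p, q, r], ∀ u' ∈ [x 0, x 1, x 2, p, q, r], Commute u u') ∧
      (x 0 * x 1 * x 2 = p * q * r ∨ z * (x 0 * x 1 * x 2) = p * q * r) := by
    intro a b ha hb
    have hw0 : ∀ t : M.K, t ≠ 0 → planePt v a b t ≠ 0 := fun t ht h0 =>
      planePt_ne_smul_base hli ha ht 0 0 (by rw [h0, zero_smul])
    have hww := herm_planePt M.C hv a b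
    obtain ⟨p, hp', hpw⟩ := M.exists_mem (hww 1 a b 1) (hw0 1 one_ne_zero)
    obtain ⟨q, hq, hqw⟩ := M.exists_mem (hww ω a b ω) (hw0 ω hω0)
    obtain ⟨r, hr, hrw⟩ := M.exists_mem (hww (ω ^ 2) a b (ω ^ 2)) (hw0 _ (pow_ne_zero 2 hω0))
    have hpl : ∀ {s t : M.K} {o o' : G} (ho : o ∈ perp D z) (ho' : o' ∈ perp D z), t ≠ 0 → s ≠ t →
        bar ho = M.θ (tv M.C (planePt v a b s)) → bar ho' = M.θ (tv M.C (planePt v a b t)) → o' ∈ perp D o :=
      fun {s t o o'} ho ho' ht hst hs hs' => ⟨ho'.1,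
        (M.ne_of_not_smul ho ho' (hww s a b s) (hww t a b t) (hw0 t ht) hs hs' fun c hc =>
          hst (mul_left_cancel₀ ha (planePt_inj hli hc).1).symm).symm,
        (M.commute_iff ho ho' (hww s a b s) (hww t a b t) (hw0 t ht) hs hs').2 (hww t a b s)⟩
    have hbase : ∀ (i : Fin 3) {t : M.K} {o : G} (ho : o ∈ perp D z), t ≠ 0 →
        bar ho = M.θ (tv M.C (planePt v a b t)) → o ∈ perp D (x i) := fun i {t o} ho ht hs =>
      ⟨ho.1, (M.ne_of_not_smul (hx i) ho (hv i i) (hww t a b t) (hw0 t ht) (hbar i) hs fun c =>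
          planePt_ne_smul_base hli ha ht i c).symm,
        (M.commute_iff (hx i) ho (hv i i) (hww t a b t) (hw0 t ht) (hbar i) hs).2
          (by simp [planePt, herm_add_left, herm_smul_left, hv])⟩
    have hpq := hpl hp' hq hω0 hω1.symm hpw hqw
    have hpr := hpl hp' hr (pow_ne_zero 2 hω0) hω2.symm hpw hrw
    have hqr := hpl hq hr (pow_ne_zero 2 hω0) hωω hqw hrw
    have b1 := fun i => hbase i hp' one_ne_zero hpw
    have b2 := fun i => hbase i hq hω0 hqw
    have b3 := fun i => hbase i hr (pow_ne_zero 2 hω0) hrw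
    refine ⟨p, q, r, hp', hq, hr, hpw, hqw, hrw, hpq, hpr, hqr, ?_, ?_, ?_⟩
    · simp [hx3.1.2.1.symm, hx3.2.1.2.1.symm, hx3.2.2.2.1.symm, (b1 0).2.1.symm, (b1 1).2.1.symm,
        (b1 2).2.1.symm, (b2 0).2.1.symm, (b2 1).2.1.symm, (b2 2).2.1.symm, (b3 0).2.1.symm, (b3 1).2.1.symm,
        (b3 2).2.1.symm, hpq.2.1.symm, hpr.2.1.symm, hqr.2.1.symm]
    · simp only [List.mem_cons, List.not_mem_nil, or_false]
      have c01 := hx3.1.2.2; have c02 := hx3.2.1.2.2; have c12 := hx3.2.2.2.2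
      have c0p := (b1 0).2.2; have c1p := (b1 1).2.2; have c2p := (b1 2).2.2
      have c0q := (b2 0).2.2; have c1q := (b2 1).2.2; have c2q := (b2 2).2.2
      have c0r := (b3 0).2.2; have c1r := (b3 1).2.2; have c2r := (b3 2).2.2
      have cpq := hpq.2.2; have cpr := hpr.2.2; have cqr := hqr.2.2
      rintro u (rfl | rfl | rfl | rfl | rfl | rfl) u' (rfl | rfl | rfl | rfl | rfl | rfl) <;>
        first
          | exact Commute.refl _
          | assumption
          | exact Commute.symm (by assumption)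
    · have hm : x 0 * x 1 * x 2 * (p * q * r)⁻¹ ∈ Subgroup.closure (perp D z) :=
        mul_mem (mul_mem (mul_mem (mem_perp_closure (hx 0)) (mem_perp_closure (hx 1))) (mem_perp_closure (hx 2)))
          (inv_mem (mul_mem (mul_mem (mem_perp_closure hp') (mem_perp_closure hq)) (mem_perp_closure hr)))
      have hc : (⟨_, hm⟩ : ↥(Subgroup.closure (perp D z))) ∈
          Subgroup.center ↥(Subgroup.closure (perp D z)) := by
        rw [← QuotientGroup.eq_one_iff]
        show bar (hx 0) * bar (hx 1) * bar (hx 2) * (bar hp' * bar hq * bar hr)⁻¹ = 1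
        rw [hbar 0, hbar 1, hbar 2, hpw, hqw, hrw, ← map_mul, ← map_mul, ← map_mul, ← map_mul,
          tv_triangle M.C M.hq hv ha hb hω, mul_inv_cancel]
      rcases (center_closure_perp h hp h22 hz hm).1 (mem_center_closure_iff.1 hc) with h0 | h0
      · exact Or.inl (mul_inv_eq_one.1 h0)
      · refine Or.inr ?_
        rw [mul_inv_eq_iff_eq_mul] at h0
        rw [h0, ← mul_assoc, mul_self h.1 hz, one_mul]
  have hext : ∀ {a b t : M.K} {o : G} (ho : o ∈ perp D z), a ≠ 0 → t ≠ 0 →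
      bar ho = M.θ (tv M.C (planePt v a b t)) → ∀ y ∈ perp D z, (∀ i, Commute y (x i)) → Commute o y := by
    intro a b t o ho ha ht hot y hy hyx
    obtain ⟨w, hw, hw0, hwy⟩ := M.exists_pt hy
    have hw' : ∀ i, herm M.C w (v i) = 0 := fun i =>
      (M.commute_iff (hx i) hy (hv i i) hw hw0 (hbar i) hwy).1 (hyx i).symm
    refine (M.commute_iff ho hy (herm_planePt M.C hv a b t a b t) hw hw0 hot hwy).2 ?_
    simp [planePt, herm_add_right, herm_smul_right, hw']
  obtain ⟨p, q, r, hp1, hq1, hr1, hpw, hqw, hrw, hpq, hpr, hqr, hnd, hcm, h1⟩ := key 1 1 one_ne_zero one_ne_zero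
  obtain ⟨p', q', r', hp1', hq1', hr1', hpw', hqw', hrw', hpq', hpr', hqr', hnd', hcm', h1'⟩ :=
    key 1 ω one_ne_zero hω0
  rcases h1 with h1 | h1
  swap
  · refine ⟨p, q, r, hp1, hq1, hr1, hpq, hpr, hqr, h1, ?_⟩
    simp only [List.mem_cons, List.not_mem_nil, or_false]
    rintro o (rfl | rfl | rfl)
    exacts [hext hp1 one_ne_zero one_ne_zero hpw, hext hq1 one_ne_zero hω0 hqw,
      hext hr1 one_ne_zero (pow_ne_zero 2 hω0) hrw]
  rcases h1' with h1' | h1'
  swap
  · refine ⟨p', q', r', hp1', hq1', hr1', hpq', hpr', hqr', h1', ?_⟩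
    simp only [List.mem_cons, List.not_mem_nil, or_false]
    rintro o (rfl | rfl | rfl)
    exacts [hext hp1' one_ne_zero one_ne_zero hpw', hext hq1' one_ne_zero hω0 hqw',
      hext hr1' one_ne_zero (pow_ne_zero 2 hω0) hrw']
  exfalso
  obtain ⟨a, b, c, -, -, -, -, huniq⟩ :=
    exists_six h hp h22 (hx 0).1 hx3.1 hx3.2.1 hx3.2.2.2.1.symm hx3.2.2.2.2
  have s1 := huniq p q r hnd (by simp [hp1.1, hq1.1, hr1.1]) hcm h1
  have s2 := huniq p' q' r' hnd' (by simp [hp1'.1, hq1'.1, hr1'.1]) hcm' h1'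
  have hnd3 : [p, q, r].Nodup := List.Nodup.of_append_right (l₁ := [x 0, x 1, x 2]) hnd
  have hperm : [p, q, r].Perm [a, b, c] := (hnd3.subperm s1).perm_of_length_le (by simp)
  have hmem : p' ∈ [p, q, r] := hperm.mem_iff.2 (s2 p' (by simp))
  obtain ⟨t, ht, hpt⟩ : ∃ t : M.K, t ≠ 0 ∧ bar hp1' = M.θ (tv M.C (planePt v 1 1 t)) := by
    simp only [List.mem_cons, List.not_mem_nil, or_false] at hmem
    rcases hmem with h0 | h0 | h0 <;> subst h0
    exacts [⟨1, one_ne_zero, hpw⟩, ⟨ω, hω0, hqw⟩, ⟨ω ^ 2, pow_ne_zero 2 hω0, hrw⟩]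
  have hw := herm_planePt M.C hv
  obtain ⟨e, -, he⟩ := eq_smul_of_map_eq M.C M.hq M.θ M.hker (hw 1 1 t 1 1 t) (hw 1 ω 1 1 ω 1)
    (fun h0 => planePt_ne_smul_base hli one_ne_zero one_ne_zero 0 0 (by rw [h0, zero_smul]))
    (hpt.symm.trans hpw')
  obtain ⟨e1, e2⟩ := planePt_inj hli he
  rw [one_mul, one_mul] at e1
  subst e1
  exact hω1 (by simpa using e2)

/-- The relation of length seven, without the position of the new members. -/
theorem exists_heptad {z : G} (hz : z ∈ D) (M : PerpModel D z) {v : Fin 3 → I6 → M.K}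
    (hv : ∀ i j, herm M.C (v i) (v j) = 0) (hli : LinearIndependent M.K v) (x : Fin 3 → G)
    (hx : ∀ i, x i ∈ perp D z) (hbar : ∀ i, bar (hx i) = M.θ (tv M.C (v i))) :
    ∃ a b c, a ∈ perp D z ∧ b ∈ perp D z ∧ c ∈ perp D z ∧ b ∈ perp D a ∧ c ∈ perp D a ∧ c ∈ perp D b ∧
      z * (x 0 * x 1 * x 2) = a * b * c := by
  obtain ⟨a, b, c, h1, h2', h3', h4, h5, h6, h7, -⟩ := exists_heptad' h hp h22 hz M hv hli x hx hbar
  exact ⟨a, b, c, h1, h2', h3', h4, h5, h6, h7⟩

/-- Seven members with `z x₀ x₁ x₂ = a b c` exist at every member `z`. -/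
theorem exists_seven {d : G} (hd : d ∈ D) : ∃ x y w a b c, x ∈ perp D d ∧ y ∈ perp D d ∧ w ∈ perp D d ∧
    a ∈ perp D d ∧ b ∈ perp D d ∧ c ∈ perp D d ∧ y ∈ perp D x ∧ w ∈ perp D x ∧ w ∈ perp D y ∧
    b ∈ perp D a ∧ c ∈ perp D a ∧ c ∈ perp D b ∧ d * (x * y * w) = a * b * c := by
  obtain ⟨M⟩ := exists_perpModel h h22 hd
  let v : Fin 3 → I6 → M.K := ![vE M.C (Fin 2 ⊕ Fin 2), inW (vE M.C (Fin 2)), inW (inW ![1, 1])]
  have h11 : herm M.C (![1, 1] : Fin 2 → M.K) ![1, 1] = 0 := by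
    simp [herm, Fin.sum_univ_two, U62.add_self M.C M.hq]
  have hv : ∀ i j, herm M.C (v i) (v j) = 0 := by
    intro i j
    fin_cases i <;> fin_cases j <;>
      simp [v, herm_vE_vE, herm_inW, herm_inW_vE, herm_vE_inW, h11]
  have hli : LinearIndependent M.K v := by
    rw [Fintype.linearIndependent_iff]
    intro c hc
    simp only [v, Fin.sum_univ_three, Matrix.cons_val_zero, Matrix.cons_val_one, Matrix.cons_val_two,
      Matrix.tail_cons, Matrix.head_cons] at hc
    have c0 := congrArg (fun z => herm M.C z (vF M.C (Fin 2 ⊕ Fin 2))) hc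
    simp [herm_add_left, herm_smul_left, herm_zero_left, herm_vE_vF, herm_inW_vF] at c0
    have c1 := congrArg (fun z => herm M.C z (inW (vF M.C (Fin 2)))) hc
    simp [herm_add_left, herm_smul_left, herm_zero_left, herm_vE_vF, herm_inW, herm_inW_vF, c0] at c1
    have c2 := congrArg (fun z => herm M.C z (inW (inW ![1, 0]))) hc
    simp only [c0, c1, zero_smul, zero_add, herm_zero_left, herm_smul_left, herm_inW] at c2
    simp [herm, Fin.sum_univ_two] at c2
    intro i
    fin_cases i <;> simp [c0, c1, c2]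
  have hex : ∀ i, ∃ x, ∃ hx : x ∈ perp D d, bar hx = M.θ (tv M.C (v i)) :=
    fun i => M.exists_mem (hv i i) (hli.ne_zero i)
  choose x hx hbar using hex
  obtain ⟨a, b, c, ha, hb, hc, hab, hac, hbc, he⟩ := exists_heptad h hp h22 hd M hv hli x hx hbar
  have e : ∀ i i', i ≠ i' → x i' ∈ perp D (x i) := fun i i' hii =>
    ⟨(hx i').1, (M.ne_of_not_smul (hx i) (hx i') (hv i i) (hv i' i') (hli.ne_zero i') (hbar i) (hbar i')
      fun a ha => by
        have hns := linearIndependent_iff_notMem_span.1 hli i'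
        apply hns
        rw [ha]
        exact Submodule.smul_mem _ a (Submodule.subset_span ⟨i, ⟨Set.mem_univ i, by simpa using hii⟩, rfl⟩)).symm,
      (M.commute_iff (hx i) (hx i') (hv i i) (hv i' i') (hli.ne_zero i') (hbar i) (hbar i')).2 (hv i' i)⟩
  exact ⟨x 0, x 1, x 2, a, b, c, hx 0, hx 1, hx 2, ha, hb, hc, e 0 1 (by decide), e 0 2 (by decide),
    e 1 2 (by decide), hab, hac, hbc, he⟩

/-- A homomorphism to a group of order two is trivial on `D`. -/
theorem map_eq_one {χ : G →* ℤˣ} {d : G} (hd : d ∈ D) : χ d = 1 := by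
  obtain ⟨x, y, w, a, b, c, hx, hy, hw, ha, hb, hc, -, -, -, -, -, -, he⟩ := exists_seven h hp h22 hd
  have hs : ∀ y ∈ D, χ y = χ d := fun y hy => by
    obtain ⟨g, rfl⟩ := hp.1 d hd y hy
    rw [map_mul, map_mul, map_inv, mul_comm (χ g), mul_inv_cancel_right]
  have h7 := congrArg χ he
  simp only [map_mul, hs _ hx.1, hs _ hy.1, hs _ hw.1, hs _ ha.1, hs _ hb.1, hs _ hc.1] at h7
  exact mul_eq_right.1 h7

/-- Every involution fixes a member of `D`. -/
theorem exists_fixed_member {j : G} (hj : j * j = 1) : ∃ z ∈ D, Commute j z := by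
  classical
  by_contra hall
  push Not at hall
  have := Fintype.ofFinite G
  let act : MulAction G D :=
    { smul := fun g x => ⟨g * x * g⁻¹, h.2.1 g x x.2⟩
      one_smul := fun x => Subtype.ext (show (1 : G) * x * 1⁻¹ = x by simp)
      mul_smul := fun g k x =>
        Subtype.ext (show g * k * x * (g * k)⁻¹ = g * (k * x * k⁻¹) * g⁻¹ by group) }
  let ρ : G →* Equiv.Perm D := @MulAction.toPermHom G D _ act
  have hρ : ∀ g (x : D), ((ρ g x : D) : G) = g * x * g⁻¹ := fun g x => rfl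
  let χ : G →* ℤˣ := Equiv.Perm.sign.comp ρ
  have hfix : ∀ g (x : D), ρ g x = x ↔ Commute g x := fun g x => by
    rw [Subtype.ext_iff, hρ, mul_inv_eq_iff_eq_mul]
    rfl
  -- the sign of an involution
  have hsign : ∀ g : G, g * g = 1 → ∃ k : ℕ, χ g = (-1) ^ k ∧
      2 * k + (Finset.univ.filter fun x : D => Commute g (x : G)).card = Fintype.card D := by
    intro g hg
    have h2 : ρ g ^ 2 = 1 := by rw [pow_two, ← map_mul, hg, map_one]
    have h3 : ∀ n ∈ (ρ g).cycleType, n = 2 := fun n hn => by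
      have ho := Equiv.Perm.dvd_of_mem_cycleType hn
      have := Nat.le_of_dvd (by norm_num) (ho.trans (orderOf_dvd_of_pow_eq_one h2))
      have := Equiv.Perm.two_le_of_mem_cycleType hn
      omega
    refine ⟨(ρ g).cycleType.card, ?_, ?_⟩
    · show Equiv.Perm.sign (ρ g) = _
      rw [Equiv.Perm.sign_of_cycleType, pow_add]
      rw [Multiset.eq_replicate_of_mem h3, Multiset.sum_replicate, Multiset.card_replicate, smul_eq_mul,
        mul_comm (ρ g).cycleType.card 2, pow_mul, neg_one_sq, one_pow, one_mul]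
    · have hsupp : (Finset.univ.filter fun x : D => Commute g (x : G)) = (ρ g).supportᶜ := by
        ext x
        simp [hfix]
      rw [hsupp, Finset.card_compl, ← Equiv.Perm.sum_cycleType,
        Multiset.eq_replicate_of_mem h3, Multiset.sum_replicate, Multiset.card_replicate, smul_eq_mul]
      have hle := (ρ g).support.card_le_univ
      rw [← Equiv.Perm.sum_cycleType, Multiset.eq_replicate_of_mem h3, Multiset.sum_replicate, smul_eq_mul]
        at hle
      omega
  have hD : ∀ x ∈ D, χ x = 1 := fun x hx => map_eq_one h hp h22 hx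
  have hall1 : ∀ g, χ g = 1 := fun g => by
    have hg : g ∈ Subgroup.closure D := h.2.2 ▸ Subgroup.mem_top g
    exact (Subgroup.closure_le (K := χ.ker)).2 hD hg
  obtain ⟨d, hd, -⟩ := hp.2.1
  obtain ⟨M⟩ := exists_perpModel h h22 hd
  obtain ⟨k, hk, hk'⟩ := hsign d (mul_self h.1 hd)
  have hcard : (Finset.univ.filter fun x : D => Commute d (x : G)).card = 694 := by
    have h1 : (Finset.univ.filter fun x : D => Commute d (x : G)).map (Function.Embedding.subtype _) =
        (insert d (perp D d)).toFinset := by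
      ext y
      simp only [Finset.mem_map, Finset.mem_filter, Finset.mem_univ, true_and, Set.mem_toFinset]
      constructor
      · rintro ⟨⟨y, hy⟩, hc, rfl⟩
        by_cases hyd : y = d
        · exact Or.inl hyd
        · exact Or.inr ⟨hy, hyd, hc⟩
      · rintro (rfl | hy)
        · exact ⟨⟨y, hd⟩, Commute.refl _, rfl⟩
        · exact ⟨⟨y, hy.1⟩, hy.2.2, rfl⟩
    rw [← Finset.card_map (Function.Embedding.subtype _), h1, ← Set.ncard_eq_toFinset_card',
      Set.ncard_insert_of_notMem (fun h0 => h0.2.1 rfl), M.ncard_perp]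
  obtain ⟨m, hm, hm'⟩ := hsign j hj
  rw [Finset.filter_false_of_mem (s := Finset.univ) (p := fun x : D => Commute j (x : G)) (fun x _ => hall x x.2),
    Finset.card_empty, add_zero] at hm'
  rw [hall1] at hk hm
  have ke : Even k := (neg_one_pow_eq_one_iff_even (R := ℤˣ) (by decide)).1 hk.symm
  have me : Even m := (neg_one_pow_eq_one_iff_even (R := ℤˣ) (by decide)).1 hm.symm
  obtain ⟨k, rfl⟩ := ke
  obtain ⟨m, rfl⟩ := me
  rw [hcard] at hk'
  omega

/-- An involution is a product of at most three commuting members. -/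
theorem involution_eq_prod {j : G} (hj : j * j = 1) (hj1 : j ≠ 1) :
    j ∈ D ∨ (∃ a b, a ∈ D ∧ b ∈ perp D a ∧ j = a * b) ∨
      ∃ a b c, a ∈ D ∧ b ∈ perp D a ∧ c ∈ perp D a ∧ c ∈ perp D b ∧ j = a * b * c := by
  obtain ⟨z, hz, hjz⟩ := exists_fixed_member h hp h22 hj
  obtain ⟨M⟩ := exists_perpModel h h22 hz
  have hjm : j ∈ Subgroup.closure (perp D z) := by
    rw [← centralizer_eq h hp h22 hz]
    exact Subgroup.mem_centralizer_singleton_iff.2 hjz.eq
  set J : ↥(Subgroup.closure (perp D z)) := ⟨j, hjm⟩ with hJ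
  obtain ⟨g, hg⟩ := M.surj (QuotientGroup.mk J)
  obtain ⟨k, hk2, hk⟩ := exists_involution_lift M.C M.hq (g := g) (by
    rw [← M.hker, MonoidHom.mem_ker, map_mul, hg, ← QuotientGroup.mk_mul,
      show J * J = 1 from Subtype.ext hj]
    rfl)
  rw [← M.hker, MonoidHom.mem_ker, map_mul, map_inv, inv_mul_eq_one, hg] at hk
  have split : ∀ m : ↥(Subgroup.closure (perp D z)), (QuotientGroup.mk m : PerpQuot D z) = M.θ k →
      j = (m : G) ∨ j = z * m := by
    intro m hm
    have h1 : m⁻¹ * J ∈ Subgroup.center ↥(Subgroup.closure (perp D z)) :=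
      QuotientGroup.eq.1 (hm.trans hk.symm)
    rcases (center_closure_perp h hp h22 hz (m⁻¹ * J).2).1 (mem_center_closure_iff.1 h1) with h0 | h0
    · exact Or.inl (inv_mul_eq_one.1 h0).symm
    · refine Or.inr ?_
      have hzm : Commute z (m : G) :=
        (Subgroup.mem_centralizer_singleton_iff.mp (closure_le_centralizer z m.2)).symm
      rw [hzm.eq]
      exact inv_mul_eq_iff_eq_mul.1 h0
  rcases involution_cases M.C M.hq hk2 with rfl | ⟨v, hv, hv0, rfl⟩ |
    ⟨v, w, hv, hw, hwv, hv0, hwn, rfl⟩ | ⟨v, hv, hli, rfl⟩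
  · rcases split 1 (by rw [map_one]; rfl) with h0 | h0
    · exact absurd h0 hj1
    · exact Or.inl (by rw [h0, OneMemClass.coe_one, mul_one]; exact hz)
  · obtain ⟨x, hx, hxv⟩ := M.exists_mem hv hv0
    rcases split ⟨x, mem_perp_closure hx⟩ hxv with h0 | h0
    · exact Or.inl (h0 ▸ hx.1)
    · exact Or.inr (Or.inl ⟨z, x, hz, hx, h0⟩)
  · have hw0 : w ≠ 0 := fun h0 => hwn 0 (by rw [h0, zero_smul])
    obtain ⟨x, hx, hxv⟩ := M.exists_mem hv hv0
    obtain ⟨y, hy, hyw⟩ := M.exists_mem hw hw0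
    have hxy : y ∈ perp D x := ⟨hy.1, (M.ne_of_not_smul hx hy hv hw hw0 hxv hyw hwn).symm,
      (M.commute_iff hx hy hv hw hw0 hxv hyw).2 hwv⟩
    rcases split (⟨x, mem_perp_closure hx⟩ * ⟨y, mem_perp_closure hy⟩)
      (by rw [map_mul, ← hxv, ← hyw]; rfl) with h0 | h0
    · exact Or.inr (Or.inl ⟨x, y, hx.1, hxy, h0⟩)
    · exact Or.inr (Or.inr ⟨z, x, y, hz, hx, hy, hxy, by rw [h0, mul_assoc]; rfl⟩)
  · have hex : ∀ i, ∃ x, ∃ hx : x ∈ perp D z, bar hx = M.θ (tv M.C (v i)) :=
      fun i => M.exists_mem (hv i i) (hli.ne_zero i)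
    choose x hx hbar using hex
    have e : ∀ i i', i ≠ i' → x i' ∈ perp D (x i) := fun i i' hii => by
      refine ⟨(hx i').1, (M.ne_of_not_smul (hx i) (hx i') (hv i i) (hv i' i') (hli.ne_zero i') (hbar i)
        (hbar i') fun a ha => hii ?_).symm,
        (M.commute_iff (hx i) (hx i') (hv i i) (hv i' i') (hli.ne_zero i') (hbar i) (hbar i')).2 (hv i' i)⟩
      by_contra hne
      have hns := linearIndependent_iff_notMem_span.1 hli i'
      apply hns
      rw [ha]
      exact Submodule.smul_mem _ a (Submodule.subset_span ⟨i, ⟨Set.mem_univ i, by simpa using hne⟩, rfl⟩)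
    rcases split (⟨x 0, mem_perp_closure (hx 0)⟩ * ⟨x 1, mem_perp_closure (hx 1)⟩ *
      ⟨x 2, mem_perp_closure (hx 2)⟩) (by rw [map_mul, map_mul, ← hbar, ← hbar, ← hbar]; rfl) with h0 | h0
    · exact Or.inr (Or.inr ⟨x 0, x 1, x 2, (hx 0).1, e 0 1 (by decide), e 0 2 (by decide),
        e 1 2 (by decide), h0⟩)
    · obtain ⟨a, b, c, ha, hb, hc, hab, hac, hbc, he⟩ := exists_heptad h hp h22 hz M hv hli x hx hbar
      exact Or.inr (Or.inr ⟨a, b, c, ha.1, hab, hac, hbc, h0.trans he⟩)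

end CfsgLib.FischerTypes
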