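import Cfsg.Agent.FischerTypes.M22Mu

/-!
# A line `{a, d, a d a}` in type M(22)

The members commuting with both ends generate their centralizer, the projective reflection group; a member
commuting with `a d` commutes with both and one inverting it lies on the line.
-/

set_option autoImplicit false
set_option maxHeartbeats 400000

namespace CfsgLib.FischerTypes

open Cfsg CfsgLib.U62 CfsgLib.RepBounds.Unit

variable {G : Type*} [Group G] {D : Set G}

section basic

variable (h : IsThreeTranspositionGroup D)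
include h

/-- A member commuting with `a d` commutes with `a` and with `d`. -/
theorem commute_both_of_commute_mul {a d y : G} (ha : a ∈ D) (hd : d ∈ D) (hy : y ∈ D) (hne : a ≠ d)
    (hc : Commute y (a * d)) : Commute y a ∧ Commute y d := by
  have hi := fun {x : G} (hx : x ∈ D) => inv_eq h.1 hx
  by_cases h1 : Commute y a
  · refine ⟨h1, ?_⟩
    have h2 := h1.inv_right.mul_right hc
    rwa [inv_mul_cancel_left] at h2
  by_cases h2 : Commute y d
  · refine ⟨?_, h2⟩
    have h3 := hc.mul_right h2.inv_right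
    rwa [mul_inv_cancel_right] at h3
  exfalso
  have e1 : y * a * (d * y) = a * d := by
    calc y * a * (d * y) = y * (a * d) * y := by simp [mul_assoc]
      _ = a * d * y * y := by rw [hc.eq]
      _ = a * d := by rw [mul_assoc _ y y, mul_self h.1 hy, mul_one]
  have e2 : a * (y * a * (d * y)) * d = a * d := by
    calc a * (y * a * (d * y)) * d = (a * y * a) * (d * y * d) := by simp [mul_assoc]
      _ = (y * a * y) * (y * d * y) := by
        rw [braid h.1 ha hy (fun hh => h1 hh.symm), braid h.1 hd hy (fun hh => h2 hh.symm)]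
      _ = y * a * (d * y) := by simp [mul_assoc, mul_self_cancel h.1 hy]
      _ = a * d := e1
  rw [e1] at e2
  have e3 : a * d = 1 := by
    have := congrArg (fun z => a⁻¹ * z * d⁻¹) e2
    simpa [mul_assoc] using this
  rw [mul_eq_one_iff_eq_inv, hi hd] at e3
  exact hne e3

theorem conj_line {a d : G} (ha : a ∈ D) (hd : d ∈ D) (hnc : ¬ Commute a d) :
    d * a * d = a * d * a ∧ a * (a * d * a) * a = d ∧ d * (a * d * a) * d = a := by
  have hb := braid h.1 ha hd hnc
  refine ⟨hb.symm, by simp [mul_assoc, mul_self h.1 ha, mul_self_cancel h.1 ha], ?_⟩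
  rw [hb]
  simp [mul_assoc, mul_self h.1 hd, mul_self_cancel h.1 hd]

end basic

variable [Finite G] (h : IsThreeTranspositionGroup D) (hp : IsPrimitiveUnderConj D) (h22 : IsOfTypeM22 G D)

include h hp h22

/-- The members commuting with both ends generate the centralizer. -/
theorem common_closure {a d : G} (ha : a ∈ D) (hd : d ∈ D) (hnc : ¬ Commute a d) :
    Subgroup.closure (perp D a ∩ perp D d) = Subgroup.centralizer ({a, d} : Set G) ∧
      ∃ c : ZMod 3, c ≠ 0 ∧ IsProjReflectionGroupModThree ↥(Subgroup.closure (perp D a ∩ perp D d)) 6 1 c := by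
  obtain ⟨-, d₀, hd₀, c₀, hc₀, hdc₀, -, c₃, hc₃, hL⟩ := id h22
  obtain ⟨g, g1, g2⟩ := exists_conj_noncommute h hp h22 hd₀ hc₀ hdc₀ ha hd hnc
  have hle : ∀ x y : G, Subgroup.closure (perp D x ∩ perp D y) ≤ Subgroup.centralizer ({x, y} : Set G) :=
    fun x y => by
      rw [Subgroup.closure_le]
      intro z hz
      rw [SetLike.mem_coe, Subgroup.mem_centralizer_iff]
      rintro w (rfl | rfl)
      exacts [hz.1.2.2.eq, hz.2.2.2.eq]
  set L := Subgroup.closure (perp D d₀ ∩ perp D c₀) with hL0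
  have hcardC := card_centralizer_pair h hp h22 hd₀ hc₀ hdc₀
  have hcard : Nat.card L = 6531840 ∧ Subgroup.center ↥L = ⊥ := by
    have h1 : Nat.card L ≤ 6531840 := hcardC ▸ Subgroup.card_le_of_le (hle d₀ c₀)
    have h2 := Subgroup.card_eq_card_quotient_mul_card_subgroup (Subgroup.center ↥L)
    have hpos : 0 < Nat.card (Subgroup.center ↥L) := Nat.card_pos
    rcases card_projReflection_six hc₃ hL with h3 | h3
    · rw [show Nat.card (↥L ⧸ Subgroup.center ↥L) = 13063680 from h3] at h2
      have : 13063680 * 1 ≤ Nat.card L := h2 ▸ Nat.mul_le_mul_left _ hpos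
      omega
    · rw [show Nat.card (↥L ⧸ Subgroup.center ↥L) = 6531840 from h3] at h2
      have h4 : Nat.card (Subgroup.center ↥L) = 1 := by
        by_contra hne
        have : 6531840 * 2 ≤ Nat.card L := h2 ▸ Nat.mul_le_mul_left _ (by omega)
        omega
      exact ⟨by rw [h2, h4, mul_one], Subgroup.card_eq_one.1 h4⟩
  have hmap : L.map (MulAut.conj g).toMonoidHom = Subgroup.closure (perp D a ∩ perp D d) := by
    rw [hL0, MonoidHom.map_closure]
    congr 1
    have cj : ∀ (g : G) {u v : G}, v ∈ perp D u → g * v * g⁻¹ ∈ perp D (g * u * g⁻¹) := fun g u v hv =>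
      ⟨h.2.1 g v hv.1, fun he => hv.2.1 (mul_left_cancel (mul_right_cancel he)),
        (commute_conj_iff' g _ _).2 hv.2.2⟩
    ext z
    simp only [Set.mem_image, MulEquiv.coe_toMonoidHom, MulAut.conj_apply]
    constructor
    · rintro ⟨x, ⟨x1, x2⟩, rfl⟩
      exact ⟨g1 ▸ cj g x1, g2 ▸ cj g x2⟩
    · rintro ⟨z1, z2⟩
      have e1 := cj g⁻¹ z1
      have e2 := cj g⁻¹ z2
      rw [← g1, show g⁻¹ * (g * d₀ * g⁻¹) * g⁻¹⁻¹ = d₀ by group] at e1
      rw [← g2, show g⁻¹ * (g * c₀ * g⁻¹) * g⁻¹⁻¹ = c₀ by group] at e2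
      exact ⟨_, ⟨e1, e2⟩, by group⟩
  let e : ↥L ≃* ↥(Subgroup.closure (perp D a ∩ perp D d)) :=
    (MulEquiv.subgroupMap (MulAut.conj g) L).trans (MulEquiv.subgroupCongr hmap)
  refine ⟨Subgroup.eq_of_le_of_card_ge (hle a d) ?_, c₃, hc₃, ?_⟩
  · rw [card_centralizer_pair h hp h22 ha hd hnc, ← Nat.card_congr e.toEquiv, hcard.1]
  · obtain ⟨Q, hQ, hμ, ⟨f⟩⟩ := hL
    exact ⟨Q, hQ, hμ, ⟨((e.symm.trans QuotientGroup.quotientBot.symm).trans
      (QuotientGroup.quotientMulEquivOfEq hcard.2.symm)).trans f⟩⟩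

/-- A member inverting `a d` lies on the line. -/
theorem mem_line_of_invert {a d x : G} (ha : a ∈ D) (hd : d ∈ D) (hx : x ∈ D) (hnc : ¬ Commute a d)
    (hinv : x * (a * d) * x = d * a) : x = a ∨ x = d ∨ x = a * d * a := by
  obtain ⟨hb, -, hde⟩ := conj_line h ha hd hnc
  have hne : a ≠ d := fun he => hnc (he ▸ Commute.refl _)
  have hxx := mul_self h.1 hx
  by_cases hxa : Commute x a
  · left
    have e1 : x * d * x = a * d * a := by
      calc x * d * x = a * (x * (a * d) * x) := by
            rw [← mul_assoc x a d, hxa.eq]; simp [mul_assoc, mul_self_cancel h.1 ha]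
        _ = a * (d * a) := by rw [hinv]
        _ = a * d * a := by rw [mul_assoc]
    have nxd : ¬ Commute x d := fun hc => hnc (by
      rw [hc.eq, mul_assoc, hxx, mul_one] at e1
      show a * d = d * a
      calc a * d = a * d * a * a := by rw [mul_assoc (a * d), mul_self h.1 ha, mul_one]
        _ = d * a := by rw [← e1])
    rw [braid h.1 hx hd nxd] at e1
    calc x = d * (d * x * d) * d := by simp [mul_assoc, mul_self h.1 hd, mul_self_cancel h.1 hd]
      _ = a := by rw [e1, hde]
  by_cases hxd : Commute x d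
  · right; left
    have e1 : x * a * x = d * a * d := by
      calc x * a * x = x * (a * d) * (x * d) := by
            rw [hxd.eq]; simp [mul_assoc, mul_self_cancel h.1 hd]
        _ = x * (a * d) * x * d := by rw [← mul_assoc]
        _ = d * a * d := by rw [hinv]
    rw [braid h.1 hx ha hxa, hb] at e1
    calc x = a * (a * x * a) * a := by simp [mul_assoc, mul_self h.1 ha, mul_self_cancel h.1 ha]
      _ = d := by rw [e1, mul_assoc a d a]; simp [mul_assoc, mul_self h.1 ha, mul_self_cancel h.1 ha]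
  -- every common neighbour of `a` and `d` commutes with `x`
  have hu : Commute (a * x) (a * d) := by
    show a * x * (a * d) = a * d * (a * x)
    calc a * x * (a * d) = a * (x * (a * d) * x) * x := by simp [mul_assoc, hxx]
      _ = a * d * (a * x) := by rw [hinv]; simp [mul_assoc]
  have hperp : ∀ y ∈ perp D a ∩ perp D d, Commute x y := by
    intro y hy
    have hyt : Commute y (a * d) := hy.1.2.2.symm.mul_right hy.2.2.2.symm
    have h1 : Commute ((a * x) * y * (a * x)⁻¹) (a * d) := by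
      have := (commute_conj_iff' (a * x) y (a * d)).2 hyt
      rwa [hu.eq, mul_inv_cancel_right] at this
    have h2 := (commute_both_of_commute_mul h ha hd (h.2.1 _ y hy.1.1) hne h1).1
    have h3 := (commute_conj_iff' a⁻¹ ((a * x) * y * (a * x)⁻¹) a).2 h2
    rw [show a⁻¹ * (a * x * y * (a * x)⁻¹) * a⁻¹⁻¹ = x * y * x⁻¹ by group,
      show a⁻¹ * a * a⁻¹⁻¹ = a by group] at h3
    have h4 := (commute_conj_iff' x⁻¹ _ _).2 h3
    rw [show x⁻¹ * (x * y * x⁻¹) * x⁻¹⁻¹ = y by group, inv_inv, inv_eq h.1 hx, braid h.1 hx ha hxa] at h4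
    have h5 := (commute_conj_iff' a y (a * x * a)).2 h4
    rw [show a * y * a⁻¹ = y by rw [hy.1.2.2.eq, mul_inv_cancel_right],
      show a * (a * x * a) * a⁻¹ = x by simp [mul_assoc, mul_self_cancel h.1 ha]] at h5
    exact h5.symm
  obtain ⟨y, hy⟩ := common_nonempty h hp h22 ha hd hnc
  obtain ⟨M⟩ := exists_perpModel h h22 hy.1.1
  have hay : a ∈ perp D y := perp_symm ha hy.1
  have hdy : d ∈ perp D y := perp_symm hd hy.2
  have hxy : x ∈ perp D y := ⟨hx, fun he => hxa (he ▸ hy.1.2.2.symm), (hperp y hy).symm⟩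
  obtain ⟨u, hu', hu0, hua⟩ := M.exists_pt hay
  obtain ⟨v, hv, hv0, hvd⟩ := M.exists_pt hdy
  obtain ⟨w, hw, hw0, hwx⟩ := M.exists_pt hxy
  have hvu : herm M.C v u ≠ 0 := fun h0 => hnc ((M.commute_iff hay hdy hu' hv hv0 hua hvd).2 h0)
  have hwu : herm M.C w u ≠ 0 := fun h0 => hxa ((M.commute_iff hay hxy hu' hw hw0 hua hwx).2 h0).symm
  have hs : ∀ s, herm M.C s s = 0 → herm M.C s u = 0 → herm M.C s v = 0 → herm M.C s w = 0 := by
    intro s hs hsu hsv
    by_cases hs0 : s = 0
    · rw [hs0, herm_zero_left]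
    obtain ⟨z, hz, hzs⟩ := M.exists_mem hs hs0
    have hza := (M.commute_iff hay hz hu' hs hs0 hua hzs).2 hsu
    have hzd := (M.commute_iff hdy hz hv hs hs0 hvd hzs).2 hsv
    exact (M.commute_iff hxy hz hw hs hs0 hwx hzs).1 (hperp z
      ⟨⟨hz.1, fun he => hnc (he ▸ hzd).symm, hza⟩, ⟨hz.1, fun he => hnc (he ▸ hza), hzd⟩⟩)
  rcases eq_or_eq_tv_of_perp M.C M.hq hu' hv hw hvu hwu hs with ⟨α, hα⟩ | ⟨α, hα⟩
  · exact Or.inr (Or.inl (M.eq_of_smul hdy hxy hv hw0 hvd hwx hα).symm)
  · refine Or.inr (Or.inr ?_)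
    have hade : a * d * a⁻¹ ∈ perp D y := conj_mem_perp h hy.1.2.2 hdy
    have hbar : bar hade = M.θ (tv M.C (app M.C (tv M.C u) v)) := by
      have e1 : bar hade = bar hay * bar hdy * (bar hay)⁻¹ := rfl
      rw [e1, hua, hvd, ← map_inv, ← map_mul, ← map_mul, conj_tv M.C M.hq _ hv]
    rw [← M.eq_of_smul hade hxy (by rw [herm_app, hv]) hw0 hbar hwx hα, inv_eq h.1 ha]

end CfsgLib.FischerTypes
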