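import Cfsg.Agent.FischerTypes.M22Involution
import Cfsg.Agent.FischerTypes.M22Triples

/-!
# Type M(22) has one class of 3-transpositions
-/

set_option autoImplicit false
set_option maxHeartbeats 400000

namespace CfsgLib.FischerTypes

open Cfsg CfsgLib.U62 CfsgLib.RepBounds.Unit

variable {G : Type*} [Group G] {D : Set G}

/-- For a path `a - c - b - d` of non-commuting members the product `(a b)(c d)` has order above three. -/
theorem not_threeTransposition_pairs (h : IsThreeTranspositionGroup D) (hpu : PairUnique D) {a b c d : G}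
    (ha : a ∈ D) (hb : b ∈ D) (hc : c ∈ D) (hd : d ∈ D) (cab : Commute a b) (cad : Commute a d) (ccd : Commute c d)
    (nac : ¬ Commute a c) (ncb : ¬ Commute c b) (nbd : ¬ Commute b d) :
    ¬ ((a * b * (c * d)) ^ 2 = 1 ∨ (a * b * (c * d)) ^ 3 = 1) := by
  have hi := fun {x : G} (hx : x ∈ D) => inv_eq h.1 hx
  have hcj : ∀ {x y : G}, x ∈ D → y ∈ D → x * y * x ∈ D := fun {x y} hx hy => by
    have := h.2.1 x y hy; rwa [hi hx] at this
  have hab : a ≠ b := fun e => nbd (e ▸ cad)
  have hcd : c ≠ d := fun e => nac (e ▸ cad)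
  set x := a * b with hx
  set y := c * d with hy
  have hxx : x⁻¹ = x := by rw [hx, _root_.mul_inv_rev, hi ha, hi hb, cab.eq]
  have hyy : y⁻¹ = y := by rw [hy, _root_.mul_inv_rev, hi hc, hi hd, ccd.eq]
  have e1 : x * y * x = x * c * x⁻¹ * (b * d * b) := by
    have e2 : x * d * x = b * d * b := by
      rw [hx, cab.eq]
      calc b * a * d * (b * a) = b * (a * d) * (a * b) := by rw [cab.eq]; simp [mul_assoc]
        _ = b * (d * a) * (a * b) := by rw [cad.eq]
        _ = _ := by simp [mul_assoc, mul_self_cancel h.1 ha]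
    rw [← e2]
    calc x * y * x = x * c * (x⁻¹ * x) * d * x := by
          rw [inv_mul_cancel, mul_one, mul_assoc x c d]
      _ = x * c * x⁻¹ * (x * d * x) := by group
  have hc' : x * c * x⁻¹ ∈ D := h.2.1 x c hc
  have hd' := hcj hb hd
  have cad' : Commute a (b * d * b) := (cab.mul_right cad).mul_right cab
  have hne : x * c * x⁻¹ ≠ b * d * b := fun e => by
    have h1 : Commute a (x * c * x⁻¹) := e ▸ cad'
    have h2 : a = x * a * x⁻¹ := by
      rw [show x * a = a * x from ((Commute.refl a).mul_left cab.symm).eq, mul_inv_cancel_right]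
    rw [h2, commute_conj_iff'] at h1
    exact nac h1
  have hcc : Commute (x * c * x⁻¹) (b * d * b) := by
    have h1 := (commute_conj_iff' x c d).2 ccd
    have h2 : x * d * x⁻¹ = b * d * b := by
      rw [hxx, hx]
      calc a * b * d * (a * b) = a * b * d * (b * a) := by rw [cab.eq]
        _ = a * (b * d * b) * a := by simp [mul_assoc]
        _ = (b * d * b) * a * a := by rw [cad'.eq]
        _ = _ := by rw [mul_assoc, mul_self h.1 ha, mul_one]
    rwa [h2] at h1
  have fin2 : b * d * b ≠ d := fun e => nbd (by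
    show b * d = d * b
    calc b * d = b * d * b * b := by rw [mul_assoc (b * d), mul_self h.1 hb, mul_one]
      _ = d * b := by rw [e])
  rintro (h0 | h0)
  · have hxy : x * y * x = y := by
      rw [pow_two] at h0
      calc x * y * x = x * y * (x * y) * y⁻¹ := by group
        _ = y := by rw [h0, one_mul, hyy]
    rw [e1] at hxy
    rcases hpu _ hc' _ hd' c hc d hd hne hcc hcd ccd (hxy.trans hy) with ⟨-, e⟩ | ⟨-, e⟩
    · exact fin2 e
    · exact nac (e ▸ cad')
  · have hxy : x * y * x = y * x * y := by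
      have h1 : x * y * x * (y * x * y) = 1 := by rw [← h0]; simp [pow_succ, mul_assoc]
      have hinv : (y * x * y)⁻¹ = y⁻¹ * x⁻¹ * y⁻¹ := by group
      rw [mul_eq_one_iff_eq_inv, hinv, hxx, hyy] at h1
      exact h1
    have e3 : y * x * y = c * a * c * (c * (d * b * d) * c) := by
      rw [hx, hy]
      calc c * d * (a * b) * (c * d) = c * (d * a) * b * (d * c) := by
            conv_rhs => rw [← ccd.eq]
            simp [mul_assoc]
        _ = c * (a * d) * b * (d * c) := by rw [cad.eq]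
        _ = _ := by simp [mul_assoc, mul_self_cancel h.1 hc]
    rw [e1, e3] at hxy
    have hca := hcj hc ha
    have hcb := hcj hc (hcj hd hb)
    have n2 : c * a * c ≠ c * (d * b * d) * c := fun e => by
      have e' : a = d * b * d := mul_left_cancel (mul_right_cancel e)
      have h4 : b = d * a * d := by rw [e']; simp [mul_assoc, mul_self h.1 hd, mul_self_cancel h.1 hd]
      rw [← cad.eq, mul_assoc, mul_self h.1 hd, mul_one] at h4
      exact hab h4.symm
    have c2 : Commute (c * a * c) (c * (d * b * d) * c) := by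
      have h1 := (commute_conj_iff' c a (d * b * d)).2 ((cad.mul_right cab).mul_right cad)
      rwa [hi hc] at h1
    rcases hpu _ hc' _ hd' _ hca _ hcb hne hcc n2 c2 hxy with ⟨-, e⟩ | ⟨-, e⟩
    · have h1 : Commute c (b * d * b) := by
        rw [← braid h.1 hb hd nbd] at e
        show c * (b * d * b) = (b * d * b) * c
        calc c * (b * d * b) = c * (c * (b * d * b) * c) := by rw [← e]
          _ = (b * d * b) * c := by simp [mul_assoc, mul_self_cancel h.1 hc]
      have h2 := (commute_conj_iff' b c (b * d * b)).2 h1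
      rw [hi hb, show b * (b * d * b) * b = d by simp [mul_assoc, mul_self h.1 hb, mul_self_cancel h.1 hb],
        braid h.1 hb hc (fun hh => ncb hh.symm)] at h2
      have h3 := (commute_conj_iff' c (c * b * c) d).2 h2
      rw [hi hc, show c * (c * b * c) * c = b by simp [mul_assoc, mul_self h.1 hc, mul_self_cancel h.1 hc],
        show c * d * c = d by rw [ccd.eq, mul_assoc, mul_self h.1 hc, mul_one]] at h3
      exact nbd h3
    · have h1 : Commute a (a * c * a) := by rw [braid h.1 ha hc nac, ← e]; exact cad'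
      have h2 := (commute_conj_iff' a a (a * c * a)).2 h1
      rw [hi ha, show a * a * a = a by rw [mul_self h.1 ha, one_mul],
        show a * (a * c * a) * a = c by simp [mul_assoc, mul_self h.1 ha, mul_self_cancel h.1 ha]] at h2
      exact nac h2

variable [Finite G] (h : IsThreeTranspositionGroup D) (hp : IsPrimitiveUnderConj D) (h22 : IsOfTypeM22 G D)

include h hp h22

theorem exists_chain : ∃ a b c d e, e ∈ D ∧ a ∈ perp D e ∧ b ∈ perp D e ∧ c ∈ perp D e ∧ d ∈ perp D e ∧
    b ∈ perp D a ∧ d ∈ perp D a ∧ d ∈ perp D c ∧ ¬ Commute a c ∧ ¬ Commute c b ∧ ¬ Commute b d := by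
  obtain ⟨e, he, -⟩ := hp.2.1
  obtain ⟨M⟩ := exists_perpModel h h22 he
  let p₁ : I6 → M.K := vE M.C (Fin 2 ⊕ Fin 2)
  let q₁ : I6 → M.K := vF M.C (Fin 2 ⊕ Fin 2)
  let p₂ : I6 → M.K := inW (vE M.C (Fin 2))
  let q₂ : I6 → M.K := inW (vF M.C (Fin 2))
  have hs : herm M.C (q₁ + p₂) (q₁ + p₂) = 0 := by
    simp [q₁, p₂, herm_add_left, herm_add_right, herm_vF_vF, herm_vF_inW, herm_inW_vF, herm_inW, herm_vE_vE]
  have hp1 : herm M.C p₁ p₁ = 0 := herm_vE_vE M.C
  have hp2 : herm M.C p₂ p₂ = 0 := by simp [p₂, herm_inW, herm_vE_vE]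
  have hq2 : herm M.C q₂ q₂ = 0 := by simp [q₂, herm_inW, herm_vF_vF]
  have hne : ∀ {u w : I6 → M.K}, herm M.C u w ≠ 0 → u ≠ 0 := fun {u w} hh h0 =>
    hh (by rw [h0, herm_zero_left])
  have n1 : herm M.C (q₁ + p₂) p₁ ≠ 0 := by
    simp [q₁, p₂, p₁, herm_add_left, herm_vF_vE, herm_inW_vE]
  have n2 : herm M.C q₂ (q₁ + p₂) ≠ 0 := by
    simp [q₁, p₂, q₂, herm_add_right, herm_inW_vF, herm_inW, herm_vF_vE]
  have n3 : herm M.C p₂ q₂ ≠ 0 := by simp [p₂, q₂, herm_inW, herm_vE_vF]
  have n0 : herm M.C p₁ (q₁ + p₂) ≠ 0 := by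
    simp [q₁, p₂, p₁, herm_add_right, herm_vE_vF, herm_vE_inW]
  obtain ⟨a, ha, hav⟩ := M.exists_mem hp1 (hne n0)
  obtain ⟨b, hb, hbv⟩ := M.exists_mem hq2 (hne n2)
  obtain ⟨c, hc, hcv⟩ := M.exists_mem hs (hne n1)
  obtain ⟨d, hd, hdv⟩ := M.exists_mem hp2 (hne n3)
  have o1 : herm M.C q₂ p₁ = 0 := by simp [q₂, p₁, herm_inW_vE]
  have o2 : herm M.C p₂ p₁ = 0 := by simp [p₂, p₁, herm_inW_vE]
  have o3 : herm M.C p₂ (q₁ + p₂) = 0 := by
    simp [q₁, p₂, herm_add_right, herm_inW_vF, herm_inW, herm_vE_vE]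
  have nac : ¬ Commute a c := fun hh => n1 ((M.commute_iff ha hc hp1 hs (hne n1) hav hcv).1 hh)
  have ncb : ¬ Commute c b := fun hh => n2 ((M.commute_iff hc hb hs hq2 (hne n2) hcv hbv).1 hh)
  have nbd : ¬ Commute b d := fun hh => n3 ((M.commute_iff hb hd hq2 hp2 (hne n3) hbv hdv).1 hh)
  have cab : Commute a b := (M.commute_iff ha hb hp1 hq2 (hne n2) hav hbv).2 o1
  have cad : Commute a d := (M.commute_iff ha hd hp1 hp2 (hne n3) hav hdv).2 o2
  have ccd : Commute c d := (M.commute_iff hc hd hs hp2 (hne n3) hcv hdv).2 o3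
  exact ⟨a, b, c, d, e, he, ha, hb, hc, hd, ⟨hb.1, fun hh => nbd (hh ▸ cad), cab⟩,
    ⟨hd.1, fun hh => nac (hh ▸ ccd : Commute c a).symm, cad⟩, ⟨hd.1, fun hh => nac (hh ▸ cad), ccd⟩,
    nac, ncb, nbd⟩

/-- The only class of 3-transpositions is `D`. -/
theorem threeTranspositionClass_eq {D' : Set G} (hD' : IsThreeTranspositionClass D') : D' = D := by
  obtain ⟨⟨hord, hprod⟩, ⟨j, hj, hjc⟩, -⟩ := hD'
  obtain ⟨hj2, hj1⟩ : j * j = 1 ∧ j ≠ 1 := by
    have h1 := orderOf_eq_iff (show 0 < 2 by norm_num) |>.1 (hord j hj)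
    exact ⟨by rw [← pow_two]; exact h1.1, fun h0 => h1.2 1 (by norm_num) (by norm_num) (by rw [h0, one_pow])⟩
  have hmem : ∀ {g : G}, g * j * g⁻¹ ∈ D' := fun {g} => hjc ▸ isConj_iff.2 ⟨g, rfl⟩
  have hpu := pairUnique h.1 (noTwins_of_primitive h h22.1 hp)
  obtain ⟨a, b, c, d, e, he, ha, hb, hc, hd, hab, had, hcd, nac, ncb, nbd⟩ := exists_chain h hp h22
  have contra := not_threeTransposition_pairs h hpu ha.1 hb.1 hc.1 hd.1 hab.2.2 had.2.2 hcd.2.2 nac ncb nbd
  rcases involution_eq_prod h hp h22 hj2 hj1 with hjD | ⟨x, y, hx, hxy, rfl⟩ | ⟨x, y, w, hx, hy, hw, hyw, rfl⟩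
  · ext g
    rw [hjc]
    constructor
    · intro hg
      obtain ⟨k, rfl⟩ := isConj_iff.1 hg
      exact h.2.1 k j hjD
    · exact fun hg => isConj_iff.2 (hp.1 j hjD g hg)
  · exfalso
    obtain ⟨f, hf⟩ : ∃ f, f ∈ perp D x ∩ perp D y := by
      obtain ⟨M⟩ := exists_perpModel h h22 hx
      exact Set.nonempty_of_ncard_ne_zero (by rw [M.ncard_perp_perp hxy]; norm_num)
    obtain ⟨g, g1, g2, -⟩ := exists_conj_triple h h22 hx hxy hf.1 hf.2 ha.1 hab (perp_symm he ha)
      (perp_symm he hb)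
    obtain ⟨k, k1, k2, -⟩ := exists_conj_triple h h22 hx hxy hf.1 hf.2 hc.1 hcd (perp_symm he hc)
      (perp_symm he hd)
    refine contra ?_
    have := hprod _ (hmem (g := g)) _ (hmem (g := k))
    rwa [show g * (x * y) * g⁻¹ = g * x * g⁻¹ * (g * y * g⁻¹) by group,
      show k * (x * y) * k⁻¹ = k * x * k⁻¹ * (k * y * k⁻¹) by group, g1, g2, k1, k2] at this
  · exfalso
    obtain ⟨g, g1, g2, g3⟩ := exists_conj_triple h h22 hx hy hw hyw ha.1 hab (perp_symm he ha)
      (perp_symm he hb)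
    obtain ⟨k, k1, k2, k3⟩ := exists_conj_triple h h22 hx hy hw hyw hc.1 hcd (perp_symm he hc)
      (perp_symm he hd)
    refine contra ?_
    have := hprod _ (hmem (g := g)) _ (hmem (g := k))
    rw [show g * (x * y * w) * g⁻¹ = g * x * g⁻¹ * (g * y * g⁻¹) * (g * w * g⁻¹) by group,
      show k * (x * y * w) * k⁻¹ = k * x * k⁻¹ * (k * y * k⁻¹) * (k * w * k⁻¹) by group, g1, g2, g3, k1, k2, k3,
      show a * b * e * (c * d * e) = a * b * (c * d) by
        rw [((hc.2.2.symm).mul_left hd.2.2.symm).eq, mul_assoc, mul_self_cancel h.1 he]] at this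
    exact this

end CfsgLib.FischerTypes
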