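import Cfsg.Agent.FischerTypes.M22Connected
import Cfsg.Agent.FischerTypes.M22Mu
import Cfsg.Agent.FischerTypes.M22Line
import Cfsg.Agent.FischerTypes.M22Involution
import Cfsg.Agent.FischerTypes.M22OtherClass

/-!
# Maximal sets of commuting members in type M(22)

Such a set `M` has 22 members; a member outside commutes with none or six of them; and a member commuting
with none has, as commuting neighbours of the same kind, exactly its 231 conjugates by products of two
members of `M`.  Hence no automorphism of order two maps every member to a different commuting one.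
-/

set_option autoImplicit false
set_option linter.style.haveILetI false
set_option maxHeartbeats 400000

namespace CfsgLib.FischerTypes

open Cfsg CfsgLib.U62 CfsgLib.RepBounds.Unit

variable {G : Type*} [Group G] {D : Set G}

/-- A maximal set of pairwise commuting members. -/
structure IsMaxClique (D M : Set G) : Prop where
  sub : M ⊆ D
  comm : ∀ a ∈ M, ∀ b ∈ M, Commute a b
  max : ∀ y ∈ D, (∀ m ∈ M, Commute y m) → y ∈ M

theorem IsMaxClique.mem_perp {M : Set G} (hM : IsMaxClique D M) {a b : G} (ha : a ∈ M) (hb : b ∈ M)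
    (hne : a ≠ b) : b ∈ perp D a :=
  ⟨hM.sub hb, hne.symm, hM.comm a ha b hb⟩

namespace PerpModel

variable {m : G} (P : PerpModel D m)

/-- The members of a maximal commuting set through `m` form the points of an isotropic plane. -/
theorem exists_plane {M : Set G} (hM : IsMaxClique D M) (hm : m ∈ M) :
    ∃ W : Submodule P.K (I6 → P.K), Module.finrank P.K W = 3 ∧ (∀ u ∈ W, ∀ w ∈ W, herm P.C u w = 0) ∧
      ∀ x, ∀ hx : x ∈ perp D m, ∀ v, herm P.C v v = 0 → v ≠ 0 → bar hx = P.θ (tv P.C v) →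
        (x ∈ M ↔ v ∈ W) := by
  set S : Set (I6 → P.K) := {v | herm P.C v v = 0 ∧ v ≠ 0 ∧ ∃ x ∈ M, ∃ hx : x ∈ perp D m,
    bar hx = P.θ (tv P.C v)} with hS
  set W := Submodule.span P.K S with hW
  have hSS : ∀ u ∈ S, ∀ w ∈ S, herm P.C u w = 0 := by
    rintro u ⟨hu, hu0, x, hx, hxp, hxu⟩ w ⟨hw, -, y, hy, hyp, hyw⟩
    exact (P.commute_iff hyp hxp hw hu hu0 hyw hxu).1 (hM.comm y hy x hx)
  have hiso : ∀ u ∈ W, ∀ w ∈ W, herm P.C u w = 0 := by
    intro u hu w hw
    induction hu using Submodule.span_induction with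
    | mem u hu =>
      induction hw using Submodule.span_induction with
      | mem w hw => exact hSS u hu w hw
      | zero => rw [← conj_herm, herm_zero_left, map_zero]
      | add a b _ _ iha ihb => rw [herm_add_right, iha, ihb, add_zero]
      | smul a b _ ihb => rw [herm_smul_right, ihb, mul_zero]
    | zero => exact herm_zero_left P.C w
    | add a b _ _ iha ihb => rw [herm_add_left, iha, ihb, add_zero]
    | smul a b _ ihb => rw [herm_smul_left, ihb, mul_zero]
  have hiff : ∀ x, ∀ hx : x ∈ perp D m, ∀ v, herm P.C v v = 0 → v ≠ 0 → bar hx = P.θ (tv P.C v) →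
      (x ∈ M ↔ v ∈ W) := by
    intro x hx v hv hv0 hxv
    refine ⟨fun h1 => Submodule.subset_span ⟨hv, hv0, x, h1, hx, hxv⟩, fun h1 => hM.max x hx.1 fun y hy => ?_⟩
    by_cases hym : y = m
    · rw [hym]; exact hx.2.2.symm
    have hyp := hM.mem_perp hm hy (Ne.symm hym)
    obtain ⟨w, hw, hw0, hyw⟩ := P.exists_pt hyp
    exact (P.commute_iff hx hyp hv hw hw0 hxv hyw).2
      (hiso w (Submodule.subset_span ⟨hw, hw0, y, hy, hyp, hyw⟩) v h1)
  refine ⟨W, le_antisymm ?_ ?_, hiso, hiff⟩
  · by_contra hgt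
    obtain ⟨f, hf⟩ := exists_linearIndependent_of_le_finrank (show 4 ≤ Module.finrank P.K W by omega)
    exact not_four_orth P.C (v := fun i => (f i : I6 → P.K)) (fun i j => hiso _ (f i).2 _ (f j).2)
      (hf.map' W.subtype (Submodule.ker_subtype W))
  · by_contra hlt
    let B := Module.finBasis P.K W
    let L : (I6 → P.K) →ₗ[P.K] (Fin (Module.finrank P.K W) → P.K) :=
      { toFun := fun x i => herm P.C x (B i : I6 → P.K)
        map_add' := fun x y => funext fun i => herm_add_left P.C x y _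
        map_smul' := fun a x => funext fun i => herm_smul_left P.C a x _ }
    have horth : ∀ x ∈ LinearMap.ker L, ∀ w ∈ W, herm P.C x w = 0 := by
      intro x hx w hw
      have h0 : ∀ i, herm P.C (B i : I6 → P.K) x = 0 := fun i => by
        rw [← conj_herm, show herm P.C x (B i : I6 → P.K) = 0 from congrFun (LinearMap.mem_ker.1 hx) i,
          map_zero]
      let ψ : ↥W →ₗ[P.K] P.K :=
        { toFun := fun u => herm P.C (u : I6 → P.K) x
          map_add' := fun a b => herm_add_left P.C _ _ _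
          map_smul' := fun a b => herm_smul_left P.C a _ _ }
      have hψ : ψ = 0 := B.ext h0
      rw [← conj_herm, show herm P.C w x = 0 from LinearMap.congr_fun hψ ⟨w, hw⟩, map_zero]
    have hker : 4 ≤ Module.finrank P.K (LinearMap.ker L) := by
      have h1 := LinearMap.finrank_range_add_finrank_ker L
      have h2 := Submodule.finrank_le (LinearMap.range L)
      rw [Module.finrank_fintype_fun_eq_card] at h1 h2
      simp only [Fintype.card_sum, Fintype.card_fin] at h1 h2
      omega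
    have hout : ∀ X : Submodule P.K (I6 → P.K), Module.finrank P.K X < 4 → ∃ u ∈ LinearMap.ker L, u ∉ X := by
      intro X hX
      by_contra hall
      push Not at hall
      exact absurd (Submodule.finrank_mono hall) (by omega)
    obtain ⟨u, huL, huW⟩ := hout W (by omega)
    obtain ⟨u₂, hu₂L, hu₂W⟩ := hout (W ⊔ P.K ∙ u) (by
      have h1 := Submodule.finrank_add_le_finrank_add_finrank W (P.K ∙ u)
      have h2 : Module.finrank P.K (P.K ∙ u) ≤ 1 := (finrank_span_le_card ({u} : Set _)).trans (by simp)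
      omega)
    have finish : ∀ z ∈ LinearMap.ker L, z ∉ W → herm P.C z z = 0 → False := by
      intro z hz hzW hzz
      have hz0 : z ≠ 0 := fun h0 => hzW (h0 ▸ W.zero_mem)
      obtain ⟨x, hx, hxz⟩ := P.exists_mem hzz hz0
      refine hzW ((hiff x hx z hzz hz0 hxz).1 (hM.max x hx.1 fun y hy => ?_))
      by_cases hym : y = m
      · rw [hym]; exact hx.2.2.symm
      have hyp := hM.mem_perp hm hy (Ne.symm hym)
      obtain ⟨w, hw, hw0, hyw⟩ := P.exists_pt hyp
      refine ((P.commute_iff hyp hx hw hzz hz0 hyw hxz).2 ?_).symm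
      exact horth z hz w (Submodule.subset_span ⟨hw, hw0, y, hy, hyp, hyw⟩)
    have hnorm : ∀ z : I6 → P.K, herm P.C z z ≠ 0 → herm P.C z z = 1 := fun z hz =>
      eq_one_of_fixed P.C P.hq (conj_herm P.C z z) hz
    by_cases hu1 : herm P.C u u = 0
    · exact finish u huL huW hu1
    have hu1' := hnorm u hu1
    obtain ⟨w, hw⟩ : ∃ w, w = u₂ + herm P.C u₂ u • u := ⟨_, rfl⟩
    have hwu : herm P.C w u = 0 := by
      rw [hw, herm_add_left, herm_smul_left, hu1', mul_one, U62.add_self P.C P.hq]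
    have hwL : w ∈ LinearMap.ker L := hw ▸ add_mem hu₂L (Submodule.smul_mem _ _ huL)
    have hwW : w ∉ W ⊔ P.K ∙ u := fun h0 => hu₂W (by
      have h1 := sub_mem h0 (Submodule.mem_sup_right (Submodule.smul_mem _ (herm P.C u₂ u)
        (Submodule.mem_span_singleton_self u)))
      rwa [hw, add_sub_cancel_right] at h1)
    by_cases hw1 : herm P.C w w = 0
    · exact finish w hwL (fun h0 => hwW (Submodule.mem_sup_left h0)) hw1
    refine finish (w + u) (add_mem hwL huL) (fun h0 => hwW ?_) ?_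
    · have h1 := sub_mem (Submodule.mem_sup_left (T := P.K ∙ u) h0)
        (Submodule.mem_sup_right (Submodule.mem_span_singleton_self u))
      rwa [add_sub_cancel_right] at h1
    · have huw : herm P.C u w = 0 := by rw [← conj_herm, hwu, map_zero]
      rw [herm_add_left, herm_add_right, herm_add_right, hnorm w hw1, hu1', hwu, huw]
      simpa using U62.add_self P.C P.hq (1 : P.K)

end PerpModel

variable [Finite G] (h : IsThreeTranspositionGroup D) (hp : IsPrimitiveUnderConj D) (h22 : IsOfTypeM22 G D)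

include h hp h22

omit hp in
theorem ncard_clique {M : Set G} (hM : IsMaxClique D M) {m : G} (hm : m ∈ M) :
    (M ∩ perp D m).ncard = 21 ∧ M.ncard = 22 := by
  obtain ⟨P⟩ := exists_perpModel h h22 (hM.sub hm)
  obtain ⟨W, hW, hiso, hiff⟩ := P.exists_plane hM hm
  have h1 := P.card_vectors (M ∩ perp D m) Set.inter_subset_right (fun v => v ∈ W) W.zero_mem
    (fun x hx v hv hv0 hxv => ⟨fun h0 => (hiff x hx v hv hv0 hxv).1 h0.1,
      fun h0 => ⟨(hiff x hx v hv hv0 hxv).2 h0, hx⟩⟩)
  rw [Nat.card_congr (Equiv.subtypeEquivRight (q := fun v => v ∈ W)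
    fun v => ⟨fun h0 => h0.2, fun h0 => ⟨hiso v h0 v h0, h0⟩⟩)] at h1
  have hK : Nat.card P.K = 4 := by rw [Nat.card_eq_fintype_card, P.C.card, P.hq]; rfl
  have h2 : Nat.card ↥W = 64 := by rw [Module.natCard_eq_pow_finrank (K := P.K), hW, hK]; norm_num
  rw [h2] at h1
  have h21 : (M ∩ perp D m).ncard = 21 := by omega
  have heq : M = insert m (M ∩ perp D m) := by
    refine Set.Subset.antisymm (fun a ha => ?_) (Set.insert_subset hm Set.inter_subset_left)
    by_cases h0 : a = m
    · exact Or.inl h0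
    · exact Or.inr ⟨ha, hM.mem_perp hm ha (Ne.symm h0)⟩
  refine ⟨h21, ?_⟩
  rw [heq, Set.ncard_insert_of_notMem (fun h0 => h0.2.2.1 rfl), h21]

omit hp in
/-- A member outside commutes with none or six members of a maximal commuting set. -/
theorem ncard_inter_perp {M : Set G} (hM : IsMaxClique D M) {y m : G} (hy : y ∈ D) (hyM : y ∉ M)
    (hm : m ∈ M) (hym : Commute y m) : (M ∩ perp D y).ncard = 6 := by
  obtain ⟨P⟩ := exists_perpModel h h22 (hM.sub hm)
  obtain ⟨W, hW, hiso, hiff⟩ := P.exists_plane hM hm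
  have hyp : y ∈ perp D m := ⟨hy, fun h0 => hyM (h0 ▸ hm), hym.symm⟩
  obtain ⟨w, hw, hw0, hyw⟩ := P.exists_pt hyp
  have hiff' : ∀ x, ∀ hx : x ∈ perp D m, ∀ v, herm P.C v v = 0 → v ≠ 0 → bar hx = P.θ (tv P.C v) →
      (x ∈ M ∩ perp D y ∩ perp D m ↔ v ∈ W ∧ herm P.C v w = 0) := by
    intro x hx v hv hv0 hxv
    constructor
    · exact fun h0 => ⟨(hiff x hx v hv hv0 hxv).1 h0.1.1,
        (P.commute_iff hyp hx hw hv hv0 hyw hxv).1 h0.1.2.2.2⟩
    · rintro ⟨h0, h1⟩
      have hxM := (hiff x hx v hv hv0 hxv).2 h0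
      exact ⟨⟨hxM, hx.1, fun h2 => hyM (h2 ▸ hxM), (P.commute_iff hyp hx hw hv hv0 hyw hxv).2 h1⟩, hx⟩
  have h1 := P.card_vectors (M ∩ perp D y ∩ perp D m) Set.inter_subset_right
    (fun v => v ∈ W ∧ herm P.C v w = 0) ⟨W.zero_mem, herm_zero_left P.C w⟩ hiff'
  let L : ↥W →ₗ[P.K] P.K :=
    { toFun := fun v => herm P.C (v : I6 → P.K) w
      map_add' := fun a b => herm_add_left P.C _ _ _
      map_smul' := fun a b => herm_smul_left P.C a _ _ }
  have hL : LinearMap.range L = ⊤ := by
    refine LinearMap.range_eq_top.2 (LinearMap.surjective ?_)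
    intro hL0
    refine hyM (hM.max y hy fun x hx => ?_)
    by_cases hxm : x = m
    · rw [hxm]; exact hym
    have hxp := hM.mem_perp hm hx (Ne.symm hxm)
    obtain ⟨v, hv, hv0, hxv⟩ := P.exists_pt hxp
    exact (P.commute_iff hyp hxp hw hv hv0 hyw hxv).2
      (LinearMap.congr_fun hL0 ⟨v, (hiff x hxp v hv hv0 hxv).1 hx⟩)
  have hrk := LinearMap.finrank_range_add_finrank_ker L
  rw [hL, finrank_top, Module.finrank_self, hW] at hrk
  have hker : Module.finrank P.K (LinearMap.ker L) = 2 := by omega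
  have hK : Nat.card P.K = 4 := by rw [Nat.card_eq_fintype_card, P.C.card, P.hq]; rfl
  have h2 : Nat.card {v : I6 → P.K // herm P.C v v = 0 ∧ v ∈ W ∧ herm P.C v w = 0} = 16 := by
    rw [show Nat.card {v : I6 → P.K // herm P.C v v = 0 ∧ v ∈ W ∧ herm P.C v w = 0} =
      Nat.card ↥(LinearMap.ker L) from Nat.card_congr
        { toFun := fun v => ⟨⟨v.1, v.2.2.1⟩, LinearMap.mem_ker.2 v.2.2.2⟩
          invFun := fun v => ⟨v.1.1, hiso _ v.1.2 _ v.1.2, v.1.2, LinearMap.mem_ker.1 v.2⟩
          left_inv := fun v => rfl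
          right_inv := fun v => rfl },
      Module.natCard_eq_pow_finrank (K := P.K), hker, hK]
    norm_num
  rw [h2] at h1
  have heq : M ∩ perp D y = insert m (M ∩ perp D y ∩ perp D m) := by
    refine Set.Subset.antisymm (fun a ha => ?_)
      (Set.insert_subset ⟨hm, perp_symm (hM.sub hm) hyp⟩ Set.inter_subset_left)
    by_cases h0 : a = m
    · exact Or.inl h0
    · exact Or.inr ⟨ha, hM.mem_perp hm ha.1 (Ne.symm h0)⟩
  rw [heq, Set.ncard_insert_of_notMem (fun h0 => h0.2.2.1 rfl)]
  omega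

omit hp in
/-- Double counting against a maximal commuting set. -/
theorem six_mul_ncard {M : Set G} (hM : IsMaxClique D M) {A : Set G} (hA : A ⊆ D \ M) {k : ℕ}
    (hk : ∀ m ∈ M, (A ∩ perp D m).ncard = k) :
    6 * {y : G | y ∈ A ∧ ∃ m ∈ M, Commute y m}.ncard = M.ncard * k := by
  classical
  have := Fintype.ofFinite G
  set B := {y : G | y ∈ A ∧ ∃ m ∈ M, Commute y m} with hB
  have key := Finset.sum_card_bipartiteAbove_eq_sum_card_bipartiteBelow
    (fun y m => m ∈ perp D y) (s := B.toFinset) (t := M.toFinset)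
  have e1 : ∀ y ∈ B.toFinset, (M.toFinset.bipartiteAbove (fun y m => m ∈ perp D y) y).card = 6 := by
    intro y hy
    obtain ⟨hyA, m, hm, hc⟩ := Set.mem_toFinset.1 hy
    rw [← ncard_inter_perp h h22 hM (hA hyA).1 (hA hyA).2 hm hc, ← Set.ncard_coe_finset]
    congr 1
    ext z
    simp only [Finset.bipartiteAbove, Finset.coe_filter, Set.mem_toFinset, Set.mem_setOf_eq, Set.mem_inter_iff]
  have e2 : ∀ m ∈ M.toFinset, (B.toFinset.bipartiteBelow (fun y m => m ∈ perp D y) m).card = k := by
    intro m hm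
    rw [Set.mem_toFinset] at hm
    rw [← hk m hm, ← Set.ncard_coe_finset]
    congr 1
    ext z
    simp only [Finset.bipartiteBelow, Finset.coe_filter, Set.mem_toFinset, Set.mem_setOf_eq, Set.mem_inter_iff]
    constructor
    · rintro ⟨⟨hzA, -⟩, hz⟩
      exact ⟨hzA, perp_symm (hA hzA).1 hz⟩
    · rintro ⟨hzA, hz⟩
      exact ⟨⟨hzA, m, hm, hz.2.2.symm⟩, perp_symm (hM.sub hm) hz⟩
  rw [Finset.sum_congr rfl e1, Finset.sum_congr rfl e2, Finset.sum_const, Finset.sum_const, smul_eq_mul,
    smul_eq_mul, ← Set.ncard_eq_toFinset_card', ← Set.ncard_eq_toFinset_card'] at key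
  rw [← key, mul_comm]

/-- Some member commutes with no member of a maximal commuting set. -/
theorem exists_free {M : Set G} (hM : IsMaxClique D M) : ∃ y ∈ D, ∀ m ∈ M, ¬ Commute y m := by
  by_contra hall
  push Not at hall
  obtain ⟨d, hd, -⟩ := hp.2.1
  obtain ⟨m₀, hm₀⟩ : M.Nonempty := by
    by_contra hne
    exact hne ⟨d, hM.max d hd fun m hm => absurd ⟨m, hm⟩ hne⟩
  have h22' := (ncard_clique h h22 hM hm₀).2
  have hk : ∀ m ∈ M, ((D \ M) ∩ perp D m).ncard = 672 := by
    intro m hm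
    obtain ⟨P⟩ := exists_perpModel h h22 (hM.sub hm)
    have h1 := Set.ncard_inter_add_ncard_diff_eq_ncard (perp D m) M (Set.toFinite _)
    rw [P.ncard_perp, Set.inter_comm, (ncard_clique h h22 hM hm).1] at h1
    rw [show (D \ M) ∩ perp D m = perp D m \ M by
      ext z; exact ⟨fun hz => ⟨hz.2, hz.1.2⟩, fun hz => ⟨⟨hz.1.1, hz.2⟩, hz.1⟩⟩]
    omega
  have h1 := six_mul_ncard h h22 hM (A := D \ M) subset_rfl hk
  rw [show {y : G | y ∈ D \ M ∧ ∃ m ∈ M, Commute y m} = D \ M from
      Set.ext fun y => ⟨fun hy => hy.1, fun hy => ⟨hy, hall y hy.1⟩⟩,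
    Set.ncard_sdiff hM.sub, ncard_D h hp h22, h22'] at h1
  omega

/-- A free member has 231 free neighbours. -/
theorem ncard_free_perp {M : Set G} (hM : IsMaxClique D M) {y : G} (hy : y ∈ D)
    (hfree : ∀ m ∈ M, ¬ Commute y m) :
    {z : G | z ∈ perp D y ∧ ∀ m ∈ M, ¬ Commute z m}.ncard = 231 := by
  have hA : perp D y ⊆ D \ M := fun z hz => ⟨hz.1, fun hzM => hfree z hzM hz.2.2⟩
  obtain ⟨m₀, hm₀⟩ : M.Nonempty := by
    by_contra hne
    exact hne ⟨y, hM.max y hy fun m hm => absurd ⟨m, hm⟩ hne⟩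
  have h22' := (ncard_clique h h22 hM hm₀).2
  obtain ⟨P⟩ := exists_perpModel h h22 hy
  have h1 := six_mul_ncard h h22 hM hA fun m hm => ncard_common h hp h22 hy (hM.sub hm) (hfree m hm)
  have h2 := Set.ncard_inter_add_ncard_diff_eq_ncard (perp D y) {z | ∃ m ∈ M, Commute z m} (Set.toFinite _)
  rw [P.ncard_perp] at h2
  have e1 : perp D y ∩ {z | ∃ m ∈ M, Commute z m} = {z : G | z ∈ perp D y ∧ ∃ m ∈ M, Commute z m} := rfl
  have e2 : perp D y \ {z | ∃ m ∈ M, Commute z m} = {z : G | z ∈ perp D y ∧ ∀ m ∈ M, ¬ Commute z m} := by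
    ext z; simp
  rw [e1, e2] at h2
  rw [h22'] at h1
  omega

/-- The product of four members of `M` is a product of two or of three. -/
theorem four_eq {M : Set G} (hM : IsMaxClique D M) {m n o p : G} (hm : m ∈ M) (hn : n ∈ M) (ho : o ∈ M)
    (hpM : p ∈ M) (hnd : [m, n, o, p].Nodup) :
    (∃ r ∈ M, ∃ s ∈ M, r ≠ s ∧ m * n * o * p = r * s) ∨
      ∃ r ∈ M, ∃ s ∈ M, ∃ t ∈ M, s ≠ t ∧ m * n * o * p = r * s * t := by
  simp only [List.nodup_cons, List.mem_cons, List.not_mem_nil, or_false, not_or, not_false_eq_true,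
    List.nodup_nil, and_true] at hnd
  obtain ⟨⟨nmn, nmo, nmp⟩, ⟨nno, nnp⟩, nop⟩ := hnd
  obtain ⟨P⟩ := exists_perpModel h h22 (hM.sub hm)
  have hn' := hM.mem_perp hm hn nmn
  have ho' := hM.mem_perp hm ho nmo
  have hp' := hM.mem_perp hm hpM nmp
  obtain ⟨vn, hvn, hvn0, hnb⟩ := P.exists_pt hn'
  obtain ⟨vo, hvo, hvo0, hob⟩ := P.exists_pt ho'
  obtain ⟨vp, hvp, hvp0, hpb⟩ := P.exists_pt hp'
  have hno : herm P.C vo vn = 0 := (P.commute_iff hn' ho' hvn hvo hvo0 hnb hob).1 (hM.comm n hn o ho)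
  have hnp : herm P.C vp vn = 0 := (P.commute_iff hn' hp' hvn hvp hvp0 hnb hpb).1 (hM.comm n hn p hpM)
  have hop : herm P.C vp vo = 0 := (P.commute_iff ho' hp' hvo hvp hvp0 hob hpb).1 (hM.comm o ho p hpM)
  have hno' : herm P.C vn vo = 0 := by rw [← conj_herm, hno, map_zero]
  have hnp' : herm P.C vn vp = 0 := by rw [← conj_herm, hnp, map_zero]
  have hop' : herm P.C vo vp = 0 := by rw [← conj_herm, hop, map_zero]
  obtain ⟨W, -, hiso, hiff⟩ := P.exists_plane hM hm
  have hnW := (hiff n hn' vn hvn hvn0 hnb).1 hn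
  have hoW := (hiff o ho' vo hvo hvo0 hob).1 ho
  by_cases hdep : vp ∈ Submodule.span P.K ({vn, vo} : Set (I6 → P.K))
  · -- a line: two further members
    obtain ⟨s, t, hst⟩ := Submodule.mem_span_pair.1 hdep
    have hs : s ≠ 0 := fun h0 => nop (P.eq_of_smul ho' hp' hvo hvp0 hob hpb (a := t)
      (by rw [← hst, h0, zero_smul, zero_add]))
    have ht : t ≠ 0 := fun h0 => nnp (P.eq_of_smul hn' hp' hvn hvp0 hnb hpb (a := s)
      (by rw [← hst, h0, zero_smul, add_zero]))
    set q := (t / s) • vo with hq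
    have hts : t / s ≠ 0 := div_ne_zero ht hs
    have hqq : herm P.C q q = 0 := by rw [hq, herm_smul_left, herm_smul_right, hvo, mul_zero, mul_zero]
    have hvq : herm P.C vn q = 0 := by rw [hq, herm_smul_right, hno', mul_zero]
    have hqv : herm P.C q vn = 0 := by rw [← conj_herm, hvq, map_zero]
    have hL : ∀ a : P.K, herm P.C (vn + a • q) (vn + a • q) = 0 := fun a => by
      simp [herm_add_left, herm_add_right, herm_smul_left, herm_smul_right, hvn, hqq, hvq, hqv]
    have hpq : vp = s • (vn + q) := by rw [hq, smul_add, smul_smul, mul_div_cancel₀ t hs, hst]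
    have hpb' : bar hp' = P.θ (tv P.C (vn + q)) := by
      rw [hpb, hpq, tv_smul P.C P.hq hs (by simpa using hL 1)]
    have hob' : bar ho' = P.θ (tv P.C q) := by rw [hob, hq, tv_smul P.C P.hq hts hvo]
    obtain ⟨ω, hω0, hω1, hω⟩ := exists_omega P.C P.hq
    have hind : ∀ a : P.K, q ≠ a • vn := P.not_smul_of_ne hn' ho' hvn
      (by rw [hq]; exact smul_ne_zero hts hvo0) hnb hob' nno
    have hL0 : ∀ a : P.K, a ≠ 0 → vn + a • q ≠ 0 := fun a ha h0 => hind (-a⁻¹) (by
      rw [neg_smul, ← smul_neg, ← eq_neg_of_add_eq_zero_right h0, inv_smul_smul₀ ha])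
    obtain ⟨a, ha, hab⟩ := P.exists_mem (hL ω) (hL0 ω hω0)
    obtain ⟨b, hb, hbb⟩ := P.exists_mem (hL (ω ^ 2)) (hL0 _ (pow_ne_zero 2 hω0))
    have hLW : ∀ c : P.K, vn + c • q ∈ W := fun c =>
      add_mem hnW (Submodule.smul_mem _ _ (Submodule.smul_mem _ _ hoW))
    have haM := (hiff a ha _ (hL ω) (hL0 ω hω0) hab).2 (hLW ω)
    have hbM := (hiff b hb _ (hL _) (hL0 _ (pow_ne_zero 2 hω0)) hbb).2 (hLW _)
    have hωω : ω ≠ ω ^ 2 := fun h0 => hω1 (by
      rw [pow_two] at h0; exact mul_left_cancel₀ hω0 (by rw [mul_one]; exact h0.symm))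
    have hω2 : ω ^ 2 ≠ 1 := fun h0 => hω1 (by
      have h3 := U62.pow_three P.C P.hq hω0
      rwa [pow_succ, h0, one_mul] at h3)
    have hinj : ∀ u w c : P.K, vn + w • q = c • (vn + u • q) → w = u := by
      intro u w c hh
      have h' : (1 - c) • vn = (c * u - w) • q := by
        simp only [smul_add, smul_smul] at hh
        linear_combination (norm := module) hh
      by_cases h1 : c * u - w = 0
      · rw [h1, zero_smul, smul_eq_zero] at h'
        rcases h' with h2 | h2
        · rw [sub_eq_zero] at h1 h2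
          rw [← h1, ← h2, one_mul]
        · exact absurd h2 hvn0
      · exact absurd (show q = ((c * u - w)⁻¹ * (1 - c)) • vn by rw [mul_smul, h', inv_smul_smul₀ h1]) (hind _)
    have hne : ∀ {x y : G} (hx : x ∈ perp D m) (hy : y ∈ perp D m) {u w : P.K}, w ≠ 0 → w ≠ u →
        bar hx = P.θ (tv P.C (vn + u • q)) → bar hy = P.θ (tv P.C (vn + w • q)) → x ≠ y :=
      fun {x y} hx hy {u w} hw0 huw hxb hyb =>
        P.ne_of_not_smul hx hy (hL u) (hL w) (hL0 w hw0) hxb hyb fun c hc => huw (hinj u w c hc)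
    have hpb1 : bar hp' = P.θ (tv P.C (vn + (1 : P.K) • q)) := by rw [one_smul]; exact hpb'
    have nab := hne ha hb (pow_ne_zero 2 hω0) hωω.symm hab hbb
    refine Or.inl ⟨a, haM, b, hbM, nab, ?_⟩
    have hm' : n * o * p * a * b ∈ Subgroup.closure (perp D m) :=
      mul_mem (mul_mem (mul_mem (mul_mem (mem_perp_closure hn') (mem_perp_closure ho')) (mem_perp_closure hp'))
        (mem_perp_closure ha)) (mem_perp_closure hb)
    have hc : (⟨_, hm'⟩ : ↥(Subgroup.closure (perp D m))) ∈
        Subgroup.center ↥(Subgroup.closure (perp D m)) := by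
      rw [← QuotientGroup.eq_one_iff]
      show bar hn' * bar ho' * bar hp' * bar ha * bar hb = 1
      rw [hnb, hob', hpb', hab, hbb, ← map_mul, ← map_mul, ← map_mul, ← map_mul]
      rw [show tv P.C vn * tv P.C q * tv P.C (vn + q) * tv P.C (vn + ω • q) * tv P.C (vn + ω ^ 2 • q) =
        tv P.C vn * (tv P.C q * tv P.C (vn + q) * tv P.C (vn + ω • q) * tv P.C (vn + ω ^ 2 • q)) by group,
        ← tv_line P.C P.hq hvn hqq hvq hω, tv_mul_self P.C P.hq hvn, map_one]
    rcases (center_closure_perp h hp h22 (hM.sub hm) hm').1 (mem_center_closure_iff.1 hc) with h0 | h0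
    · exfalso
      refine noRel_five_of_M22 psu62Facts h h22 [n, o, p, a, b] ?_ rfl ?_ ?_ (by simpa [mul_assoc] using h0)
      · have npa := hne hp' ha hω0 hω1 hpb1 hab
        have npb := hne hp' hb (pow_ne_zero 2 hω0) hω2 hpb1 hbb
        have nvn : ∀ {y : G} (hy : y ∈ perp D m) {w : P.K}, w ≠ 0 →
            bar hy = P.θ (tv P.C (vn + w • q)) → n ≠ y := fun {y} hy {w} hw hyb =>
          P.ne_of_not_smul hn' hy hvn (hL w) (hL0 w hw) hnb hyb fun c hc => hw (hinj 0 w c (by simpa using hc))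
        have nvo : ∀ {y : G} (hy : y ∈ perp D m) {w : P.K}, w ≠ 0 →
            bar hy = P.θ (tv P.C (vn + w • q)) → o ≠ y := fun {y} hy {w} hw hyb =>
          P.ne_of_not_smul ho' hy hqq (hL w) (hL0 w hw) hob' hyb fun c hc => by
            have h1 : vn = (c - w) • q := by rw [sub_smul, ← hc, add_sub_cancel_right]
            rcases eq_or_ne (c - w) 0 with h2 | h2
            · exact hvn0 (by rw [h1, h2, zero_smul])
            · exact hind (c - w)⁻¹ (by rw [h1, inv_smul_smul₀ h2])
        simp [nno, nnp, nop, nvn ha hω0 hab, nvn hb (pow_ne_zero 2 hω0) hbb, nvo ha hω0 hab,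
          nvo hb (pow_ne_zero 2 hω0) hbb, npa, npb, nab]
      · simp [hM.sub hn, hM.sub ho, hM.sub hpM, hM.sub haM, hM.sub hbM]
      · have hc' := hM.comm
        simp only [List.mem_cons, List.not_mem_nil, or_false]
        rintro u (rfl | rfl | rfl | rfl | rfl) w (rfl | rfl | rfl | rfl | rfl) <;> exact hc' _ ‹_› _ ‹_›
    · have hba : a * b * (b * a) = 1 := by
        rw [mul_assoc, mul_self_cancel h.1 hb.1, mul_self h.1 ha.1]
      calc m * n * o * p = m * ((n * o * p * a * b) * (b * a)) := by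
            rw [show n * o * p * a * b * (b * a) = n * o * p * (a * b * (b * a)) by group, hba, mul_one]
            group
        _ = m * (m * (b * a)) := by rw [h0]
        _ = a * b := by rw [mul_self_cancel h.1 (hM.sub hm), (hM.comm b hbM a haM).eq]
  · -- a triangle: three further members
    have hli : LinearIndependent P.K ![vn, vo, vp] := by
      have h2 : LinearIndependent P.K ![vn, vo] :=
        (LinearIndependent.pair_iff' hvn0).2 fun a =>
          Ne.symm (P.not_smul_of_ne hn' ho' hvn hvo0 hnb hob nno a)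
      have := h2.finSnoc (x := vp) (by rwa [Matrix.range_cons, Matrix.range_cons, Matrix.range_empty,
        Set.union_empty, Set.union_singleton, Set.pair_comm])
      have e : (Fin.snoc ![vn, vo] vp : Fin 3 → I6 → P.K) = ![vn, vo, vp] := by
        funext i; fin_cases i <;> rfl
      rwa [e] at this
    have hx : ∀ i, (![n, o, p] : Fin 3 → G) i ∈ perp D m := by intro i; fin_cases i <;> assumption
    obtain ⟨a, b, c, ha, hb, hc, -, -, hbc, he, hext⟩ := exists_heptad' h hp h22 (hM.sub hm) P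
      (v := ![vn, vo, vp]) (by
        intro i j
        fin_cases i <;> fin_cases j <;> simp [hvn, hvo, hvp, hno, hnp, hop, hno', hnp', hop'])
      hli ![n, o, p] hx (by intro i; fin_cases i <;> assumption)
    have hin : ∀ u ∈ [a, b, c], u ∈ perp D m → u ∈ M := fun u hu hup => hM.max u hup.1 fun z hz => by
      by_cases hzm : z = m
      · rw [hzm]; exact hup.2.2.symm
      refine hext u hu z (hM.mem_perp hm hz (Ne.symm hzm)) fun i => ?_
      fin_cases i
      exacts [hM.comm z hz n hn, hM.comm z hz o ho, hM.comm z hz p hpM]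
    refine Or.inr ⟨a, hin a (by simp) ha, b, hin b (by simp) hb, c, hin c (by simp) hc, hbc.2.1.symm, ?_⟩
    rw [← he]
    simp [mul_assoc]

omit hp h22 in
/-- The third member determines the first. -/
theorem eq_of_third_eq {y a b : G} (hy : y ∈ D) (ha : a ∈ D) (hb : b ∈ D) (hya : ¬ Commute y a)
    (hyb : ¬ Commute y b) (he : a * y * a = b * y * b) : a = b := by
  have h1 := (conj_line h ha hy fun hc => hya hc.symm).2.2
  have h2 := (conj_line h hb hy fun hc => hyb hc.symm).2.2
  rw [he] at h1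
  exact h1.symm.trans h2

omit hp h22 in
theorem commute_conj_two {y s t : G} (hy : y ∈ D) (hs : s ∈ D) (ht : t ∈ D) (hys : ¬ Commute y s)
    (hyt : ¬ Commute y t) (hst : Commute s t) : Commute y (s * t * y * t * s) := by
  have c : ∀ {k : G}, k ∈ D → ∀ u v : G, Commute u v → Commute (k * u * k) (k * v * k) := fun {k} hk u v huv => by
    have h1 := (commute_conj_iff' k u v).2 huv
    rwa [inv_eq h.1 hk] at h1
  have h1 : Commute (s * y * s) (t * y * t) := by
    rw [← braid h.1 hy hs hys, ← braid h.1 hy ht hyt]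
    exact c hy s t hst
  have h2 := c hs _ _ h1
  rw [show s * (s * y * s) * s = y by simp [mul_assoc, mul_self h.1 hs, mul_self_cancel h.1 hs]] at h2
  convert h2 using 1
  simp [mul_assoc]

/-- A free member and the conjugates by two members of `M` determine those two. -/
theorem pair_inj {M : Set G} (hM : IsMaxClique D M) {y : G} (hy : y ∈ D) (hfree : ∀ m ∈ M, ¬ Commute y m)
    {m n o p : G} (hm : m ∈ M) (hn : n ∈ M) (ho : o ∈ M) (hpM : p ∈ M) (hmn : m ≠ n) (hop : o ≠ p)
    (he : m * n * y * n * m = o * p * y * p * o) : (m = o ∧ n = p) ∨ (m = p ∧ n = o) := by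
  have hs : ∀ {u : G}, u ∈ M → u * u = 1 := fun hu => mul_self h.1 (hM.sub hu)
  have hinj : ∀ {a b : G}, a ∈ M → b ∈ M → a * y * a = b * y * b → a = b := fun ha hb h0 =>
    eq_of_third_eq h hy (hM.sub ha) (hM.sub hb) (hfree _ ha) (hfree _ hb) h0
  -- a common member cancels
  have share : ∀ {u v w : G}, u ∈ M → v ∈ M → w ∈ M → u * v * y * v * u = u * w * y * w * u → v = w := by
    intro u v w hu hv hw h0
    refine hinj hv hw ?_
    have h1 := congrArg (fun z => u * z * u) h0
    simpa [mul_assoc, hs hu, mul_self_cancel h.1 (hM.sub hu)] using h1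
  have swap : ∀ {u v : G}, u ∈ M → v ∈ M → u * v * y * v * u = v * u * y * u * v := fun {u v} hu hv => by
    rw [(hM.comm u hu v hv).eq, mul_assoc (v * u * y) v u, ← (hM.comm u hu v hv).eq, ← mul_assoc]
  by_cases h1 : m = o
  · subst h1; exact Or.inl ⟨rfl, share hm hn hpM he⟩
  by_cases h2 : m = p
  · subst h2; exact Or.inr ⟨rfl, share hm hn ho (he.trans (swap ho hm))⟩
  by_cases h3 : n = o
  · subst h3; exact Or.inr ⟨share hn hm hpM ((swap hn hm).trans he), rfl⟩
  by_cases h4 : n = p
  · subst h4; exact Or.inl ⟨share hn hm ho ((swap hn hm).trans (he.trans (swap ho hn))), rfl⟩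
  exfalso
  have hg : Commute y (m * n * o * p) := by
    have h5 := congrArg (fun z => n * m * z * (o * p)) he
    have e1 : n * m * (m * n * y * n * m) * (o * p) = y * (n * m * o * p) := by
      simp [mul_assoc, mul_self_cancel h.1 (hM.sub hm), mul_self_cancel h.1 (hM.sub hn)]
    have e2 : n * m * (o * p * y * p * o) * (o * p) = n * m * o * p * y := by
      simp [mul_assoc, mul_self_cancel h.1 (hM.sub ho), hs hpM]
    rw [e1, e2, (hM.comm n hn m hm).eq] at h5
    exact h5
  rcases four_eq h hp h22 hM hm hn ho hpM (by simp [hmn, h1, h2, h3, h4, hop]) with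
    ⟨r, hr, s, hs', hrs, he'⟩ | ⟨r, hr, s, hs', t, ht, hst, he'⟩
  · rw [he'] at hg
    exact hfree r hr (commute_both_of_commute_mul h (hM.sub hr) (hM.sub hs') hy hrs hg).1
  · rw [he'] at hg
    have h6 := commute_conj_two h hy (hM.sub hs') (hM.sub ht) (hfree s hs') (hfree t ht) (hM.comm s hs' t ht)
    have h7 : s * t * y * t * s = r * y * r := by
      calc s * t * y * t * s = r * (r * s * t * y) * t * s := by
            simp [mul_assoc, mul_self_cancel h.1 (hM.sub hr)]
        _ = r * (y * (r * s * t)) * t * s := by rw [hg.eq]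
        _ = r * y * r := by
            simp [mul_assoc, mul_self_cancel h.1 (hM.sub ht), hs hs']
    rw [h7, ← braid h.1 hy (hM.sub hr) (hfree r hr)] at h6
    have h8 := (commute_conj_iff' y _ _).2 h6
    rw [inv_eq h.1 hy, show y * y * y = y by simp [mul_self h.1 hy],
      show y * (y * r * y) * y = r by simp [mul_assoc, mul_self h.1 hy, mul_self_cancel h.1 hy]] at h8
    exact hfree r hr h8

/-- An involutory symmetry of `D` fixes a member. -/
theorem exists_fixed_of_involutive (φ : G →* G) (hφ : ∀ g, φ (φ g) = g) (hφD : ∀ d ∈ D, φ d ∈ D) :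
    ∃ d ∈ D, φ d = d := by
  classical
  by_contra hall
  push Not at hall
  have hinj : ∀ {a b : G}, φ a = φ b → a = b := fun {a b} h0 => by rw [← hφ a, h0, hφ b]
  have hcm : ∀ {a b : G}, Commute a b → Commute (φ a) (φ b) := fun hc => hc.map φ
  have hcomm : ∀ d ∈ D, Commute d (φ d) := by
    intro d hd
    by_contra hc
    refine hall (d * φ d * d) (FischerTypes.conj_mem h hd (hφD d hd)) ?_
    rw [map_mul, map_mul, hφ, braid h.1 hd (hφD d hd) hc]
  -- an invariant maximal commuting set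
  let T : Set (Set G) := {S | S ⊆ D ∧ (∀ a ∈ S, ∀ b ∈ S, Commute a b) ∧ ∀ a ∈ S, φ a ∈ S}
  have hTne : (∅ : Set G) ∈ T := ⟨Set.empty_subset _, fun a ha => ha.elim, fun a ha => ha.elim⟩
  obtain ⟨M, hMT, hMmax⟩ := Set.exists_max_image T Set.ncard (Set.toFinite _) ⟨∅, hTne⟩
  have hM : IsMaxClique D M := by
    refine ⟨hMT.1, hMT.2.1, fun y hy hc => ?_⟩
    by_contra hyM
    have hc' : ∀ m ∈ M, Commute (φ y) m := fun m hm => by
      have h1 := hcm (hc (φ m) (hMT.2.2 m hm))
      rwa [hφ] at h1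
    have hS : insert y (insert (φ y) M) ∈ T := by
      refine ⟨Set.insert_subset hy (Set.insert_subset (hφD y hy) hMT.1), ?_, ?_⟩
      · rintro a (ha | ha | ha) b (hb | hb | hb)
        · rw [ha, hb]
        · rw [ha, hb]; exact hcomm y hy
        · rw [ha]; exact hc b hb
        · rw [ha, hb]; exact (hcomm y hy).symm
        · rw [ha, hb]
        · rw [ha]; exact hc' b hb
        · rw [hb]; exact (hc a ha).symm
        · rw [hb]; exact (hc' a ha).symm
        · exact hMT.2.1 a ha b hb
      · rintro a (ha | ha | ha)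
        · rw [ha]; exact Or.inr (Or.inl rfl)
        · rw [ha, hφ]; exact Or.inl rfl
        · exact Or.inr (Or.inr (hMT.2.2 a ha))
    have h1 := hMmax _ hS
    have h2 : M.ncard < (insert y (insert (φ y) M)).ncard :=
      Set.ncard_lt_ncard ⟨(Set.subset_insert _ _).trans (Set.subset_insert _ _),
        fun h0 => hyM (h0 (Set.mem_insert _ _))⟩ (Set.toFinite _)
    omega
  obtain ⟨y, hy, hfree⟩ := exists_free h hp h22 hM
  have hfy : ∀ m ∈ M, ¬ Commute (φ y) m := fun m hm hc => by
    have h1 := hcm hc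
    rw [hφ] at h1
    exact hfree _ (hMT.2.2 m hm) h1
  -- the free neighbours of `y` are its conjugates by two members of `M`
  have := Fintype.ofFinite G
  obtain ⟨m₀, hm₀⟩ : M.Nonempty := by
    by_contra hne
    exact hne ⟨y, hM.max y hy fun m hm => absurd ⟨m, hm⟩ hne⟩
  set S := {z : G | z ∈ perp D y ∧ ∀ m ∈ M, ¬ Commute z m} with hS
  set F : G × G → G := fun q => q.1 * q.2 * y * q.2 * q.1 with hF
  have hmaps : ∀ q ∈ M.toFinset.offDiag, F q ∈ S := by
    rintro ⟨m, n⟩ hq
    simp only [Finset.mem_offDiag, Set.mem_toFinset] at hq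
    obtain ⟨hm, hn, hmn⟩ := hq
    show m * n * y * n * m ∈ S
    have hD' : m * n * y * n * m ∈ D := by
      rw [show m * n * y * n * m = m * (n * y * n) * m by group]
      exact FischerTypes.conj_mem h (hM.sub hm) (FischerTypes.conj_mem h (hM.sub hn) hy)
    refine ⟨⟨hD', fun h0 => ?_, commute_conj_two h hy (hM.sub hm) (hM.sub hn) (hfree m hm) (hfree n hn)
      (hM.comm m hm n hn)⟩, fun k hk hc => ?_⟩
    · refine hfree m hm (commute_both_of_commute_mul h (hM.sub hm) (hM.sub hn) hy hmn ?_).1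
      show y * (m * n) = m * n * y
      conv_lhs => rw [← h0]
      simp [mul_assoc, mul_self_cancel h.1 (hM.sub hm), mul_self h.1 (hM.sub hn)]
    · have hg : Commute (m * n) k := (hM.comm m hm k hk).mul_left (hM.comm n hn k hk)
      have h1 := (commute_conj_iff' (m * n)⁻¹ _ _).2 hc
      rw [inv_inv, show (m * n)⁻¹ * k * (m * n) = k by rw [mul_assoc, ← hg.eq, inv_mul_cancel_left],
        show (m * n)⁻¹ * (m * n * y * n * m) * (m * n) = y by
          simp [mul_assoc, inv_eq h.1 (hM.sub hn), inv_eq h.1 (hM.sub hm), mul_self_cancel h.1 (hM.sub hm),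
            mul_self_cancel h.1 (hM.sub hn), mul_self h.1 (hM.sub hn)]] at h1
      exact hfree k hk h1
  have hfib : ∀ z ∈ M.toFinset.offDiag.image F, (M.toFinset.offDiag.filter fun q => F q = z).card ≤ 2 := by
    intro z hz
    obtain ⟨⟨m, n⟩, hq, rfl⟩ := Finset.mem_image.1 hz
    simp only [Finset.mem_offDiag, Set.mem_toFinset] at hq
    refine (Finset.card_le_card (t := {(m, n), (n, m)}) ?_).trans Finset.card_le_two
    rintro ⟨o, p⟩ hop
    simp only [Finset.mem_filter, Finset.mem_offDiag, Set.mem_toFinset] at hop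
    rcases pair_inj h hp h22 hM hy hfree hq.1 hq.2.1 hop.1.1 hop.1.2.1 hq.2.2 hop.1.2.2 hop.2.symm with
      ⟨e1, e2⟩ | ⟨e1, e2⟩ <;> simp [e1, e2]
  have himg : M.toFinset.offDiag.image F = S.toFinset := by
    refine Finset.eq_of_subset_of_card_le ?_ ?_
    · intro z hz
      obtain ⟨q, hq, rfl⟩ := Finset.mem_image.1 hz
      exact Set.mem_toFinset.2 (hmaps q hq)
    · have h1 := Finset.card_le_mul_card_image _ 2 hfib
      rw [Finset.offDiag_card, ← Set.ncard_eq_toFinset_card', (ncard_clique h h22 hM hm₀).2] at h1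
      rw [← Set.ncard_eq_toFinset_card', ncard_free_perp h hp h22 hM hy hfree]
      omega
  have hyS : φ y ∈ S := ⟨⟨hφD y hy, hall y hy, hcomm y hy⟩, hfy⟩
  obtain ⟨⟨m, n⟩, hq, he⟩ := Finset.mem_image.1 (himg ▸ Set.mem_toFinset.2 hyS :
    φ y ∈ M.toFinset.offDiag.image F)
  simp only [Finset.mem_offDiag, Set.mem_toFinset] at hq
  obtain ⟨hm, hn, hmn⟩ := hq
  have he' : m * n * y * n * m = φ y := he
  have hmm := mul_self h.1 (hM.sub hm)
  have hnn := mul_self h.1 (hM.sub hn)
  -- applying the symmetry gives the same pair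
  have hfm := hMT.2.2 m hm
  have hfn := hMT.2.2 n hn
  have he2 : φ m * φ n * φ y * φ n * φ m = y := by
    rw [← map_mul, ← map_mul, ← map_mul, ← map_mul, he', hφ]
  have he3 : φ m * φ n * y * φ n * φ m = m * n * y * n * m := by
    rw [he']
    have h1 : φ n * φ n = 1 := mul_self h.1 (hM.sub hfn)
    have h2 : φ m * φ m = 1 := mul_self h.1 (hM.sub hfm)
    have c : Commute (φ m) (φ n) := hM.comm _ hfm _ hfn
    conv_lhs => rw [← he2]
    calc φ m * φ n * (φ m * φ n * φ y * φ n * φ m) * φ n * φ m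
        = (φ m * φ n * (φ m * φ n)) * φ y * (φ n * φ m * (φ n * φ m)) := by group
      _ = φ y := by
        rw [show φ m * φ n * (φ m * φ n) = 1 by
            rw [c.eq, mul_assoc, ← mul_assoc (φ m), c.eq]
            simp [← mul_assoc, h1, mul_assoc (φ n) (φ m) (φ m), h2],
          show φ n * φ m * (φ n * φ m) = 1 by
            rw [← c.eq, mul_assoc, ← mul_assoc (φ n), ← c.eq]
            simp [← mul_assoc, h2, mul_assoc (φ m) (φ n) (φ n), h1],
          one_mul, mul_one]
  rcases pair_inj h hp h22 hM hy hfree hfm hfn hm hn (fun h0 => hmn (hinj h0)) hmn he3 with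
    ⟨e1, -⟩ | ⟨e1, e2⟩
  · exact hall m (hM.sub hm) e1
  · refine hall (m * y * m) (FischerTypes.conj_mem h (hM.sub hm) hy) ?_
    rw [map_mul, map_mul, e1, ← he',
      show n * (m * n * y * n * m) * n = (n * m * n) * y * (n * m * n) by group,
      (hM.comm n hn m hm).eq, mul_assoc m, hnn, mul_one]

/-- An automorphism maps `D` to itself. -/
theorem mulAut_apply_mem (φ : MulAut G) {d : G} (hd : d ∈ D) : φ d ∈ D := by
  obtain ⟨⟨h1, ⟨a, ha, hac⟩, hcl⟩, -, -⟩ := cores_of_M22 h h22
  have hC : IsThreeTranspositionClass (φ '' D) := by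
    refine ⟨⟨?_, ?_⟩, ⟨φ a, ⟨a, ha, rfl⟩, ?_⟩, ?_⟩
    · rintro _ ⟨x, hx, rfl⟩
      rw [MulEquiv.orderOf_eq]; exact h1.1 x hx
    · rintro _ ⟨x, hx, rfl⟩ _ ⟨y, hy, rfl⟩
      rcases h1.2 x hx y hy with h0 | h0
      · exact Or.inl (by rw [← map_mul, ← map_pow, h0, map_one])
      · exact Or.inr (by rw [← map_mul, ← map_pow, h0, map_one])
    · ext z
      constructor
      · rintro ⟨x, hx, rfl⟩
        obtain ⟨g, rfl⟩ := isConj_iff.1 (hac ▸ hx : x ∈ conjugatesOf a)
        exact isConj_iff.2 ⟨φ g, by simp⟩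
      · intro hz
        obtain ⟨g, rfl⟩ := isConj_iff.1 (hz : IsConj (φ a) z)
        exact ⟨φ.symm g * a * (φ.symm g)⁻¹, hac ▸ isConj_iff.2 ⟨φ.symm g, rfl⟩, by simp⟩
    · rw [show φ '' D = φ.toMonoidHom '' D from rfl, ← MonoidHom.map_closure, hcl]
      exact Subgroup.map_top_of_surjective _ φ.surjective
  rw [← threeTranspositionClass_eq h hp h22 hC]
  exact ⟨d, hd, rfl⟩

end CfsgLib.FischerTypes
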