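import Cfsg.Agent.FischerTypes.M24FixedMember

/-!
# The classes of involutions in the types M(22), M(23), M(24)

They are the products of `m` distinct commuting members for `m ≤ 3`, resp. `m ≤ 4`; different `m` give
different products because short relations among commuting members do not exist.
-/

set_option autoImplicit false
set_option linter.style.haveILetI false
set_option maxHeartbeats 400000

namespace CfsgLib.FischerTypes

open Cfsg

variable {G : Type*} [Group G] {D : Set G}

/-- A list of distinct pairwise commuting members. -/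
structure IsCList (D : Set G) (l : List G) : Prop where
  nodup : l.Nodup
  mem : ∀ a ∈ l, a ∈ D
  comm : ∀ a ∈ l, ∀ b ∈ l, Commute a b

theorem IsCList.of_cons {a : G} {t : List G} (hl : IsCList D (a :: t)) : IsCList D t :=
  ⟨(List.nodup_cons.1 hl.nodup).2, fun x hx => hl.mem x (List.mem_cons_of_mem _ hx),
    fun x hx y hy => hl.comm x (List.mem_cons_of_mem _ hx) y (List.mem_cons_of_mem _ hy)⟩

theorem IsCList.perp {a b : G} {t : List G} (hl : IsCList D (a :: t)) (hb : b ∈ t) : b ∈ perp D a :=
  ⟨hl.mem b (List.mem_cons_of_mem _ hb), fun h0 => (List.nodup_cons.1 hl.nodup).1 (h0 ▸ hb),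
    hl.comm a List.mem_cons_self b (List.mem_cons_of_mem _ hb)⟩

theorem IsCList.prod_mul_self (h : IsThreeTranspositionSet D) {l : List G} (hl : IsCList D l) :
    l.prod * l.prod = 1 := by
  induction l with
  | nil => simp
  | cons a t ih =>
    have hc : Commute a t.prod := Commute.list_prod_right _ _ fun y hy =>
      hl.comm a List.mem_cons_self y (List.mem_cons_of_mem _ hy)
    rw [List.prod_cons, mul_assoc, ← mul_assoc t.prod a, ← hc.eq, mul_assoc a t.prod, ih hl.of_cons, mul_one,
      mul_self h (hl.mem a List.mem_cons_self)]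

/-- A member commuting with the product of at most three commuting members commutes with each. -/
theorem IsCList.commute_each (h : IsThreeTranspositionSet D) {l : List G} (hl : IsCList D l)
    (hlen : l.length ≤ 3) {x : G} (hx : x ∈ D) (hc : Commute x l.prod) : ∀ b ∈ l, Commute x b := by
  match l, hlen with
  | [], _ => simp
  | [a], _ => simpa using hc
  | [a, b], _ =>
    have n : a ≠ b := fun h0 => (List.nodup_cons.1 hl.nodup).1 (by simp [h0])
    have h2 := commute_of_commute_mul h (hl.mem a (by simp)) (hl.mem b (by simp)) hx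
      (hl.comm a (by simp) b (by simp)) n (by simpa using hc)
    intro u hu
    simp only [List.mem_cons, List.not_mem_nil, or_false] at hu
    rcases hu with rfl | rfl
    exacts [h2.1, h2.2]
  | [a, b, c], _ =>
    have hnd := hl.nodup
    simp only [List.nodup_cons, List.mem_cons, List.not_mem_nil, or_false, not_or, not_false_eq_true,
      List.nodup_nil, and_true] at hnd
    obtain ⟨⟨nab, nac⟩, nbc⟩ := hnd
    have cab := hl.comm a (by simp) b (by simp)
    have cac := hl.comm a (by simp) c (by simp)
    have cbc := hl.comm b (by simp) c (by simp)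
    have ha := hl.mem a (by simp); have hb := hl.mem b (by simp); have hc' := hl.mem c (by simp)
    have h3 : Commute x (a * b * c) := by simpa [mul_assoc] using hc
    intro u hu
    simp only [List.mem_cons, List.not_mem_nil, or_false] at hu
    rcases hu with rfl | rfl | rfl
    · exact commute_of_commute_mul3 h ha hb hc' hx cab cac cbc nab nac nbc h3
    · refine commute_of_commute_mul3 h hb ha hc' hx cab.symm cbc cac (Ne.symm nab) nbc nac ?_
      rwa [cab.symm.eq]
    · refine commute_of_commute_mul3 h hc' ha hb hx cac.symm cbc.symm cab (Ne.symm nac) (Ne.symm nbc) nab ?_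
      rwa [show u * a * b = a * b * u by rw [mul_assoc]; exact (cac.symm.mul_right cbc.symm).eq]

theorem IsCList.prod_erase [DecidableEq G] {l : List G} (hl : IsCList D l) {x : G} (hx : x ∈ l) :
    l.prod = x * (l.erase x).prod ∧ (l.erase x).length + 1 = l.length ∧ IsCList D (l.erase x) := by
  refine ⟨?_, ?_, hl.nodup.erase x, fun y hy => hl.mem y (List.mem_of_mem_erase hy),
    fun y hy z hz => hl.comm y (List.mem_of_mem_erase hy) z (List.mem_of_mem_erase hz)⟩
  · rw [(List.perm_cons_erase hx).prod_eq' (List.Pairwise.imp_of_mem (fun p q _ => (hl.comm _ p _ q).eq)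
      (List.pairwise_of_forall (fun _ _ => trivial) (l := l))), List.prod_cons]
  · rw [List.length_erase_of_mem hx]
    have := List.length_pos_of_mem hx
    omega

/-- Products of different lengths differ when there are no short relations. -/
theorem IsCList.prod_ne (h : IsThreeTranspositionSet D) {N : ℕ} (hrel : ∀ n, 1 ≤ n → n ≤ N → NoRel D n)
    {l l' : List G} (hl : IsCList D l) (hl' : IsCList D l') (hcc : ∀ a ∈ l, ∀ b ∈ l', Commute a b)
    (hle : l.length + l'.length ≤ N) (hne : l.length ≠ l'.length) : l.prod ≠ l'.prod := by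
  classical
  induction hk : l.length + l'.length using Nat.strong_induction_on generalizing l l' with
  | _ k ih =>
    intro he
    by_cases hd : ∃ x ∈ l, x ∈ l'
    · obtain ⟨x, hx, hx'⟩ := hd
      obtain ⟨e1, n1, c1⟩ := hl.prod_erase hx
      obtain ⟨e2, n2, c2⟩ := hl'.prod_erase hx'
      refine ih _ (by omega) c1 c2 (fun a ha b hb => hcc a (List.mem_of_mem_erase ha) b (List.mem_of_mem_erase hb))
        (by omega) (by omega) rfl ?_
      rw [e1, e2] at he
      exact mul_left_cancel he
    · push Not at hd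
      refine hrel (l ++ l').length (by rw [List.length_append]; omega) (by rw [List.length_append]; omega) _ ?_
        rfl ?_ ?_ ?_
      · rw [List.nodup_append]
        exact ⟨hl.nodup, hl'.nodup, fun x hx y hy hxy => hd x hx (hxy ▸ hy)⟩
      · intro x hx
        rcases List.mem_append.1 hx with h1 | h1
        exacts [hl.mem x h1, hl'.mem x h1]
      · intro x hx y hy
        rcases List.mem_append.1 hx with h1 | h1 <;> rcases List.mem_append.1 hy with h2 | h2
        exacts [hl.comm x h1 y h2, hcc x h1 y h2, (hcc y h2 x h1).symm, hl'.comm x h1 y h2]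
      · rw [List.prod_append, ← he, hl.prod_mul_self h]

/-- The classification of involutions by the number of factors. -/
def InvolutionClasses (D : Set G) (K : ℕ) : Prop :=
    (∀ x : G, orderOf x = 2 → ∃ m : ℕ, 1 ≤ m ∧ m ≤ K ∧
      (∃ l : List G, l.Nodup ∧ l.length = m ∧ (∀ a ∈ l, a ∈ D) ∧ (∀ a ∈ l, ∀ b ∈ l, Commute a b) ∧ l.prod = x)) ∧
    (∀ m : ℕ, 1 ≤ m → m ≤ K → (∃ x : G, orderOf x = 2 ∧
        (∃ l : List G, l.Nodup ∧ l.length = m ∧ (∀ a ∈ l, a ∈ D) ∧ (∀ a ∈ l, ∀ b ∈ l, Commute a b) ∧ l.prod = x)) ∧
      ∀ x y : G,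
        (∃ l : List G, l.Nodup ∧ l.length = m ∧ (∀ a ∈ l, a ∈ D) ∧ (∀ a ∈ l, ∀ b ∈ l, Commute a b) ∧ l.prod = x) →
        (∃ l : List G, l.Nodup ∧ l.length = m ∧ (∀ a ∈ l, a ∈ D) ∧ (∀ a ∈ l, ∀ b ∈ l, Commute a b) ∧ l.prod = y) →
        IsConj x y) ∧
    ∀ (m m' : ℕ) (x : G), 1 ≤ m → m ≤ K → 1 ≤ m' → m' ≤ K →
      (∃ l : List G, l.Nodup ∧ l.length = m ∧ (∀ a ∈ l, a ∈ D) ∧ (∀ a ∈ l, ∀ b ∈ l, Commute a b) ∧ l.prod = x) →
      (∃ l : List G, l.Nodup ∧ l.length = m' ∧ (∀ a ∈ l, a ∈ D) ∧ (∀ a ∈ l, ∀ b ∈ l, Commute a b) ∧ l.prod = x) →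
      m = m'

/-- The three parts of the classification of involutions, from the facts of a type. -/
theorem involution_classes (h : IsThreeTranspositionSet D) {K : ℕ} (hK : 1 ≤ K ∧ K ≤ 4)
    (hrel : ∀ n, 1 ≤ n → n ≤ K + (K - 1) → NoRel D n)
    (hinv : ∀ x : G, x * x = 1 → x ≠ 1 → ∃ l, 1 ≤ l.length ∧ l.length ≤ K ∧ IsCList D l ∧ l.prod = x)
    (hext : ∀ l, IsCList D l → l.length < K → ∃ a, IsCList D (a :: l))
    (hconj : ∀ l l', IsCList D l → IsCList D l' → l.length = K → l'.length = K →
      ∃ g : G, l.map (MulAut.conj g) = l') :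
    InvolutionClasses D K := by
  have hexists : ∀ m, m ≤ K → ∃ l, IsCList D l ∧ l.length = m := by
    intro m
    induction m with
    | zero => exact fun _ => ⟨[], ⟨List.nodup_nil, by simp, by simp⟩, rfl⟩
    | succ m ih =>
      intro hm
      obtain ⟨l, hl, hlen⟩ := ih (by omega)
      obtain ⟨a, ha⟩ := hext l hl (by omega)
      exact ⟨a :: l, ha, by simp [hlen]⟩
  have hconj' : ∀ k l l', IsCList D l → IsCList D l' → l.length + k = K → l'.length = l.length →
      IsConj l.prod l'.prod ∧ ∃ g : G, l.map (MulAut.conj g) = l' := by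
    intro k
    induction k with
    | zero =>
      intro l l' hl hl' hlen hlen'
      obtain ⟨g, hg⟩ := hconj l l' hl hl' (by omega) (by omega)
      exact ⟨isConj_iff.2 ⟨g, by rw [← hg, ← map_list_prod]; rfl⟩, g, hg⟩
    | succ k ih =>
      intro l l' hl hl' hlen hlen'
      obtain ⟨a, ha⟩ := hext l hl (by omega)
      obtain ⟨a', ha'⟩ := hext l' hl' (by omega)
      obtain ⟨-, g, hg⟩ := ih (a :: l) (a' :: l') ha ha' (by simp; omega) (by simp [hlen'])
      have hg' : l.map (MulAut.conj g) = l' := (List.cons.inj hg).2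
      exact ⟨isConj_iff.2 ⟨g, by rw [← hg', ← map_list_prod]; rfl⟩, g, hg'⟩
  refine ⟨fun x hx => ?_, fun m hm hmK => ⟨?_, ?_⟩, ?_⟩
  · have h1 := orderOf_eq_iff (show 0 < 2 by norm_num) |>.1 hx
    obtain ⟨l, l1, l2, hl, hp⟩ := hinv x (by rw [← pow_two]; exact h1.1)
      (fun h0 => h1.2 1 (by norm_num) (by norm_num) (by rw [h0, one_pow]))
    exact ⟨l.length, l1, l2, l, hl.nodup, rfl, hl.mem, hl.comm, hp⟩
  · obtain ⟨l, hl, hlen⟩ := hexists m hmK
    refine ⟨l.prod, ?_, l, hl.nodup, hlen, hl.mem, hl.comm, rfl⟩
    exact orderOf_eq_prime (by rw [pow_two, hl.prod_mul_self h])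
      (hrel l.length (by omega) (by omega) l hl.nodup rfl hl.mem hl.comm)
  · rintro x y ⟨l, n1, e1, m1, c1, rfl⟩ ⟨l', n2, e2, m2, c2, rfl⟩
    exact (hconj' (K - l.length) l l' ⟨n1, m1, c1⟩ ⟨n2, m2, c2⟩ (by omega) (by omega)).1
  · rintro m m' x hm hmK hm' hmK' ⟨l, n1, e1, m1, c1, rfl⟩ ⟨l', n2, e2, m2, c2, he⟩
    by_contra hne
    have hl : IsCList D l := ⟨n1, m1, c1⟩
    have hl' : IsCList D l' := ⟨n2, m2, c2⟩
    have hcc : ∀ a ∈ l, ∀ b ∈ l', Commute a b := by
      rcases Nat.lt_or_gt_of_ne hne with h1 | h1
      · intro a ha b hb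
        refine (hl.commute_each h (by omega) (m2 b hb) ?_ a ha).symm
        rw [← he]
        exact Commute.list_prod_right _ _ fun y hy => c2 b hb y hy
      · intro a ha b hb
        refine hl'.commute_each h (by omega) (m1 a ha) ?_ b hb
        rw [he]
        exact Commute.list_prod_right _ _ fun y hy => c1 a ha y hy
    exact hl.prod_ne h hrel hl' hcc (by omega) (by omega) he.symm

theorem isCList_cons {a : G} {t : List G} (ha : a ∈ D) (ht : IsCList D t) (h : ∀ b ∈ t, b ∈ perp D a) :
    IsCList D (a :: t) := by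
  refine ⟨List.nodup_cons.2 ⟨fun h0 => (h a h0).2.1 rfl, ht.nodup⟩, ?_, ?_⟩
  · intro x hx
    rcases List.mem_cons.1 hx with h0 | h0
    exacts [h0 ▸ ha, ht.mem x h0]
  · intro x hx y hy
    rcases List.mem_cons.1 hx with h0 | h0 <;> rcases List.mem_cons.1 hy with h1 | h1
    · rw [h0, h1]
    · rw [h0]; exact (h y h1).2.2
    · rw [h1]; exact (h x h0).2.2.symm
    · exact ht.comm x h0 y h1

theorem noRel_one (h : IsThreeTranspositionSet D) : NoRel D 1 := fun l _ hlen hD _ hp => by
  obtain ⟨a, rfl⟩ := List.length_eq_one_iff.1 hlen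
  exact ne_one h (hD a (by simp)) (by simpa using hp)

theorem noRel_two (h : IsThreeTranspositionSet D) : NoRel D 2 := fun l hnd hlen hD _ hp => by
  obtain ⟨a, b, rfl⟩ := List.length_eq_two.1 hlen
  simp only [List.prod_cons, List.prod_nil, mul_one] at hp
  rw [mul_eq_one_iff_eq_inv, inv_eq h (hD b (by simp))] at hp
  exact (List.nodup_cons.1 hnd).1 (by simp [hp])

theorem isCList_pair {a b : G} (ha : a ∈ D) (hb : b ∈ perp D a) : IsCList D [a, b] :=
  isCList_cons ha ⟨by simp, by simp [hb.1], by simp⟩ (by simp only [List.forall_mem_cons, List.not_mem_nil, false_implies, implies_true, and_true]; exact hb)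

theorem isCList_triple {a b c : G} (ha : a ∈ D) (hb : b ∈ perp D a) (hc : c ∈ perp D a) (hbc : c ∈ perp D b) :
    IsCList D [a, b, c] :=
  isCList_cons ha (isCList_pair hb.1 hbc) (by simp only [List.forall_mem_cons, List.not_mem_nil, false_implies, implies_true, and_true]; exact ⟨hb, hc⟩)

variable [Finite G]

/-- The classes of involutions in type M(22). -/
theorem involution_classes22 (h : IsThreeTranspositionGroup D) (hp : IsPrimitiveUnderConj D)
    (h22 : IsOfTypeM22 G D) : InvolutionClasses D 3 :=
  involution_classes h.1 (K := 3) ⟨by norm_num, by norm_num⟩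
    (fun n h1 h5 => by
      have hnt := noTwins_of_primitive h h22.1 hp
      have hnc : NoCentral D := fun a ha => by
        obtain ⟨M⟩ := exists_perpModel h h22 ha
        by_contra hall
        push Not at hall
        obtain ⟨b, hb, c, hc, hbc⟩ := hp.2.1
        have : a ∈ Subgroup.center G := Subgroup.mem_center_iff.2 fun g => by
          have hg : g ∈ Subgroup.centralizer ({a} : Set G) :=
            (h.2.2 ▸ (Subgroup.closure_le _).2 fun x hx =>
              Subgroup.mem_centralizer_singleton_iff.2 (hall x hx).eq : (⊤ : Subgroup G) ≤ _) (Subgroup.mem_top g)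
          exact Subgroup.mem_centralizer_singleton_iff.1 hg
        rw [h22.1] at this
        exact ne_one h.1 ha this
      interval_cases n
      exacts [noRel_one h.1, noRel_two h.1, noRel_three h.1 hnc, noRel_four h.1 hnt,
        noRel_five_of_M22 psu62Facts h h22])
    (fun x hx hx1 => by
      rcases involution_eq_prod h hp h22 hx hx1 with h0 | ⟨a, b, ha, hb, rfl⟩ |
        ⟨a, b, c, ha, hb, hc, hbc, rfl⟩
      · exact ⟨[x], by simp, by simp, ⟨by simp, by simp [h0], by simp⟩, by simp⟩
      · exact ⟨[a, b], by simp, by simp, isCList_pair ha hb, by simp⟩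
      · exact ⟨[a, b, c], by simp, by simp, isCList_triple ha hb hc hbc, by simp [mul_assoc]⟩)
    (fun l hl hlen => by
      match l, hlen with
      | [], _ =>
        obtain ⟨a, ha, -⟩ := hp.2.1
        exact ⟨a, ⟨by simp, by simp [ha], by simp⟩⟩
      | [a], _ =>
        have ha := hl.mem a (by simp)
        obtain ⟨M⟩ := exists_perpModel h h22 ha
        obtain ⟨b, hb⟩ : (perp D a).Nonempty := Set.nonempty_of_ncard_ne_zero (by rw [M.ncard_perp]; norm_num)
        exact ⟨b, isCList_pair hb.1 (perp_symm ha hb)⟩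
      | [a, b], _ =>
        have ha := hl.mem a (by simp)
        have hb : b ∈ perp D a := hl.perp (by simp)
        obtain ⟨M⟩ := exists_perpModel h h22 ha
        obtain ⟨c, hc⟩ : (perp D a ∩ perp D b).Nonempty :=
          Set.nonempty_of_ncard_ne_zero (by rw [M.ncard_perp_perp hb]; norm_num)
        exact ⟨c, isCList_cons hc.1.1 hl (by simp only [List.forall_mem_cons, List.not_mem_nil, false_implies, implies_true, and_true]; exact ⟨perp_symm ha hc.1, perp_symm hb.1 hc.2⟩)⟩)
    (fun l l' hl hl' hlen hlen' => by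
      obtain ⟨a, b, c, rfl⟩ := List.length_eq_three.1 hlen
      obtain ⟨a', b', c', rfl⟩ := List.length_eq_three.1 hlen'
      obtain ⟨g, g1, g2, g3⟩ := exists_conj_triple h h22 (hl.mem a (by simp)) (hl.perp (b := b) (by simp))
        (hl.perp (b := c) (by simp)) (hl.of_cons.perp (b := c) (by simp)) (hl'.mem a' (by simp))
        (hl'.perp (b := b') (by simp)) (hl'.perp (b := c') (by simp)) (hl'.of_cons.perp (b := c') (by simp))
      exact ⟨g, by simp [g1, g2, g3]⟩)

/-- The classes of involutions in type M(23). -/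
theorem involution_classes23 (H : M23.Hyp G D) : InvolutionClasses D 3 :=
  involution_classes H.group.1 (K := 3) ⟨by norm_num, by norm_num⟩
    (fun n h1 h5 => by
      obtain ⟨d₀, hd₀, hN, hnc, -, -⟩ := nice_of_isOfTypeM23 psu62Facts H.group H.type
      have hnc : NoCentral D := fun a ha => by
        by_contra hall
        push Not at hall
        have : a ∈ Subgroup.center G := Subgroup.mem_center_iff.2 fun g => by
          have hg : g ∈ Subgroup.centralizer ({a} : Set G) :=
            (H.group.2.2 ▸ (Subgroup.closure_le _).2 fun x hx =>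
              Subgroup.mem_centralizer_singleton_iff.2 (hall x hx).eq : (⊤ : Subgroup G) ≤ _) (Subgroup.mem_top g)
          exact Subgroup.mem_centralizer_singleton_iff.1 hg
        rw [H.type.1] at this
        exact ne_one H.group.1 ha this
      interval_cases n
      exacts [noRel_one H.group.1, noRel_two H.group.1, noRel_three H.group.1 hnc,
        noRel_four H.group.1 hN.noTwins, (noRel_of_M23 psu62Facts H.group H.type).1])
    (fun x hx hx1 => by
      rcases M23.involution_eq_prod H hx hx1 with h0 | ⟨a, b, ha, hb, rfl⟩ |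
        ⟨a, b, c, ha, hb, hc, hbc, rfl⟩
      · exact ⟨[x], by simp, by simp, ⟨by simp, by simp [h0], by simp⟩, by simp⟩
      · exact ⟨[a, b], by simp, by simp, isCList_pair ha hb, by simp⟩
      · exact ⟨[a, b, c], by simp, by simp, isCList_triple ha hb hc hbc, by simp [mul_assoc]⟩)
    (fun l hl hlen => by
      match l, hlen with
      | [], _ =>
        obtain ⟨a, ha, -⟩ := H.prim.2.1
        exact ⟨a, ⟨by simp, by simp [ha], by simp⟩⟩
      | [a], _ =>
        have ha := hl.mem a (by simp)
        obtain ⟨b, hb⟩ : (perp D a).Nonempty :=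
          Set.nonempty_of_ncard_ne_zero (by rw [M23.ncard_perp H ha]; norm_num)
        exact ⟨b, isCList_pair hb.1 (perp_symm ha hb)⟩
      | [a, b], _ =>
        have ha := hl.mem a (by simp)
        have hb : b ∈ perp D a := hl.perp (by simp)
        obtain ⟨c, hc⟩ : (perp D a ∩ perp D b).Nonempty :=
          Set.nonempty_of_ncard_ne_zero (by rw [M23.ncard_perp_perp H ha hb]; norm_num)
        exact ⟨c, isCList_cons hc.1.1 hl (by simp only [List.forall_mem_cons, List.not_mem_nil, false_implies, implies_true, and_true]; exact ⟨perp_symm ha hc.1, perp_symm hb.1 hc.2⟩)⟩)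
    (fun l l' hl hl' hlen hlen' => by
      have tr : ∀ {k : List G}, IsCList D k → k.length = 3 → ∃ v : Fin 3 → G, Function.Injective v ∧
          (∀ i, v i ∈ D) ∧ (∀ i j, Commute (v i) (v j)) ∧ k = List.ofFn v := fun {k} hk hk3 => by
        refine ⟨fun i => k.get (i.cast hk3.symm), fun i j hij => ?_, fun i => hk.mem _ (List.get_mem _ _),
          fun i j => hk.comm _ (List.get_mem _ _) _ (List.get_mem _ _), ?_⟩
        · exact Fin.cast_injective _ (hk.nodup.injective_get hij)
        · exact List.ext_get (by simp [hk3]) (fun i h1 h2 => by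
            have h3 : i < 3 := hk3 ▸ h1
            interval_cases i <;> simp)
      obtain ⟨v, v1, v2, v3, rfl⟩ := tr hl hlen
      obtain ⟨w, w1, w2, w3, rfl⟩ := tr hl' hlen'
      obtain ⟨g, hg⟩ := exists_conj_triple23 psu62Facts H.group H.type v1 w1 v2 w2 v3 w3
      exact ⟨g, by rw [List.map_ofFn]; exact congrArg List.ofFn (funext hg)⟩)

/-- The classes of involutions in type M(24). -/
theorem involution_classes24 (H : M24.Hyp G D) : InvolutionClasses D 4 :=
  involution_classes H.group.1 (K := 4) ⟨by norm_num, le_rfl⟩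
    (fun n h1 h5 => by
      have hnt := noTwins_of_primitive H.group H.type.1 H.prim
      obtain ⟨d, hd, -⟩ := H.prim.2.1
      have hQ := M24.quot H hd
      have hsc := fun a ha => H.prim.1 a ha d hd
      obtain ⟨d₁, hd₁, hN, -, -, -⟩ := nice_of_isOfTypeM23 psu62Facts hQ.group hQ.type
      have hnc : NoCentral D := fun a ha => by
        by_contra hall
        push Not at hall
        have : a ∈ Subgroup.center G := Subgroup.mem_center_iff.2 fun g => by
          have hg : g ∈ Subgroup.centralizer ({a} : Set G) :=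
            (H.group.2.2 ▸ (Subgroup.closure_le _).2 fun x hx =>
              Subgroup.mem_centralizer_singleton_iff.2 (hall x hx).eq : (⊤ : Subgroup G) ≤ _) (Subgroup.mem_top g)
          exact Subgroup.mem_centralizer_singleton_iff.1 hg
        rw [H.type.1] at this
        exact ne_one H.group.1 ha this
      interval_cases n
      exacts [noRel_one H.group.1, noRel_two H.group.1, noRel_three H.group.1 hnc, noRel_four H.group.1 hnt,
        noRel_succ H.group hd hsc (M24.noCentral H hd) (noRel_four hQ.group.1 hN.noTwins),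
        noRel_six_of_M24 psu62Facts H.group H.prim H.type,
        noRel_succ H.group hd hsc (M24.noCentral H hd) (M23.noRel_of_quot hQ)])
    (fun x hx hx1 => by
      rcases M24.involution_eq_prod H hx hx1 with h0 | ⟨a, b, ha, hb, rfl⟩ |
        ⟨a, b, c, ha, hb, hc, hbc, rfl⟩ | ⟨z, a, b, c, hz, ha, hb, hc, hab, hac, hbc, rfl⟩
      · exact ⟨[x], by simp, by simp, ⟨by simp, by simp [h0], by simp⟩, by simp⟩
      · exact ⟨[a, b], by simp, by simp, isCList_pair ha hb, by simp⟩
      · exact ⟨[a, b, c], by simp, by simp, isCList_triple ha hb hc hbc, by simp [mul_assoc]⟩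
      · exact ⟨[z, a, b, c], by simp, by simp,
          isCList_cons hz (isCList_triple ha.1 hab hac hbc) (by simp only [List.forall_mem_cons, List.not_mem_nil, false_implies, implies_true, and_true]; exact ⟨ha, hb, hc⟩), by simp [mul_assoc]⟩)
    (fun l hl hlen => by
      match l, hlen with
      | [], _ =>
        obtain ⟨a, ha, -⟩ := H.prim.2.1
        exact ⟨a, ⟨by simp, by simp [ha], by simp⟩⟩
      | [a], _ =>
        have ha := hl.mem a (by simp)
        obtain ⟨b, hb⟩ := M24.perp_nonempty H ha
        exact ⟨b, isCList_pair hb.1 (perp_symm ha hb)⟩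
      | [a, b], _ =>
        have ha := hl.mem a (by simp)
        have hb : b ∈ perp D a := hl.perp (by simp)
        obtain ⟨c, hc⟩ : (perp D a ∩ perp D b).Nonempty :=
          Set.nonempty_of_ncard_ne_zero (by rw [M24.ncard_perp_perp H ha hb]; norm_num)
        exact ⟨c, isCList_cons hc.1.1 hl (by simp only [List.forall_mem_cons, List.not_mem_nil, false_implies, implies_true, and_true]; exact ⟨perp_symm ha hc.1, perp_symm hb.1 hc.2⟩)⟩
      | [a, b, c], _ =>
        have ha := hl.mem a (by simp)
        have hb : b ∈ perp D a := hl.perp (by simp)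
        have hc : c ∈ perp D a := hl.perp (by simp)
        have hbc : c ∈ perp D b := hl.of_cons.perp (by simp)
        obtain ⟨e, he⟩ : (perp D a ∩ (perp D b ∩ perp D c)).Nonempty :=
          Set.nonempty_of_ncard_ne_zero (by
            rw [M24.ncard_perp_commute H ha hb hc hbc.2.1.symm hbc.2.2]; norm_num)
        exact ⟨e, isCList_cons he.1.1 hl
          (by simp only [List.forall_mem_cons, List.not_mem_nil, false_implies, implies_true, and_true]; exact ⟨perp_symm ha he.1, perp_symm hb.1 he.2.1, perp_symm hc.1 he.2.2⟩)⟩)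
    (fun l l' hl hl' hlen hlen' => by
      obtain ⟨a, t, rfl⟩ := List.exists_cons_of_length_eq_add_one hlen
      obtain ⟨a', t', rfl⟩ := List.exists_cons_of_length_eq_add_one hlen'
      obtain ⟨b, c, e, rfl⟩ := List.length_eq_three.1 (show t.length = 3 by simpa using hlen)
      obtain ⟨b', c', e', rfl⟩ := List.length_eq_three.1 (show t'.length = 3 by simpa using hlen')
      obtain ⟨g, g0, g1, g2, g3⟩ := M24.exists_conj_quad H (hl.mem a (by simp)) (hl.perp (b := b) (by simp))
        (hl.perp (b := c) (by simp)) (hl.perp (b := e) (by simp)) (hl.of_cons.perp (b := c) (by simp))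
        (hl.of_cons.perp (b := e) (by simp)) (hl.of_cons.of_cons.perp (b := e) (by simp))
        (hl'.mem a' (by simp)) (hl'.perp (b := b') (by simp)) (hl'.perp (b := c') (by simp))
        (hl'.perp (b := e') (by simp)) (hl'.of_cons.perp (b := c') (by simp))
        (hl'.of_cons.perp (b := e') (by simp)) (hl'.of_cons.of_cons.perp (b := e') (by simp))
      exact ⟨g, by simp [g0, g1, g2, g3]⟩)

end CfsgLib.FischerTypes
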