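import Cfsg.Agent.Forms4.OmegaSixMinus
import Cfsg.Agent.Forms4.POmegaOrders
import Cfsg.Agent.AutPSU.AutOrder
import Cfsg.Prelude.Def_Classical

/-!
# The automorphism group of `PSU(4,2)` is the orthogonal group `O⁻(6,2)`
-/

set_option autoImplicit false
set_option linter.style.haveILetI false
set_option maxHeartbeats 800000

namespace CfsgLib.FischerTypes

open Cfsg
open scoped Matrix

/-- The form of minus type in dimension six over the field of two elements. -/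
abbrev qSix : ((Fin 2 ⊕ Fin 2) ⊕ Fin 2 → ZMod 2) → ZMod 2 := quadFormMinus 2 (ZMod 2) 1 1

/-- The polar form of `qSix`. -/
def bSix (u v : (Fin 2 ⊕ Fin 2) ⊕ Fin 2 → ZMod 2) : ZMod 2 := qSix (u + v) - qSix u - qSix v

/-- The matrix of the transvection along `v`. -/
def rSix (v : (Fin 2 ⊕ Fin 2) ⊕ Fin 2 → ZMod 2) :
    Matrix ((Fin 2 ⊕ Fin 2) ⊕ Fin 2) ((Fin 2 ⊕ Fin 2) ⊕ Fin 2) (ZMod 2) :=
  Matrix.of fun i j => (Pi.single j 1 : (Fin 2 ⊕ Fin 2) ⊕ Fin 2 → ZMod 2) i + bSix (Pi.single j 1) v * v i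

/-- Six vectors of norm one spanning the space. -/
def nonsingSix : ((Fin 2 ⊕ Fin 2) ⊕ Fin 2) → (Fin 2 ⊕ Fin 2) ⊕ Fin 2 → ZMod 2
  | .inl i => Pi.single (.inl i) 1 + Pi.single (.inr 0) 1
  | .inr j => Pi.single (.inr j) 1

theorem rSix_facts (k : (Fin 2 ⊕ Fin 2) ⊕ Fin 2) :
    rSix (nonsingSix k) * rSix (nonsingSix k) = 1 ∧
      (∀ x, rSix (nonsingSix k) *ᵥ x = x + bSix x (nonsingSix k) • nonsingSix k) ∧
      (∀ x, qSix (x + bSix x (nonsingSix k) • nonsingSix k) = qSix x) ∧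
      nonsingSix k ≠ 0 := by
  revert k
  decide +kernel

theorem nonsingSix_bilin (k : (Fin 2 ⊕ Fin 2) ⊕ Fin 2) : ∃ x, bSix x (nonsingSix k) = 1 := by
  revert k
  decide +kernel

theorem eq_one_of_fix_nonsingSix {M : Matrix ((Fin 2 ⊕ Fin 2) ⊕ Fin 2) ((Fin 2 ⊕ Fin 2) ⊕ Fin 2) (ZMod 2)}
    (h : ∀ k, M *ᵥ nonsingSix k = nonsingSix k) : M = 1 := by
  have hr : ∀ j : Fin 2, M *ᵥ (Pi.single (.inr j) 1) = Pi.single (.inr j) 1 := fun j => h (.inr j)
  have hall : ∀ i, M *ᵥ (Pi.single i 1) = Pi.single i 1 := by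
    rintro (i | j)
    · have h1 : M *ᵥ (Pi.single (.inl i) 1 + Pi.single (.inr 0) 1) =
          Pi.single (.inl i) 1 + Pi.single (.inr 0) 1 := h (.inl i)
      rw [Matrix.mulVec_add, hr 0] at h1
      exact add_right_cancel h1
    · exact hr j
  ext i j
  have h1 := congrFun (hall j) i
  rw [Matrix.mulVec_single_one] at h1
  rw [Matrix.one_apply]
  simpa [Pi.single_apply] using h1

theorem center_isometryGroup_six :
    Subgroup.center ↥(Cfsg.isometryGroup (ZMod 2) qSix) = ⊥ := by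
  rw [eq_bot_iff]
  intro t ht
  rw [Subgroup.mem_bot]
  refine Subtype.ext (Units.ext (eq_one_of_fix_nonsingSix fun k => ?_))
  obtain ⟨f1, f2, f3, f4⟩ := rSix_facts k
  obtain ⟨x, hx⟩ := nonsingSix_bilin k
  let r : GL ((Fin 2 ⊕ Fin 2) ⊕ Fin 2) (ZMod 2) := ⟨rSix (nonsingSix k), rSix (nonsingSix k), f1, f1⟩
  have hr : r ∈ Cfsg.isometryGroup (ZMod 2) qSix := fun u _ => by
    show qSix (rSix (nonsingSix k) *ᵥ u) = qSix u
    rw [f2, f3]
  set T : Matrix ((Fin 2 ⊕ Fin 2) ⊕ Fin 2) ((Fin 2 ⊕ Fin 2) ⊕ Fin 2) (ZMod 2) := Units.val (t : GL ((Fin 2 ⊕ Fin 2) ⊕ Fin 2) (ZMod 2))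
  have hc : rSix (nonsingSix k) * T = T * rSix (nonsingSix k) :=
    congrArg (fun z : ↥(Cfsg.isometryGroup (ZMod 2) qSix) => Units.val (z : GL ((Fin 2 ⊕ Fin 2) ⊕ Fin 2) (ZMod 2)))
      (Subgroup.mem_center_iff.1 ht ⟨r, hr⟩)
  have h1 := congrArg (fun M : Matrix _ _ (ZMod 2) => M *ᵥ x) hc
  simp only [← Matrix.mulVec_mulVec, f2, hx, one_smul, Matrix.mulVec_add] at h1
  have h2 : bSix (T *ᵥ x) (nonsingSix k) • nonsingSix k = T *ᵥ nonsingSix k := add_left_cancel h1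
  rcases (by decide : ∀ c : ZMod 2, c = 0 ∨ c = 1) (bSix (T *ᵥ x) (nonsingSix k)) with e | e
  · rw [e, zero_smul] at h2
    exfalso
    refine f4 ?_
    have hi : (↑(t : GL ((Fin 2 ⊕ Fin 2) ⊕ Fin 2) (ZMod 2))⁻¹ : Matrix _ _ (ZMod 2)) * T = 1 :=
      Units.inv_mul _
    rw [← Matrix.one_mulVec (nonsingSix k), ← hi, ← Matrix.mulVec_mulVec, ← h2, Matrix.mulVec_zero]
  · rw [e, one_smul] at h2
    exact h2.symm

theorem card_isometryGroup_minus_six : Nat.card ↥(Cfsg.isometryGroup (ZMod 2) qSix) = 51840 := by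
  have h := CfsgLib.Forms4.card_isometryGroup_quadFormMinus (F := ZMod 2) (q := 2) (ZMod.card 2) 3 (by norm_num)
    1 1 (by decide)
  simp [Finset.prod_range_succ] at h
  exact h

/-- A monoid isomorphism induced on automorphism groups by conjugation, from a group of index two. -/
theorem nonempty_aut_psu_four_equiv {F : Type} [Field F] [Fintype F] (hF : Fintype.card F = 4)
    (hS : Nat.card (Cfsg.PSU 4 F 2) = 25920) (hA : Nat.card (MulAut (Cfsg.PSU 4 F 2)) = 51840) :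
    Nonempty (MulAut (Cfsg.PSU 4 F 2) ≃* ↥(Cfsg.isometryGroup (ZMod 2) qSix)) := by
  set O := Cfsg.isometryGroup (ZMod 2) qSix
  obtain ⟨e⟩ := CfsgLib.Forms4.nonempty_pOmega_six_minus_equiv (F := ZMod 2) (K := F) (q := 2) (ZMod.card 2)
    (by rw [hF]; norm_num) 1 1 (by decide)
  have hO : Nat.card ↥O = 51840 := card_isometryGroup_minus_six
  set W : Subgroup ↥O := commutator ↥O
  have hW : Nat.card ↥W = 25920 * Nat.card ↥(Subgroup.center ↥W) := by
    rw [Subgroup.card_eq_card_quotient_mul_card_subgroup (Subgroup.center ↥W), ← hS,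
      ← Nat.card_congr e.toEquiv]
  have hWle : Nat.card ↥W ∣ 51840 := hO ▸ W.card_subgroup_dvd_card
  have hcW : Subgroup.center ↥W = ⊥ := by
    by_contra hne
    have h1 : 1 < Nat.card ↥(Subgroup.center ↥W) := Subgroup.one_lt_card_iff_ne_bot _ |>.2 hne
    rw [hW] at hWle
    have h2 : Nat.card ↥(Subgroup.center ↥W) ≤ 2 := by
      have := Nat.le_of_dvd (by norm_num) hWle
      omega
    have h3 : W = ⊤ := Subgroup.eq_top_of_card_eq _ (by rw [hW, hO]; omega)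
    obtain ⟨⟨z, hz⟩, hz1⟩ := Subgroup.ne_bot_iff_exists_ne_one.1 hne
    have hzO : (z : ↥O) ∈ Subgroup.center ↥O := Subgroup.mem_center_iff.2 fun g =>
      congrArg Subtype.val (Subgroup.mem_center_iff.1 hz ⟨g, h3 ▸ Subgroup.mem_top g⟩)
    rw [center_isometryGroup_six, Subgroup.mem_bot] at hzO
    exact hz1 (Subtype.ext (Subtype.ext hzO))
  have hWcard : Nat.card ↥W = 25920 := by rw [hW, hcW, Subgroup.card_bot, mul_one]
  have hWidx : W.index = 2 := by
    have h1 := W.card_mul_index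
    rw [hWcard, hO] at h1
    omega
  have : W.Normal := inferInstance
  let φ : ↥O →* MulAut ↥W := MulAut.conjNormal
  have hker : φ.ker = ⊥ := by
    have hmem : ∀ {k : ↥O}, k ∈ φ.ker → ∀ w ∈ W, k * w = w * k := by
      intro k hk w hw
      have h1 := congrArg (fun a : MulAut ↥W => ((a ⟨w, hw⟩ : ↥W) : ↥O)) hk
      simp only [φ, MulAut.conjNormal_apply, MulAut.one_apply] at h1
      exact mul_inv_eq_iff_eq_mul.1 h1
    rw [eq_bot_iff]
    intro k hk
    have hkW : k ∈ W → k = 1 := fun h0 => by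
      have h1 : (⟨k, h0⟩ : ↥W) ∈ Subgroup.center ↥W :=
        Subgroup.mem_center_iff.2 fun g => Subtype.ext (hmem hk g g.2).symm
      rw [hcW, Subgroup.mem_bot] at h1
      exact congrArg Subtype.val h1
    rw [← center_isometryGroup_six]
    refine Subgroup.mem_center_iff.2 fun g => ?_
    have h2 : g * k * g⁻¹ * k⁻¹ ∈ φ.ker := φ.ker.mul_mem (φ.normal_ker.conj_mem k hk g) (φ.ker.inv_mem hk)
    have h3 : g * k * g⁻¹ * k⁻¹ ∈ W := Subgroup.commutator_mem_commutator (Subgroup.mem_top g) (Subgroup.mem_top k)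
    have h4 : g * k * g⁻¹ * k⁻¹ = 1 := by
      have h5 : (⟨_, h3⟩ : ↥W) ∈ Subgroup.center ↥W :=
        Subgroup.mem_center_iff.2 fun w => Subtype.ext (hmem h2 w w.2).symm
      rw [hcW, Subgroup.mem_bot] at h5
      exact congrArg Subtype.val h5
    rw [mul_inv_eq_one, mul_inv_eq_iff_eq_mul] at h4
    exact h4
  let eW : ↥W ≃* Cfsg.PSU 4 F 2 :=
    ((QuotientGroup.quotientBot (G := ↥W)).symm.trans (QuotientGroup.quotientMulEquivOfEq hcW.symm)).trans e
  let ψ : ↥O →* MulAut (Cfsg.PSU 4 F 2) := (MulAut.congr eW).toMonoidHom.comp φ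
  have hinj : Function.Injective ψ :=
    (MulAut.congr eW).injective.comp ((MonoidHom.ker_eq_bot_iff φ).1 hker)
  have : Finite (MulAut (Cfsg.PSU 4 F 2)) := Nat.finite_of_card_ne_zero (by omega)
  exact ⟨(MulEquiv.ofBijective ψ ((Nat.bijective_iff_injective_and_card _).2 ⟨hinj, hO.trans hA.symm⟩)).symm⟩

end CfsgLib.FischerTypes
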