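import Cfsg.Agent.FischerTypes.M22PairCent
import Cfsg.Agent.FischerTypes.InvolutionClasses
import Cfsg.Agent.FischerTypes.M22FiveClass
import Cfsg.Agent.FischerTypes.OrthSixMinus
import Cfsg.Agent.LargeExtraspecial.Quotient
import Cfsg.Agent.Components.PLocal
import Cfsg.Agent.LargeExtraspecial.Simplicity
import Cfsg.Agent.Transpositions.Classes

/-!
# The generalized Fitting subgroup of the centralizer of `d₁ d₂` in type M(22)
-/

set_option autoImplicit false
set_option linter.style.haveILetI false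
set_option maxHeartbeats 1000000

namespace CfsgLib.FischerTypes

open Cfsg CfsgLib.U62 CfsgLib.RepBounds.Unit

theorem normal_eq_bot_or_inn_le {S : Type*} [Group S] [IsSimpleGroup S] {x y : S} (hxy : x * y ≠ y * x)
    (N : Subgroup (MulAut S)) [N.Normal] : N = ⊥ ∨ (MulAut.conj (G := S)).range ≤ N := by
  have hcen : Subgroup.center S = ⊥ := by
    rcases (inferInstance : (Subgroup.center S).Normal).eq_bot_or_eq_top with h | h
    · exact h
    · exact absurd (Subgroup.mem_center_iff.1 (h ▸ Subgroup.mem_top y : y ∈ Subgroup.center S) x) hxy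
  have hinj : Function.Injective (MulAut.conj (G := S)) := by
    rw [← MonoidHom.ker_eq_bot_iff, eq_bot_iff, ← hcen]
    intro s hs
    refine Subgroup.mem_center_iff.2 fun g => ?_
    have h1 := DFunLike.congr_fun (MonoidHom.mem_ker.1 hs) g
    simp only [MulAut.conj_apply, MulAut.one_apply] at h1
    exact (mul_inv_eq_iff_eq_mul.1 h1).symm
  rcases (inferInstance : (N.comap (MulAut.conj (G := S))).Normal).eq_bot_or_eq_top with h | h
  · left
    rw [eq_bot_iff]
    intro n hn
    rw [Subgroup.mem_bot]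
    refine MulEquiv.ext fun s => ?_
    have h1 : n * MulAut.conj s * n⁻¹ * (MulAut.conj s)⁻¹ ∈ N := by
      rw [mul_assoc n, mul_assoc n]
      exact mul_mem hn ((inferInstance : N.Normal).conj_mem _ (inv_mem hn) _)
    have e1 : n * MulAut.conj s * n⁻¹ = MulAut.conj (n s) :=
      MulEquiv.ext fun g => by simp [MulAut.mul_apply]
    have h2 : n s * s⁻¹ ∈ N.comap (MulAut.conj (G := S)) := by
      rw [Subgroup.mem_comap, map_mul, map_inv, ← e1]
      exact h1
    rw [h, Subgroup.mem_bot, mul_inv_eq_one] at h2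
    exact h2
  · right
    rintro _ ⟨s, rfl⟩
    exact Subgroup.mem_comap.1 (h ▸ Subgroup.mem_top s)

theorem bar_congr {G : Type*} [Group G] {D : Set G} {d x y : G} (he : x = y) (hx : x ∈ perp D d)
    (hy : y ∈ perp D d) : bar hx = bar hy := by subst he; rfl

/-- A group of order `2^10` with central `z`, `d` as below is a product of a group of order two with an
extraspecial group. -/
theorem exists_two_prod {G : Type*} [Group G] [Finite G] {E : Subgroup G} {z d : G}
    (hE : Nat.card E = 1024) (hz1 : z ≠ 1) (hz2 : z * z = 1) (hd2 : d * d = 1) (hdz : d ≠ z) (hd1 : d ≠ 1)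
    (hzE : z ∈ E) (hdE : d ∈ E) (hcen : ∀ x ∈ E, Commute x d ∧ Commute x z)
    (hcomm : ∀ u ∈ E, ∀ x ∈ E, u * x * u⁻¹ * x⁻¹ ∈ ({1, z} : Set G)) (hsq : ∀ u ∈ E, u * u ∈ ({1, z} : Set G))
    (hZ : ∀ x ∈ E, (∀ u ∈ E, u * x = x * u) → x = 1 ∨ x = d ∨ x = z ∨ x = d * z) :
    ∃ (X : Type) (_ : Group X) (_ : Finite X), IsExtraspecial 2 X ∧ Nat.card X = 2 ^ 9 ∧
      Nonempty (↥E ≃* Multiplicative (ZMod 2) × X) := by
  classical
  have : Fact (Nat.Prime 2) := ⟨Nat.prime_two⟩
  have hdz' : d ∉ Subgroup.zpowers z := by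
    intro hm
    obtain ⟨n, hn⟩ := Subgroup.mem_zpowers_iff.1 hm
    rw [← zpow_mod_orderOf, orderOf_eq_prime (by rw [pow_two, hz2]) hz1] at hn
    rcases Int.emod_two_eq_zero_or_one n with e | e <;> simp [e] at hn
    exacts [hd1 hn.symm, hdz hn.symm]
  obtain ⟨X, ⟨hXE, hzX, hdX⟩, hmax⟩ := ({X : Subgroup G | X ≤ E ∧ z ∈ X ∧ d ∉ X}).toFinite.exists_maximal
    ⟨Subgroup.zpowers z, Subgroup.zpowers_le.2 hzE, Subgroup.mem_zpowers z, hdz'⟩
  have hT : ∀ {a}, a ∈ ({1, z} : Set G) → a ∈ X := by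
    rintro a (rfl | rfl)
    exacts [one_mem _, hzX]
  have hnorm : ∀ a ∈ E, ∀ x ∈ X, a * x * a⁻¹ ∈ X := fun a ha x hx => by
    have := mul_mem (hT (hcomm a ha x (hXE hx))) hx
    rwa [inv_mul_cancel_right] at this
  have hdec : ∀ a ∈ E, a ∈ X ∨ d * a ∈ X := by
    intro a ha
    by_cases haX : a ∈ X
    · exact Or.inl haX
    right
    let Y : Subgroup G :=
      { carrier := {y | y ∈ X ∨ a * y ∈ X}
        mul_mem' := by
          rintro u v (hu | hu) (hv | hv)
          · exact Or.inl (mul_mem hu hv)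
          · right
            have := mul_mem (hnorm a ha u hu) hv
            rwa [mul_assoc, inv_mul_cancel_left, mul_assoc] at this
          · right
            have := mul_mem hu hv
            rwa [mul_assoc] at this
          · left
            have haa : a * a ∈ X := hT (hsq a ha)
            have h1 : u * a ∈ X := by
              have := hnorm a⁻¹ (inv_mem ha) _ hu
              rwa [inv_inv, inv_mul_cancel_left] at this
            have h2 : u * (a * a) * v = u * a * (a * v) := by group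
            have h3 := mul_mem h1 hv
            rw [← h2] at h3
            have h4 : (u * (a * a) * u⁻¹) ∈ X := by
              have hu' : u ∈ E := by
                have := mul_mem (inv_mem ha) (hXE hu)
                rwa [inv_mul_cancel_left] at this
              exact hnorm u hu' _ haa
            have h5 := mul_mem (inv_mem h4) h3
            rwa [show (u * (a * a) * u⁻¹)⁻¹ * (u * (a * a) * v) = u * v by group] at h5
        one_mem' := Or.inl (one_mem _)
        inv_mem' := by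
          rintro u (hu | hu)
          · exact Or.inl (inv_mem hu)
          · right
            have h1 : u⁻¹ * a⁻¹ ∈ X := by simpa using inv_mem hu
            have h2 := mul_mem (hnorm a ha _ h1) (hT (hsq a ha))
            rwa [show a * (u⁻¹ * a⁻¹) * a⁻¹ * (a * a) = a * u⁻¹ by group] at h2 }
    have haY : a⁻¹ ∈ Y := Or.inr (by rw [mul_inv_cancel]; exact one_mem _)
    have hXY : X ≤ Y := fun x hx => Or.inl hx
    by_contra hcon
    have hYE : Y ≤ E := by
      rintro y (hy | hy)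
      · exact hXE hy
      · have := mul_mem (inv_mem ha) (hXE hy)
        rwa [inv_mul_cancel_left] at this
    have hYd : d ∉ Y := by
      rintro (hm | hm)
      · exact hdX hm
      · exact hcon (by rwa [(hcen a ha).1.eq] at hm)
    exact haX (inv_inv a ▸ inv_mem (hmax ⟨hYE, hXY hzX, hYd⟩ hXY haY))
  let f : ↥(Subgroup.zpowers d) × ↥X →* ↥E :=
    MonoidHom.noncommCoprod (Subgroup.inclusion (Subgroup.zpowers_le.2 hdE)) (Subgroup.inclusion hXE)
      fun a x => by
        obtain ⟨n, hn⟩ := Subgroup.mem_zpowers_iff.1 a.2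
        refine Subtype.ext ?_
        show (a : G) * x = x * a
        rw [← hn]
        exact (((hcen x (hXE x.2)).1.symm).zpow_left n).eq
  have hf : Function.Bijective f := by
    refine ⟨(injective_iff_map_eq_one _).2 fun p hp => ?_, fun a => ?_⟩
    · have h1 : (p.1 : G) * p.2 = 1 := congrArg Subtype.val hp
      have h2 : (p.1 : G) ∈ X := by rw [mul_eq_one_iff_eq_inv.1 h1]; exact inv_mem p.2.2
      have h3 : (p.1 : G) = 1 ∨ (p.1 : G) = d := by
        obtain ⟨n, hn⟩ := Subgroup.mem_zpowers_iff.1 p.1.2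
        rw [← hn, ← zpow_mod_orderOf, orderOf_eq_prime (by rw [pow_two, hd2]) hd1]
        rcases Int.emod_two_eq_zero_or_one n with e | e <;> simp [e]
      rcases h3 with e | e
      · rw [e, one_mul] at h1
        exact Prod.ext (Subtype.ext e) (Subtype.ext h1)
      · exact absurd (e ▸ h2) hdX
    · rcases hdec a a.2 with e | e
      · exact ⟨(1, ⟨a, e⟩), Subtype.ext (one_mul (a : G))⟩
      · exact ⟨(⟨d, Subgroup.mem_zpowers d⟩, ⟨d * a, e⟩), Subtype.ext (by
          show d * (d * (a : G)) = a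
          rw [← mul_assoc, hd2, one_mul])⟩
  have hd' : orderOf d = 2 := orderOf_eq_prime (by rw [pow_two, hd2]) hd1
  have hXcard : Nat.card ↥X = 512 := by
    have h1 := Nat.card_congr (MulEquiv.ofBijective f hf).toEquiv
    rw [Nat.card_prod, Nat.card_zpowers, hd', hE] at h1
    omega
  have hX2 : IsPGroup 2 ↥X := IsPGroup.of_card (n := 9) (by rw [hXcard]; norm_num)
  have hXext := (CfsgLib.LargeExtraspecial.isExtraspecial_of_props (T := X) hX2
    (orderOf_eq_prime (by rw [pow_two, hz2]) hz1) hzX (fun x hx => (hcen x (hXE hx)).2.eq)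
    (fun x hx => hsq x (hXE hx)) (fun x hx y hy => hcomm x (hXE hx) y (hXE hy))
    (fun x hx hc => by
      have hc' : ∀ u ∈ E, u * x = x * u := by
        intro u hu
        rcases hdec u hu with e | e
        · exact hc u e
        · have h1 := hc _ e
          have h2 : Commute x (d * (d * u)) := ((hcen x (hXE hx)).1).mul_right h1.symm
          rw [← mul_assoc, hd2, one_mul] at h2
          exact h2.symm
      rcases hZ x (hXE hx) hc' with e | e | e | e
      · exact Or.inl e
      · exact absurd (e ▸ hx) hdX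
      · exact Or.inr e
      · exfalso
        refine hdX ?_
        have := mul_mem (e ▸ hx : d * z ∈ X) hzX
        rwa [mul_assoc, hz2, mul_one] at this)
    (by
      by_contra hall
      push Not at hall
      have h1 : (X : Set G) ⊆ {1, d, z, d * z} := by
        intro x hx
        refine hZ x (hXE hx) fun u hu => ?_
        rcases hdec u hu with e | e
        · exact hall u e x hx
        · have h2 : Commute x (d * (d * u)) := ((hcen x (hXE hx)).1).mul_right (hall x hx _ e)
          rw [← mul_assoc, hd2, one_mul] at h2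
          exact h2.symm
      have h2 := Set.ncard_le_ncard h1 (Set.toFinite _)
      rw [show (X : Set G).ncard = 512 from hXcard] at h2
      have h3 : ({1, d, z, d * z} : Set G).ncard ≤ 4 :=
        le_trans (Set.ncard_insert_le _ _) (Nat.succ_le_succ (le_trans (Set.ncard_insert_le _ _)
          (Nat.succ_le_succ (le_trans (Set.ncard_insert_le _ _) (by rw [Set.ncard_singleton])))))
      omega)).1
  refine ⟨Shrink.{0} ↥X, inferInstance, inferInstance,
    CfsgLib.LargeExtraspecial.isExtraspecial_of_mulEquiv Shrink.mulEquiv.symm hXext,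
    by rw [Nat.card_congr (equivShrink.{0} ↥X).symm, hXcard]; norm_num, ⟨?_⟩⟩
  refine (MulEquiv.ofBijective f hf).symm.trans (MulEquiv.prodCongr ?_ Shrink.mulEquiv.symm)
  exact mulEquivOfPrimeCardEq (p := 2) (by rw [Nat.card_zpowers, hd']) (by simp)

variable {G : Type*} [Group G] {D : Set G}

variable [Finite G] (h : IsThreeTranspositionGroup D) (hp : IsPrimitiveUnderConj D) (h22 : IsOfTypeM22 G D)

include h hp h22

theorem noRel_le_five22 (n : ℕ) (h1 : 1 ≤ n) (h5 : n ≤ 5) : NoRel D n := by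
  have hnt := noTwins_of_primitive h h22.1 hp
  have hnc : NoCentral D := fun a ha => by
    by_contra hall
    push Not at hall
    have : a ∈ Subgroup.center G := Subgroup.mem_center_iff.2 fun g => by
      have hg : g ∈ Subgroup.centralizer ({a} : Set G) :=
        (h.2.2 ▸ (Subgroup.closure_le _).2 fun x hx =>
          Subgroup.mem_centralizer_singleton_iff.2 (hall x hx).eq : (⊤ : Subgroup G) ≤ _) (Subgroup.mem_top g)
      exact Subgroup.mem_centralizer_singleton_iff.1 hg
    rw [h22.1] at this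
    exact ne_one h.1 ha this
  interval_cases n
  exacts [noRel_one h.1, noRel_two h.1, noRel_three h.1 hnc, noRel_four h.1 hnt,
    noRel_five_of_M22 psu62Facts h h22]

/-- A product of two commuting members is no product of three. -/
theorem pair_ne_triple {d a b c e : G} (hd : d ∈ D) (ha : a ∈ perp D d) (hb : b ∈ perp D d) (hab : b ∈ perp D a)
    (hc : c ∈ perp D d) (he : e ∈ perp D d) (hce : e ∈ perp D c) : a * b ≠ d * (c * e) := by
  intro heq
  have h3 := isCList_triple hd hc he hce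
  have h2 := isCList_pair ha.1 hab
  have heq' : [d, c, e].prod = [a, b].prod := by simpa [mul_assoc] using heq.symm
  refine h3.prod_ne h.1 (N := 5) (fun n h1 h5 => noRel_le_five22 h hp h22 n h1 h5) h2 (fun u hu v hv => ?_)
    (by simp) (by simp) heq'
  refine h2.commute_each h.1 (by simp) (h3.mem u hu) ?_ v hv
  rw [← heq']
  exact Commute.list_prod_right _ _ fun y hy => h3.comm u hu y hy

/-- Two such products do not multiply to a member. -/
theorem four_product_ne_member {d a b c e : G} (hd : d ∈ D) (ha : a ∈ perp D d) (hb : b ∈ perp D d)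
    (hc : c ∈ perp D d) (he : e ∈ perp D d) (hab : b ∈ perp D a) (hce : e ∈ perp D c) :
    a * b * (c * e) ≠ d := by
  intro heq
  refine pair_ne_triple h hp h22 hd ha hb hab hc he hce ?_
  have hsq : c * e * (c * e) = 1 := by
    rw [hce.2.2.symm.mul_mul_mul_comm, mul_self h.1 hc.1, mul_self h.1 he.1, one_mul]
  calc a * b = a * b * (c * e) * (c * e) := by rw [mul_assoc _ (c * e), hsq, mul_one]
    _ = d * (c * e) := by rw [heq]

/-- For `C = C(d₁d₂)`: `F*(C)` is a product of a group of order two and an extraspecial group of order `2^9`,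
and the quotient is `Aut PSU(4,2)`. -/
theorem pair_fitting {d₁ d₂ : G} (h₁ : d₁ ∈ D) (h₂ : d₂ ∈ perp D d₁) (C : Subgroup G)
    (hC : C = Subgroup.centralizer ({d₁ * d₂} : Set G)) :
    ∃ E : Subgroup ↥C, generalizedFittingSubgroup ↥C = E ∧
      (∃ (X : Type) (_ : Group X) (_ : Finite X), IsExtraspecial 2 X ∧ Nat.card X = 2 ^ 9 ∧
        Nonempty (↥E ≃* Multiplicative (ZMod 2) × X)) ∧
      ∃ (_ : E.Normal) (F : Type) (_ : Field F) (_ : Fintype F), Fintype.card F = 4 ∧
        Nat.card (Cfsg.PSU 4 F 2) = 25920 ∧ Nat.card (MulAut (Cfsg.PSU 4 F 2)) = 51840 ∧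
        Nonempty (↥C ⧸ E ≃* MulAut (Cfsg.PSU 4 F 2)) := by
  classical
  subst hC
  have : Fact (Nat.Prime 2) := ⟨Nat.prime_two⟩
  obtain ⟨M, hM2⟩ := PerpModel.exists_at h h22 h₁ h₂
  have hCd := centralizer_eq h hp h22 h₁
  have h2D : d₂ ∈ D := h₂.1
  have hcc : Commute d₁ d₂ := h₂.2.2
  have hne : d₁ ≠ d₂ := Ne.symm h₂.2.1
  set e₀ : I6 → M.K := vE M.C (Fin 2 ⊕ Fin 2)
  set K := Subgroup.centralizer ({d₁, d₂} : Set G) with hK
  set C := Subgroup.centralizer ({d₁ * d₂} : Set G) with hC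
  have hmemK : ∀ {k : G}, k ∈ K ↔ Commute k d₁ ∧ Commute k d₂ := fun {k} => by
    rw [hK, Subgroup.mem_centralizer_iff]
    refine ⟨fun hk => ⟨(hk _ (by simp)).symm, (hk _ (by simp)).symm⟩, ?_⟩
    rintro ⟨a, b⟩ w (rfl | rfl)
    exacts [a.symm.eq, b.symm.eq]
  have hKH : K ≤ Subgroup.closure (perp D d₁) := hCd ▸ Subgroup.centralizer_le (by simp)
  obtain ⟨hKC, hidx, -, E, hVE, hEC, hEinv, hEcard, hprops, hEnormal, F, iF, iFF, hF, ⟨eq⟩⟩ :=
    pair_centralizer h hp h22 h₁ h₂
  obtain ⟨ρ, hρs, hρ⟩ := M.exists_rho h hp h22 h₁ h₂ hM2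
  -- the orders
  have hF2 : Fintype.card F = 2 ^ 2 := by rw [hF]; norm_num
  obtain ⟨C₀, hC₀⟩ := exists_conjField (F := F) 2 hF2
  obtain ⟨eS⟩ := nonempty_equiv_psu C₀ hC₀
  have hScard : Nat.card (Cfsg.PSU 4 F 2) = 25920 := by rw [← Nat.card_congr eS.toEquiv, card_suG_four C₀ hC₀]
  have hAcard : Nat.card (MulAut (Cfsg.PSU 4 F 2)) = 51840 := card_aut_suG_four C₀ hC₀
  have hSsimp : IsSimpleGroup (Cfsg.PSU 4 F 2) :=
    CfsgLib.Forms4.isSimpleGroup_PSU (F := F) (q := 2) hF2 4 (by norm_num) (by simp)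
  obtain ⟨sx, sy, hsxy⟩ : ∃ x y : Cfsg.PSU 4 F 2, x * y ≠ y * x := by
    by_contra hall
    push Not at hall
    have h1 : (Nat.card (Cfsg.PSU 4 F 2)).Prime := by
      let _ : CommGroup (Cfsg.PSU 4 F 2) := { (inferInstance : Group (Cfsg.PSU 4 F 2)) with mul_comm := hall }
      exact IsSimpleGroup.prime_card
    rw [hScard] at h1
    norm_num at h1
  -- normal subgroups of `C`
  set E' : Subgroup ↥C := E.subgroupOf C with hE'
  have hE'2 : IsPGroup 2 ↥E' := IsPGroup.of_card (n := 10) (by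
    rw [Nat.card_congr (Subgroup.subgroupOfEquivOfLe hEC).toEquiv, hEcard])
  set π : ↥C →* MulAut (Cfsg.PSU 4 F 2) := eq.toMonoidHom.comp (QuotientGroup.mk' E') with hπ
  have hπs : Function.Surjective π := eq.surjective.comp (QuotientGroup.mk'_surjective E')
  have hπk : π.ker = E' := by
    ext x
    simp [hπ, MonoidHom.mem_ker]
  have hdicho : ∀ N : Subgroup ↥C, N.Normal → N ≤ E' ∨ 5 ∣ Nat.card ↥N := by
    intro N hN
    have : (N.map π).Normal := hN.map π hπs
    rcases normal_eq_bot_or_inn_le hsxy (N.map π) with h0 | h0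
    · left
      rw [← hπk]
      exact (Subgroup.map_eq_bot_iff N).1 h0
    · right
      have hinj : Function.Injective (MulAut.conj (G := Cfsg.PSU 4 F 2)) := by
        rw [← MonoidHom.ker_eq_bot_iff]
        rcases (inferInstance : (MulAut.conj (G := Cfsg.PSU 4 F 2)).ker.Normal).eq_bot_or_eq_top with h1 | h1
        · exact h1
        · exfalso
          have h2 : sy ∈ (MulAut.conj (G := Cfsg.PSU 4 F 2)).ker := h1 ▸ Subgroup.mem_top sy
          have h3 := DFunLike.congr_fun (MonoidHom.mem_ker.1 h2) sx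
          simp only [MulAut.conj_apply, MulAut.one_apply] at h3
          exact hsxy (mul_inv_eq_iff_eq_mul.1 h3).symm
      have h1 : 25920 ∣ Nat.card ↥(N.map π) := by
        refine dvd_trans ?_ (Subgroup.card_dvd_of_le h0)
        rw [← Nat.card_congr (MonoidHom.ofInjective hinj).toEquiv, hScard]
      exact (dvd_trans (by norm_num) h1).trans (Subgroup.card_map_dvd N π)
  -- nothing of order five centralizes `E`
  have hcent : Subgroup.centralizer (E' : Set ↥C) ≤ E' := by
    have : E'.Normal := hEnormal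
    rcases hdicho (Subgroup.centralizer (E' : Set ↥C)) inferInstance with h0 | h0
    · exact h0
    exfalso
    have : Fact (Nat.Prime 5) := ⟨by norm_num⟩
    obtain ⟨y, hy⟩ := exists_prime_orderOf_dvd_card' 5 h0
    have hy' : orderOf ((y : ↥C) : G) = 5 := by
      rw [Subgroup.orderOf_coe, Subgroup.orderOf_coe, hy]
    obtain ⟨a, e, he, ha, hae, hz⟩ := five_local h hp h22 hy'
    obtain ⟨-, -, -, -, -, -, -, h600⟩ := five_centralizer h hp h22 ha he hae
    have hle : E ≤ Subgroup.centralizer ({five a} : Set G) := by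
      intro x hx
      have hcy : Commute ((y : ↥C) : G) x :=
        (congrArg Subtype.val (Subgroup.mem_centralizer_iff.1 y.2 ⟨x, hEC hx⟩ hx)).symm
      obtain ⟨n, hn⟩ := Subgroup.mem_zpowers_iff.1 (hz ▸ Subgroup.mem_zpowers (five a) :
        five a ∈ Subgroup.zpowers ((y : ↥C) : G))
      rw [Subgroup.mem_centralizer_singleton_iff, ← hn]
      exact (hcy.zpow_left n).symm.eq
    have := Subgroup.card_dvd_of_le hle
    rw [hEcard, h600] at this
    norm_num at this
  have hcore : pCore 2 ↥C = E' := by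
    have : E'.Normal := hEnormal
    refine le_antisymm ?_ (CfsgLib.Components.le_pCore hE'2)
    have : (pCore 2 ↥C).Normal := CfsgLib.Solvable.pCore_normal 2
    rcases hdicho (pCore 2 ↥C) inferInstance with h0 | h0
    · exact h0
    exfalso
    obtain ⟨n, hn⟩ := IsPGroup.iff_card.1 (CfsgLib.Components.isPGroup_pCore (G := ↥C) 2)
    rw [hn] at h0
    have := Nat.Prime.dvd_of_dvd_pow (by norm_num) h0
    omega
  have hlayer : layer ↥C = ⊥ := by
    have : E'.Normal := hEnormal
    refine CfsgLib.Components.layer_eq_bot_of_map_le_of_isPGroup (U := E) (p := 2)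
      (IsPGroup.of_card (n := 10) hEcard) ?_
    rintro _ ⟨x, hx, rfl⟩
    have h1 : layer ↥C ≤ Subgroup.centralizer (E' : Set ↥C) :=
      CfsgLib.Components.layer_le_centralizer_fittingSubgroup.trans
        (Subgroup.centralizer_le (SetLike.coe_subset_coe.2
          (CfsgLib.Components.le_fittingSubgroup hE'2.isNilpotent)))
    exact Subgroup.mem_subgroupOf.1 (hcent (h1 hx))
  have hFstar : generalizedFittingSubgroup ↥C = E' := by
    have : E'.Normal := hEnormal
    rw [CfsgLib.Components.generalizedFitting_eq_pCore 2 hlayer fun N hN hco => ?_, hcore]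
    have h0 : N ⊓ E' = ⊥ := Subgroup.inf_eq_bot_of_coprime (by
      obtain ⟨n, hn⟩ := IsPGroup.iff_card.1 hE'2
      rw [hn]
      exact hco.pow_right n)
    have h1 : N ≤ Subgroup.centralizer (E' : Set ↥C) := fun x hx => Subgroup.mem_centralizer_iff.2 fun w hw =>
      (Subgroup.commute_of_normal_of_disjoint N E' hN inferInstance (disjoint_iff.2 h0) x w hx hw).symm.eq
    exact eq_bot_iff.2 ((le_inf le_rfl (h1.trans hcent)).trans h0.le)
  -- `E` is the kernel of `ρ`
  set R : Subgroup G := ρ.ker.map K.subtype with hR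
  have hRcard : Nat.card ↥R = 1024 := by
    have h1 : Nat.card ↥K = Nat.card (suG M.C I4) * Nat.card ρ.ker := by
      rw [← Nat.card_congr (QuotientGroup.quotientKerEquivOfSurjective ρ hρs).toEquiv]
      exact Subgroup.card_eq_card_quotient_mul_card_subgroup _
    rw [card_centralizer_two h hp h22 h₁ h₂, card_suG_four M.C M.hq] at h1
    rw [hR, Subgroup.card_map_of_injective K.subtype_injective]
    refine Nat.eq_of_mul_eq_mul_left (by norm_num : 0 < 25920) (h1.symm.trans ?_)
    norm_num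
  have hRK : R ≤ K := by rintro _ ⟨x, -, rfl⟩; exact x.2
  have hRE : R = E := by
    refine Subgroup.eq_of_le_of_card_ge (fun x hx => ?_) (by rw [hEcard, hRcard]; norm_num)
    have : (K.subgroupOf C).Normal := Subgroup.normal_of_index_eq_two hidx
    have h1 : R.subgroupOf C ≤ pCore 2 ↥C := by
      refine CfsgLib.Transpositions.le_pCore_of_normalized (K := K.subgroupOf C)
        (fun w hw => hRK (Subgroup.mem_subgroupOf.1 hw)) (fun k hk w hw => ?_)
        (IsPGroup.of_card (n := 10) (by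
          rw [Nat.card_congr (Subgroup.subgroupOfEquivOfLe (hRK.trans hKC)).toEquiv, hRcard]; norm_num))
      obtain ⟨v, hv, hvw⟩ := Subgroup.mem_subgroupOf.1 hw
      refine Subgroup.mem_subgroupOf.2 ⟨⟨_, Subgroup.mem_subgroupOf.1 hk⟩ * v *
        (⟨_, Subgroup.mem_subgroupOf.1 hk⟩)⁻¹, ρ.normal_ker.conj_mem v hv _, ?_⟩
      simp only [Subgroup.coe_subtype, Subgroup.coe_mul, Subgroup.coe_inv] at hvw ⊢
      rw [hvw]
    have h2 := (hcore ▸ h1) (Subgroup.mem_subgroupOf.2 hx : (⟨x, hKC (hRK hx)⟩ : ↥C) ∈ R.subgroupOf C)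
    exact Subgroup.mem_subgroupOf.1 h2
  have hEK : E ≤ K := hRE ▸ hRK
  have hmemE : ∀ {x : G} (hx : x ∈ K), x ∈ E ↔ ρ ⟨x, hx⟩ = 1 := fun {x} hx => by
    rw [← hRE]
    exact ⟨fun ⟨y, hy, he⟩ => by rw [show (⟨x, hx⟩ : ↥K) = y from Subtype.ext he.symm]; exact hy,
      fun h0 => ⟨⟨x, hx⟩, h0, rfl⟩⟩
  -- members of both
  set P : Set G := perp D d₁ ∩ perp D d₂ with hP
  have hPK : ∀ {z}, z ∈ P → z ∈ K := fun hz => hmemK.2 ⟨hz.1.2.2.symm, hz.2.2.2.symm⟩
  have hcoord : ∀ {z} (hz : z ∈ P), ∃ (t : M.K) (w : Fin 2 ⊕ Fin 2 → M.K), herm M.C w w = 0 ∧ w ≠ 0 ∧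
      ρ ⟨z, hPK hz⟩ = tv M.C w ∧ bar hz.1 = M.θ (tv M.C (t • e₀ + inW w)) := by
    intro z hz
    obtain ⟨p, hpp, hp0, hzp⟩ := M.exists_pt hz.1
    have hpe : herm M.C p e₀ = 0 :=
      (M.commute_iff h₂ hz.1 (herm_vE_vE M.C) hpp hp0 hM2 hzp).1 hz.2.2.2
    have hd : p = herm M.C p (vF M.C (Fin 2 ⊕ Fin 2)) • e₀ + inW (p ∘ Sum.inr) := by
      conv_lhs => rw [decomp M.C p, hpe, zero_smul, add_zero]
    refine ⟨_, p ∘ Sum.inr, ?_, ?_, ?_, hd ▸ hzp⟩
    · rw [hd] at hpp
      simpa [e₀, herm_add_left, herm_add_right, herm_smul_left, herm_smul_right, herm_vE_vE, herm_vE_inW,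
        herm_inW_vE, herm_inW] using hpp
    · intro h0
      rw [h0, inW_zero, add_zero] at hd
      exact hz.2.2.1 (M.eq_of_smul h₂ hz.1 (herm_vE_vE M.C) hp0 hM2 hzp hd).symm
    · obtain ⟨hg, he⟩ := hρ ⟨z, hPK hz⟩ (mem_perp_closure hz.1) (tv M.C p) hzp.symm
      exact he.trans (blockPart_tv M.C M.hq hpp hpe)
  have hiso : ∀ {w : Fin 2 ⊕ Fin 2 → M.K} (t s : M.K), herm M.C w w = 0 →
      herm M.C (t • e₀ + inW w) (s • e₀ + inW w) = 0 := by
    intro w t s hw
    simp [e₀, herm_add_left, herm_add_right, herm_smul_left, herm_smul_right, herm_vE_vE, herm_vE_inW,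
      herm_inW_vE, herm_inW, hw]
  -- members with the same image commute
  have hsame : ∀ {z z'} (hz : z ∈ P) (hz' : z' ∈ P), ρ ⟨z, hPK hz⟩ = ρ ⟨z', hPK hz'⟩ → Commute z z' := by
    intro z z' hz hz' he
    obtain ⟨t, w, hw, hw0, hρz, hbz⟩ := hcoord hz
    obtain ⟨t', w', hw', hw'0, hρz', hbz'⟩ := hcoord hz'
    rw [hρz, hρz'] at he
    have h1 := app_tv M.C M.hq hw w'
    rw [he, app_tv M.C M.hq hw', hw', zero_smul, add_zero] at h1
    have h2 : herm M.C w' w = 0 := by
      rcases smul_eq_zero.1 (left_eq_add.1 h1) with h0 | h0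
      exacts [h0, absurd h0 hw0]
    refine (M.commute_iff hz.1 hz'.1 (hiso t t hw) (hiso t' t' hw') (fun h0 => hw'0 ?_) hbz hbz').2 ?_
    · funext i
      simpa [e₀, vE, inW] using congrFun h0 (Sum.inr i)
    · simp [e₀, herm_add_left, herm_add_right, herm_smul_left, herm_smul_right, herm_vE_vE, herm_vE_inW,
        herm_inW_vE, herm_inW, h2]
  -- the pairs
  set Q : Set (G × G) := {q | ∃ (h : q.1 ∈ P) (h' : q.2 ∈ P), q.1 ≠ q.2 ∧
    ρ ⟨q.1, hPK h⟩ = ρ ⟨q.2, hPK h'⟩} with hQ
  have hfib : ∀ z ∈ P, 3 ≤ {q : G × G | q ∈ Q ∧ q.1 = z}.ncard := by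
    intro z hz
    obtain ⟨t, w, hw, hw0, hρz, hbz⟩ := hcoord hz
    have hinr : ∀ s : M.K, (s • e₀ + inW w) ∘ Sum.inr = w := fun s => by
      funext i
      simp [e₀, vE, inW]
    have hne0 : ∀ s : M.K, s • e₀ + inW w ≠ 0 := fun s h0 => hw0 (by rw [← hinr s, h0]; rfl)
    choose m hm hbm using fun s : M.K => M.exists_mem (hiso s s hw) (hne0 s)
    have hmP : ∀ s, m s ∈ P := fun s => by
      refine ⟨hm s, (hm s).1, fun h0 => ?_, ?_⟩
      · obtain ⟨a, -, ha⟩ := eq_smul_of_map_eq M.C M.hq M.θ M.hker (herm_vE_vE M.C) (hiso s s hw) (hne0 s)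
          (hM2.symm.trans ((show bar h₂ = bar (hm s) from bar_congr h0.symm h₂ (hm s)).trans (hbm s)))
        refine hw0 ?_
        rw [← hinr s, ha]
        funext i
        simp [vE]
      · refine (M.commute_iff h₂ (hm s) (herm_vE_vE M.C) (hiso s s hw) (hne0 s) hM2 (hbm s)).2 ?_
        simp [e₀, herm_add_left, herm_smul_left, herm_vE_vE, herm_inW_vE]
    have hmρ : ∀ s, ρ ⟨m s, hPK (hmP s)⟩ = ρ ⟨z, hPK hz⟩ := fun s => by
      obtain ⟨hg, he⟩ := hρ ⟨m s, hPK (hmP s)⟩ (mem_perp_closure (hm s)) _ (hbm s).symm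
      rw [hρz]
      refine he.trans ?_
      rw [blockPart_tv M.C M.hq (hiso s s hw)
        (by simp [e₀, herm_add_left, herm_smul_left, herm_vE_vE, herm_inW_vE]), hinr]
    have hminj : Function.Injective m := by
      intro s s' he
      obtain ⟨a, -, ha⟩ := eq_smul_of_map_eq M.C M.hq M.θ M.hker (hiso s s hw) (hiso s' s' hw) (hne0 s')
        ((hbm s).symm.trans ((bar_congr he (hm s) (hm s')).trans (hbm s')))
      have h1 : w = a • w := by
        conv_lhs => rw [← hinr s', ha]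
        funext i
        simp [e₀, vE, inW]
      have ha1 : a = 1 := by
        have : (a - 1) • w = 0 := by rw [sub_smul, one_smul, ← h1, sub_self]
        exact sub_eq_zero.1 ((smul_eq_zero.1 this).resolve_right hw0)
      rw [ha1, one_smul] at ha
      have h2 := congrArg (fun v => herm M.C v (vF M.C (Fin 2 ⊕ Fin 2))) ha
      simpa [e₀, herm_add_left, herm_smul_left, herm_vE_vF, herm_inW_vF] using h2.symm
    have hK4 : Nat.card M.K = 4 := by rw [Nat.card_eq_fintype_card, M.C.card, M.hq]; norm_num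
    have hsub : (fun s => (z, m s)) '' {s | m s ≠ z} ⊆ {q : G × G | q ∈ Q ∧ q.1 = z} := by
      rintro _ ⟨s, hs, rfl⟩
      exact ⟨⟨hz, hmP s, Ne.symm hs, (hmρ s).symm⟩, rfl⟩
    refine le_trans ?_ (Set.ncard_le_ncard hsub (Set.toFinite _))
    rw [Set.ncard_image_of_injective _ fun s s' he => hminj (congrArg Prod.snd he)]
    have h1 : {s | ¬ m s ≠ z}.ncard ≤ 1 := by
      refine (Set.ncard_le_one (Set.toFinite _)).2 fun s hs s' hs' => hminj ?_
      simp only [ne_eq, not_not, Set.mem_setOf_eq] at hs hs'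
      rw [hs, hs']
    have h2 := Set.ncard_add_ncard_compl {s | m s ≠ z}
    rw [hK4, Set.compl_setOf] at h2
    omega
  have hPcard : P.ncard = 180 := M.ncard_perp_perp h₂
  have hQcard : 540 ≤ Q.ncard := by
    have := Fintype.ofFinite G
    rw [Set.ncard_eq_toFinset_card' Q,
      Finset.card_eq_sum_card_fiberwise (f := Prod.fst) (t := P.toFinset) (fun q hq => by
        rw [Finset.mem_coe, Set.mem_toFinset] at hq ⊢
        exact hq.1)]
    calc 540 = ∑ z ∈ P.toFinset, 3 := by rw [Finset.sum_const, ← Set.ncard_eq_toFinset_card', hPcard]; rfl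
      _ ≤ _ := Finset.sum_le_sum fun z hz => by
          refine (hfib z (Set.mem_toFinset.1 hz)).trans_eq ?_
          rw [Set.ncard_eq_toFinset_card']
          congr 1
          ext q
          simp
  have hpu := pairUnique h.1 (noTwins_of_primitive h h22.1 hp)
  set S : Set G := (fun q : G × G => q.1 * q.2) '' Q with hS
  have hScard2 : 270 ≤ S.ncard := by
    have := Fintype.ofFinite G
    have h1 := Finset.card_le_mul_card_image (f := fun q : G × G => q.1 * q.2) Q.toFinset 2 (fun b hb => by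
      obtain ⟨q, hq, rfl⟩ := Finset.mem_image.1 hb
      rw [Set.mem_toFinset] at hq
      refine le_trans (Finset.card_le_card (t := {q, (q.2, q.1)}) fun r hr => ?_) Finset.card_le_two
      rw [Finset.mem_filter, Set.mem_toFinset] at hr
      obtain ⟨⟨r1, r2, rne, rρ⟩, hrq⟩ := hr
      obtain ⟨q1, q2, qne, qρ⟩ := hq
      simp only [Finset.mem_insert, Finset.mem_singleton]
      rcases hpu _ r1.1.1 _ r2.1.1 _ q1.1.1 _ q2.1.1 rne (hsame r1 r2 rρ) qne (hsame q1 q2 qρ) hrq with
        ⟨e1, e2⟩ | ⟨e1, e2⟩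
      · exact Or.inl (Prod.ext e1 e2)
      · exact Or.inr (Prod.ext e1 e2))
    rw [← Set.ncard_eq_toFinset_card'] at h1
    have h2 : (Q.toFinset.image fun q : G × G => q.1 * q.2).card = S.ncard := by
      rw [hS, Set.ncard_eq_toFinset_card' ((fun q : G × G => q.1 * q.2) '' Q), Set.toFinset_image]
    omega
  have hSE : ∀ x ∈ S, x ∈ E := by
    rintro _ ⟨q, ⟨q1, q2, -, qρ⟩, rfl⟩
    refine (hmemE (mul_mem (hPK q1) (hPK q2))).2 ?_
    show ρ (⟨q.1, hPK q1⟩ * ⟨q.2, hPK q2⟩) = 1
    rw [map_mul, ← qρ, ← map_mul, show (⟨q.1, hPK q1⟩ * ⟨q.1, hPK q1⟩ : ↥K) = 1 from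
      Subtype.ext (mul_self h.1 q1.1.1), map_one]
  have hd1E : d₁ ∈ E := hVE (Subgroup.subset_closure (by simp))
  have hd2E : d₂ ∈ E := hVE (Subgroup.subset_closure (by simp))
  have hrel := fun n a b => noRel_le_five22 h hp h22 n a b
  -- the products generate
  have hgen : Subgroup.closure (S ∪ {d₁}) = E := by
    have hle : Subgroup.closure (S ∪ {d₁}) ≤ E := by
      rw [Subgroup.closure_le]
      rintro x (hx | rfl)
      exacts [hSE x hx, hd1E]
    refine Subgroup.eq_of_le_of_card_ge hle ?_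
    have hdisj : Disjoint S ((fun x => d₁ * x) '' S) := by
      rw [Set.disjoint_left]
      rintro _ ⟨q, ⟨q1, q2, qne, qρ⟩, rfl⟩ ⟨_, ⟨r, ⟨r1, r2, rne, rρ⟩, rfl⟩, he⟩
      have hq12 : q.2 ∈ perp D q.1 := ⟨q2.1.1, Ne.symm qne, hsame q1 q2 qρ⟩
      have hr12 : r.2 ∈ perp D r.1 := ⟨r2.1.1, Ne.symm rne, hsame r1 r2 rρ⟩
      exact pair_ne_triple h hp h22 h₁ q1.1 q2.1 hq12 r1.1 r2.1 hr12 he.symm
    have hcard : 540 ≤ Nat.card ↥(Subgroup.closure (S ∪ {d₁})) := by
      have hsub : S ∪ (fun x => d₁ * x) '' S ⊆ (Subgroup.closure (S ∪ {d₁}) : Set G) := by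
        rintro x (hx | ⟨y, hy, rfl⟩)
        · exact Subgroup.subset_closure (Or.inl hx)
        · exact mul_mem (Subgroup.subset_closure (Or.inr rfl)) (Subgroup.subset_closure (Or.inl hy))
      have h1 := Set.ncard_le_ncard hsub (Set.toFinite _)
      rw [Set.ncard_union_eq hdisj, Set.ncard_image_of_injective _ (mul_right_injective d₁)] at h1
      rw [← SetLike.coe_sort_coe, Nat.card_coe_set_eq]
      omega
    have hdvd := Subgroup.card_dvd_of_le hle
    rw [hEcard] at hdvd ⊢
    obtain ⟨i, hi, hi'⟩ := (Nat.dvd_prime_pow Nat.prime_two).1 (show _ ∣ 2 ^ 10 from hdvd)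
    rw [hi'] at hcard ⊢
    by_contra hlt
    have : i ≤ 9 := by
      by_contra h9
      exact hlt (le_of_eq (by rw [show i = 10 by omega]))
    have := Nat.pow_le_pow_right (show 2 > 0 by norm_num) this
    omega
  -- commutators
  set z₀ := d₁ * d₂ with hz₀
  have hzne : z₀ ≠ 1 := fun h0 => hne (by rw [← inv_eq h.1 h₂.1]; exact mul_eq_one_iff_eq_inv.1 h0)
  have hz2 : z₀ * z₀ = 1 := by
    rw [hz₀, hcc.symm.mul_mul_mul_comm, mul_self h.1 h₁, mul_self h.1 h2D, one_mul]
  have hEc : ∀ {x}, x ∈ E → Commute x d₁ ∧ Commute x d₂ := fun hx => hmemK.1 (hEK hx)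
  have hVmem : ∀ {v}, v ∈ Subgroup.closure ({d₁, d₂} : Set G) → v = 1 ∨ v = d₁ ∨ v = d₂ ∨ v = z₀ := by
    intro v hv
    induction hv using Subgroup.closure_induction with
    | mem x hx =>
      simp only [Set.mem_insert_iff, Set.mem_singleton_iff] at hx
      rcases hx with e | e <;> simp [e]
    | one => simp
    | mul a b _ _ ha hb =>
      have e1 := mul_self h.1 h₁
      have e2 := mul_self h.1 h2D
      rcases ha with ea | ea | ea | ea <;> rcases hb with eb | eb | eb | eb <;>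
        simp [ea, eb, hz₀, mul_assoc, e1, e2, hcc.symm.eq, mul_self_cancel h.1 h₁, mul_self_cancel h.1 h2D,
          show d₂ * (d₁ * d₂) = d₁ by rw [← mul_assoc, hcc.symm.eq, mul_assoc, e2, mul_one]]
    | inv a _ ha =>
      have hzi : z₀⁻¹ = z₀ := inv_eq_of_mul_eq_one_right (by
        rw [hz₀, hcc.symm.mul_mul_mul_comm, mul_self h.1 h₁, mul_self h.1 h2D, one_mul])
      rcases ha with e | e | e | e <;> simp [e, inv_eq h.1 h₁, inv_eq h.1 h2D, hzi]
  set T : Set G := {1, z₀} with hT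
  have hgencomm : ∀ u ∈ S ∪ {d₁}, ∀ x ∈ E, u * x * u⁻¹ * x⁻¹ ∈ T := by
    intro u hu x hx
    rcases hu with ⟨q, ⟨q1, q2, qne, qρ⟩, rfl⟩ | rfl
    · have hV := (hprops _ (hSE _ ⟨q, ⟨q1, q2, qne, qρ⟩, rfl⟩) x hx).1
      -- the conjugate pair
      have hxK := hEK hx
      have hxρ : ρ ⟨x, hxK⟩ = 1 := (hmemE hxK).1 hx
      have hconj : ∀ {w} (hw : w ∈ P), ∃ hw' : x * w * x⁻¹ ∈ P,
          ρ ⟨x * w * x⁻¹, hPK hw'⟩ = ρ ⟨w, hPK hw⟩ := by
        intro w hw
        have a := (commute_conj_iff' x d₁ w).2 hw.1.2.2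
        have b := (commute_conj_iff' x d₂ w).2 hw.2.2.2
        have ex1 : x * d₁ * x⁻¹ = d₁ := mul_inv_eq_iff_eq_mul.2 (hEc hx).1.eq
        have ex2 : x * d₂ * x⁻¹ = d₂ := mul_inv_eq_iff_eq_mul.2 (hEc hx).2.eq
        rw [ex1] at a
        rw [ex2] at b
        have hm : x * w * x⁻¹ ∈ P :=
          ⟨⟨h.2.1 x _ hw.1.1, fun h0 => hw.1.2.1 (mul_left_cancel (mul_right_cancel (h0.trans ex1.symm))), a⟩,
            ⟨h.2.1 x _ hw.2.1, fun h0 => hw.2.2.1 (mul_left_cancel (mul_right_cancel (h0.trans ex2.symm))), b⟩⟩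
        refine ⟨hm, ?_⟩
        rw [show (⟨x * w * x⁻¹, hPK hm⟩ : ↥K) = ⟨x, hxK⟩ * ⟨w, hPK hw⟩ * (⟨x, hxK⟩ : ↥K)⁻¹ from rfl,
          map_mul, map_mul, map_inv, hxρ, one_mul, inv_one, mul_one]
      obtain ⟨a1, e1⟩ := hconj q1
      obtain ⟨a2, e2⟩ := hconj q2
      have hq12 : q.2 ∈ perp D q.1 := ⟨q2.1.1, Ne.symm qne, hsame q1 q2 qρ⟩
      have hx12 : x * q.2 * x⁻¹ ∈ perp D (x * q.1 * x⁻¹) :=
        ⟨a2.1.1, fun h0 => qne (mul_left_cancel (mul_right_cancel h0)).symm,
          hsame a1 a2 (e1.trans (qρ.trans e2.symm))⟩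
      have hval : q.1 * q.2 * x * (q.1 * q.2)⁻¹ * x⁻¹ =
          q.1 * q.2 * ((x * q.1 * x⁻¹) * (x * q.2 * x⁻¹)) := by
        rw [inv_eq_of_mul_eq_one_right (show q.1 * q.2 * (q.1 * q.2) = 1 by
          rw [hq12.2.2.symm.mul_mul_mul_comm, mul_self h.1 q1.1.1, mul_self h.1 q2.1.1, one_mul])]
        group
      rw [hval] at hV ⊢
      rcases hVmem hV with e | e | e | e
      · exact Or.inl e
      · exact absurd e (fun e => four_product_ne_member h hp h22 h₁ q1.1 q2.1 a1.1 a2.1 hq12 hx12 e)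
      · exact absurd e (fun e => four_product_ne_member h hp h22 h2D q1.2 q2.2 a1.2 a2.2 hq12 hx12 e)
      · exact Or.inr e
    · left
      rw [← (hEc hx).1.eq, mul_inv_cancel_right, mul_inv_cancel]
  have hTc : ∀ {c}, c ∈ T → ∀ x ∈ E, Commute c x := by
    rintro c (rfl | rfl) x hx
    exacts [Commute.one_left x, ((hEc hx).1.mul_right (hEc hx).2).symm]
  have hTmul : ∀ {a b}, a ∈ T → b ∈ T → a * b ∈ T := by
    rintro a b (rfl | rfl) (rfl | rfl) <;> simp [hT, hz2]
  have hTinv : ∀ {a}, a ∈ T → a⁻¹ ∈ T := by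
    rintro a (rfl | rfl) <;> simp [hT, inv_eq_of_mul_eq_one_right hz2]
  have hTE : T ⊆ (E : Set G) := by
    rintro a (rfl | rfl)
    exacts [one_mem _, mul_mem hd1E hd2E]
  have hcomm : ∀ u ∈ E, ∀ x ∈ E, u * x * u⁻¹ * x⁻¹ ∈ T := by
    intro u hu
    rw [← hgen] at hu
    induction hu using Subgroup.closure_induction with
    | mem u hu => exact hgencomm u hu
    | one => intro x _; simp [hT]
    | mul a b ha hb iha ihb =>
      intro x hx
      have hb' := ihb x hx
      have haE : a ∈ E := hgen ▸ ha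
      have : a * b * x * (a * b)⁻¹ * x⁻¹ = a * (b * x * b⁻¹ * x⁻¹) * a⁻¹ * (a * x * a⁻¹ * x⁻¹) := by group
      rw [this, ← (hTc hb' a haE).eq, mul_inv_cancel_right]
      exact hTmul hb' (iha x hx)
    | inv a ha iha =>
      intro x hx
      have haE : a ∈ E := hgen ▸ ha
      have ha' := hTinv (iha x hx)
      have : a⁻¹ * x * a⁻¹⁻¹ * x⁻¹ = a⁻¹ * (a * x * a⁻¹ * x⁻¹)⁻¹ * a := by group
      rw [this, ← (hTc ha' a⁻¹ (inv_mem haE)).eq, inv_mul_cancel_right]
      exact ha'
  have hsq : ∀ u ∈ E, u * u ∈ T := by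
    intro u hu
    rw [← hgen] at hu
    induction hu using Subgroup.closure_induction with
    | mem u hu =>
      left
      rcases hu with ⟨q, ⟨q1, q2, -, qρ⟩, rfl⟩ | rfl
      · rw [(hsame q1 q2 qρ).symm.mul_mul_mul_comm, mul_self h.1 q1.1.1, mul_self h.1 q2.1.1, one_mul]
      · exact mul_self h.1 h₁
    | one => simp [hT]
    | mul a b ha hb iha ihb =>
      have haE : a ∈ E := hgen ▸ ha
      have hbE : b ∈ E := hgen ▸ hb
      have hc := hcomm b hbE a haE
      have : a * b * (a * b) = a * (b * a * b⁻¹ * a⁻¹) * a * (b * b) := by group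
      rw [this, ← (hTc hc a haE).eq, mul_assoc (b * a * b⁻¹ * a⁻¹) a a]
      exact hTmul (hTmul hc iha) ihb
    | inv a ha iha =>
      rw [← _root_.mul_inv_rev]
      exact hTinv iha
  -- the centre
  have hcenE : ∀ x ∈ E, (∀ u ∈ E, u * x = x * u) → x = 1 ∨ x = d₁ ∨ x = d₂ ∨ x = z₀ := by
    intro x hx hc
    refine hVmem ?_
    have hxK := hEK hx
    have hfix : ∀ z ∈ P, Commute x z := by
      intro z hz
      have h3 := hfib z hz
      obtain ⟨q, ⟨hqQ, rfl⟩, r, ⟨hrQ, hr1⟩, hqr⟩ :=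
        (Set.one_lt_ncard (Set.toFinite _)).1 (show 1 < {q : G × G | q ∈ Q ∧ q.1 = z}.ncard by omega)
      obtain ⟨q1, q2, qne, qρ⟩ := id hqQ
      obtain ⟨r1, r2, rne, rρ⟩ := id hrQ
      have key : ∀ {a b : G}, a ∈ D → b ∈ D → a ≠ b → Commute a b → a * b ∈ E →
          x * a * x⁻¹ = a ∨ x * a * x⁻¹ = b := by
        intro a b ha hb hab hcab habE
        have e : (x * a * x⁻¹) * (x * b * x⁻¹) = a * b := by
          rw [show (x * a * x⁻¹) * (x * b * x⁻¹) = x * (a * b) * x⁻¹ by group, ← hc _ habE,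
            mul_inv_cancel_right]
        rcases hpu _ (h.2.1 x _ ha) _ (h.2.1 x _ hb) _ ha _ hb
          (fun h0 => hab (mul_left_cancel (mul_right_cancel h0))) ((commute_conj_iff' x a b).2 hcab) hab hcab e
          with ⟨e1, -⟩ | ⟨e1, -⟩
        exacts [Or.inl e1, Or.inr e1]
      rcases key q1.1.1 q2.1.1 qne (hsame q1 q2 qρ) (hSE _ ⟨q, hqQ, rfl⟩) with e | e
      · exact mul_inv_eq_iff_eq_mul.1 e
      rcases key r1.1.1 r2.1.1 rne (hsame r1 r2 rρ) (hSE _ ⟨r, hrQ, rfl⟩) with e' | e'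
      · rw [← hr1]; exact mul_inv_eq_iff_eq_mul.1 e'
      · exact absurd (Prod.ext hr1.symm (by rw [← e, ← e', hr1])) hqr
    have hH := hKH hxK
    have hcom : ∀ y, ∀ hy : y ∈ perp D d₁, Commute d₂ y → Commute
        (QuotientGroup.mk (⟨x, hH⟩ : ↥(Subgroup.closure (perp D d₁))) : PerpQuot D d₁) (bar hy) := by
      intro y hy hcy
      show QuotientGroup.mk ((⟨x, hH⟩ : ↥(Subgroup.closure (perp D d₁))) * ⟨y, mem_perp_closure hy⟩) =
        QuotientGroup.mk ((⟨y, mem_perp_closure hy⟩ : ↥(Subgroup.closure (perp D d₁))) * ⟨x, hH⟩)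
      refine congrArg QuotientGroup.mk (Subtype.ext ?_)
      by_cases hy2 : y = d₂
      · subst hy2; exact (hEc hx).2.eq
      · exact (hfix y ⟨hy, ⟨hy.1, hy2, hcy⟩⟩).eq
    rcases M.one_or_bar h₂ (QuotientGroup.mk (⟨x, hH⟩ : ↥(Subgroup.closure (perp D d₁)))) hcom with e | e
    · rcases (center_closure_perp h hp h22 h₁ hH).1 (mem_center_closure_iff.1 ((QuotientGroup.eq_one_iff _).1 e))
        with e1 | e1
      · rw [e1]; exact one_mem _
      · rw [e1]; exact Subgroup.subset_closure (by simp)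
    · have hxd : x * d₂ ∈ Subgroup.closure (perp D d₁) := mul_mem hH (mem_perp_closure h₂)
      have e2 : (QuotientGroup.mk (⟨x * d₂, hxd⟩ : ↥(Subgroup.closure (perp D d₁))) : PerpQuot D d₁) = 1 := by
        show QuotientGroup.mk ((⟨x, hH⟩ : ↥(Subgroup.closure (perp D d₁))) * ⟨d₂, mem_perp_closure h₂⟩) =
          (1 : PerpQuot D d₁)
        rw [QuotientGroup.mk_mul, e]
        show bar h₂ * bar h₂ = 1
        rw [hM2, ← map_mul, tv_mul_self M.C M.hq (herm_vE_vE M.C), map_one]
      have hd2V : d₂ ∈ Subgroup.closure ({d₁, d₂} : Set G) := Subgroup.subset_closure (by simp)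
      have hxV : x * d₂ ∈ Subgroup.closure ({d₁, d₂} : Set G) := by
        rcases (center_closure_perp h hp h22 h₁ hxd).1 (mem_center_closure_iff.1 ((QuotientGroup.eq_one_iff _).1 e2))
          with e1 | e1
        · rw [e1]; exact one_mem _
        · rw [e1]; exact Subgroup.subset_closure (by simp)
      have := mul_mem hxV hd2V
      rwa [mul_assoc, mul_self h.1 h2D, mul_one] at this
  obtain ⟨X, hX⟩ := exists_two_prod (E := E) (z := z₀) (d := d₁) hEcard hzne hz2 (mul_self h.1 h₁)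
    (fun e => ne_one h.1 h2D (by
      have := congrArg (fun w => d₁ * w) e
      simpa [hz₀, ← mul_assoc, mul_self h.1 h₁] using this.symm))
    (ne_one h.1 h₁) (hTE (Or.inr rfl)) hd1E
    (fun x hx => ⟨(hEc hx).1, (hEc hx).1.mul_right (hEc hx).2⟩) hcomm hsq (fun x hx hc => by
      rcases hcenE x hx hc with e | e | e | e
      · exact Or.inl e
      · exact Or.inr (Or.inl e)
      · exact Or.inr (Or.inr (Or.inr (by
          rw [e, hz₀, ← mul_assoc, mul_self h.1 h₁, one_mul])))
      · exact Or.inr (Or.inr (Or.inl e)))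
  refine ⟨E', hFstar, ?_, hEnormal, F, iF, iFF, hF, hScard, hAcard, ⟨eq⟩⟩
  obtain ⟨iX, hXf, hXe, hXc, ⟨f⟩⟩ := hX
  exact ⟨X, iX, hXf, hXe, hXc, ⟨(Subgroup.subgroupOfEquivOfLe hEC).trans f⟩⟩

end CfsgLib.FischerTypes
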