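import Cfsg.Agent.FischerTypes.M24Local

/-!
# The commuting graph in type M(24)

All pairs of non-commuting members are conjugate.  The common neighbours of such a pair fall into three parts
without edges between them, so there are enough of them that every member of `D_y` meets their perps.
-/

set_option autoImplicit false
set_option linter.style.haveILetI false
set_option maxHeartbeats 800000

namespace CfsgLib.FischerTypes.M24

open Cfsg CfsgLib.FischerTypes

variable {G : Type*} {D : Set G}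

theorem inequality (m K N : ℤ) (h1 : 351 ≤ m) (h2 : m ≤ 675) (hK : 6*m - 378 ≤ K) (hN : (N-3511)*m = 9884160)
    (hb : (3510-m)^2*K ≤ (N-2*K)*(m*K + 3510 + 692*m - 2*m^2)) : False := by
  have hm : (0:ℤ) ≤ m := by linarith
  have key := mul_le_mul_of_nonneg_left hb hm
  have hA : N * m = 3511*m + 9884160 := by linarith
  have e : m * ((N-2*K)*(m*K + 3510 + 692*m - 2*m^2)) = (3511*m + 9884160 - 2*(m*K))*(m*K + 3510 + 692*m - 2*m^2) := by
    rw [← hA]; ring
  rw [e] at key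
  set A := 3511*m + 9884160
  set c := 3510 + 692*m - 2*m^2
  set B := (3510-m)^2
  set u0 := m*(6*m-378)
  have hu : u0 ≤ m*K := mul_le_mul_of_nonneg_left hK hm
  have f0 : (A - 2*u0)*(u0 + c) - B*u0 < 0 := by
    simp only [A, c, B, u0]
    nlinarith [mul_nonneg (sub_nonneg.2 h1) (sub_nonneg.2 h2), pow_le_pow_left₀ hm h2 2, pow_le_pow_left₀ (by norm_num) h1 2]
  have slope : A - 2*c - B - 4*u0 < 0 := by
    simp only [A, c, B, u0]
    nlinarith [mul_nonneg (sub_nonneg.2 h1) (sub_nonneg.2 h2)]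
  nlinarith [mul_nonneg (sub_nonneg.2 hu) (sub_nonneg.2 hu), mul_nonpos_iff.2 (Or.inl ⟨sub_nonneg.2 hu, slope.le⟩)]

variable [Group G]

/-- The two parameters of the neighbourhood. -/
structure Param (D : Set G) (N m : ℕ) : Prop where
  bounds : 351 ≤ m ∧ m ≤ 675
  le : 3511 ≤ N
  count : (N - 3511) * m = 9884160
  perp_card : ∀ {d : G}, d ∈ D → (perp D d).ncard = N
  pair_card : ∀ {d x y : G}, d ∈ D → x ∈ perp D d → y ∈ perp D d → ¬ Commute x y →
    (perp D d ∩ (perp D x ∩ perp D y)).ncard = m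

variable [Finite G] (H : Hyp G D)

include H

theorem img_pos {d : G} (hd : d ∈ D) : 0 < (img D d).ncard := by
  obtain ⟨-, p, hp, -⟩ := (quot H hd).type
  exact (Set.ncard_pos (Set.toFinite _)).2 ⟨p, hp⟩

theorem perp_nonempty {d : G} (hd : d ∈ D) : (perp D d).Nonempty :=
  Set.nonempty_of_ncard_ne_zero (by rw [ncard_perp H hd]; exact (img_pos H hd).ne')

theorem exists_conj_noncommute {d y d' y' : G} (hd : d ∈ D) (hy : y ∈ D) (hdy : ¬ Commute d y) (hd' : d' ∈ D)
    (hy' : y' ∈ D) (hdy' : ¬ Commute d' y') : ∃ g : G, g * d * g⁻¹ = d' ∧ g * y * g⁻¹ = y' := by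
  have hne : (perp D d).Nonempty := perp_nonempty H hd
  obtain ⟨e, he⟩ := hne
  have hw : ∃ a ∈ D, ∃ b ∈ D, a ≠ b ∧ Commute a b := ⟨d, hd, e, he.1, Ne.symm he.2.1, he.2.2⟩
  have hC := CfsgLib.Transpositions.isThreeTranspositionClass_of_primitive H.group H.prim
  obtain ⟨L, hLn, hLq, hidx, hF⟩ := CfsgLib.Transpositions.exists_component_of_primitive H.group H.prim hw
  haveI := hLn
  have hperfL : ⁅L, L⁆ = L := Subgroup.isPerfect_iff.mp hLq.1
  have hGL := CfsgLib.Transpositions.commutator_eq_of_index_le_two hperfL hidx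
  have hperf : ⁅commutator G, commutator G⁆ = commutator G := by rw [hGL, hperfL]
  have hCL := CfsgLib.Transpositions.centralizer_component_le_center hC
    (CfsgLib.Transpositions.pCore_two_le_center_of_primitive H.group H.prim)
    (CfsgLib.Transpositions.pCore_three_le_center_of_primitive H.group H.prim hw) hF
  have hsol : ∀ N : Subgroup G, N.Normal → Group.IsSolvable ↥N → N = ⊥ := by
    intro N hN hNs
    haveI := hN
    rcases CfsgLib.Components.IsQuasisimple.normal_eq_top_or_le_center hLq (N.subgroupOf L) with h0 | h0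
    · exfalso
      haveI := hNs
      have hle : L ≤ N := fun x hx =>
        (h0 ▸ Subgroup.mem_top (⟨x, hx⟩ : ↥L) : (⟨x, hx⟩ : ↥L) ∈ N.subgroupOf L)
      exact CfsgLib.Components.IsQuasisimple.not_isSolvable hLq
        (Group.isSolvable_of_isSolvable_injective (Subgroup.inclusion_injective hle))
    · rw [eq_bot_iff]
      intro n hn
      have hc : n ∈ Subgroup.center G := Subgroup.mem_center_iff.2 fun g => by
        have h2 : n * g * n⁻¹ * g⁻¹ ∈ N := by
          rw [mul_assoc, mul_assoc, ← mul_assoc g]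
          exact mul_mem hn (hN.conj_mem _ (inv_mem hn) g)
        have h1 : n * g * n⁻¹ * g⁻¹ ∈ L := by
          rw [← hGL, commutator_def]
          exact Subgroup.commutator_mem_commutator (Subgroup.mem_top n) (Subgroup.mem_top g)
        have h3 : (⟨_, h1⟩ : ↥L) ∈ Subgroup.center ↥L := h0 h2
        have h4 : n * g * n⁻¹ * g⁻¹ ∈ Subgroup.center G := hCL (Subgroup.mem_centralizer_iff.2 fun l hl =>
          congrArg Subtype.val (Subgroup.mem_center_iff.1 h3 ⟨l, hl⟩))
        rw [H.type.1, Subgroup.mem_bot, mul_inv_eq_one, mul_inv_eq_iff_eq_mul] at h4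
        exact h4.symm
      rwa [H.type.1] at hc
  obtain ⟨k, hk⟩ := H.prim.1 d' hd' d hd
  have hy2 : ¬ Commute d (k * y' * k⁻¹) := by rw [← hk, commute_conj_iff']; exact hdy'
  obtain ⟨g, hg1, hg2⟩ := CfsgLib.FischerTransitivity.transitive_on_noncommuting hC hsol hperf
    (⟨e, he⟩ : (CfsgLib.FischerTransitivity.commSet D d).Nonempty) hd hy (H.group.2.1 k y' hy') hdy hy2
  refine ⟨k⁻¹ * g, ?_, ?_⟩
  · rw [show k⁻¹ * g * d * (k⁻¹ * g)⁻¹ = k⁻¹ * (g * d * g⁻¹) * k by group, hg1, ← hk]; group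
  · rw [show k⁻¹ * g * y * (k⁻¹ * g)⁻¹ = k⁻¹ * (g * y * g⁻¹) * k by group, hg2]; group

theorem ncard_common_eq {d y d' y' : G} (hd : d ∈ D) (hy : y ∈ D) (hdy : ¬ Commute d y) (hd' : d' ∈ D)
    (hy' : y' ∈ D) (hdy' : ¬ Commute d' y') :
    (perp D d' ∩ perp D y').ncard = (perp D d ∩ perp D y).ncard := by
  obtain ⟨g, rfl, rfl⟩ := exists_conj_noncommute H hd hy hdy hd' hy' hdy'
  have hinj : Function.Injective fun a => g * a * g⁻¹ := fun a b h => mul_left_cancel (mul_right_cancel h)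
  have hp : ∀ u, (fun a => g * a * g⁻¹) '' perp D u = perp D (g * u * g⁻¹) := fun u => by
    ext z
    constructor
    · rintro ⟨a, ha, rfl⟩
      exact ⟨H.group.2.1 g a ha.1, fun h0 => ha.2.1 (hinj h0), (commute_conj_iff' g u a).2 ha.2.2⟩
    · intro hz
      refine ⟨g⁻¹ * z * g, ⟨by simpa using H.group.2.1 g⁻¹ z hz.1, fun h0 => hz.2.1 ?_, ?_⟩, by group⟩
      · rw [← h0]; group
      · rw [← commute_conj_iff' g, show g * (g⁻¹ * z * g) * g⁻¹ = z by group]; exact hz.2.2
  rw [← hp, ← hp, ← Set.image_inter hinj, Set.ncard_image_of_injective _ hinj]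

omit [Finite G] in
theorem perp_conj {d g x : G} : g * x * g⁻¹ ∈ perp D (g * d * g⁻¹) ↔ x ∈ perp D d := by
  constructor
  · intro hx
    refine ⟨by simpa [mul_assoc] using H.group.2.1 g⁻¹ _ hx.1, fun h0 => hx.2.1 (by rw [h0]), ?_⟩
    exact (commute_conj_iff' g d x).1 hx.2.2
  · intro hx
    exact ⟨H.group.2.1 g x hx.1, fun h0 => hx.2.1 (mul_left_cancel (mul_right_cancel h0)),
      (commute_conj_iff' g d x).2 hx.2.2⟩

theorem exists_param : ∃ N m, Param D N m := by
  obtain ⟨d₀, hd₀, -⟩ := H.prim.2.1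
  obtain ⟨x₀, hx₀⟩ := perp_nonempty H hd₀
  obtain ⟨y₀, hy₀, hnc⟩ := noCentral H hd₀ x₀ hx₀
  have hQ := quot H hd₀
  have hnc' : ¬ Commute (bar hx₀) (bar hy₀) := fun h0 => hnc ((bar_commute H hx₀ hy₀).1 h0)
  refine ⟨(img D d₀).ncard, (perp (img D d₀) (bar hx₀) ∩ perp (img D d₀) (bar hy₀)).ncard,
    M23.bounds_common hQ (bar_mem H hd₀ hx₀) (bar_mem H hd₀ hy₀) hnc',
    (M23.card_eq hQ (bar_mem H hd₀ hx₀) (bar_mem H hd₀ hy₀) hnc').2,
    (M23.card_eq hQ (bar_mem H hd₀ hx₀) (bar_mem H hd₀ hy₀) hnc').1, ?_, ?_⟩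
  · intro d hd
    obtain ⟨g, rfl⟩ := H.prim.1 d₀ hd₀ d hd
    rw [← ncard_perp H hd₀, ← Set.ncard_image_of_injective (perp D d₀)
      (f := fun a => g * a * g⁻¹) (fun a b he => mul_left_cancel (mul_right_cancel he))]
    congr 1
    ext z
    constructor
    · intro hz
      refine ⟨g⁻¹ * z * g, (perp_conj H (g := g)).1 ?_, by group⟩
      rwa [show g * (g⁻¹ * z * g) * g⁻¹ = z by group]
    · rintro ⟨a, ha, rfl⟩
      exact (perp_conj H).2 ha
  · intro d x y hd hx hy hxy
    obtain ⟨g, hg⟩ := H.prim.1 d hd d₀ hd₀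
    have hinj : Function.Injective fun a => g * a * g⁻¹ := fun a b he => mul_left_cancel (mul_right_cancel he)
    have hp : ∀ u, (fun a => g * a * g⁻¹) '' perp D u = perp D (g * u * g⁻¹) := fun u => by
      ext z
      constructor
      · rintro ⟨a, ha, rfl⟩
        exact (perp_conj H).2 ha
      · intro hz
        refine ⟨g⁻¹ * z * g, (perp_conj H (g := g)).1 ?_, by group⟩
        rwa [show g * (g⁻¹ * z * g) * g⁻¹ = z by group]
    have hx' : g * x * g⁻¹ ∈ perp D d₀ := hg ▸ (perp_conj H).2 hx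
    have hy' : g * y * g⁻¹ ∈ perp D d₀ := hg ▸ (perp_conj H).2 hy
    rw [← Set.ncard_image_of_injective _ hinj, Set.image_inter hinj, Set.image_inter hinj, hp, hp, hp, hg,
      ncard_perp_pair H hd₀ hx' hy']
    exact M23.ncard_common_eq hQ (bar_mem H hd₀ hx₀) (bar_mem H hd₀ hy₀) hnc' (bar_mem H hd₀ hx') (bar_mem H hd₀ hy')
      (fun h0 => hxy ((commute_conj_iff' g x y).1 ((bar_commute H hx' hy').1 h0)))

variable {d : G} (hd : d ∈ D)

include hd

theorem Param.deg {N m : ℕ} (P : Param D N m) {y : G} (hy : y ∈ D) (hdy : ¬ Commute d y) {x : G}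
    (hxd : x ∈ perp D d) (hxy : x ∈ perp D y) : (perp D d ∩ perp D y ∩ perp D x).ncard = m := by
  rw [Set.inter_comm]
  exact P.pair_card hxd.1 (perp_symm hd hxd) (perp_symm hy hxy) hdy

/-- Two adjacent common neighbours of a non-commuting pair have 126 further ones. -/
theorem ncard_edge {y : G} (hy : y ∈ D) (hdy : ¬ Commute d y) {x u : G} (hxd : x ∈ perp D d)
    (hxy : x ∈ perp D y) (hu : u ∈ perp D d ∩ perp D y) (hxu : u ∈ perp D x) :
    (perp D d ∩ perp D y ∩ (perp D x ∩ perp D u)).ncard = 126 := by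
  have hd' : d ∈ perp D x := perp_symm hd hxd
  have hy' : y ∈ perp D x := perp_symm hy hxy
  rw [ncard_bar H hxd.1 (S := perp D d ∩ perp D y ∩ (perp D x ∩ perp D u))
    (T := perp (img D x) (bar hd') ∩ perp (img D x) (bar hy') ∩ perp (img D x) (bar hxu))
    (fun z hz => hz.2.1) (fun p hp => hp.1.1.1) (fun z hz => by
      rw [Set.mem_inter_iff (bar hz), Set.mem_inter_iff (bar hz), mem_perp_bar H hxd.1 hd' hz,
        mem_perp_bar H hxd.1 hy' hz, mem_perp_bar H hxd.1 hxu hz]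
      exact ⟨fun h0 => ⟨h0.1, h0.2.2⟩, fun h0 => ⟨h0.1, hz, h0.2⟩⟩)]
  exact M23.ncard_common_perp (quot H hxd.1) (bar_mem H hxd.1 hd') (bar_mem H hxd.1 hy')
    (fun h0 => hdy ((bar_commute H hd' hy').1 h0)) ((mem_perp_bar H hxd.1 hd' hxu).2 hu.1 |> fun h0 => h0)
    ((mem_perp_bar H hxd.1 hy' hxu).2 hu.2)

/-- A non-empty part of the common neighbours without edges leaving it has at least `2 m - 126` members. -/
theorem part_ge {N m : ℕ} (P : Param D N m) {y : G} (hy : y ∈ D) (hdy : ¬ Commute d y) (K : Set G)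
    (hK : K ⊆ perp D d ∩ perp D y) (hcl : ∀ q ∈ K, ∀ u ∈ perp D d ∩ perp D y, u ∈ perp D q → u ∈ K)
    (hne : K.Nonempty) : 2 * m ≤ K.ncard + 126 := by
  classical
  have := Fintype.ofFinite G
  obtain ⟨x, hx⟩ := hne
  set X := perp D d ∩ perp D y with hX
  set S : Finset G := (X ∩ perp D x).toFinset with hS
  set R : Finset G := (K \ insert x (X ∩ perp D x)).toFinset with hR
  have hScard : S.card = m := by
    rw [hS, ← Set.ncard_eq_toFinset_card']
    exact P.deg H hd hy hdy (hK hx).1 (hK hx).2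
  have hdeg : ∀ q ∈ K, (X ∩ perp D q).ncard = m := fun q hq => P.deg H hd hy hdy (hK hq).1 (hK hq).2
  have hrow : ∀ u ∈ S, m ≤ (R.filter fun w => w ∈ perp D u).card + 127 := by
    intro u hu
    obtain ⟨huX, hux⟩ := Set.mem_toFinset.1 hu
    have huK : u ∈ K := hcl x hx u huX hux
    have hsub : X ∩ perp D u ⊆
        insert x ((X ∩ (perp D x ∩ perp D u)) ∪ ↑(R.filter fun w => w ∈ perp D u)) := by
      intro w hw
      by_cases hwx : w = x
      · exact Or.inl hwx
      by_cases hwp : w ∈ perp D x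
      · exact Or.inr (Or.inl ⟨hw.1, hwp, hw.2⟩)
      · refine Or.inr (Or.inr ?_)
        rw [Finset.mem_coe, Finset.mem_filter, hR, Set.mem_toFinset]
        exact ⟨⟨hcl u huK w hw.1 hw.2, by rintro (h0 | h0); exacts [hwx h0, hwp h0.2]⟩, hw.2⟩
    have h1 := (Set.ncard_le_ncard hsub (Set.toFinite _)).trans ((Set.ncard_insert_le _ _).trans
      (Nat.add_le_add_right (Set.ncard_union_le _ _) 1))
    rw [hdeg u huK, Set.ncard_coe_finset, ncard_edge H hd hy hdy (hK hx).1 (hK hx).2 huX hux] at h1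
    omega
  have hcol : ∀ w ∈ R, (S.filter fun u => w ∈ perp D u).card ≤ m := by
    intro w hw
    obtain ⟨hwK, -⟩ := Set.mem_toFinset.1 hw
    rw [← hdeg w hwK, Set.ncard_eq_toFinset_card']
    refine Finset.card_le_card fun u hu => ?_
    rw [Finset.mem_filter, hS, Set.mem_toFinset] at hu
    exact Set.mem_toFinset.2 ⟨hu.1.1, perp_symm hu.1.1.1.1 hu.2⟩
  have hcount := Finset.sum_comm (s := S) (t := R) (f := fun u w => if w ∈ perp D u then (1 : ℕ) else 0)
  simp only [Finset.sum_boole, Nat.cast_id] at hcount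
  have h1 := Finset.card_nsmul_le_sum S (fun u => (R.filter fun w => w ∈ perp D u).card) (m - 127)
    (fun u hu => by have := hrow u hu; omega)
  have h2 := Finset.sum_le_card_nsmul R (fun w => (S.filter fun u => w ∈ perp D u).card) m hcol
  rw [smul_eq_mul, hScard, hcount] at h1
  rw [smul_eq_mul, mul_comm] at h2
  have h3 : m - 127 ≤ R.card := Nat.le_of_mul_le_mul_left (h1.trans h2) (by have := P.bounds; omega)
  have h4 : (insert x (X ∩ perp D x) ∪ (↑R : Set G)).ncard ≤ K.ncard := by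
    refine Set.ncard_le_ncard ?_ (Set.toFinite _)
    rintro w ((rfl | hw) | hw)
    · exact hx
    · exact hcl x hx w hw.1 hw.2
    · exact (Set.mem_toFinset.1 hw).1
  rw [Set.ncard_union_eq (Set.disjoint_left.2 fun w hw hw' => (Set.mem_toFinset.1 hw').2 hw) (Set.toFinite _)
    (Set.toFinite _), Set.ncard_insert_of_notMem (fun h0 => h0.2.2.1 rfl), hdeg x hx, Set.ncard_coe_finset] at h4
  omega

omit hd in
/-- At the pair of the type the common neighbours fall into three parts. -/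
theorem exists_three_parts : ∃ d ∈ D, ∃ y ∈ D, ¬ Commute d y ∧ ∀ {N m : ℕ}, Param D N m →
    6 * m ≤ (perp D d ∩ perp D y).ncard + 378 := by
  classical
  have := Fintype.ofFinite G
  obtain ⟨-, d, hd, c, hc, hdc, -, Nn, hNn, -, ⟨e3⟩⟩ := H.type
  refine ⟨d, hd, c, hc, hdc, fun {N m} P => ?_⟩
  haveI := hNn
  set X := perp D d ∩ perp D c with hX
  set Lg := Subgroup.closure X with hLg
  let φ : ↥Lg →* Equiv.Perm (Fin 3) :=
    e3.toMonoidHom.comp ((QuotientGroup.mk' Nn).comp (QuotientGroup.mk' (Subgroup.center ↥Lg)))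
  have hφs : Function.Surjective φ :=
    e3.surjective.comp ((QuotientGroup.mk'_surjective Nn).comp (QuotientGroup.mk'_surjective _))
  set τ : G → Equiv.Perm (Fin 3) := fun x => if hx : x ∈ X then φ ⟨x, Subgroup.subset_closure hx⟩ else 1 with hτ
  have hτX : ∀ {x} (hx : x ∈ X), τ x = φ ⟨x, Subgroup.subset_closure hx⟩ := fun {x} hx => by simp [hτ, hx]
  have hmul : ∀ {x}, x ∈ X → τ x * τ x = 1 := fun {x} hx => by
    rw [hτX hx, ← map_mul, ← map_one φ]
    exact congrArg φ (Subtype.ext (mul_self H.group.1 hx.1.1))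
  have hconjX : ∀ {a x}, a ∈ X → x ∈ X → a * x * a⁻¹ ∈ X := fun {a x} ha hx =>
    ⟨conj_mem_perp H.group ha.1.2.2.symm hx.1, conj_mem_perp H.group ha.2.2.2.symm hx.2⟩
  have hτconj : ∀ {a x}, a ∈ X → x ∈ X → τ (a * x * a⁻¹) = τ a * τ x * (τ a)⁻¹ := fun {a x} ha hx => by
    rw [hτX (hconjX ha hx), hτX ha, hτX hx, ← map_inv, ← map_mul, ← map_mul]; rfl
  have hperm2 : ∀ a b : Equiv.Perm (Fin 3), a * a = 1 → b * b = 1 → a * b = b * a → a = 1 ∨ b = 1 ∨ a = b := by
    decide
  have hperm3 : ∀ a b s : Equiv.Perm (Fin 3), a * a = 1 → b * b = 1 → s * s = 1 → a ≠ 1 → b ≠ 1 → a ≠ b →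
      s ≠ 1 → s = a ∨ s = b ∨ s = a * b * a⁻¹ := by
    decide
  have hperm4 : ∃ a b : Equiv.Perm (Fin 3), a * b ≠ b * a := by decide
  -- two different transpositions are images
  obtain ⟨a, ha, b, hb, na, nb, nab⟩ : ∃ a ∈ X, ∃ b ∈ X, τ a ≠ 1 ∧ τ b ≠ 1 ∧ τ a ≠ τ b := by
    by_contra hall
    push Not at hall
    have hcomm : ∀ a ∈ X, ∀ b ∈ X, Commute (τ a) (τ b) := fun a ha b hb => by
      by_cases na : τ a = 1
      · rw [na]; exact Commute.one_left _
      by_cases nb : τ b = 1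
      · rw [nb]; exact Commute.one_right _
      rw [hall a ha b hb na nb]
    obtain ⟨p, q, hpq⟩ := hperm4
    obtain ⟨p, rfl⟩ := hφs p
    obtain ⟨q, rfl⟩ := hφs q
    refine hpq ?_
    have hgen : ∀ p : ↥Lg, ∀ q : ↥Lg, Commute (φ p) (φ q) := by
      rintro ⟨p, hp⟩ ⟨q, hq⟩
      induction hp, hq using Subgroup.closure_induction₂ with
      | mem p q hp hq => rw [← hτX hp, ← hτX hq]; exact hcomm p hp q hq
      | one_left x hx => rw [show (⟨1, _⟩ : ↥Lg) = 1 from rfl, map_one]; exact Commute.one_left _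
      | one_right x hx => rw [show (⟨1, _⟩ : ↥Lg) = 1 from rfl, map_one]; exact Commute.one_right _
      | mul_left x y z hx hy hz h₁ h₂ =>
        rw [show (⟨x * y, _⟩ : ↥Lg) = ⟨x, hx⟩ * ⟨y, hy⟩ from rfl, map_mul]; exact h₁.mul_left h₂
      | mul_right y z x hy hz hx h₁ h₂ =>
        rw [show (⟨y * z, _⟩ : ↥Lg) = ⟨y, hy⟩ * ⟨z, hz⟩ from rfl, map_mul]; exact h₁.mul_right h₂
      | inv_left x y hx hy h₁ =>
        rw [show (⟨x⁻¹, _⟩ : ↥Lg) = (⟨x, hx⟩ : ↥Lg)⁻¹ from rfl, map_inv]; exact h₁.inv_left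
      | inv_right x y hx hy h₁ =>
        rw [show (⟨y⁻¹, _⟩ : ↥Lg) = (⟨y, hy⟩ : ↥Lg)⁻¹ from rfl, map_inv]; exact h₁.inv_right
    exact hgen p q
  set c' := a * b * a⁻¹ with hc'def
  have hc' : c' ∈ X := hconjX ha hb
  have nc' : τ c' ≠ 1 := by rw [hτconj ha hb]; exact fun h0 => nb (conj_eq_one_iff.1 h0)
  have nac : τ a ≠ τ c' := by
    rw [hτconj ha hb]
    intro h0
    refine nab ?_
    have h1 : τ a * τ a = τ a * τ b := mul_right_cancel (b := (τ a)⁻¹) (by rw [mul_inv_cancel_right]; exact h0)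
    exact mul_left_cancel h1
  have nbc : τ b ≠ τ c' := by
    rw [hτconj ha hb]
    intro h0
    rcases hperm2 (τ a) (τ b) (hmul ha) (hmul hb) (by
      calc τ a * τ b = τ a * τ b * (τ a)⁻¹ * τ a := by rw [inv_mul_cancel_right]
        _ = τ b * τ a := by rw [← h0]) with h1 | h1 | h1
    exacts [na h1, nb h1, nab h1]
  set A := {x | x ∈ X ∧ τ x = 1} with hA
  set Bs := {x | x ∈ X ∧ τ x ≠ 1} with hBs
  obtain ⟨hm1, hm2⟩ := P.bounds
  have hdeg : ∀ q ∈ X, (X ∩ perp D q).ncard = m := fun q hq => P.deg H hd hc hdc hq.1 hq.2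
  have hedge : ∀ {q u}, q ∈ X → u ∈ X → u ∈ perp D q → (X ∩ (perp D q ∩ perp D u)).ncard = 126 :=
    fun {q u} hq hu hqu => ncard_edge H hd hc hdc hq.1 hq.2 hu hqu
  -- members with image one commute with the others
  have hAB : ∀ x ∈ A, ∀ w ∈ Bs, w ∈ perp D x := by
    intro x hx w hw
    refine ⟨hw.1.1.1, fun h0 => hw.2 (h0 ▸ hx.2), ?_⟩
    by_contra hxw
    refine hw.2 ?_
    have h1 : w = (x * w) * x * (x * w)⁻¹ := by
      have hxD := hx.1.1.1
      have hwD := hw.1.1.1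
      rw [_root_.mul_inv_rev, inv_eq H.group.1 hxD, inv_eq H.group.1 hwD]
      calc w = x * (x * w * x) * x := by
            simp [mul_assoc, mul_self H.group.1 hxD, mul_self_cancel H.group.1 hxD]
        _ = x * (w * x * w) * x := by rw [braid H.group.1 hxD hwD hxw]
        _ = x * w * x * (w * x) := by simp [mul_assoc]
    rw [hτX hw.1]
    have h2 : (⟨w, Subgroup.subset_closure hw.1⟩ : ↥Lg) =
        (⟨x, Subgroup.subset_closure hx.1⟩ * ⟨w, Subgroup.subset_closure hw.1⟩) * ⟨x, Subgroup.subset_closure hx.1⟩ *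
          ((⟨x, Subgroup.subset_closure hx.1⟩ : ↥Lg) * ⟨w, Subgroup.subset_closure hw.1⟩)⁻¹ := Subtype.ext h1
    have hφx : φ ⟨x, Subgroup.subset_closure hx.1⟩ = 1 := (hτX hx.1).symm.trans hx.2
    rw [h2, map_mul, map_mul, map_inv, hφx, mul_one, mul_inv_cancel]
  have hsame : ∀ {q u}, q ∈ Bs → u ∈ X → u ∈ perp D q → τ u = 1 ∨ τ u = τ q := fun {q u} hq hu hqu => by
    rcases hperm2 (τ q) (τ u) (hmul hq.1) (hmul hu) (by
      rw [hτX hq.1, hτX hu, ← map_mul, ← map_mul]
      exact congrArg φ (Subtype.ext hqu.2.2.eq)) with h1 | h1 | h1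
    exacts [absurd h1 hq.2, Or.inl h1, Or.inr h1.symm]
  have hempty : A = ∅ := by
    by_contra hne
    obtain ⟨x, hx⟩ := Set.nonempty_iff_ne_empty.2 hne
    have hBx : Bs.ncard + (A ∩ perp D x).ncard = m := by
      rw [← hdeg x hx.1, ← Set.ncard_union_eq (Set.disjoint_left.2 fun w hw hw' => hw.2 hw'.1.2) (Set.toFinite _)
        (Set.toFinite _)]
      congr 1
      ext w
      constructor
      · rintro (hw | hw)
        exacts [⟨hw.1, hAB x hx w hw⟩, ⟨hw.1.1, hw.2⟩]
      · intro hw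
        by_cases hw1 : τ w = 1
        · exact Or.inr ⟨⟨hw.1, hw1⟩, hw.2⟩
        · exact Or.inl ⟨hw.1, hw1⟩
    have hAw : ∀ w ∈ Bs, A.ncard + (Bs ∩ perp D w).ncard = m := fun w hw => by
      rw [← hdeg w hw.1, ← Set.ncard_union_eq (Set.disjoint_left.2 fun u hu hu' => hu'.1.2 hu.2) (Set.toFinite _)
        (Set.toFinite _)]
      congr 1
      ext u
      constructor
      · rintro (hu | hu)
        exacts [⟨hu.1, perp_symm hu.1.1.1 (hAB u hu w hw)⟩,
          ⟨hu.1.1, hu.2⟩]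
      · intro hu
        by_cases hu1 : τ u = 1
        · exact Or.inl ⟨hu.1, hu1⟩
        · exact Or.inr ⟨⟨hu.1, hu1⟩, hu.2⟩
    have haB : a ∈ Bs := ⟨ha, na⟩
    have hxa : (A ∩ perp D x).ncard + (Bs ∩ perp D a).ncard = 126 := by
      rw [← hedge hx.1 ha (hAB x hx a haB), ← Set.ncard_union_eq
        (Set.disjoint_left.2 fun u hu hu' => hu'.1.2 hu.1.2) (Set.toFinite _) (Set.toFinite _)]
      congr 1
      ext u
      constructor
      · rintro (hu | hu)
        · exact ⟨hu.1.1, hu.2, perp_symm hu.1.1.1.1 (hAB u hu.1 a haB)⟩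
        · exact ⟨hu.1.1, hAB x hx u hu.1, hu.2⟩
      · intro hu
        by_cases hu1 : τ u = 1
        · exact Or.inl ⟨⟨hu.1, hu1⟩, hu.2.1⟩
        · exact Or.inr ⟨⟨hu.1, hu1⟩, hu.2.2⟩
    by_cases hB2 : ∃ w ∈ Bs, (Bs ∩ perp D w).Nonempty
    · obtain ⟨w, hw, w2, hw2, hww⟩ := hB2
      have hA126 : A.ncard ≤ 126 := by
        rw [← hedge hw.1 hw2.1 hww]
        exact Set.ncard_le_ncard (fun u hu => ⟨hu.1, perp_symm hu.1.1.1 (hAB u hu w hw),
          perp_symm hu.1.1.1 (hAB u hu w2 hw2)⟩) (Set.toFinite _)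
      have hfib : ∀ v ∈ Bs, m ≤ 126 + (Bs ∩ {u | τ u = τ v}).ncard := fun v hv => by
        have h1 : (Bs ∩ perp D v).ncard ≤ (Bs ∩ {u | τ u = τ v}).ncard :=
          Set.ncard_le_ncard (fun u hu => ⟨hu.1, (hsame hv hu.1.1 hu.2).resolve_left hu.1.2⟩) (Set.toFinite _)
        have := hAw v hv
        omega
      have hB3 : (Bs ∩ {u | τ u = τ a}).ncard + (Bs ∩ {u | τ u = τ b}).ncard + (Bs ∩ {u | τ u = τ c'}).ncard ≤
          Bs.ncard := by
        rw [← Set.ncard_union_eq (Set.disjoint_left.2 fun u hu hu' => nab (hu.2.symm.trans hu'.2)) (Set.toFinite _)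
          (Set.toFinite _), ← Set.ncard_union_eq (Set.disjoint_left.2 ?_) (Set.toFinite _) (Set.toFinite _)]
        · exact Set.ncard_le_ncard (by rintro u ((hu | hu) | hu) <;> exact hu.1) (Set.toFinite _)
        · rintro u (hu | hu) hu'
          exacts [nac (hu.2.symm.trans hu'.2), nbc (hu.2.symm.trans hu'.2)]
      have := hfib a haB
      have := hfib b ⟨hb, nb⟩
      have := hfib c' ⟨hc', nc'⟩
      omega
    · push Not at hB2
      rw [hB2 a haB, Set.ncard_empty] at hxa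
      obtain ⟨x2, hx2⟩ : (A ∩ perp D x).Nonempty := Set.nonempty_of_ncard_ne_zero (by omega)
      have hB126 : Bs.ncard ≤ 126 := by
        rw [← hedge hx.1 hx2.1.1 hx2.2]
        exact Set.ncard_le_ncard (fun u hu => ⟨hu.1, hAB x hx u hu, hAB x2 hx2.1 u hu⟩) (Set.toFinite _)
      omega
  have hB : ∀ u ∈ X, τ u ≠ 1 := fun u hu h0 =>
    (Set.eq_empty_iff_forall_notMem.1 hempty) u ⟨hu, h0⟩
  have hclosed : ∀ v, ∀ q ∈ X ∩ {u | τ u = v}, ∀ u ∈ X, u ∈ perp D q → u ∈ X ∩ {u | τ u = v} :=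
    fun v q hq u hu hqu =>
      ⟨hu, ((hsame ⟨hq.1, hB q hq.1⟩ hu hqu).resolve_left (hB u hu)).trans hq.2⟩
  have p1 := part_ge H hd P hc hdc (X ∩ {u | τ u = τ a}) Set.inter_subset_left (hclosed _) ⟨a, ha, rfl⟩
  have p2 := part_ge H hd P hc hdc (X ∩ {u | τ u = τ b}) Set.inter_subset_left (hclosed _) ⟨b, hb, rfl⟩
  have p3 := part_ge H hd P hc hdc (X ∩ {u | τ u = τ c'}) Set.inter_subset_left (hclosed _) ⟨c', hc', rfl⟩
  have hsum : (X ∩ {u | τ u = τ a}).ncard + (X ∩ {u | τ u = τ b}).ncard + (X ∩ {u | τ u = τ c'}).ncard ≤ X.ncard := by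
    rw [← Set.ncard_union_eq (Set.disjoint_left.2 fun u hu hu' => nab (hu.2.symm.trans hu'.2)) (Set.toFinite _)
      (Set.toFinite _), ← Set.ncard_union_eq (Set.disjoint_left.2 ?_) (Set.toFinite _) (Set.toFinite _)]
    · exact Set.ncard_le_ncard (by rintro u ((hu | hu) | hu) <;> exact hu.1) (Set.toFinite _)
    · rintro u (hu | hu) hu'
      exacts [nac (hu.2.symm.trans hu'.2), nbc (hu.2.symm.trans hu'.2)]
  omega

theorem ncard_common_ge {y : G} (hy : y ∈ D) (hdy : ¬ Commute d y) {N m : ℕ} (P : Param D N m) :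
    6 * m ≤ (perp D d ∩ perp D y).ncard + 378 := by
  obtain ⟨d₀, hd₀, y₀, hy₀, hnc, hge⟩ := exists_three_parts H
  rw [ncard_common_eq H hd₀ hy₀ hnc hd hy hdy]
  exact hge P

/-- Every two non-commuting members have a common neighbour. -/
theorem common_nonempty {y : G} (hy : y ∈ D) (hdy : ¬ Commute d y) :
    (perp D d ∩ perp D y).Nonempty := by
  obtain ⟨N, m, P⟩ := exists_param H
  have := ncard_common_ge H hd hy hdy P
  have := P.bounds
  exact Set.nonempty_of_ncard_ne_zero (by omega)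

/-- The counting inequality for a union `K` of components of `D_d ∩ D_y` and a set `Z` without neighbours
in `K`. -/
theorem component_bound {N m : ℕ} (P : Param D N m) (K Z : Finset G)
    (hK : ∀ q ∈ K, q ∈ perp D d) (hdeg : ∀ q ∈ K, ((K : Set G) ∩ perp D q).ncard = m)
    (hne : K.Nonempty) (hZ : ∀ p ∈ Z, p ∈ perp D d ∧ p ∉ K ∧ ∀ q ∈ K, q ∉ perp D p) :
    (3510 - (m : ℤ)) ^ 2 * (K.card : ℤ) ≤
      ((N : ℤ) - K.card - Z.card) * ((m : ℤ) * K.card + 3510 + 692 * m - 2 * (m : ℤ) ^ 2) := by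
  classical
  have := Fintype.ofFinite G
  set PP : Finset G := Finset.univ.filter (fun p => p ∈ perp D d) with hP
  have hPcard : PP.card = N := by
    rw [← P.perp_card hd, Set.ncard_eq_toFinset_card']; congr 1; ext z
    simp only [hP, Set.mem_toFinset, Finset.mem_filter, Finset.mem_univ, true_and]
  set r : G → G → ℕ := fun p q => if q ∈ perp D p then 1 else 0 with hr
  set f : G → ℕ := fun p => ∑ q ∈ K, r p q with hf
  have hsymm : ∀ {p q}, p ∈ perp D d → q ∈ perp D p → p ∈ perp D q := fun hp hq => perp_symm hp.1 hq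
  -- first moment
  have h1 : ∑ p ∈ PP, f p = 3510 * K.card := by
    simp only [hf]
    rw [Finset.sum_comm, Finset.sum_eq_card_nsmul (b := 3510), smul_eq_mul, mul_comm]
    intro q hq
    simp only [hr, Finset.sum_boole, Nat.cast_id]
    rw [← ncard_perp_perp H hd (hK q hq), Set.ncard_eq_toFinset_card']
    congr 1
    ext p
    simp only [hP, Finset.mem_filter, Finset.mem_univ, true_and, Set.mem_toFinset, Set.mem_inter_iff]
    exact ⟨fun ⟨hp, hq'⟩ => ⟨hp, hsymm hp hq'⟩, fun ⟨hp, hp'⟩ => ⟨hp, perp_symm (hK q hq).1 hp'⟩⟩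
  -- second moment
  have h2 : (∑ p ∈ PP, (f p : ℤ) ^ 2) = (K.card : ℤ) * ((m : ℤ) * K.card + 3510 + 692 * m - (m : ℤ) ^ 2) := by
    have e : ∀ p, (f p : ℤ) ^ 2 = ∑ q ∈ K, ∑ q' ∈ K, ((r p q * r p q' : ℕ) : ℤ) := fun p => by
      simp only [hf]; push_cast; rw [pow_two, Finset.sum_mul_sum]
    simp only [e]
    rw [Finset.sum_comm, Finset.sum_eq_card_nsmul (b := (m : ℤ) * K.card + 3510 + 692 * m - (m : ℤ) ^ 2)]
    · rw [nsmul_eq_mul]
    intro q hq
    rw [Finset.sum_comm]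
    have hcommon : ∀ q' ∈ K, (∑ p ∈ PP, ((r p q * r p q' : ℕ) : ℤ)) =
        if q' = q then (3510 : ℤ) else if q' ∈ perp D q then 693 else (m : ℤ) := by
      intro q' hq'
      have e2 : ∀ p, ((r p q * r p q' : ℕ) : ℤ) = if q ∈ perp D p ∧ q' ∈ perp D p then 1 else 0 := fun p => by
        simp only [hr]
        by_cases ha : q ∈ perp D p
        · by_cases hb : q' ∈ perp D p
          · rw [if_pos ha, if_pos hb, if_pos ⟨ha, hb⟩]; rfl
          · rw [if_pos ha, if_neg hb, if_neg (fun hh => hb hh.2)]; rfl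
        · rw [if_neg ha, if_neg (show ¬ (q ∈ perp D p ∧ q' ∈ perp D p) from fun hh => ha hh.1), zero_mul]; rfl
      simp only [e2, Finset.sum_boole]
      have e3 : (PP.filter fun p => q ∈ perp D p ∧ q' ∈ perp D p).card =
          (perp D d ∩ (perp D q ∩ perp D q')).ncard := by
        rw [Set.ncard_eq_toFinset_card']
        congr 1
        ext p
        simp only [hP, Finset.mem_filter, Finset.mem_univ, true_and, Set.mem_toFinset, Set.mem_inter_iff]
        exact ⟨fun ⟨hp, ha, hb⟩ => ⟨hp, hsymm hp ha, hsymm hp hb⟩,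
          fun ⟨hp, ha, hb⟩ => ⟨hp, perp_symm (hK q hq).1 ha, perp_symm (hK q' hq').1 hb⟩⟩
      rw [e3]
      split_ifs with ha hb
      · rw [ha, Set.inter_self, ncard_perp_perp H hd (hK q hq)]; rfl
      · rw [ncard_perp_commute H hd (hK q hq) (hK q' hq') (Ne.symm ha) hb.2.2]; rfl
      · rw [P.pair_card hd (hK q hq) (hK q' hq') fun hc => hb ⟨(hK q' hq').1, ha, hc⟩]
    rw [Finset.sum_congr rfl hcommon]
    have e4 : ∀ q' ∈ K, (if q' = q then (3510 : ℤ) else if q' ∈ perp D q then 693 else (m : ℤ)) =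
        (m : ℤ) + (if q' = q then 3510 - (m : ℤ) else 0) + (if q' ∈ perp D q then 693 - (m : ℤ) else 0) := by
      intro q' _
      by_cases ha : q' = q
      · subst ha; simp
      · simp only [if_neg ha]; split_ifs <;> norm_num
    rw [Finset.sum_congr rfl e4, Finset.sum_add_distrib, Finset.sum_add_distrib, Finset.sum_const,
      Finset.sum_ite_eq' K q, if_pos hq, nsmul_eq_mul,
      ← Finset.sum_filter (s := K) (fun q' => q' ∈ perp D q) (fun _ => (693 : ℤ) - (m : ℤ)), Finset.sum_const, nsmul_eq_mul]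
    have e5 : (K.filter fun q' => q' ∈ perp D q).card = m := by
      rw [← hdeg q hq, Set.ncard_eq_toFinset_card']
      congr 1; ext z; simp only [Set.mem_toFinset, Finset.mem_filter, Set.mem_inter_iff, Finset.mem_coe]
    rw [e5]; push_cast; ring
  -- values on `K` and `Z`
  have hKP : K ⊆ PP := fun q hq => Finset.mem_filter.2 ⟨Finset.mem_univ _, hK q hq⟩
  have hfK : ∀ p ∈ K, f p = m := fun p hp => by
    simp only [hf, hr, Finset.sum_boole, Nat.cast_id]
    rw [← hdeg p hp, Set.ncard_eq_toFinset_card']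
    congr 1; ext z; simp only [Set.mem_toFinset, Finset.mem_filter, Set.mem_inter_iff, Finset.mem_coe]
  set O := PP \ K with hO
  have hZO : Z ⊆ O := fun p hp => Finset.mem_sdiff.2
    ⟨Finset.mem_filter.2 ⟨Finset.mem_univ _, (hZ p hp).1⟩, (hZ p hp).2.1⟩
  have hfZ : ∀ p ∈ Z, f p = 0 := fun p hp => Finset.sum_eq_zero fun q hq => if_neg ((hZ p hp).2.2 q hq)
  have s1 : (∑ p ∈ O \ Z, (f p : ℤ)) = (3510 - (m : ℤ)) * K.card := by
    have a1 := Finset.sum_sdiff (f := fun p => (f p : ℤ)) hKP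
    have a2 := Finset.sum_sdiff (f := fun p => (f p : ℤ)) hZO
    rw [Finset.sum_congr (s₁ := K) rfl (fun p hp => show (f p : ℤ) = m by rw [hfK p hp]), Finset.sum_const,
      nsmul_eq_mul, ← hO] at a1
    rw [Finset.sum_congr (s₁ := Z) rfl (fun p hp => show (f p : ℤ) = 0 by rw [hfZ p hp]; rfl), Finset.sum_const,
      smul_zero, add_zero] at a2
    have a3 : (∑ p ∈ PP, (f p : ℤ)) = 3510 * K.card := by exact_mod_cast h1
    linarith
  have s2 : (∑ p ∈ O \ Z, (f p : ℤ) ^ 2) = (K.card : ℤ) * ((m : ℤ) * K.card + 3510 + 692 * m - 2 * (m : ℤ) ^ 2) := by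
    have a1 := Finset.sum_sdiff (f := fun p => (f p : ℤ) ^ 2) hKP
    have a2 := Finset.sum_sdiff (f := fun p => (f p : ℤ) ^ 2) hZO
    rw [Finset.sum_congr (s₁ := K) rfl (fun p hp => show (f p : ℤ) ^ 2 = (m : ℤ) ^ 2 by rw [hfK p hp]),
      Finset.sum_const, nsmul_eq_mul, ← hO] at a1
    rw [Finset.sum_congr (s₁ := Z) rfl (fun p hp => show (f p : ℤ) ^ 2 = 0 by rw [hfZ p hp]; rfl), Finset.sum_const,
      smul_zero, add_zero] at a2
    linarith
  have hcard : ((O \ Z).card : ℤ) = (N : ℤ) - K.card - Z.card := by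
    rw [Finset.cast_card_sdiff hZO, hO, Finset.cast_card_sdiff hKP, hPcard]
  have hcs := sq_sum_le_card_mul_sum_sq (s := O \ Z) (f := fun p => (f p : ℤ))
  rw [s1, s2, hcard] at hcs
  have hpos : (0 : ℤ) < K.card := by exact_mod_cast hne.card_pos
  have h3 : (K.card : ℤ) * ((3510 - (m : ℤ)) ^ 2 * K.card) ≤ (K.card : ℤ) *
      (((N : ℤ) - K.card - Z.card) * ((m : ℤ) * K.card + 3510 + 692 * m - 2 * (m : ℤ) ^ 2)) := by
    linear_combination hcs
  exact le_of_mul_le_mul_left h3 hpos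

/-- If `d`, `y` have a common neighbour then every member of `D_d` has a neighbour among these. -/
theorem exists_commute_common {y p : G} (hy : y ∈ D) (hdy : ¬ Commute d y)
    (hX : (perp D d ∩ perp D y).Nonempty) (hpd : p ∈ perp D d) (hpy : ¬ Commute y p) :
    ∃ q ∈ perp D d ∩ perp D y, q ∈ perp D p := by
  classical
  have := Fintype.ofFinite G
  by_contra hall
  push Not at hall
  have h := H.group
  obtain ⟨N, m, P⟩ := exists_param H
  set K : Finset G := (perp D d ∩ perp D y).toFinset with hK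
  have hKm : ∀ {q}, q ∈ K ↔ q ∈ perp D d ∧ q ∈ perp D y :=
    fun {q} => Set.mem_toFinset
  have hnc : ∀ q ∈ K, ¬ Commute p q := fun q hq hc =>
    hall q ⟨(hKm.1 hq).1, (hKm.1 hq).2⟩ ⟨(hKm.1 hq).1.1, fun he => hpy (he ▸ (hKm.1 hq).2.2.2), hc⟩
  have hcd : ∀ q ∈ K, Commute q d ∧ Commute q y ∧ q ∈ D :=
    fun q hq => ⟨(hKm.1 hq).1.2.2.symm, (hKm.1 hq).2.2.2.symm, (hKm.1 hq).1.1⟩
  set Z : Finset G := K.image (fun q => q * p * q) with hZ
  have hinj : Set.InjOn (fun q => q * p * q) (K : Set G) := by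
    intro q hq q' hq' he
    simp only at he
    rw [braid h.1 (hcd q hq).2.2 hpd.1 (fun hc => hnc q hq hc.symm),
      braid h.1 (hcd q' hq').2.2 hpd.1 (fun hc => hnc q' hq' hc.symm)] at he
    exact mul_left_cancel (mul_right_cancel he)
  have hcard : Z.card = K.card := Finset.card_image_of_injOn hinj
  have hdeg : ∀ q ∈ K, ((K : Set G) ∩ perp D q).ncard = m := fun q hq => by
    rw [hK, Set.coe_toFinset]
    exact P.deg H hd hy hdy (hKm.1 hq).1 (hKm.1 hq).2
  have hZp : ∀ o ∈ Z, o ∈ perp D d ∧ o ∉ K ∧ ∀ q ∈ K, q ∉ perp D o := by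
    intro o ho
    obtain ⟨q₀, hq₀, rfl⟩ := Finset.mem_image.1 ho
    obtain ⟨c1, c2, hqD⟩ := hcd q₀ hq₀
    have hi : q₀⁻¹ = q₀ := inv_eq h.1 hqD
    have hconj : ∀ a, Commute (q₀ * p * q₀) a ↔ Commute p (q₀ * a * q₀) := fun a => by
      have h1 := commute_conj_iff' q₀ (q₀ * p * q₀) a
      rw [hi, show q₀ * (q₀ * p * q₀) * q₀ = p by
        simp [mul_assoc, mul_self h.1 hqD, mul_self_cancel h.1 hqD]] at h1
      exact h1.symm
    have hmem : q₀ * p * q₀ ∈ perp D d := by
      have h1 := conj_mem_perp h c1 hpd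
      rwa [hi] at h1
    refine ⟨hmem, fun hK' => hpy ?_, fun q hq hqo => ?_⟩
    · have h1 := (hconj y).1 (hKm.1 hK').2.2.2.symm
      rw [c2.eq, mul_assoc, mul_self h.1 hqD, mul_one] at h1
      exact h1.symm
    · have hm : q₀ * q * q₀ ∈ K := by
        have h1 := conj_mem_perp h c1 (hKm.1 hq).1
        have h2 := conj_mem_perp h c2 (hKm.1 hq).2
        rw [hi] at h1 h2
        exact hKm.2 ⟨h1, h2⟩
      exact hnc _ hm ((hconj q).1 hqo.2.2)
  have hb := component_bound H hd P K Z (fun q hq => (hKm.1 hq).1) hdeg (by rw [hK, Set.toFinset_nonempty]; exact hX) hZp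
  rw [hcard] at hb
  obtain ⟨hm1, hm2⟩ := P.bounds
  refine inequality (m : ℤ) (K.card : ℤ) (N : ℤ) (by exact_mod_cast hm1) (by exact_mod_cast hm2) ?_ ?_ ?_
  · have := ncard_common_ge H hd hy hdy P
    rw [Set.ncard_eq_toFinset_card', ← hK] at this
    omega
  · have h0 := P.count
    have h1 := P.le
    have : ((N - 3511 : ℕ) : ℤ) * (m : ℤ) = 9884160 := by exact_mod_cast h0
    rwa [Nat.cast_sub h1] at this
  · linear_combination hb

/-- `d`, `D_d` and one more member generate. -/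
theorem closure_insert_eq_top {x : G} (hx : x ∈ D) (hdx : ¬ Commute d x) :
    Subgroup.closure (insert x (insert d (perp D d))) = ⊤ := by
  obtain ⟨e, he⟩ : (perp D d).Nonempty := Set.nonempty_of_ncard_ne_zero (by rw [ncard_perp H hd]; exact (img_pos H hd).ne')
  have hw : ∃ a ∈ D, ∃ b ∈ D, a ≠ b ∧ Commute a b := ⟨d, hd, e, he.1, Ne.symm he.2.1, he.2.2⟩
  obtain ⟨-, hmax⟩ := CfsgLib.Transpositions.maximal_dSubgroup_of_primitive H.group H.prim hw hd
  set S := Subgroup.closure (insert x (insert d (perp D d))) with hS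
  have hsub : insert x (insert d (perp D d)) ⊆ D := by
    rintro z (rfl | rfl | hz)
    exacts [hx, hd, hz.1]
  have hDS : IsDSubgroup D S := by
    refine le_antisymm ((Subgroup.closure_le _).2 fun z hz => hz.2) ?_
    exact Subgroup.closure_mono fun z hz => ⟨hsub hz, Subgroup.subset_closure hz⟩
  have hle : Subgroup.closure {y : G | y ∈ D ∧ Commute d y} ≤ S := by
    refine Subgroup.closure_mono fun y hy => ?_
    by_cases hyd : y = d
    · exact Or.inr (Or.inl hyd)
    · exact Or.inr (Or.inr ⟨hy.1, hyd, hy.2⟩)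
  refine (hmax S hDS hle).resolve_left fun he' => hdx ?_
  have h1 : x ∈ Subgroup.closure {y : G | y ∈ D ∧ Commute d y} :=
    he' ▸ Subgroup.subset_closure (Set.mem_insert _ _)
  have h2 : Subgroup.closure {y : G | y ∈ D ∧ Commute d y} ≤ Subgroup.centralizer ({d} : Set G) :=
    (Subgroup.closure_le _).2 fun y hy => Subgroup.mem_centralizer_singleton_iff.2 hy.2.eq.symm
  exact (Subgroup.mem_centralizer_singleton_iff.1 (h2 h1)).symm

/-- The only elements centralizing `d` and `D_d` are `1` and `d`. -/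
theorem eq_one_or_eq_of_centralize {w : G} (hwd : Commute w d) (hw : ∀ y ∈ perp D d, Commute w y) :
    w = 1 ∨ w = d := by
  have h := H.group
  obtain ⟨e, he⟩ : (perp D d).Nonempty := Set.nonempty_of_ncard_ne_zero (by rw [ncard_perp H hd]; exact (img_pos H hd).ne')
  have hde : d ∈ perp D e := perp_symm hd he
  obtain ⟨x, hx, hnc⟩ := noCentral H he.1 d hde
  have fixed : ∀ w : G, Commute w d → (∀ y ∈ perp D d, Commute w y) → Commute w x → w = 1 := by
    intro w hwd hw hwx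
    have hle : Subgroup.closure (insert x (insert d (perp D d))) ≤ Subgroup.centralizer ({w} : Set G) := by
      rw [Subgroup.closure_le]
      rintro z (rfl | rfl | hz) <;> refine Subgroup.mem_centralizer_singleton_iff.2 ?_
      exacts [hwx.eq.symm, hwd.eq.symm, (hw z hz).eq.symm]
    rw [closure_insert_eq_top H hd hx.1 hnc] at hle
    have hc : w ∈ Subgroup.center G := Subgroup.mem_center_iff.2 fun g =>
      Subgroup.mem_centralizer_singleton_iff.1 (hle (Subgroup.mem_top g))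
    rwa [H.type.1, Subgroup.mem_bot] at hc
  have hwe : Commute w e := hw e he
  have hx' : w * x * w⁻¹ ∈ perp D e := conj_mem_perp h hwe hx
  have hnc' : ¬ Commute d (w * x * w⁻¹) := fun hc => hnc (by
    rw [show d = w * d * w⁻¹ by rw [hwd.eq]; group, commute_conj_iff'] at hc
    exact hc)
  rcases M23.line_property (quot H he.1) (bar_mem H he.1 hde) (bar_mem H he.1 hx)
      (bar_mem H he.1 hx') (fun h0 => hnc ((bar_commute H hde hx).1 h0))
      (fun h0 => hnc' ((bar_commute H hde hx').1 h0)) (by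
    rintro p ⟨hpd, hpx⟩
    obtain ⟨z, hz, rfl⟩ := M23.exists_lift hpd.1
    rw [mem_perp_bar H he.1 hde hz] at hpd
    rw [mem_perp_bar H he.1 hx hz] at hpx
    rw [mem_perp_bar H he.1 hx' hz]
    refine ⟨hz.1, fun h0 => hnc' (h0 ▸ hpd.2.2), ?_⟩
    have h1 := (commute_conj_iff' w x z).2 hpx.2.2
    rwa [show w * z * w⁻¹ = z by rw [(hw z hpd).eq, mul_inv_cancel_right]] at h1) with h1 | h1
  · left
    have hxx : w * x * w⁻¹ = x := bar_inj H he.1 hx' hx h1
    exact fixed w hwd hw (mul_inv_eq_iff_eq_mul.1 hxx)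
  · right
    have hdx : d * x * d ∈ perp D e := by
      have h2 := conj_mem_perp h (g := d) hde.2.2.symm hx
      rwa [inv_eq h.1 hd] at h2
    have hxx : w * x * w⁻¹ = d * x * d := bar_inj H he.1 hx' hdx (h1.trans rfl)
    have h3 : w * d = 1 := by
      refine fixed (w * d) (hwd.mul_left (Commute.refl d)) (fun y hy => (hw y hy).mul_left hy.2.2) ?_
      have h2 : d * (d * x * d) * d = x := by
        simp [mul_assoc, mul_self h.1 hd, mul_self_cancel h.1 hd]
      rw [← hxx] at h2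
      have h4 : (w * d) * x * (w * d)⁻¹ = x := by
        rw [hwd.eq, _root_.mul_inv_rev, inv_eq h.1 hd]
        simpa [mul_assoc] using h2
      exact mul_inv_eq_iff_eq_mul.1 h4
    rw [mul_eq_one_iff_eq_inv, inv_eq h.1 hd] at h3
    exact h3

end CfsgLib.FischerTypes.M24
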