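import Cfsg.Agent.FischerTypes.M23Graph

/-!
# The centralizer of a member in type M(23): `C(d) = ⟨D_d⟩`

The covering argument of type M(22), one level up.
-/

set_option autoImplicit false
set_option linter.style.haveILetI false
set_option maxHeartbeats 400000

namespace CfsgLib.FischerTypes.M23

open Cfsg CfsgLib.FischerTypes

variable {G : Type*} [Group G] [Finite G] {D : Set G} {d : G}

variable (h : IsThreeTranspositionGroup D) (HH : Hyp G D) (hd : d ∈ D)

include h HH hd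

omit h in
/-- An element of `⟨D_f⟩` fixing a neighbour `d` of `f` lies in `⟨D_d⟩`. -/
theorem mem_of_mem_neighbour {f z : G} (hf : f ∈ perp D d) (hz : z ∈ Subgroup.closure (perp D f))
    (hzd : Commute z d) : z ∈ Subgroup.closure (perp D d) := by
  obtain ⟨u, hu, hc⟩ := exists_decomp HH hf.1 (perp_symm hd hf) hz hzd
  have hu' : u ∈ Subgroup.closure (perp D d) :=
    Subgroup.closure_mono Set.inter_subset_right hu
  have huf : u ∈ Subgroup.closure (perp D f) := Subgroup.closure_mono Set.inter_subset_left hu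
  rcases eq_one_or_eq_of_centralize HH hf.1
      (Subgroup.mem_centralizer_singleton_iff.1 (closure_le_centralizer f (mul_mem (inv_mem huf) hz))) hc with h0 | h0
  · rwa [← inv_mul_eq_one.1 h0]
  · rw [show z = u * (u⁻¹ * z) by group, h0]
    exact mul_mem hu' (mem_perp_closure hf)

/-- A transporter inside the neighbourhood of a third member. -/
theorem exists_trans {e f : G} (he : e ∈ perp D d) (hf : f ∈ perp D d) (hfe : f ∈ perp D e) :
    ∃ a ∈ Subgroup.closure (perp D f), a * d * a⁻¹ = e := by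
  exact exists_conj HH hf.1 (perp_symm hd hf) (perp_symm he.1 hfe)

theorem step_unique_adj {e f f' g g' : G} (he : e ∈ perp D d) (hf : f ∈ perp D d) (hfe : f ∈ perp D e)
    (hf' : f' ∈ perp D d) (hfe' : f' ∈ perp D e) (hff : f' ∈ perp D f)
    {a a' : G} (ha : a ∈ Subgroup.closure (perp D f)) (hag : a⁻¹ * g ∈ Subgroup.closure (perp D d))
    (ha' : a' ∈ Subgroup.closure (perp D f')) (hag' : a'⁻¹ * g' ∈ Subgroup.closure (perp D d))
    (hg : g * d * g⁻¹ = e) (hg' : g' * d * g'⁻¹ = e) : g⁻¹ * g' ∈ Subgroup.closure (perp D d) := by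
  have hdf : d ∈ perp D f := perp_symm hd hf
  have hef : e ∈ perp D f := perp_symm he.1 hfe
  obtain ⟨u, ⟨hu, huf'⟩, hud, hue⟩ : ∃ u ∈ perp D f ∩ perp D f', ¬ Commute d u ∧ ¬ Commute e u := by
    by_contra hall
    push Not at hall
    have hsub : perp D f ∩ perp D f' ⊆
        insert d (perp D f ∩ (perp D f' ∩ perp D d)) ∪ insert e (perp D f ∩ (perp D f' ∩ perp D e)) := by
      intro u hu
      by_cases hdu : Commute d u
      · by_cases hud : u = d
        · exact Or.inl (Or.inl hud)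
        · exact Or.inl (Or.inr ⟨hu.1, hu.2, hu.1.1, hud, hdu⟩)
      · have heu : Commute e u := hall u hu hdu
        by_cases hue : u = e
        · exact Or.inr (Or.inl hue)
        · exact Or.inr (Or.inr ⟨hu.1, hu.2, hu.1.1, hue, heu⟩)
    have h1 := (Set.ncard_le_ncard hsub (Set.toFinite _)).trans (Set.ncard_union_le _ _)
    have h2 := Set.ncard_insert_le d (perp D f ∩ (perp D f' ∩ perp D d))
    have h3 := Set.ncard_insert_le e (perp D f ∩ (perp D f' ∩ perp D e))
    rw [ncard_perp_perp HH hf.1 hff] at h1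
    rw [ncard_perp_commute HH hf.1 hff hdf hf'.2.1 hf'.2.2.symm] at h2
    rw [ncard_perp_commute HH hf.1 hff hef hfe'.2.1 hfe'.2.2.symm] at h3
    omega
  have step : ∀ {x y : G}, x ∈ D → y ∈ D → ¬ Commute x y → x * y * x * (y * x) = y := by
    intro x y hx hy hxy
    calc x * y * x * (y * x) = (x * y * x) * (y * x) := rfl
      _ = (y * x * y) * (y * x) := by rw [braid h.1 hx hy hxy]
      _ = y := by simp [mul_assoc, mul_self h.1 hx, mul_self_cancel h.1 hy]
  set t := u * e * (d * u) with ht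
  have htd : t * d * t⁻¹ = e := by
    rw [ht]
    simp only [_root_.mul_inv_rev, inv_eq h.1 hu.1, inv_eq h.1 he.1, inv_eq h.1 hd]
    calc u * e * (d * u) * d * (u * d * (e * u)) = u * e * (d * u * d * (u * d)) * (e * u) := by
          simp [mul_assoc]
      _ = u * e * u * (e * u) := by rw [step hd hu.1 hud]
      _ = e := step hu.1 he.1 fun hh => hue hh.symm
  have htf : t ∈ Subgroup.closure (perp D f) :=
    mul_mem (mul_mem (mem_perp_closure hu) (mem_perp_closure hef))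
      (mul_mem (mem_perp_closure hdf) (mem_perp_closure hu))
  have htf' : t ∈ Subgroup.closure (perp D f') :=
    mul_mem (mul_mem (mem_perp_closure huf') (mem_perp_closure (perp_symm he.1 hfe')))
      (mul_mem (mem_perp_closure (perp_symm hd hf')) (mem_perp_closure huf'))
  have fixd : ∀ {x y : G}, x * d * x⁻¹ = e → y * d * y⁻¹ = e → Commute (x⁻¹ * y) d := by
    intro x y hx hy
    have h1 : (x⁻¹ * y) * d * (x⁻¹ * y)⁻¹ = d := by
      rw [_root_.mul_inv_rev, inv_inv, show x⁻¹ * y * d * (y⁻¹ * x) = x⁻¹ * (y * d * y⁻¹) * x by group, hy,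
        ← hx]
      group
    exact mul_inv_eq_iff_eq_mul.1 h1
  have conjeq : ∀ {b k : G}, b⁻¹ * k ∈ Subgroup.closure (perp D d) → k * d * k⁻¹ = e → b * d * b⁻¹ = e := by
    intro b k hbk hk
    rw [← hk]
    calc b * d * b⁻¹ = b * ((b⁻¹ * k) * d * (b⁻¹ * k)⁻¹) * b⁻¹ := by rw [FischerTypes.conj_of_mem hbk]
      _ = k * d * k⁻¹ := by group
  have e1 := mem_of_mem_neighbour HH hd hf (mul_mem (inv_mem ha) htf) (fixd (conjeq hag hg) htd)
  have e2 := mem_of_mem_neighbour HH hd hf' (mul_mem (inv_mem htf') ha') (fixd htd (conjeq hag' hg'))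
  rw [show g⁻¹ * g' = (a⁻¹ * g)⁻¹ * (a⁻¹ * t) * (t⁻¹ * a') * (a'⁻¹ * g') by group]
  exact mul_mem (mul_mem (mul_mem (inv_mem hag) e1) e2) hag'

/-- One step transporters form a single coset. -/
theorem Step.unique {e g g' : G} (hs : Step D d e g) (hs' : Step D d e g') :
    g⁻¹ * g' ∈ Subgroup.closure (perp D d) := by
  obtain ⟨he, hg, f, hf, hfe, a, ha, hag⟩ := hs
  obtain ⟨-, hg', f', hf', hfe', a', ha', hag'⟩ := hs'
  have aux : ∀ {f₁ f₂ a₁ a₂ k₁ k₂ : G}, f₁ ∈ perp D d → f₁ ∈ perp D e → f₂ ∈ perp D d → f₂ ∈ perp D e →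
      f₂ ∈ perp D f₁ → a₁ ∈ Subgroup.closure (perp D f₁) → a₁⁻¹ * k₁ ∈ Subgroup.closure (perp D d) →
      a₂ ∈ Subgroup.closure (perp D f₂) → a₂⁻¹ * k₂ ∈ Subgroup.closure (perp D d) →
      k₁ * d * k₁⁻¹ = e → k₂ * d * k₂⁻¹ = e → k₁⁻¹ * k₂ ∈ Subgroup.closure (perp D d) :=
    fun h1 h2 h3 h4 h5 h6 h7 h8 h9 h10 h11 =>
      step_unique_adj h HH hd he h1 h2 h3 h4 h5 h6 h7 h8 h9 h10 h11
  -- go through a member commuting with `f` and `f'`
  obtain ⟨c, hc, hce, hcf, hcf'⟩ : ∃ c, c ∈ perp D d ∧ c ∈ perp D e ∧ c ∈ perp D f ∧ c ∈ perp D f' := by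
    obtain ⟨Me⟩ := exists_perpModel (quotGroup h d) (quot22 HH hd) (bar_mem HH hd he)
    have hf1 := (mem_perp_bar HH hd he hf).2 hfe
    have hf2 := (mem_perp_bar HH hd he hf').2 hfe'
    obtain ⟨p, hpe, hpf, hpf'⟩ : ∃ p ∈ perp (img D d) (bar he),
        p ∈ perp (img D d) (bar hf) ∧ p ∈ perp (img D d) (bar hf') := by
      by_cases hff : f = f'
      · subst hff
        obtain ⟨p, hp1, hp2⟩ : (perp (img D d) (bar he) ∩ perp (img D d) (bar hf)).Nonempty :=
          Set.nonempty_of_ncard_ne_zero (by rw [Me.ncard_perp_perp hf1]; norm_num)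
        exact ⟨p, hp1, hp2, hp2⟩
      have hne : bar hf ≠ bar hf' := fun h0 => hff (bar_inj HH hd hf hf' h0)
      obtain ⟨p, hp1, hp2, hp3⟩ :
          (perp (img D d) (bar he) ∩ (perp (img D d) (bar hf) ∩ perp (img D d) (bar hf'))).Nonempty := by
        refine Set.nonempty_of_ncard_ne_zero ?_
        by_cases hcc : Commute (bar hf) (bar hf')
        · rw [Me.ncard_perp_commute hf1 hf2 hne hcc]; norm_num
        · rw [Me.ncard_perp_not_commute hf1 hf2 hcc]; norm_num
      exact ⟨p, hp1, hp2, hp3⟩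
    obtain ⟨c, hc, rfl⟩ := exists_lift hpe.1
    exact ⟨c, hc, (mem_perp_bar HH hd he hc).1 hpe, (mem_perp_bar HH hd hf hc).1 hpf,
      (mem_perp_bar HH hd hf' hc).1 hpf'⟩
  obtain ⟨b, hb, hbe⟩ := exists_trans h HH hd he hc hce
  have hbb : b⁻¹ * b ∈ Subgroup.closure (perp D d) := by rw [inv_mul_cancel]; exact one_mem _
  have e1 := aux hf hfe hc hce hcf ha hag hb hbb hg hbe
  have e2 := aux hc hce hf' hfe' (perp_symm hf'.1 hcf') hb hbb ha' hag' hbe hg'
  rw [show g⁻¹ * g' = (g⁻¹ * b) * (b⁻¹ * g') by group]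
  exact mul_mem e1 e2

theorem exists_step {e : G} (he : e ∈ perp D d) : ∃ g, Step D d e g := by
  obtain ⟨f, hf⟩ : (perp D d ∩ perp D e).Nonempty :=
    Set.nonempty_of_ncard_ne_zero (by rw [ncard_perp_perp HH hd he]; norm_num)
  obtain ⟨a, ha, hae⟩ := exists_trans h HH hd he hf.1 hf.2
  exact ⟨a, he, hae, f, hf.1, hf.2, a, ha, by rw [inv_mul_cancel]; exact one_mem _⟩

/-- The common part of the return and triangle rules: both steps can be made inside `⟨D_f⟩`. -/
theorem step_compose {e w g u f : G} (hs : Step D d e g) (hw : Step D d w u) (hf : f ∈ perp D d)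
    (hfe : f ∈ perp D e) (hfw : g * w * g⁻¹ = d ∨ g * w * g⁻¹ ∈ perp D d ∩ perp D f) :
    (g * w * g⁻¹ = d → g * u ∈ Subgroup.closure (perp D d)) ∧
      (g * w * g⁻¹ ∈ perp D d ∩ perp D f → Step D d (g * w * g⁻¹) (g * u)) := by
  obtain ⟨a, ha, hae⟩ := exists_trans h HH hd hs.1 hf hfe
  have hsa : Step D d e a :=
    ⟨hs.1, hae, f, hf, hfe, a, ha, by rw [inv_mul_cancel]; exact one_mem _⟩
  set k := a⁻¹ * g with hk
  have hkm : k ∈ Subgroup.closure (perp D d) := Step.unique h HH hd hsa hs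
  have hgk : g = a * k := by rw [hk, mul_inv_cancel_left]
  have hkw := hw.mul_left h hkm
  set w' := k * w * k⁻¹ with hw'
  have hgw : g * w * g⁻¹ = a * w' * a⁻¹ := by rw [hw', hgk]; group
  have hdf : d ∈ perp D f := perp_symm hd hf
  -- `w'` is a neighbour of `f`
  have hw'f : w' ∈ perp D f := by
    have hm : g * w * g⁻¹ ∈ perp D f := by
      rcases hfw with h0 | h0
      · rw [h0]; exact hdf
      · exact h0.2
    have h1 := conj_mem_perp' h (inv_mem ha) hm
    rwa [show a⁻¹ * (g * w * g⁻¹) * a⁻¹⁻¹ = w' by rw [hgw]; group] at h1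
  obtain ⟨b, hb, hbw⟩ := exists_trans h HH hd hkw.1 hf (perp_symm hf.1 hw'f)
  have hsb : Step D d w' b :=
    ⟨hkw.1, hbw, f, hf, perp_symm hf.1 hw'f, b, hb, by rw [inv_mul_cancel]; exact one_mem _⟩
  have hbu : b⁻¹ * (k * u) ∈ Subgroup.closure (perp D d) := Step.unique h HH hd hsb hkw
  have hab : a * b * d * (a * b)⁻¹ = g * w * g⁻¹ := by
    rw [hgw, ← hbw]; group
  have hgu : g * u = a * b * (b⁻¹ * (k * u)) := by rw [hgk]; group
  constructor
  · intro h0
    rw [hgu]
    refine mul_mem (mem_of_mem_neighbour HH hd hf (mul_mem ha hb) ?_) hbu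
    rw [h0] at hab
    exact mul_inv_eq_iff_eq_mul.1 hab
  · intro h0
    rw [hgu]
    exact Step.mul_right ⟨h0.1, hab, f, hf, perp_symm hf.1 h0.2, a * b, mul_mem ha hb,
      by rw [inv_mul_cancel]; exact one_mem _⟩ hbu

theorem step_return {e w g u : G} (hs : Step D d e g) (hw : Step D d w u) (hd' : g * w * g⁻¹ = d) :
    g * u ∈ Subgroup.closure (perp D d) := by
  obtain ⟨-, -, f, hf, hfe, -⟩ := id hs
  exact (step_compose h HH hd hs hw hf hfe (Or.inl hd')).1 hd'

theorem step_triangle {e w g u : G} (hs : Step D d e g) (hw : Step D d w u)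
    (hy : g * w * g⁻¹ ∈ perp D d) : Step D d (g * w * g⁻¹) (g * u) := by
  set y := g * w * g⁻¹ with hy'
  have hye : y ∈ perp D e := by
    refine ⟨hy.1, fun h0 => hw.1.2.1 ?_, ?_⟩
    · rw [← hs.2.1] at h0; exact mul_left_cancel (mul_right_cancel h0)
    · rw [← hs.2.1, hy', commute_conj_iff']; exact hw.1.2.2
  obtain ⟨a, ha, hae, hay⟩ : (perp D d ∩ (perp D e ∩ perp D y)).Nonempty :=
    Set.nonempty_of_ncard_ne_zero (by
      rw [ncard_perp_commute HH hd hs.1 hy (Ne.symm hye.2.1) hye.2.2]; norm_num)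
  exact (step_compose h HH hd hs hw ha hae (Or.inr ⟨hy, perp_symm hy.1 hay⟩)).2 ⟨hy, perp_symm hy.1 hay⟩

omit h HH hd

/-- Two step transporters. -/
def TwoStep (D : Set G) (d y e g : G) : Prop :=
  e ∈ perp D d ∧ e ∈ perp D y ∧ ∃ g₁, Step D d e g₁ ∧ Step D d (g₁⁻¹ * y * g₁) (g₁⁻¹ * g)

include h HH hd

theorem TwoStep.change {y e e' g : G} (hy : y ∈ D) (hs : TwoStep D d y e g) (he'd : e' ∈ perp D d)
    (he'y : e' ∈ perp D y) (hee : e' ∈ perp D e) : TwoStep D d y e' g := by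
  obtain ⟨he, hey, g₁, hg₁, hg₂⟩ := hs
  have conj' : ∀ {x z : G} (k : G), x ∈ D → z ∈ perp D x → k * z * k⁻¹ ∈ perp D (k * x * k⁻¹) :=
    fun k _ hz => ⟨h.2.1 k _ hz.1, fun h0 => hz.2.1 (mul_left_cancel (mul_right_cancel h0)),
      (commute_conj_iff' k _ _).2 hz.2.2⟩
  set w := g₁⁻¹ * e' * g₁ with hw
  have hgw : g₁ * w * g₁⁻¹ = e' := by rw [hw]; group
  have hwd : w ∈ perp D d := by
    have h1 := conj' g₁⁻¹ he.1 hee
    rwa [inv_inv, show g₁⁻¹ * e * g₁ = d by rw [← hg₁.2.1]; group] at h1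
  obtain ⟨u, hu⟩ := exists_step h HH hd hwd
  have hg₁u : Step D d e' (g₁ * u) := hgw ▸ step_triangle h HH hd hg₁ hu (by rw [hgw]; exact he'd)
  refine ⟨he'd, he'y, g₁ * u, hg₁u, ?_⟩
  set y' := (g₁ * u)⁻¹ * y * (g₁ * u) with hy'
  have hy'd : y' ∈ perp D d := by
    have h1 := conj' (g₁ * u)⁻¹ he'd.1 (perp_symm hy he'y)
    rwa [inv_inv, show (g₁ * u)⁻¹ * e' * (g₁ * u) = d by rw [← hg₁u.2.1]; group] at h1
  obtain ⟨v, hv⟩ := exists_step h HH hd hy'd
  have heq : u * y' * u⁻¹ = g₁⁻¹ * y * g₁ := by rw [hy']; group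
  have huv : Step D d (g₁⁻¹ * y * g₁) (u * v) :=
    heq ▸ step_triangle h HH hd hu hv (by rw [heq]; exact hg₂.1)
  have hm := Step.unique h HH hd huv hg₂
  rw [show (g₁ * u)⁻¹ * g = v * ((u * v)⁻¹ * (g₁⁻¹ * g)) by group]
  exact hv.mul_right hm

theorem TwoStep.change' {y e e' g : G} (hy : y ∈ D) (hdy : ¬ Commute d y) (hs : TwoStep D d y e g)
    (he'd : e' ∈ perp D d) (he'y : e' ∈ perp D y) : TwoStep D d y e' g := by
  have hcon := common_connected HH hd hy hdy ⟨hs.1, hs.2.1⟩ ⟨he'd, he'y⟩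
  clear he'd he'y
  induction hcon with
  | refl => exact hs
  | tail _ hr ih => exact TwoStep.change h HH hd hy ih hr.1.1 hr.1.2 hr.2

/-- The centralizer of a member is generated by the members commuting with it. -/
theorem centralizer_eq : Subgroup.centralizer ({d} : Set G) = Subgroup.closure (perp D d) := by
  refine le_antisymm (fun g hg => ?_) (closure_le_centralizer d)
  set W : Set G := {g | g ∈ Subgroup.closure (perp D d) ∨ Step D d (g * d * g⁻¹) g ∨
    ¬ Commute d (g * d * g⁻¹) ∧ ∃ e, TwoStep D d (g * d * g⁻¹) e g} with hW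
  have rightH : ∀ g ∈ W, ∀ k ∈ Subgroup.closure (perp D d), g * k ∈ W := by
    intro g hg k hk
    have hgk : g * k * d * (g * k)⁻¹ = g * d * g⁻¹ := by
      calc g * k * d * (g * k)⁻¹ = g * (k * d * k⁻¹) * g⁻¹ := by group
        _ = _ := by rw [FischerTypes.conj_of_mem hk]
    rcases hg with h0 | h0 | ⟨hnc, e, he, hey, g₁, hg₁, hg₂⟩
    · exact Or.inl (mul_mem h0 hk)
    · exact Or.inr (Or.inl (by rw [hgk]; exact h0.mul_right hk))
    · refine Or.inr (Or.inr ⟨by rw [hgk]; exact hnc, e, he, by rw [hgk]; exact hey, g₁, hg₁, ?_⟩)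
      rw [hgk, show g₁⁻¹ * (g * k) = g₁⁻¹ * g * k from (mul_assoc _ _ _).symm]
      exact hg₂.mul_right hk
  have rightStep : ∀ g ∈ W, ∀ w u, Step D d w u → g * u ∈ W := by
    intro g hg w u hu
    set y := g * d * g⁻¹ with hy
    set y' := g * w * g⁻¹ with hy'
    have hguy : g * u * d * (g * u)⁻¹ = y' := by rw [hy', ← hu.2.1]; group
    have hyD : y ∈ D := h.2.1 g d hd
    have hy'y : y' ∈ perp D y := ⟨h.2.1 g w hu.1.1,
      fun h0 => hu.1.2.1 (mul_left_cancel (mul_right_cancel h0)), (commute_conj_iff' g _ _).2 hu.1.2.2⟩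
    rcases hg with h0 | h0 | ⟨hnc, e, hs⟩
    · exact Or.inr (Or.inl (by rw [hguy]; exact hu.mul_left h h0))
    · rcases eq_or_ne y' d with h1 | h1
      · exact Or.inl (step_return h HH hd h0 hu h1)
      by_cases h2 : Commute d y'
      · exact Or.inr (Or.inl (by rw [hguy]; exact step_triangle h HH hd h0 hu ⟨hy'y.1, h1, h2⟩))
      · refine Or.inr (Or.inr ⟨by rw [hguy]; exact h2, y, h0.1, by rw [hguy]; exact perp_symm hyD hy'y, g,
          h0, ?_⟩)
        rw [hguy, show g⁻¹ * y' * g = w by rw [hy']; group, inv_mul_cancel_left]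
        exact hu
    · have hne : y' ≠ d := fun h1 => hnc (h1 ▸ hy'y.2.2).symm
      by_cases h2 : Commute d y'
      · have hy'd : y' ∈ perp D d := ⟨hy'y.1, hne, h2⟩
        obtain ⟨-, -, g₁, hg₁, hg₂⟩ := TwoStep.change' h HH hd hyD hnc hs hy'd hy'y
        have hr := step_return h HH hd hg₂ hu (by
          rw [show g₁⁻¹ * g * w * (g₁⁻¹ * g)⁻¹ = g₁⁻¹ * y' * g₁ by rw [hy']; group, ← hg₁.2.1]; group)
        refine Or.inr (Or.inl ?_)
        rw [hguy, show g * u = g₁ * (g₁⁻¹ * g * u) by group]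
        exact hg₁.mul_right hr
      · obtain ⟨q, hq, hqy'⟩ := exists_commute_common HH hyD hd (fun hh => hnc hh.symm)
          ⟨e, hs.2.1, hs.1⟩ hy'y h2
        obtain ⟨-, -, g₁, hg₁, hg₂⟩ := TwoStep.change' h HH hd hyD hnc hs hq.2 hq.1
        refine Or.inr (Or.inr ⟨by rw [hguy]; exact h2, q, hq.2, by rw [hguy]; exact hqy', g₁, hg₁, ?_⟩)
        have heq : g₁⁻¹ * g * w * (g₁⁻¹ * g)⁻¹ = g₁⁻¹ * y' * g₁ := by rw [hy']; group
        have hm : g₁⁻¹ * y' * g₁ ∈ perp D d := by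
          have hqd : g₁⁻¹ * q * g₁ = d := by rw [← hg₁.2.1]; group
          refine ⟨by simpa using h.2.1 g₁⁻¹ y' hy'y.1, fun h1 => hqy'.2.1 ?_, ?_⟩
          · exact (mul_left_cancel (mul_right_cancel (h1.trans hqd.symm))).symm
          · rw [← hqd]
            simpa using (commute_conj_iff' g₁⁻¹ q y').2 hqy'.2.2.symm
        rw [hguy, ← heq, ← mul_assoc]
        exact step_triangle h HH hd hg₂ hu (by rw [heq]; exact hm)
  obtain ⟨e₀, he₀⟩ : (perp D d).Nonempty := Set.nonempty_of_ncard_ne_zero (by rw [ncard_perp HH hd]; norm_num)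
  obtain ⟨u₀, hu₀⟩ := exists_step h HH hd he₀
  set S : Set G := insert u₀ (perp D d) with hS
  have hHS : Subgroup.closure (perp D d) ≤ Subgroup.closure S := Subgroup.closure_mono (Set.subset_insert _ _)
  have hu₀S : u₀ ∈ Subgroup.closure S := Subgroup.subset_closure (Set.mem_insert _ _)
  have htop : Subgroup.closure S = ⊤ := by
    have horb : ∀ y ∈ D, ∃ k ∈ Subgroup.closure S, k * d * k⁻¹ = y := by
      intro y hy
      have hr := reach_of_primitive h HH.prim hd he₀ hy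
      clear hy
      induction hr with
      | refl => exact ⟨1, one_mem _, by simp⟩
      | @tail b c _ hbc ih =>
        obtain ⟨k, hk, hkb⟩ := ih
        have hc' : k⁻¹ * c * k ∈ perp D d := by
          refine ⟨by simpa using h.2.1 k⁻¹ c hbc.2.1, fun h0 => hbc.2.2.1 ?_, ?_⟩
          · rw [← hkb, ← h0]; group
          · rw [← commute_conj_iff' k, hkb, show k * (k⁻¹ * c * k) * k⁻¹ = c by group]
            exact hbc.2.2.2
        obtain ⟨m, hm, hm'⟩ := exists_conj HH hd he₀ hc'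
        refine ⟨k * m * u₀, mul_mem (mul_mem hk (hHS hm)) hu₀S, ?_⟩
        calc k * m * u₀ * d * (k * m * u₀)⁻¹ = k * (m * (u₀ * d * u₀⁻¹) * m⁻¹) * k⁻¹ := by group
          _ = k * (m * e₀ * m⁻¹) * k⁻¹ := by rw [hu₀.2.1]
          _ = c := by rw [hm']; group
    rw [eq_top_iff, ← h.2.2, Subgroup.closure_le]
    intro y hy
    obtain ⟨k, hk, rfl⟩ := horb y hy
    exact mul_mem (mul_mem hk (hHS (mem_closure_perp_self HH hd))) (inv_mem hk)
  have hinv : ∃ k ∈ Subgroup.closure (perp D d), ∃ a w, Step D d w a ∧ u₀⁻¹ = k * a := by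
    obtain ⟨-, hg0, f, hf, hfe, a, ha, hag⟩ := id hu₀
    have hkd := FischerTypes.conj_of_mem hag
    have hae : a * d * a⁻¹ = e₀ := by
      rw [← hg0]
      calc a * d * a⁻¹ = a * ((a⁻¹ * u₀) * d * (a⁻¹ * u₀)⁻¹) * a⁻¹ := by rw [hkd]
        _ = _ := by group
    refine ⟨(a⁻¹ * u₀)⁻¹, inv_mem hag, a⁻¹, a⁻¹ * d * a, ⟨⟨?_, ?_, ?_⟩, by group, f, hf, ?_, a⁻¹, inv_mem ha,
      by group; exact one_mem _⟩, by group⟩
    · simpa using h.2.1 a⁻¹ d hd
    · intro h0
      apply he₀.2.1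
      rw [← hae]
      calc a * d * a⁻¹ = a * (a⁻¹ * d * a) * a⁻¹ := by rw [h0]
        _ = d := by group
    · rw [← commute_conj_iff' a, hae, show a * (a⁻¹ * d * a) * a⁻¹ = d by group]
      exact he₀.2.2.symm
    · refine perp_symm hf.1 ?_
      simpa using conj_mem_perp' h (inv_mem ha) (perp_symm hd hf)
  have hall : ∀ g, g ∈ W := by
    intro g
    have hg' : g ∈ Subgroup.closure S := htop ▸ Subgroup.mem_top g
    induction hg' using Subgroup.closure_induction_right with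
    | one => exact Or.inl (one_mem _)
    | mul_right x _ s hs ih =>
      rcases hs with rfl | hs
      · exact rightStep x ih _ _ hu₀
      · exact rightH x ih s (mem_perp_closure hs)
    | mul_inv_cancel x _ s hs ih =>
      rcases hs with rfl | hs
      · obtain ⟨k, hk, a, w, ha, heq⟩ := hinv
        rw [heq, ← mul_assoc]
        exact rightStep _ (rightH x ih k hk) _ _ ha
      · exact rightH x ih _ (inv_mem (mem_perp_closure hs))
  have hgd : g * d * g⁻¹ = d := by rw [Subgroup.mem_centralizer_singleton_iff.1 hg, mul_inv_cancel_right]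
  rcases hall g with h0 | h0 | ⟨h0, -⟩
  · exact h0
  · exact absurd hgd h0.1.2.1
  · exact absurd (hgd.symm ▸ Commute.refl d) h0

end CfsgLib.FischerTypes.M23
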