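import Cfsg.Agent.FischerTypes.M23Centralizer
import Cfsg.Agent.Components.Basic

/-!
# The centralizer of a pair of commuting members and of its product in type M(23)
-/

set_option autoImplicit false
set_option linter.style.haveILetI false
set_option maxHeartbeats 400000

namespace CfsgLib.FischerTypes

open Cfsg CfsgLib.U62 CfsgLib.RepBounds.Unit

variable {G : Type*} [Group G] [Finite G] {D : Set G}

omit [Finite G] in
theorem PerpModel.exists_equiv_PSU {d : G} (M : PerpModel D d) :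
    Fintype.card M.K = 4 ∧ IsSimpleGroup (PerpQuot D d) ∧ Subgroup.center (PerpQuot D d) = ⊥ ∧
      Nonempty (PerpQuot D d ≃* PSU 6 M.K 2) := by
  have hcard : Fintype.card M.K = 4 := by rw [M.C.card, M.hq]; norm_num
  obtain ⟨C', hC', φ, hφ, hφk⟩ := exists_model M.K hcard
  have hC : C' = M.C := by
    have hσ : C'.σ = M.C.σ := RingHom.ext fun x => by rw [sigma_eq C' hC', sigma_eq M.C M.hq]
    have hqq : C'.q = M.C.q := hC'.trans M.hq.symm
    cases hC'' : C'
    cases hM : M.C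
    rw [hC''] at hσ hqq
    rw [hM] at hσ hqq
    simp only at hσ hqq
    subst hσ hqq
    rfl
  subst hC
  let e : PerpQuot D d ≃* PSU 6 M.K 2 :=
    ((QuotientGroup.quotientKerEquivOfSurjective M.θ M.surj).symm.trans
      (QuotientGroup.quotientMulEquivOfEq (M.hker.trans hφk.symm))).trans
      (QuotientGroup.quotientKerEquivOfSurjective φ hφ)
  obtain ⟨hs, hdvd⟩ := psu62Facts M.K hcard
  have := hs
  have : Nontrivial (PerpQuot D d) := e.toEquiv.nontrivial
  have hs' : IsSimpleGroup (PerpQuot D d) :=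
    IsSimpleGroup.isSimpleGroup_of_surjective e.symm.toMonoidHom e.symm.surjective
  haveI : Finite (PerpQuot D d) := Finite.of_surjective M.θ M.surj
  exact ⟨hcard, hs', (@nice_of_simple (PerpQuot D d) _ _ _ hs' (isThreeTranspositionGroup_img M.group d)
    (Nat.card_congr e.toEquiv ▸ hdvd)).center_eq, ⟨e⟩⟩

/-- In type M(22) every perp contains a six. -/
theorem exists_six_in_perp (h : IsThreeTranspositionGroup D) (hp : IsPrimitiveUnderConj D) (h22 : IsOfTypeM22 G D)
    {y : G} (hy : y ∈ D) :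
    ∃ e f g a b c, (∀ u ∈ [e, f, g, a, b, c], u ∈ perp D y) ∧ [e, f, g, a, b, c].Nodup ∧
      (∀ u ∈ [e, f, g, a, b, c], ∀ v ∈ [e, f, g, a, b, c], Commute u v) ∧ e * f * g = a * b * c := by
  classical
  obtain ⟨My⟩ := exists_perpModel h h22 hy
  obtain ⟨e, he⟩ : (perp D y).Nonempty := Set.nonempty_of_ncard_ne_zero (by rw [My.ncard_perp]; norm_num)
  obtain ⟨Me⟩ := exists_perpModel h h22 he.1
  have hye : y ∈ perp D e := perp_symm hy he
  obtain ⟨f, hfe, hfy⟩ : (perp D e ∩ perp D y).Nonempty :=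
    Set.nonempty_of_ncard_ne_zero (by rw [Me.ncard_perp_perp hye]; norm_num)
  obtain ⟨u₁, u₂, u₃, -, -, -, -, huniq⟩ := exists_six h hp h22 he.1 hfe hye hfy.2.1 hfy.2.2.symm
  obtain ⟨g, ⟨hge, hgf, hgy⟩, hgu⟩ : ∃ p ∈ perp D e ∩ (perp D f ∩ perp D y), p ∉ [u₁, u₂, u₃] := by
    by_contra hall
    push Not at hall
    have h1 := Set.ncard_le_ncard (t := ({u₁, u₂, u₃} : Set G)) (fun p hp => by simpa using hall p hp)
      (Set.toFinite _)
    rw [Me.ncard_perp_commute hfe hye hfy.2.1 hfy.2.2.symm] at h1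
    have h2 := Set.ncard_insert_le u₁ ({u₂, u₃} : Set G)
    have h3 := Set.ncard_insert_le u₂ ({u₃} : Set G)
    have h4 := Set.ncard_singleton u₃
    omega
  obtain ⟨a, b, c, hnd, hD, hc, heq, -⟩ := exists_six h hp h22 he.1 hfe hge (Ne.symm hgf.2.1) hgf.2.2
  have hnd' := hnd
  simp only [List.nodup_cons, List.mem_cons, List.not_mem_nil, or_false, not_or, List.nodup_nil, and_true,
    not_false_eq_true] at hnd'
  obtain ⟨⟨n1, n2, n3, n4, n5⟩, ⟨n6, n7, n8, n9⟩, ⟨n10, n11, n12⟩, ⟨n13, n14⟩, n15⟩ := hnd'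
  have ha : a ∈ D := hD a (by simp)
  have hb : b ∈ D := hD b (by simp)
  have hc' : c ∈ D := hD c (by simp)
  have cab : Commute a b := hc a (by simp) b (by simp)
  have cac : Commute a c := hc a (by simp) c (by simp)
  have cbc : Commute b c := hc b (by simp) c (by simp)
  have h0 : Commute y (a * b * c) := heq ▸ ((he.2.2.mul_right hfy.2.2).mul_right hgy.2.2)
  have e3 : c * a * b = a * b * c := by rw [mul_assoc]; exact (cac.symm.mul_right cbc.symm).eq
  have cya : Commute y a := commute_of_commute_mul3 h.1 ha hb hc' hy cab cac cbc n13 n14 n15 h0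
  have cyb : Commute y b := commute_of_commute_mul3 h.1 hb ha hc' hy cab.symm cbc cac (Ne.symm n13) n15 n14
    (by rw [cab.symm.eq]; exact h0)
  have cyc : Commute y c := commute_of_commute_mul3 h.1 hc' ha hb hy cac.symm cbc.symm cab (Ne.symm n14)
    (Ne.symm n15) n13 (by rw [e3]; exact h0)
  -- `y` is none of the last three
  have key : ∀ p q, [e, f, y, g, p, q].Nodup → p ∈ [a, b, c] → q ∈ [a, b, c] → y ∈ [a, b, c] →
      a * b * c = y * (p * q) → False := by
    intro p q hnd2 hp' hq' hy' hperm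
    have sub : ∀ w ∈ [a, b, c], w ∈ [e, f, g, a, b, c] := fun w hw => by
      simp only [List.mem_cons, List.not_mem_nil, or_false] at hw ⊢; tauto
    have hgD : g ∈ D := hge.1
    have cgp : Commute g p := hc g (by simp) p (sub p hp')
    have cgq : Commute g q := hc g (by simp) q (sub q hq')
    have czp : Commute y (p * q) := (hc y (sub y hy') p (sub p hp')).mul_right (hc y (sub y hy') q (sub q hq'))
    refine hgu (huniq g p q hnd2 ?_ ?_ ?_ g (by simp))
    · intro u hu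
      simp only [List.mem_cons, List.not_mem_nil, or_false] at hu
      rcases hu with rfl | rfl | rfl
      exacts [hgD, hD _ (sub _ hp'), hD _ (sub _ hq')]
    · have hm : ∀ w ∈ [e, f, y, g, p, q], w ∈ [e, f, g, a, b, c] := by
        intro w hw
        simp only [List.mem_cons, List.not_mem_nil, or_false] at hw
        rcases hw with rfl | rfl | rfl | rfl | rfl | rfl
        exacts [by simp, by simp, sub _ hy', by simp, sub _ hp', sub _ hq']
      exact fun u hu v hv => hc u (hm u hu) v (hm v hv)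
    · calc e * f * y = e * f * g * (g * y) := by
            rw [mul_assoc (e * f), ← mul_assoc g, mul_self h.1 hgD, one_mul]
        _ = y * (p * q) * (g * y) := by rw [heq, hperm]
        _ = g * (p * q) := by
            rw [czp.eq, hgy.2.2.symm.eq, mul_assoc (p * q) y, ← mul_assoc y y g, mul_self h.1 hy, one_mul,
              (cgp.mul_right cgq).eq]
        _ = g * p * q := (mul_assoc _ _ _).symm
  have ny : y ≠ a ∧ y ≠ b ∧ y ≠ c := by
    refine ⟨fun h' => key b c ?_ (by simp) (by simp) (by simp [h']) (by rw [h', mul_assoc]),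
      fun h' => key a c ?_ (by simp) (by simp) (by simp [h']) (by rw [h', ← mul_assoc, cab.symm.eq]),
      fun h' => key a b ?_ (by simp) (by simp) (by simp [h']) (by rw [h', ← mul_assoc]; exact e3.symm)⟩
    all_goals
      subst h'
      simp [n1, n2, n3, n4, n5, n6, n7, n8, n9, n10, n11, n12, n13, n14, n15, Ne.symm n10, Ne.symm n11,
        Ne.symm n12, Ne.symm n13, Ne.symm n14, Ne.symm n15]
  refine ⟨e, f, g, a, b, c, ?_, hnd, hc, heq⟩
  intro u hu
  simp only [List.mem_cons, List.not_mem_nil, or_false] at hu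
  rcases hu with rfl | rfl | rfl | rfl | rfl | rfl
  exacts [he, hfy, hgy, ⟨ha, Ne.symm ny.1, cya⟩, ⟨hb, Ne.symm ny.2.1, cyb⟩, ⟨hc', Ne.symm ny.2.2, cyc⟩]

namespace M23

variable (H : Hyp G D) {d : G} (hd : d ∈ D)

include H hd

/-- Three members of `D_d` and the three others of their six have product `d`. -/
theorem prod_six {e f g : G} (he : e ∈ perp D d) (hfd : f ∈ perp D d) (hgd : g ∈ perp D d)
    {a b c : G} (ha : a ∈ perp D d) (hb : b ∈ perp D d) (hc' : c ∈ perp D d)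
    (hnd : [bar he, bar hfd, bar hgd, bar ha, bar hb, bar hc'].Nodup)
    (hc : ∀ u ∈ [bar he, bar hfd, bar hgd, bar ha, bar hb, bar hc'],
      ∀ v ∈ [bar he, bar hfd, bar hgd, bar ha, bar hb, bar hc'], Commute u v)
    (heq : bar he * bar hfd * bar hgd = bar ha * bar hb * bar hc') : e * f * g * c * b * a = d := by
  have h := H.group
  set l : List G := [e, f, g, c, b, a] with hl
  have hlm : ∀ z ∈ l, ∃ hz : z ∈ perp D d, bar hz ∈ [bar he, bar hfd, bar hgd, bar ha, bar hb, bar hc'] := by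
    intro z hz
    simp only [hl, List.mem_cons, List.not_mem_nil, or_false] at hz
    rcases hz with rfl | rfl | rfl | rfl | rfl | rfl
    exacts [⟨he, by simp⟩, ⟨hfd, by simp⟩, ⟨hgd, by simp⟩, ⟨hc', by simp⟩, ⟨hb, by simp⟩, ⟨ha, by simp⟩]
  have hinj : ∀ {u v : G} (hu : u ∈ perp D d) (hv : v ∈ perp D d), bar hu ≠ bar hv → u ≠ v :=
    fun hu hv hne huv => hne (by subst huv; rfl)
  simp only [List.nodup_cons, List.mem_cons, List.not_mem_nil, or_false, not_or, List.nodup_nil, and_true,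
    not_false_eq_true] at hnd
  obtain ⟨⟨n1, n2, n3, n4, n5⟩, ⟨n6, n7, n8, n9⟩, ⟨n10, n11, n12⟩, ⟨n13, n14⟩, n15⟩ := hnd
  have hlnd : l.Nodup := by
    simp only [hl, List.nodup_cons, List.mem_cons, List.not_mem_nil, or_false, not_or, List.nodup_nil, and_true,
      not_false_eq_true]
    exact ⟨⟨hinj he hfd n1, hinj he hgd n2, hinj he hc' n5, hinj he hb n4, hinj he ha n3⟩,
      ⟨hinj hfd hgd n6, hinj hfd hc' n9, hinj hfd hb n8, hinj hfd ha n7⟩,
      ⟨hinj hgd hc' n12, hinj hgd hb n11, hinj hgd ha n10⟩,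
      ⟨hinj hc' hb (Ne.symm n15), hinj hc' ha (Ne.symm n14)⟩, hinj hb ha (Ne.symm n13)⟩
  have hcl : ∀ z ∈ l, z ∈ Subgroup.closure (perp D d) := fun z hz => mem_perp_closure (hlm z hz).1
  have hprod : l.prod ∈ Subgroup.closure (perp D d) := Subgroup.list_prod_mem _ hcl
  have hcen : ∀ y ∈ perp D d, Commute l.prod y := by
    suffices h1 : (QuotientGroup.mk (⟨l.prod, hprod⟩ : ↥(Subgroup.closure (perp D d))) : PerpQuot D d) = 1 from
      mem_center_closure_iff.1 ((QuotientGroup.eq_one_iff _).1 h1)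
    have e1 : (⟨l.prod, hprod⟩ : ↥(Subgroup.closure (perp D d))) =
        ⟨e, mem_perp_closure he⟩ * ⟨f, mem_perp_closure hfd⟩ * ⟨g, mem_perp_closure hgd⟩ *
          ⟨c, mem_perp_closure hc'⟩ * ⟨b, mem_perp_closure hb⟩ * ⟨a, mem_perp_closure ha⟩ :=
      Subtype.ext (by simp [hl, mul_assoc])
    rw [e1]
    simp only [QuotientGroup.mk_mul]
    show bar he * bar hfd * bar hgd * bar hc' * bar hb * bar ha = 1
    have hEs := (quotGroup h d).1
    rw [heq]
    simp [mul_assoc, mul_self_cancel hEs (bar_mem H hd hb), mul_self_cancel hEs (bar_mem H hd hc'),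
      mul_self hEs (bar_mem H hd ha)]
  have hne1 : l.prod ≠ 1 := (noRel_of_M23 psu62Facts h H.type).2 l hlnd rfl (fun z hz => (hlm z hz).1.1)
    fun u hu v hv => by
      obtain ⟨hu', hum⟩ := hlm u hu
      obtain ⟨hv', hvm⟩ := hlm v hv
      exact (bar_commute H hu' hv').1 (hc _ hum _ hvm)
  have hpd : e * f * g * c * b * a = l.prod := by simp [hl, mul_assoc]
  rw [hpd]
  exact (eq_one_or_eq_of_centralize H hd
    (Subgroup.mem_centralizer_singleton_iff.1 (closure_le_centralizer d hprod)) hcen).resolve_left hne1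

/-- `d` is the product of six members of `D_d ∩ D_y` for a neighbour `y`. -/
theorem exists_six_common {y : G} (hy : y ∈ perp D d) :
    ∃ e f g a b c, (∀ u ∈ [e, f, g, a, b, c], u ∈ perp D d ∩ perp D y) ∧ e * f * g * c * b * a = d := by
  obtain ⟨pe, pf, pg, pa, pb, pc, hmem, hnd, hc, heq⟩ :=
    exists_six_in_perp (quotGroup H.group d) (quotPrim H hd) (quot22 H hd) (bar_mem H hd hy)
  obtain ⟨e, he, rfl⟩ := exists_lift (hmem pe (by simp)).1
  obtain ⟨f, hf, rfl⟩ := exists_lift (hmem pf (by simp)).1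
  obtain ⟨g, hg, rfl⟩ := exists_lift (hmem pg (by simp)).1
  obtain ⟨a, ha, rfl⟩ := exists_lift (hmem pa (by simp)).1
  obtain ⟨b, hb, rfl⟩ := exists_lift (hmem pb (by simp)).1
  obtain ⟨c, hc', rfl⟩ := exists_lift (hmem pc (by simp)).1
  refine ⟨e, f, g, a, b, c, ?_, prod_six H hd he hf hg ha hb hc' hnd hc heq⟩
  have mk : ∀ z : G, ∀ hz : z ∈ perp D d, bar hz ∈ perp (img D d) (bar hy) → z ∈ perp D d ∩ perp D y :=
    fun z hz hzc => ⟨hz, (mem_perp_bar H hd hy hz).1 hzc⟩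
  intro u hu
  simp only [List.mem_cons, List.not_mem_nil, or_false] at hu
  rcases hu with rfl | rfl | rfl | rfl | rfl | rfl
  exacts [mk _ he (hmem _ (by simp)), mk _ hf (hmem _ (by simp)), mk _ hg (hmem _ (by simp)),
    mk _ ha (hmem _ (by simp)), mk _ hb (hmem _ (by simp)), mk _ hc' (hmem _ (by simp))]

/-- Two commuting members `d`, `y`: the joint centralizer and that of the product. -/
theorem pair_centralizer {y : G} (hy : y ∈ perp D d) (K C V : Subgroup G)
    (hK : K = Subgroup.centralizer ({d, y} : Set G)) (hC : C = Subgroup.centralizer ({d * y} : Set G))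
    (hV : V = Subgroup.closure ({d, y} : Set G)) [hn : (V.subgroupOf C).Normal] :
    K ≤ C ∧ (K.subgroupOf C).index = 2 ∧ (Subgroup.center ↥K).map K.subtype = V ∧ IsQuasisimple ↥K ∧
      (∃ (F : Type) (_ : Field F) (_ : Fintype F), Fintype.card F = 4 ∧
        Nonempty (↥K ⧸ Subgroup.center ↥K ≃* PSU 6 F 2)) ∧
      Subgroup.center (↥C ⧸ V.subgroupOf C) = ⊥ := by
  classical
  have h := H.group
  have hyD := hy.1
  have hne : d ≠ y := Ne.symm hy.2.1
  have hdy : Commute d y := hy.2.2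
  have hCd := centralizer_eq h H hd
  set Hd := Subgroup.closure (perp D d) with hHd
  have hmemK : ∀ {k : G}, k ∈ K ↔ Commute k d ∧ Commute k y := fun {k} => by
    rw [hK, Subgroup.mem_centralizer_iff]
    refine ⟨fun hk => ⟨(hk _ (by simp)).symm, (hk _ (by simp)).symm⟩, ?_⟩
    rintro ⟨a, b⟩ w (rfl | rfl)
    exacts [a.symm.eq, b.symm.eq]
  have hmemC : ∀ {k : G}, k ∈ C ↔ Commute k (d * y) := fun {k} => by
    rw [hC, Subgroup.mem_centralizer_singleton_iff]; rfl
  have hKH : K ≤ Hd := fun k hk => by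
    rw [← hCd, Subgroup.mem_centralizer_singleton_iff]
    exact (hmemK.1 hk).1.eq
  have hdV : d ∈ V := hV ▸ Subgroup.subset_closure (by simp)
  have hyV : y ∈ V := hV ▸ Subgroup.subset_closure (by simp)
  have hVK : V ≤ K := by
    rw [hV, Subgroup.closure_le]
    rintro w (rfl | rfl)
    exacts [hmemK.2 ⟨Commute.refl _, hdy⟩, hmemK.2 ⟨hdy.symm, Commute.refl _⟩]
  have hVc : ∀ v ∈ V, ∀ k ∈ K, Commute v k := by
    intro v hv k hk
    have hle : V ≤ Subgroup.centralizer ({k} : Set G) := by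
      rw [hV, Subgroup.closure_le]
      rintro w (rfl | rfl)
      exacts [Subgroup.mem_centralizer_singleton_iff.2 (hmemK.1 hk).1.symm.eq,
        Subgroup.mem_centralizer_singleton_iff.2 (hmemK.1 hk).2.symm.eq]
    exact Subgroup.mem_centralizer_singleton_iff.1 (hle hv)
  set W := perp D d ∩ perp D y with hW
  have hWK : ∀ w ∈ W, w ∈ K := fun w hw => hmemK.2 ⟨hw.1.2.2.symm, hw.2.2.2.symm⟩
  -- the map to the quotient of the neighbourhood of the image of `y`
  have hq := quotGroup h d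
  have hqp := quotPrim H hd
  have hq22 := quot22 H hd
  have hyb := bar_mem H hd hy
  set Hy := Subgroup.closure (perp (img D d) (bar hy)) with hHy
  let f₀ : ↥K →* PerpQuot D d := (QuotientGroup.mk' (Subgroup.center ↥Hd)).comp (Subgroup.inclusion hKH)
  have hf₀ : ∀ k, f₀ k ∈ Hy := fun k => by
    rw [hHy, ← FischerTypes.centralizer_eq hq hqp hq22 hyb, Subgroup.mem_centralizer_singleton_iff]
    exact ((show Commute (Subgroup.inclusion hKH k) ⟨y, mem_perp_closure hy⟩ from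
      Subtype.ext (hmemK.1 k.2).2.eq).map (QuotientGroup.mk' (Subgroup.center ↥Hd))).eq
  let f : ↥K →* PerpQuot (img D d) (bar hy) :=
    (QuotientGroup.mk' (Subgroup.center ↥Hy)).comp (f₀.codRestrict Hy hf₀)
  obtain ⟨My⟩ := exists_perpModel hq hq22 hyb
  obtain ⟨hcard, hsimple, hZbot, ⟨ePSU⟩⟩ := My.exists_equiv_PSU
  have hlift : ∀ p ∈ perp (img D d) (bar hy), ∃ w, ∃ hw : w ∈ W, f₀ ⟨w, hWK w hw⟩ = p := fun p hp => by
    obtain ⟨z, hz, rfl⟩ := exists_lift hp.1
    exact ⟨z, ⟨hz, (mem_perp_bar H hd hy hz).1 hp⟩, rfl⟩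
  have hf₀s : ∀ p ∈ Hy, ∃ k, f₀ k = p := fun p hp => by
    have hle : Hy ≤ f₀.range := by
      rw [hHy, Subgroup.closure_le]
      intro q hq
      obtain ⟨w, hw, rfl⟩ := hlift q hq
      exact ⟨_, rfl⟩
    exact hle hp
  have hfs : Function.Surjective f := fun q => by
    obtain ⟨⟨p, hp⟩, rfl⟩ := QuotientGroup.mk_surjective q
    obtain ⟨k, rfl⟩ := hf₀s p hp
    exact ⟨k, rfl⟩
  have hker : ∀ k : ↥K, f k = 1 ↔ (k : G) ∈ V := by
    intro k
    have hone : ∀ {w : G} (hw : w ∈ Hd), (QuotientGroup.mk (⟨w, hw⟩ : ↥Hd) : PerpQuot D d) = 1 → w ∈ V := by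
      intro w hw he
      rcases eq_one_or_eq_of_centralize H hd
          (Subgroup.mem_centralizer_singleton_iff.1 (closure_le_centralizer d hw))
          (mem_center_closure_iff.1 ((QuotientGroup.eq_one_iff _).1 he)) with h0 | h0 <;> rw [h0]
      exacts [one_mem _, hdV]
    constructor
    · intro hk
      rcases (center_closure_perp hq hqp hq22 hyb (hf₀ k)).1
          (mem_center_closure_iff.1 ((QuotientGroup.eq_one_iff _).1 hk)) with h0 | h0
      · exact hone (hKH k.2) h0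
      · have h3 : (k : G) * y ∈ V := by
          refine hone (mul_mem (hKH k.2) (mem_perp_closure hy)) ?_
          show (QuotientGroup.mk (Subgroup.inclusion hKH k * ⟨y, mem_perp_closure hy⟩) : PerpQuot D d) = 1
          rw [QuotientGroup.mk_mul]
          show f₀ k * bar hy = 1
          rw [h0, mul_self hq.1 hyb]
        have h4 := mul_mem h3 hyV
        rwa [mul_assoc, mul_self h.1 hyD, mul_one] at h4
    · intro hk
      refine (QuotientGroup.eq_one_iff _).2 (mem_center_closure_iff.2 fun p hp => ?_)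
      obtain ⟨w, hw, rfl⟩ := hlift p hp
      exact (show Commute k ⟨w, hWK w hw⟩ from Subtype.ext (hVc _ hk w (hWK w hw)).eq).map f₀
  -- the centre
  have hkerc : f.ker = Subgroup.center ↥K := by
    refine le_antisymm (fun k hk => Subgroup.mem_center_iff.2 fun l => Subtype.ext
      (hVc _ ((hker k).1 hk) l l.2).eq.symm) (fun k hk => ?_)
    have h1 : f k ∈ Subgroup.center (PerpQuot (img D d) (bar hy)) := Subgroup.mem_center_iff.2 fun q => by
      obtain ⟨l, rfl⟩ := hfs q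
      rw [← map_mul, ← map_mul, Subgroup.mem_center_iff.1 hk l]
    rwa [hZbot, Subgroup.mem_bot] at h1
  have hcenter : (Subgroup.center ↥K).map K.subtype = V := by
    rw [← hkerc]
    ext v
    exact ⟨fun ⟨k, hk, he⟩ => he ▸ (hker k).1 hk, fun hv => ⟨⟨v, hVK hv⟩, (hker ⟨v, hVK hv⟩).2 hv, rfl⟩⟩
  let eK : ↥K ⧸ Subgroup.center ↥K ≃* PerpQuot (img D d) (bar hy) :=
    (QuotientGroup.quotientMulEquivOfEq hkerc.symm).trans (QuotientGroup.quotientKerEquivOfSurjective f hfs)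
  haveI : Nontrivial (↥K ⧸ Subgroup.center ↥K) := eK.toEquiv.nontrivial
  have hKsimple : IsSimpleGroup (↥K ⧸ Subgroup.center ↥K) :=
    IsSimpleGroup.isSimpleGroup_of_surjective eK.symm.toMonoidHom eK.symm.surjective
  -- perfectness: the common neighbours are one class of `K` and `d`, `y` are products of six of them
  have hclass : ∀ w, ∀ hw : w ∈ W, ∀ w', ∀ hw' : w' ∈ W,
      ∃ u : ↥K, u * ⟨w, hWK w hw⟩ * u⁻¹ = ⟨w', hWK w' hw'⟩ := by
    intro w hw w' hw'
    obtain ⟨p, hp, hp'⟩ := My.exists_conj ((mem_perp_bar H hd hy hw.1).2 hw.2) ((mem_perp_bar H hd hy hw'.1).2 hw'.2)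
    obtain ⟨u, rfl⟩ := hf₀s p hp
    refine ⟨u, Subtype.ext ?_⟩
    have hu : (u : G) * w * (u : G)⁻¹ ∈ perp D d := conj_mem_perp h (hmemK.1 u.2).1 hw.1
    exact bar_inj H hd hu hw'.1 (Eq.trans rfl hp')
  have hperf : Group.IsPerfect ↥K := by
    refine ⟨?_⟩
    set A := Abelianization ↥K
    let α : ↥K →* A := Abelianization.of
    obtain ⟨w₀, hw₀⟩ : W.Nonempty := Set.nonempty_of_ncard_ne_zero (by rw [hW, ncard_perp_perp H hd hy]; norm_num)
    have hall : ∀ w, ∀ hw : w ∈ W, α ⟨w, hWK w hw⟩ = α ⟨w₀, hWK w₀ hw₀⟩ := fun w hw => by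
      obtain ⟨u, hu⟩ := hclass w₀ hw₀ w hw
      rw [← hu, map_mul, map_mul, map_inv, mul_comm (α u), mul_inv_cancel_right]
    have hsix : ∀ (x : G) (hx : x ∈ K) (e f g a b c : G), (∀ u ∈ [e, f, g, a, b, c], u ∈ W) →
        e * f * g * c * b * a = x → α ⟨x, hx⟩ = 1 := by
      intro x hx e f g a b c hm hprod
      have he : (⟨x, hx⟩ : ↥K) = ⟨e, hWK e (hm e (by simp))⟩ * ⟨f, hWK f (hm f (by simp))⟩ *
          ⟨g, hWK g (hm g (by simp))⟩ * ⟨c, hWK c (hm c (by simp))⟩ * ⟨b, hWK b (hm b (by simp))⟩ *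
          ⟨a, hWK a (hm a (by simp))⟩ := Subtype.ext hprod.symm
      have hs : (⟨w₀, hWK w₀ hw₀⟩ : ↥K) * ⟨w₀, hWK w₀ hw₀⟩ = 1 := Subtype.ext (mul_self h.1 hw₀.1.1)
      rw [he]
      rw [map_mul, map_mul, map_mul, map_mul, map_mul, hall e (hm e (by simp)), hall f (hm f (by simp)),
        hall g (hm g (by simp)), hall c (hm c (by simp)), hall b (hm b (by simp)), hall a (hm a (by simp))]
      have hs' : α ⟨w₀, hWK w₀ hw₀⟩ * α ⟨w₀, hWK w₀ hw₀⟩ = 1 := by rw [← map_mul, hs, map_one]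
      rw [hs', one_mul, hs', one_mul, hs']
    have hd1 : α ⟨d, hVK hdV⟩ = 1 := by
      obtain ⟨e, f, g, a, b, c, hm, hprod⟩ := exists_six_common H hd hy
      exact hsix d _ e f g a b c hm hprod
    have hy1 : α ⟨y, hVK hyV⟩ = 1 := by
      obtain ⟨e, f, g, a, b, c, hm, hprod⟩ := exists_six_common H hyD (perp_symm hd hy)
      exact hsix y _ e f g a b c (fun u hu => ⟨(hm u hu).2, (hm u hu).1⟩) hprod
    have hVker : ∀ v : ↥K, (v : G) ∈ V → v ∈ commutator ↥K := by
      intro v hv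
      rw [← Abelianization.ker_of, MonoidHom.mem_ker]
      have hle : V.subgroupOf K ≤ α.ker := by
        rw [← Subgroup.map_le_map_iff_of_injective (f := K.subtype) K.subtype_injective,
          Subgroup.map_subgroupOf_eq_of_le hVK, hV, Subgroup.closure_le]
        rintro w (rfl | rfl)
        exacts [⟨⟨w, hVK hdV⟩, hd1, rfl⟩, ⟨⟨w, hVK hyV⟩, hy1, rfl⟩]
      exact hle hv
    haveI := hKsimple
    have hmap : (commutator ↥K).map (QuotientGroup.mk' (Subgroup.center ↥K)) = ⊤ := by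
      refine ((Subgroup.Normal.map inferInstance _ (QuotientGroup.mk'_surjective _)).eq_bot_or_eq_top).resolve_left
        fun hb => ?_
      have hab : ∀ a b : ↥K ⧸ Subgroup.center ↥K, a * b = b * a := by
        intro a b
        obtain ⟨a, rfl⟩ := QuotientGroup.mk'_surjective (Subgroup.center ↥K) a
        obtain ⟨b, rfl⟩ := QuotientGroup.mk'_surjective (Subgroup.center ↥K) b
        rw [← commutatorElement_eq_one_iff_mul_comm, ← map_commutatorElement, ← Subgroup.mem_bot, ← hb]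
        exact Subgroup.mem_map_of_mem _ (Subgroup.commutator_mem_commutator (Subgroup.mem_top a) (Subgroup.mem_top b))
      obtain ⟨q, hq1⟩ := exists_ne (1 : PerpQuot (img D d) (bar hy))
      refine hq1 ?_
      rw [← Subgroup.mem_bot, ← hZbot, Subgroup.mem_center_iff]
      intro r
      exact eK.symm.injective (by rw [map_mul, map_mul]; exact hab _ _)
    rw [eq_top_iff]
    intro k _
    obtain ⟨k', hk', he⟩ : (QuotientGroup.mk' (Subgroup.center ↥K) k) ∈
        (commutator ↥K).map (QuotientGroup.mk' (Subgroup.center ↥K)) := hmap ▸ Subgroup.mem_top _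
    have hz : k'⁻¹ * k ∈ f.ker := hkerc ▸ QuotientGroup.eq.1 he
    have hz' := hVker _ ((hker _).1 hz)
    rw [show k = k' * (k'⁻¹ * k) by group]
    exact mul_mem hk' hz'
  -- elements of `C`
  obtain ⟨-, -, hN, -, -⟩ := nice_of_isOfTypeM23 psu62Facts h H.type
  have hpu := pairUnique h.1 hN.noTwins
  have hKC : K ≤ C := fun k hk => hmemC.2 ((hmemK.1 hk).1.mul_right (hmemK.1 hk).2)
  obtain ⟨c₀, hc₀1, hc₀2⟩ : ∃ c₀ : G, c₀ * d * c₀⁻¹ = y ∧ c₀ * y * c₀⁻¹ = d := by
    obtain ⟨g, hg⟩ := H.prim.1 d hd y hyD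
    have hg2 : g * y * g⁻¹ ∈ perp D y := by
      have h3 : g * y * g⁻¹ ∈ perp D (g * d * g⁻¹) :=
        ⟨h.2.1 g _ hyD, fun he => hy.2.1 (mul_left_cancel (mul_right_cancel he)),
          (commute_conj_iff' g _ _).2 hdy⟩
      rwa [hg] at h3
    obtain ⟨k, hk, hk'⟩ := exists_conj H hyD hg2 (perp_symm hd hy)
    exact ⟨k * g, by rw [show k * g * d * (k * g)⁻¹ = k * (g * d * g⁻¹) * k⁻¹ by group, hg,
      FischerTypes.conj_of_mem hk], by rw [← hk']; group⟩
  have hcases : ∀ c ∈ C, c ∈ K ∨ (c * d * c⁻¹ = y ∧ c * y * c⁻¹ = d) := by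
    intro c hc
    have h3 : (c * d * c⁻¹) * (c * y * c⁻¹) = d * y := by
      rw [show (c * d * c⁻¹) * (c * y * c⁻¹) = c * (d * y) * c⁻¹ by group, (hmemC.1 hc).eq,
        mul_inv_cancel_right]
    rcases hpu _ (h.2.1 c _ hd) _ (h.2.1 c _ hyD) _ hd _ hyD
      (fun he => hne (mul_left_cancel (mul_right_cancel he))) ((commute_conj_iff' c _ _).2 hdy) hne hdy h3 with
      ⟨e1, e2⟩ | ⟨e1, e2⟩
    · exact Or.inl (hmemK.2 ⟨mul_inv_eq_iff_eq_mul.1 e1, mul_inv_eq_iff_eq_mul.1 e2⟩)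
    · exact Or.inr ⟨e1, e2⟩
  have hnotK : ∀ {c : G}, c * d * c⁻¹ = y → c ∉ K := fun {c} e1 hc =>
    hne (by rw [← e1, (hmemK.1 hc).1.eq, mul_inv_cancel_right])
  have hc₀C : c₀ ∈ C := by
    refine hmemC.2 (mul_inv_eq_iff_eq_mul.1 ?_)
    rw [show c₀ * (d * y) * c₀⁻¹ = (c₀ * d * c₀⁻¹) * (c₀ * y * c₀⁻¹) by group, hc₀1, hc₀2, hdy.eq]
  have hidx : (K.subgroupOf C).index = 2 := by
    rw [Subgroup.index_eq_two_iff]
    refine ⟨⟨c₀, hc₀C⟩, fun b => ?_⟩
    simp only [Subgroup.mem_subgroupOf, Subgroup.coe_mul]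
    rcases hcases b.1 b.2 with hb | ⟨e1, e2⟩
    · exact Or.inr ⟨hb, fun hbc => hnotK hc₀1 ((mul_mem_cancel_left hb).1 hbc)⟩
    · refine Or.inl ⟨hmemK.2 ⟨?_, ?_⟩, hnotK e1⟩
      · refine mul_inv_eq_iff_eq_mul.1 ?_
        rw [show (b : G) * c₀ * d * ((b : G) * c₀)⁻¹ = b * (c₀ * d * c₀⁻¹) * (b : G)⁻¹ by group, hc₀1, e2]
      · refine mul_inv_eq_iff_eq_mul.1 ?_
        rw [show (b : G) * c₀ * y * ((b : G) * c₀)⁻¹ = b * (c₀ * y * c₀⁻¹) * (b : G)⁻¹ by group, hc₀2, e1]
  refine ⟨hKC, hidx, hcenter, ⟨hperf, hKsimple⟩, ⟨My.K, My.instField, My.instFintype, hcard, ⟨eK.trans ePSU⟩⟩, ?_⟩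
  rw [eq_bot_iff]
  intro z hz
  obtain ⟨⟨c, hcC⟩, rfl⟩ := QuotientGroup.mk_surjective z
  have hcomm : ∀ k ∈ C, c * k * c⁻¹ * k⁻¹ ∈ V := fun k hk => by
    have h1 := Subgroup.mem_center_iff.1 hz (QuotientGroup.mk (⟨k, hk⟩ : ↥C))
    rw [← QuotientGroup.mk_mul, ← QuotientGroup.mk_mul, QuotientGroup.eq] at h1
    have h2 : ((k * c)⁻¹ * (c * k)) ∈ V := by simpa [Subgroup.mem_subgroupOf] using h1
    have h3 := (hn.conj_mem (⟨k * c, mul_mem hk hcC⟩⁻¹ * ⟨c * k, mul_mem hcC hk⟩)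
      (by simpa [Subgroup.mem_subgroupOf] using h2) ⟨k * c, mul_mem hk hcC⟩)
    simpa [Subgroup.mem_subgroupOf, mul_assoc] using h3
  -- the commutator map on `K` is a homomorphism to an abelian group
  have hVab : ∀ a b : ↥V, a * b = b * a := fun a b => Subtype.ext (hVc _ a.2 _ (hVK b.2)).eq
  letI : CommGroup ↥V := { (inferInstance : Group ↥V) with mul_comm := hVab }
  let φ : ↥K →* ↥V := MonoidHom.mk' (fun k => ⟨c * k * c⁻¹ * (k : G)⁻¹, hcomm k (hKC k.2)⟩) fun k l => by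
    refine Subtype.ext ?_
    show c * ((k : G) * l) * c⁻¹ * ((k : G) * l)⁻¹ = c * k * c⁻¹ * (k : G)⁻¹ * (c * l * c⁻¹ * (l : G)⁻¹)
    calc c * ((k : G) * l) * c⁻¹ * ((k : G) * l)⁻¹
        = c * k * c⁻¹ * ((c * l * c⁻¹ * (l : G)⁻¹) * (k : G)⁻¹) := by group
      _ = c * k * c⁻¹ * ((k : G)⁻¹ * (c * l * c⁻¹ * (l : G)⁻¹)) := by
          rw [(hVc _ (hcomm l (hKC l.2)) _ (inv_mem k.2)).eq]
      _ = _ := by group
  have hφ : ∀ k : ↥K, φ k = 1 := fun k => by
    have hle : commutator ↥K ≤ φ.ker := Abelianization.commutator_subset_ker φ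
    rw [hperf.commutator_eq_top] at hle
    exact hle (Subgroup.mem_top k)
  have hcK' : ∀ k ∈ K, Commute c k := fun k hk => by
    have h0 : c * k * c⁻¹ * k⁻¹ = 1 := congrArg Subtype.val (hφ ⟨k, hk⟩)
    rw [mul_inv_eq_one, mul_inv_eq_iff_eq_mul] at h0
    exact h0
  have hcK : c ∈ K := hmemK.2 ⟨hcK' d (hVK hdV), hcK' y (hVK hyV)⟩
  rw [Subgroup.mem_bot, QuotientGroup.eq_one_iff]
  show c ∈ V
  rw [← hcenter]
  exact ⟨⟨c, hcK⟩, Subgroup.mem_center_iff.2 fun k => Subtype.ext (hcK' k k.2).eq.symm, rfl⟩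

end M23

namespace M23

/-- No six commuting members have product one. -/
theorem noRel_of_quot (H : Hyp G D) : NoRel D 6 := (noRel_of_M23 psu62Facts H.group H.type).2

/-- Seven commuting members with product one. -/
theorem exists_seven (H : Hyp G D) : ∃ l : List G, l.Nodup ∧ l.length = 7 ∧ (∀ a ∈ l, a ∈ D) ∧
    (∀ a ∈ l, ∀ b ∈ l, Commute a b) ∧ l.prod = 1 := by
  obtain ⟨d, hd, -⟩ := H.prim.2.1
  obtain ⟨y, hy⟩ : (perp D d).Nonempty := Set.nonempty_of_ncard_ne_zero (by rw [ncard_perp H hd]; norm_num)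
  obtain ⟨pe, pf, pg, pa, pb, pc, hmem, hnd, hc, heq⟩ :=
    exists_six_in_perp (quotGroup H.group d) (quotPrim H hd) (quot22 H hd) (bar_mem H hd hy)
  obtain ⟨e, he, rfl⟩ := exists_lift (hmem pe (by simp)).1
  obtain ⟨f, hf, rfl⟩ := exists_lift (hmem pf (by simp)).1
  obtain ⟨g, hg, rfl⟩ := exists_lift (hmem pg (by simp)).1
  obtain ⟨a, ha, rfl⟩ := exists_lift (hmem pa (by simp)).1
  obtain ⟨b, hb, rfl⟩ := exists_lift (hmem pb (by simp)).1
  obtain ⟨c, hc', rfl⟩ := exists_lift (hmem pc (by simp)).1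
  have hp := prod_six H hd he hf hg ha hb hc' hnd hc heq
  have hlm : ∀ z ∈ [e, f, g, c, b, a], ∃ hz : z ∈ perp D d,
      bar hz ∈ [bar he, bar hf, bar hg, bar ha, bar hb, bar hc'] := by
    intro z hz
    simp only [List.mem_cons, List.not_mem_nil, or_false] at hz
    rcases hz with rfl | rfl | rfl | rfl | rfl | rfl
    exacts [⟨he, by simp⟩, ⟨hf, by simp⟩, ⟨hg, by simp⟩, ⟨hc', by simp⟩, ⟨hb, by simp⟩, ⟨ha, by simp⟩]
  refine ⟨[d, e, f, g, c, b, a], List.nodup_cons.2 ⟨fun h0 => ((hlm d h0).1).2.1 rfl, ?_⟩, rfl, ?_, ?_, ?_⟩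
  · simp only [List.nodup_cons, List.mem_cons, List.not_mem_nil, or_false, not_or, List.nodup_nil, and_true,
      not_false_eq_true] at hnd ⊢
    obtain ⟨⟨n1, n2, n3, n4, n5⟩, ⟨n6, n7, n8, n9⟩, ⟨n10, n11, n12⟩, ⟨n13, n14⟩, n15⟩ := hnd
    have hinj : ∀ {u v : G} (hu : u ∈ perp D d) (hv : v ∈ perp D d), bar hu ≠ bar hv → u ≠ v :=
      fun hu hv hne huv => hne (by subst huv; rfl)
    exact ⟨⟨hinj he hf n1, hinj he hg n2, hinj he hc' n5, hinj he hb n4, hinj he ha n3⟩,
      ⟨hinj hf hg n6, hinj hf hc' n9, hinj hf hb n8, hinj hf ha n7⟩,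
      ⟨hinj hg hc' n12, hinj hg hb n11, hinj hg ha n10⟩,
      ⟨hinj hc' hb (Ne.symm n15), hinj hc' ha (Ne.symm n14)⟩, hinj hb ha (Ne.symm n13)⟩
  · intro z hz
    rcases List.mem_cons.1 hz with rfl | hz
    · exact hd
    · exact (hlm z hz).1.1
  · intro u hu v hv
    rcases List.mem_cons.1 hu with hu0 | hu <;> rcases List.mem_cons.1 hv with hv0 | hv
    · rw [hu0, hv0]
    · rw [hu0]; exact (hlm v hv).1.2.2
    · rw [hv0]; exact (hlm u hu).1.2.2.symm
    · obtain ⟨hu', hum⟩ := hlm u hu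
      obtain ⟨hv', hvm⟩ := hlm v hv
      exact (bar_commute H hu' hv').1 (hc _ hum _ hvm)
  · have e1 : [d, e, f, g, c, b, a].prod = d * (e * f * g * c * b * a) := by simp [mul_assoc]
    rw [e1, hp, mul_self H.group.1 hd]

end M23

end CfsgLib.FischerTypes
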