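import Cfsg.Agent.FischerTypes.M24Graph

/-!
# The centralizer of a member in type M(24): `C(d) = ⟨D_d⟩`

The covering argument again; the two-step transporter to a member `y` not commuting with `d` is `d y d`.
-/

set_option autoImplicit false
set_option linter.style.haveILetI false
set_option maxHeartbeats 400000

namespace CfsgLib.FischerTypes.M24

open Cfsg CfsgLib.FischerTypes

section self

variable {G : Type*} [Group G] [Finite G] {D : Set G} (H : Hyp G D) {d : G} (hd : d ∈ D)

include H hd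

/-- `d` lies in `⟨D_d⟩`: it is a product of seven members of `D_d`. -/
theorem mem_closure_perp_self : d ∈ Subgroup.closure (perp D d) := by
  classical
  have h := H.group
  obtain ⟨l, hnd, hlen, hD, hc, hprod⟩ := M23.exists_seven (quot H hd)
  have hlift : ∀ p ∈ l, ∃ x, ∃ hx : x ∈ perp D d, bar hx = p := fun p hp => M23.exists_lift (hD p hp)
  choose f hf hfe using hlift
  set t : List ↥(Subgroup.closure (perp D d)) :=
    l.attach.map (fun p => ⟨f p.1 p.2, mem_perp_closure (hf p.1 p.2)⟩) with ht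
  have htm : t.map QuotientGroup.mk = l := by
    rw [ht, List.map_map]
    conv_rhs => rw [← List.attach_map_subtype_val l]
    exact List.map_congr_left fun p _ => hfe p.1 p.2
  have hmem : ∀ x ∈ t.map Subtype.val, ∃ p, ∃ hp : p ∈ l, f p hp = x := by
    intro x hx
    simp only [ht, List.map_map, List.mem_map] at hx
    obtain ⟨⟨p, hp⟩, -, rfl⟩ := hx
    exact ⟨p, hp, rfl⟩
  have hcen : ∀ y ∈ perp D d, Commute ((t.prod : ↥(Subgroup.closure (perp D d))) : G) y := by
    refine mem_center_closure_iff.1 ((QuotientGroup.eq_one_iff _).1 ?_)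
    show QuotientGroup.mk' _ t.prod = 1
    rw [map_list_prod]
    show (t.map QuotientGroup.mk).prod = 1
    rw [htm, hprod]
  have hne1 : ((t.prod : ↥(Subgroup.closure (perp D d))) : G) ≠ 1 := by
    rw [SubmonoidClass.coe_list_prod]
    obtain ⟨hZ, d', hd', c, -, -, -, -⟩ := H.type
    have hsc : ∀ a ∈ D, ∀ b ∈ D, IsConj a b := fun a ha b hb => isConj_iff.mpr (H.prim.1 a ha b hb)
    have h6 := noRel_succ h hd (fun a ha => isConj_iff.mp (hsc a ha d hd)) (noCentral H hd)
      (M23.noRel_of_quot (quot H hd))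
    refine h6 _ ?_ ?_ ?_ ?_
    · refine List.Nodup.of_map (fun x => if hx : x ∈ perp D d then bar hx else 1) ?_
      rw [List.map_map]
      convert hnd using 1
      conv_rhs => rw [← htm]
      refine List.map_congr_left fun x hx => ?_
      obtain ⟨p, hp, hpx⟩ := hmem x.1 (List.mem_map_of_mem hx)
      have hx' : (x : G) ∈ perp D d := hpx ▸ hf p hp
      simp only [Function.comp_apply]
      rw [dif_pos hx']
    · simp [ht, hlen]
    · intro x hx
      obtain ⟨p, hp, rfl⟩ := hmem x hx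
      exact (hf p hp).1
    · intro x hx y hy
      obtain ⟨p, hp, rfl⟩ := hmem x hx
      obtain ⟨q, hq, rfl⟩ := hmem y hy
      refine (bar_commute H (hf p hp) (hf q hq)).1 ?_
      rw [hfe, hfe]
      exact hc p hp q hq
  have hmemH := t.prod.2
  rcases eq_one_or_eq_of_centralize H hd
      (Subgroup.mem_centralizer_singleton_iff.1 (closure_le_centralizer d hmemH)) hcen with h0 | h0
  · exact absurd h0 hne1
  · rwa [h0] at hmemH

end self

variable {G : Type*} [Group G] [Finite G] {D : Set G} {d : G}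

variable (h : IsThreeTranspositionGroup D) (HH : Hyp G D) (hd : d ∈ D)

include h HH hd

omit h in
/-- An element of `⟨D_f⟩` fixing a neighbour `d` of `f` lies in `⟨D_d⟩`. -/
theorem mem_of_mem_neighbour {f z : G} (hf : f ∈ perp D d) (hz : z ∈ Subgroup.closure (perp D f))
    (hzd : Commute z d) : z ∈ Subgroup.closure (perp D d) := by
  obtain ⟨u, hu, hc⟩ := exists_decomp HH hf.1 (perp_symm hd hf) hz hzd
  have hu' : u ∈ Subgroup.closure (perp D d) :=
    Subgroup.closure_mono Set.inter_subset_right hu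
  have huf : u ∈ Subgroup.closure (perp D f) := Subgroup.closure_mono Set.inter_subset_left hu
  rcases eq_one_or_eq_of_centralize HH hf.1
      (Subgroup.mem_centralizer_singleton_iff.1 (closure_le_centralizer f (mul_mem (inv_mem huf) hz))) hc with h0 | h0
  · rwa [← inv_mul_eq_one.1 h0]
  · rw [show z = u * (u⁻¹ * z) by group, h0]
    exact mul_mem hu' (mem_perp_closure hf)

/-- A transporter inside the neighbourhood of a third member. -/
theorem exists_trans {e f : G} (he : e ∈ perp D d) (hf : f ∈ perp D d) (hfe : f ∈ perp D e) :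
    ∃ a ∈ Subgroup.closure (perp D f), a * d * a⁻¹ = e := by
  exact exists_conj HH hf.1 (perp_symm hd hf) (perp_symm he.1 hfe)

theorem step_unique_adj {e f f' g g' : G} (he : e ∈ perp D d) (hf : f ∈ perp D d) (hfe : f ∈ perp D e)
    (hf' : f' ∈ perp D d) (hfe' : f' ∈ perp D e) (hff : f' ∈ perp D f)
    {a a' : G} (ha : a ∈ Subgroup.closure (perp D f)) (hag : a⁻¹ * g ∈ Subgroup.closure (perp D d))
    (ha' : a' ∈ Subgroup.closure (perp D f')) (hag' : a'⁻¹ * g' ∈ Subgroup.closure (perp D d))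
    (hg : g * d * g⁻¹ = e) (hg' : g' * d * g'⁻¹ = e) : g⁻¹ * g' ∈ Subgroup.closure (perp D d) := by
  have hdf : d ∈ perp D f := perp_symm hd hf
  have hef : e ∈ perp D f := perp_symm he.1 hfe
  obtain ⟨u, ⟨hu, huf'⟩, hud, hue⟩ : ∃ u ∈ perp D f ∩ perp D f', ¬ Commute d u ∧ ¬ Commute e u := by
    by_contra hall
    push Not at hall
    have hsub : perp D f ∩ perp D f' ⊆
        insert d (perp D f ∩ (perp D f' ∩ perp D d)) ∪ insert e (perp D f ∩ (perp D f' ∩ perp D e)) := by
      intro u hu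
      by_cases hdu : Commute d u
      · by_cases hud : u = d
        · exact Or.inl (Or.inl hud)
        · exact Or.inl (Or.inr ⟨hu.1, hu.2, hu.1.1, hud, hdu⟩)
      · have heu : Commute e u := hall u hu hdu
        by_cases hue : u = e
        · exact Or.inr (Or.inl hue)
        · exact Or.inr (Or.inr ⟨hu.1, hu.2, hu.1.1, hue, heu⟩)
    have h1 := (Set.ncard_le_ncard hsub (Set.toFinite _)).trans (Set.ncard_union_le _ _)
    have h2 := Set.ncard_insert_le d (perp D f ∩ (perp D f' ∩ perp D d))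
    have h3 := Set.ncard_insert_le e (perp D f ∩ (perp D f' ∩ perp D e))
    rw [ncard_perp_perp HH hf.1 hff] at h1
    rw [ncard_perp_commute HH hf.1 hff hdf hf'.2.1 hf'.2.2.symm] at h2
    rw [ncard_perp_commute HH hf.1 hff hef hfe'.2.1 hfe'.2.2.symm] at h3
    omega
  have step : ∀ {x y : G}, x ∈ D → y ∈ D → ¬ Commute x y → x * y * x * (y * x) = y := by
    intro x y hx hy hxy
    calc x * y * x * (y * x) = (x * y * x) * (y * x) := rfl
      _ = (y * x * y) * (y * x) := by rw [braid h.1 hx hy hxy]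
      _ = y := by simp [mul_assoc, mul_self h.1 hx, mul_self_cancel h.1 hy]
  set t := u * e * (d * u) with ht
  have htd : t * d * t⁻¹ = e := by
    rw [ht]
    simp only [_root_.mul_inv_rev, inv_eq h.1 hu.1, inv_eq h.1 he.1, inv_eq h.1 hd]
    calc u * e * (d * u) * d * (u * d * (e * u)) = u * e * (d * u * d * (u * d)) * (e * u) := by
          simp [mul_assoc]
      _ = u * e * u * (e * u) := by rw [step hd hu.1 hud]
      _ = e := step hu.1 he.1 fun hh => hue hh.symm
  have htf : t ∈ Subgroup.closure (perp D f) :=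
    mul_mem (mul_mem (mem_perp_closure hu) (mem_perp_closure hef))
      (mul_mem (mem_perp_closure hdf) (mem_perp_closure hu))
  have htf' : t ∈ Subgroup.closure (perp D f') :=
    mul_mem (mul_mem (mem_perp_closure huf') (mem_perp_closure (perp_symm he.1 hfe')))
      (mul_mem (mem_perp_closure (perp_symm hd hf')) (mem_perp_closure huf'))
  have fixd : ∀ {x y : G}, x * d * x⁻¹ = e → y * d * y⁻¹ = e → Commute (x⁻¹ * y) d := by
    intro x y hx hy
    have h1 : (x⁻¹ * y) * d * (x⁻¹ * y)⁻¹ = d := by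
      rw [_root_.mul_inv_rev, inv_inv, show x⁻¹ * y * d * (y⁻¹ * x) = x⁻¹ * (y * d * y⁻¹) * x by group, hy,
        ← hx]
      group
    exact mul_inv_eq_iff_eq_mul.1 h1
  have conjeq : ∀ {b k : G}, b⁻¹ * k ∈ Subgroup.closure (perp D d) → k * d * k⁻¹ = e → b * d * b⁻¹ = e := by
    intro b k hbk hk
    rw [← hk]
    calc b * d * b⁻¹ = b * ((b⁻¹ * k) * d * (b⁻¹ * k)⁻¹) * b⁻¹ := by rw [FischerTypes.conj_of_mem hbk]
      _ = k * d * k⁻¹ := by group
  have e1 := mem_of_mem_neighbour HH hd hf (mul_mem (inv_mem ha) htf) (fixd (conjeq hag hg) htd)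
  have e2 := mem_of_mem_neighbour HH hd hf' (mul_mem (inv_mem htf') ha') (fixd htd (conjeq hag' hg'))
  rw [show g⁻¹ * g' = (a⁻¹ * g)⁻¹ * (a⁻¹ * t) * (t⁻¹ * a') * (a'⁻¹ * g') by group]
  exact mul_mem (mul_mem (mul_mem (inv_mem hag) e1) e2) hag'

/-- One step transporters form a single coset. -/
theorem Step.unique {e g g' : G} (hs : Step D d e g) (hs' : Step D d e g') :
    g⁻¹ * g' ∈ Subgroup.closure (perp D d) := by
  obtain ⟨he, hg, f, hf, hfe, a, ha, hag⟩ := hs
  obtain ⟨-, hg', f', hf', hfe', a', ha', hag'⟩ := hs'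
  have aux : ∀ {f₁ f₂ a₁ a₂ k₁ k₂ : G}, f₁ ∈ perp D d → f₁ ∈ perp D e → f₂ ∈ perp D d → f₂ ∈ perp D e →
      f₂ ∈ perp D f₁ → a₁ ∈ Subgroup.closure (perp D f₁) → a₁⁻¹ * k₁ ∈ Subgroup.closure (perp D d) →
      a₂ ∈ Subgroup.closure (perp D f₂) → a₂⁻¹ * k₂ ∈ Subgroup.closure (perp D d) →
      k₁ * d * k₁⁻¹ = e → k₂ * d * k₂⁻¹ = e → k₁⁻¹ * k₂ ∈ Subgroup.closure (perp D d) :=
    fun h1 h2 h3 h4 h5 h6 h7 h8 h9 h10 h11 =>
      step_unique_adj h HH hd he h1 h2 h3 h4 h5 h6 h7 h8 h9 h10 h11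
  -- go through a member commuting with `f` and `f'`
  obtain ⟨c, hc, hce, hcf, hcf'⟩ : ∃ c, c ∈ perp D d ∧ c ∈ perp D e ∧ c ∈ perp D f ∧ c ∈ perp D f' := by
    have hQ := quot HH hd
    have hf1 := (mem_perp_bar HH hd he hf).2 hfe
    have hf2 := (mem_perp_bar HH hd he hf').2 hfe'
    obtain ⟨p, hpe, hpf, hpf'⟩ : ∃ p ∈ perp (img D d) (bar he),
        p ∈ perp (img D d) (bar hf) ∧ p ∈ perp (img D d) (bar hf') := by
      by_cases hff : f = f'
      · subst hff
        obtain ⟨p, hp1, hp2⟩ : (perp (img D d) (bar he) ∩ perp (img D d) (bar hf)).Nonempty :=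
          Set.nonempty_of_ncard_ne_zero (by rw [M23.ncard_perp_perp hQ (bar_mem HH hd he) hf1]; norm_num)
        exact ⟨p, hp1, hp2, hp2⟩
      have hne : bar hf ≠ bar hf' := fun h0 => hff (bar_inj HH hd hf hf' h0)
      obtain ⟨p, hp1, hp2, hp3⟩ :
          (perp (img D d) (bar he) ∩ (perp (img D d) (bar hf) ∩ perp (img D d) (bar hf'))).Nonempty := by
        refine Set.nonempty_of_ncard_ne_zero ?_
        by_cases hcc : Commute (bar hf) (bar hf')
        · rw [M23.ncard_perp_commute hQ (bar_mem HH hd he) hf1 hf2 hne hcc]; norm_num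
        · rw [M23.ncard_perp_not_commute hQ (bar_mem HH hd he) hf1 hf2 hcc]; norm_num
      exact ⟨p, hp1, hp2, hp3⟩
    obtain ⟨c, hc, rfl⟩ := M23.exists_lift hpe.1
    exact ⟨c, hc, (mem_perp_bar HH hd he hc).1 hpe, (mem_perp_bar HH hd hf hc).1 hpf,
      (mem_perp_bar HH hd hf' hc).1 hpf'⟩
  obtain ⟨b, hb, hbe⟩ := exists_trans h HH hd he hc hce
  have hbb : b⁻¹ * b ∈ Subgroup.closure (perp D d) := by rw [inv_mul_cancel]; exact one_mem _
  have e1 := aux hf hfe hc hce hcf ha hag hb hbb hg hbe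
  have e2 := aux hc hce hf' hfe' (perp_symm hf'.1 hcf') hb hbb ha' hag' hbe hg'
  rw [show g⁻¹ * g' = (g⁻¹ * b) * (b⁻¹ * g') by group]
  exact mul_mem e1 e2

theorem exists_step {e : G} (he : e ∈ perp D d) : ∃ g, Step D d e g := by
  obtain ⟨f, hf⟩ : (perp D d ∩ perp D e).Nonempty :=
    Set.nonempty_of_ncard_ne_zero (by rw [ncard_perp_perp HH hd he]; norm_num)
  obtain ⟨a, ha, hae⟩ := exists_trans h HH hd he hf.1 hf.2
  exact ⟨a, he, hae, f, hf.1, hf.2, a, ha, by rw [inv_mul_cancel]; exact one_mem _⟩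

/-- The common part of the return and triangle rules: both steps can be made inside `⟨D_f⟩`. -/
theorem step_compose {e w g u f : G} (hs : Step D d e g) (hw : Step D d w u) (hf : f ∈ perp D d)
    (hfe : f ∈ perp D e) (hfw : g * w * g⁻¹ = d ∨ g * w * g⁻¹ ∈ perp D d ∩ perp D f) :
    (g * w * g⁻¹ = d → g * u ∈ Subgroup.closure (perp D d)) ∧
      (g * w * g⁻¹ ∈ perp D d ∩ perp D f → Step D d (g * w * g⁻¹) (g * u)) := by
  obtain ⟨a, ha, hae⟩ := exists_trans h HH hd hs.1 hf hfe
  have hsa : Step D d e a :=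
    ⟨hs.1, hae, f, hf, hfe, a, ha, by rw [inv_mul_cancel]; exact one_mem _⟩
  set k := a⁻¹ * g with hk
  have hkm : k ∈ Subgroup.closure (perp D d) := Step.unique h HH hd hsa hs
  have hgk : g = a * k := by rw [hk, mul_inv_cancel_left]
  have hkw := hw.mul_left h hkm
  set w' := k * w * k⁻¹ with hw'
  have hgw : g * w * g⁻¹ = a * w' * a⁻¹ := by rw [hw', hgk]; group
  have hdf : d ∈ perp D f := perp_symm hd hf
  -- `w'` is a neighbour of `f`
  have hw'f : w' ∈ perp D f := by
    have hm : g * w * g⁻¹ ∈ perp D f := by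
      rcases hfw with h0 | h0
      · rw [h0]; exact hdf
      · exact h0.2
    have h1 := conj_mem_perp' h (inv_mem ha) hm
    rwa [show a⁻¹ * (g * w * g⁻¹) * a⁻¹⁻¹ = w' by rw [hgw]; group] at h1
  obtain ⟨b, hb, hbw⟩ := exists_trans h HH hd hkw.1 hf (perp_symm hf.1 hw'f)
  have hsb : Step D d w' b :=
    ⟨hkw.1, hbw, f, hf, perp_symm hf.1 hw'f, b, hb, by rw [inv_mul_cancel]; exact one_mem _⟩
  have hbu : b⁻¹ * (k * u) ∈ Subgroup.closure (perp D d) := Step.unique h HH hd hsb hkw
  have hab : a * b * d * (a * b)⁻¹ = g * w * g⁻¹ := by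
    rw [hgw, ← hbw]; group
  have hgu : g * u = a * b * (b⁻¹ * (k * u)) := by rw [hgk]; group
  constructor
  · intro h0
    rw [hgu]
    refine mul_mem (mem_of_mem_neighbour HH hd hf (mul_mem ha hb) ?_) hbu
    rw [h0] at hab
    exact mul_inv_eq_iff_eq_mul.1 hab
  · intro h0
    rw [hgu]
    exact Step.mul_right ⟨h0.1, hab, f, hf, perp_symm hf.1 h0.2, a * b, mul_mem ha hb,
      by rw [inv_mul_cancel]; exact one_mem _⟩ hbu

theorem step_return {e w g u : G} (hs : Step D d e g) (hw : Step D d w u) (hd' : g * w * g⁻¹ = d) :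
    g * u ∈ Subgroup.closure (perp D d) := by
  obtain ⟨-, -, f, hf, hfe, -⟩ := id hs
  exact (step_compose h HH hd hs hw hf hfe (Or.inl hd')).1 hd'

theorem step_triangle {e w g u : G} (hs : Step D d e g) (hw : Step D d w u)
    (hy : g * w * g⁻¹ ∈ perp D d) : Step D d (g * w * g⁻¹) (g * u) := by
  set y := g * w * g⁻¹ with hy'
  have hye : y ∈ perp D e := by
    refine ⟨hy.1, fun h0 => hw.1.2.1 ?_, ?_⟩
    · rw [← hs.2.1] at h0; exact mul_left_cancel (mul_right_cancel h0)
    · rw [← hs.2.1, hy', commute_conj_iff']; exact hw.1.2.2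
  obtain ⟨a, ha, hae, hay⟩ : (perp D d ∩ (perp D e ∩ perp D y)).Nonempty :=
    Set.nonempty_of_ncard_ne_zero (by
      rw [ncard_perp_commute HH hd hs.1 hy (Ne.symm hye.2.1) hye.2.2]; norm_num)
  exact (step_compose h HH hd hs hw ha hae (Or.inr ⟨hy, perp_symm hy.1 hay⟩)).2 ⟨hy, perp_symm hy.1 hay⟩

/-- The canonical two step transporter `d y d` to a member `y` not commuting with `d`. -/
theorem step_canon {y q s : G} (hy : y ∈ D) (hdy : ¬ Commute d y) (hqy : q ∈ perp D y) (hs : Step D d q s) :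
    Step D d (s⁻¹ * y * s) (s⁻¹ * (d * y * d)) := by
  set t := d * y * d with ht
  have hdq : d ∈ perp D q := perp_symm hd hs.1
  have hyq : y ∈ perp D q := perp_symm hy hqy
  have htq : t ∈ Subgroup.closure (perp D q) :=
    mul_mem (mul_mem (mem_perp_closure hdq) (mem_perp_closure hyq)) (mem_perp_closure hdq)
  have htd : t * d * t⁻¹ = y := by
    have hi : t⁻¹ = t := by simp [ht, mul_assoc, inv_eq h.1 hd, inv_eq h.1 hy]
    rw [hi, ht]
    calc d * y * d * d * (d * y * d) = d * (y * d * y) * d := by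
          simp [mul_assoc, mul_self_cancel h.1 hd]
      _ = d * (d * y * d) * d := by rw [braid h.1 hd hy hdy]
      _ = y := by simp [mul_assoc, mul_self h.1 hd, mul_self_cancel h.1 hd]
  obtain ⟨-, hg0, f, hf, hfe, a, ha, hag⟩ := id hs
  have hkd := FischerTypes.conj_of_mem hag
  have hae : a * d * a⁻¹ = q := by
    rw [← hg0]
    calc a * d * a⁻¹ = a * ((a⁻¹ * s) * d * (a⁻¹ * s)⁻¹) * a⁻¹ := by rw [hkd]
      _ = _ := by group
  have hstep : Step D d (a⁻¹ * d * a) a⁻¹ := by
    refine ⟨⟨?_, ?_, ?_⟩, by group, f, hf, ?_, a⁻¹, inv_mem ha, by group; exact one_mem _⟩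
    · simpa using h.2.1 a⁻¹ d hd
    · intro h0
      apply hs.1.2.1
      rw [← hae]
      calc a * d * a⁻¹ = a * (a⁻¹ * d * a) * a⁻¹ := by rw [h0]
        _ = d := by group
    · rw [← commute_conj_iff' a, hae, show a * (a⁻¹ * d * a) * a⁻¹ = d by group]
      exact hs.1.2.2.symm
    · refine perp_symm hf.1 ?_
      simpa using conj_mem_perp' h (inv_mem ha) (perp_symm hd hf)
  have hk : s⁻¹ * t * s ∈ Subgroup.closure (perp D d) := by
    have h1 := FischerTypes.conj_mem_closure h (g := s⁻¹) htq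
    rwa [inv_inv, show s⁻¹ * q * s = d by rw [← hg0]; group] at h1
  have h2 := hstep.mul_left h (mul_mem hk (inv_mem hag))
  have e1 : s⁻¹ * t * s * (a⁻¹ * s)⁻¹ * a⁻¹ = s⁻¹ * t := by group
  rw [e1] at h2
  have e2 : s⁻¹ * t * d * (s⁻¹ * t)⁻¹ = s⁻¹ * y * s := by rw [← htd]; group
  have h3 := h2.2.1
  rw [e2] at h3
  rw [h3]
  exact h2

/-- The centralizer of a member is generated by the members commuting with it. -/
theorem centralizer_eq : Subgroup.centralizer ({d} : Set G) = Subgroup.closure (perp D d) := by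
  refine le_antisymm (fun g hg => ?_) (closure_le_centralizer d)
  set W : Set G := {g | g ∈ Subgroup.closure (perp D d) ∨ Step D d (g * d * g⁻¹) g ∨
    ¬ Commute d (g * d * g⁻¹) ∧ (d * (g * d * g⁻¹) * d)⁻¹ * g ∈ Subgroup.closure (perp D d)} with hW
  have rightH : ∀ g ∈ W, ∀ k ∈ Subgroup.closure (perp D d), g * k ∈ W := by
    intro g hg k hk
    have hgk : g * k * d * (g * k)⁻¹ = g * d * g⁻¹ := by
      calc g * k * d * (g * k)⁻¹ = g * (k * d * k⁻¹) * g⁻¹ := by group
        _ = _ := by rw [FischerTypes.conj_of_mem hk]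
    rcases hg with h0 | h0 | ⟨hnc, h0⟩
    · exact Or.inl (mul_mem h0 hk)
    · exact Or.inr (Or.inl (by rw [hgk]; exact h0.mul_right hk))
    · refine Or.inr (Or.inr ⟨by rw [hgk]; exact hnc, ?_⟩)
      rw [hgk, ← mul_assoc]
      exact mul_mem h0 hk
  -- two steps to a member not commuting with `d` give the canonical coset
  have glue : ∀ {s g₂ q y : G}, y ∈ D → ¬ Commute d y → q ∈ perp D y → Step D d q s →
      Step D d (s⁻¹ * y * s) g₂ → (d * y * d)⁻¹ * (s * g₂) ∈ Subgroup.closure (perp D d) := by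
    intro s g₂ q y hy hdy hqy hs hg₂
    have h1 := Step.unique h HH hd (step_canon h HH hd hy hdy hqy hs) hg₂
    rwa [show (s⁻¹ * (d * y * d))⁻¹ * g₂ = (d * y * d)⁻¹ * (s * g₂) by group] at h1
  have rightStep : ∀ g ∈ W, ∀ w u, Step D d w u → g * u ∈ W := by
    intro g hg w u hu
    set y := g * d * g⁻¹ with hy
    set y' := g * w * g⁻¹ with hy'
    have hguy : g * u * d * (g * u)⁻¹ = y' := by rw [hy', ← hu.2.1]; group
    have hyD : y ∈ D := h.2.1 g d hd
    have hy'y : y' ∈ perp D y := ⟨h.2.1 g w hu.1.1,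
      fun h0 => hu.1.2.1 (mul_left_cancel (mul_right_cancel h0)), (commute_conj_iff' g _ _).2 hu.1.2.2⟩
    rcases hg with h0 | h0 | ⟨hnc, h0⟩
    · exact Or.inr (Or.inl (by rw [hguy]; exact hu.mul_left h h0))
    · rcases eq_or_ne y' d with h1 | h1
      · exact Or.inl (step_return h HH hd h0 hu h1)
      by_cases h2 : Commute d y'
      · exact Or.inr (Or.inl (by rw [hguy]; exact step_triangle h HH hd h0 hu ⟨hy'y.1, h1, h2⟩))
      · refine Or.inr (Or.inr ⟨by rw [hguy]; exact h2, ?_⟩)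
        rw [hguy]
        exact glue hy'y.1 h2 (perp_symm hyD hy'y) h0 (by rw [hy', show g⁻¹ * (g * w * g⁻¹) * g = w by group]; exact hu)
    · have hne : y' ≠ d := fun h1 => hnc (h1 ▸ hy'y.2.2).symm
      -- the second step through a common neighbour `q`
      have second : ∀ {q s : G}, q ∈ perp D y → Step D d q s → Step D d (s⁻¹ * y * s) (s⁻¹ * g) := by
        intro q s hqy hs
        rw [show s⁻¹ * g = s⁻¹ * (d * y * d) * ((d * y * d)⁻¹ * g) by group]
        exact (step_canon h HH hd hyD hnc hqy hs).mul_right h0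
      have ew : ∀ s : G, s⁻¹ * g * w * (s⁻¹ * g)⁻¹ = s⁻¹ * y' * s := fun s => by rw [hy']; group
      by_cases h2 : Commute d y'
      · obtain ⟨s, hs⟩ := exists_step h HH hd (⟨hy'y.1, hne, h2⟩ : y' ∈ perp D d)
        have hr := step_return h HH hd (second hy'y hs) hu (by rw [ew, ← hs.2.1]; group)
        refine Or.inr (Or.inl ?_)
        rw [hguy, show g * u = s * (s⁻¹ * g * u) by group]
        exact hs.mul_right hr
      · obtain ⟨q, hq, hqy'⟩ := exists_commute_common HH hyD hd (fun hh => hnc hh.symm)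
          (common_nonempty HH hyD hd (fun hh => hnc hh.symm)) hy'y h2
        obtain ⟨s, hs⟩ := exists_step h HH hd hq.2
        have hm : s⁻¹ * y' * s ∈ perp D d := by
          have h3 : s * (s⁻¹ * y' * s) * s⁻¹ ∈ perp D (s * d * s⁻¹) := by
            rw [hs.2.1, show s * (s⁻¹ * y' * s) * s⁻¹ = y' by group]
            exact perp_symm hy'y.1 hqy'
          exact (perp_conj HH).1 h3
        have htri := step_triangle h HH hd (second hq.1 hs) hu (by rw [ew]; exact hm)
        rw [ew] at htri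
        refine Or.inr (Or.inr ⟨by rw [hguy]; exact h2, ?_⟩)
        rw [hguy, show g * u = s * (s⁻¹ * g * u) by group]
        exact glue hy'y.1 h2 hqy' hs htri
  obtain ⟨e₀, he₀⟩ : (perp D d).Nonempty := perp_nonempty HH hd
  obtain ⟨u₀, hu₀⟩ := exists_step h HH hd he₀
  set S : Set G := insert u₀ (perp D d) with hS
  have hHS : Subgroup.closure (perp D d) ≤ Subgroup.closure S := Subgroup.closure_mono (Set.subset_insert _ _)
  have hu₀S : u₀ ∈ Subgroup.closure S := Subgroup.subset_closure (Set.mem_insert _ _)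
  have htop : Subgroup.closure S = ⊤ := by
    have horb : ∀ y ∈ D, ∃ k ∈ Subgroup.closure S, k * d * k⁻¹ = y := by
      intro y hy
      have hr := reach_of_primitive h HH.prim hd he₀ hy
      clear hy
      induction hr with
      | refl => exact ⟨1, one_mem _, by simp⟩
      | @tail b c _ hbc ih =>
        obtain ⟨k, hk, hkb⟩ := ih
        have hc' : k⁻¹ * c * k ∈ perp D d := by
          refine ⟨by simpa using h.2.1 k⁻¹ c hbc.2.1, fun h0 => hbc.2.2.1 ?_, ?_⟩
          · rw [← hkb, ← h0]; group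
          · rw [← commute_conj_iff' k, hkb, show k * (k⁻¹ * c * k) * k⁻¹ = c by group]
            exact hbc.2.2.2
        obtain ⟨m, hm, hm'⟩ := exists_conj HH hd he₀ hc'
        refine ⟨k * m * u₀, mul_mem (mul_mem hk (hHS hm)) hu₀S, ?_⟩
        calc k * m * u₀ * d * (k * m * u₀)⁻¹ = k * (m * (u₀ * d * u₀⁻¹) * m⁻¹) * k⁻¹ := by group
          _ = k * (m * e₀ * m⁻¹) * k⁻¹ := by rw [hu₀.2.1]
          _ = c := by rw [hm']; group
    rw [eq_top_iff, ← h.2.2, Subgroup.closure_le]
    intro y hy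
    obtain ⟨k, hk, rfl⟩ := horb y hy
    exact mul_mem (mul_mem hk (hHS (mem_closure_perp_self HH hd))) (inv_mem hk)
  have hinv : ∃ k ∈ Subgroup.closure (perp D d), ∃ a w, Step D d w a ∧ u₀⁻¹ = k * a := by
    obtain ⟨-, hg0, f, hf, hfe, a, ha, hag⟩ := id hu₀
    have hkd := FischerTypes.conj_of_mem hag
    have hae : a * d * a⁻¹ = e₀ := by
      rw [← hg0]
      calc a * d * a⁻¹ = a * ((a⁻¹ * u₀) * d * (a⁻¹ * u₀)⁻¹) * a⁻¹ := by rw [hkd]
        _ = _ := by group
    refine ⟨(a⁻¹ * u₀)⁻¹, inv_mem hag, a⁻¹, a⁻¹ * d * a, ⟨⟨?_, ?_, ?_⟩, by group, f, hf, ?_, a⁻¹, inv_mem ha,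
      by group; exact one_mem _⟩, by group⟩
    · simpa using h.2.1 a⁻¹ d hd
    · intro h0
      apply he₀.2.1
      rw [← hae]
      calc a * d * a⁻¹ = a * (a⁻¹ * d * a) * a⁻¹ := by rw [h0]
        _ = d := by group
    · rw [← commute_conj_iff' a, hae, show a * (a⁻¹ * d * a) * a⁻¹ = d by group]
      exact he₀.2.2.symm
    · refine perp_symm hf.1 ?_
      simpa using conj_mem_perp' h (inv_mem ha) (perp_symm hd hf)
  have hall : ∀ g, g ∈ W := by
    intro g
    have hg' : g ∈ Subgroup.closure S := htop ▸ Subgroup.mem_top g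
    induction hg' using Subgroup.closure_induction_right with
    | one => exact Or.inl (one_mem _)
    | mul_right x _ s hs ih =>
      rcases hs with rfl | hs
      · exact rightStep x ih _ _ hu₀
      · exact rightH x ih s (mem_perp_closure hs)
    | mul_inv_cancel x _ s hs ih =>
      rcases hs with rfl | hs
      · obtain ⟨k, hk, a, w, ha, heq⟩ := hinv
        rw [heq, ← mul_assoc]
        exact rightStep _ (rightH x ih k hk) _ _ ha
      · exact rightH x ih _ (inv_mem (mem_perp_closure hs))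
  have hgd : g * d * g⁻¹ = d := by rw [Subgroup.mem_centralizer_singleton_iff.1 hg, mul_inv_cancel_right]
  rcases hall g with h0 | h0 | ⟨h0, -⟩
  · exact h0
  · exact absurd hgd h0.1.2.1
  · exact absurd (hgd.symm ▸ Commute.refl d) h0

end CfsgLib.FischerTypes.M24
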