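import Cfsg.Agent.FischerTypes.Twins

/-!
# The subgroup `H = ⟨D_d⟩` and the image of `D_d` in `H / Z(H)`
-/

set_option autoImplicit false
set_option maxHeartbeats 400000

namespace CfsgLib.FischerTypes

open Cfsg

variable {G : Type*} [Group G] {D : Set G}

/-- The members of `D` other than `d` commuting with `d`. -/
abbrev perp (D : Set G) (d : G) : Set G := {y : G | y ∈ D ∧ y ≠ d ∧ Commute d y}

/-- `⟨D_d⟩` modulo its centre. -/
abbrev PerpQuot (D : Set G) (d : G) : Type _ :=
  ↥(Subgroup.closure (perp D d)) ⧸ Subgroup.center ↥(Subgroup.closure (perp D d))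

/-- The non-trivial images of the members of `D_d` in `⟨D_d⟩` modulo its centre. -/
def img (D : Set G) (d : G) : Set (PerpQuot D d) :=
  ((QuotientGroup.mk : ↥(Subgroup.closure (perp D d)) → _) '' {x | (x : G) ∈ perp D d}) \ {1}

/-- No member of `D_d` is central in `⟨D_d⟩`. -/
def NoCentralPerp (D : Set G) (d : G) : Prop :=
  ∀ x ∈ perp D d, ∃ y ∈ perp D d, ¬ Commute x y

theorem mem_perp_closure {d x : G} (hx : x ∈ perp D d) : x ∈ Subgroup.closure (perp D d) :=
  Subgroup.subset_closure hx

theorem mem_center_closure_iff {d : G} {x : ↥(Subgroup.closure (perp D d))} :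
    x ∈ Subgroup.center ↥(Subgroup.closure (perp D d)) ↔ ∀ y ∈ perp D d, Commute (x : G) y := by
  rw [Subgroup.mem_center_iff]
  refine ⟨fun h y hy => (congrArg Subtype.val (h ⟨y, mem_perp_closure hy⟩)).symm, fun h g => ?_⟩
  have hle : Subgroup.closure (perp D d) ≤ Subgroup.centralizer ({(x : G)} : Set G) :=
    (Subgroup.closure_le _).mpr fun y hy =>
      Subgroup.mem_centralizer_singleton_iff.mpr (h y hy).eq.symm
  exact Subtype.ext (Subgroup.mem_centralizer_singleton_iff.mp (hle g.2))

theorem closure_le_centralizer (d : G) :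
    Subgroup.closure (perp D d) ≤ Subgroup.centralizer ({d} : Set G) :=
  (Subgroup.closure_le _).mpr fun _ hy => Subgroup.mem_centralizer_singleton_iff.mpr hy.2.2.eq.symm

theorem conj_mem_perp (h : IsThreeTranspositionGroup D) {d g x : G} (hg : Commute g d)
    (hx : x ∈ perp D d) : g * x * g⁻¹ ∈ perp D d := by
  have hgd : g * d * g⁻¹ = d := by rw [hg.eq]; group
  refine ⟨h.2.1 g x hx.1, fun he => hx.2.1 ?_, ?_⟩
  · exact mul_left_cancel (mul_right_cancel (he.trans hgd.symm))
  · have := (commute_conj_iff' g d x).mpr hx.2.2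
    rwa [hgd] at this

/-- Conjugation by an element of `⟨D_d⟩` preserves `D_d`. -/
theorem conj_mem_perp' (h : IsThreeTranspositionGroup D) {d g x : G}
    (hg : g ∈ Subgroup.closure (perp D d)) (hx : x ∈ perp D d) : g * x * g⁻¹ ∈ perp D d :=
  conj_mem_perp h (Subgroup.mem_centralizer_singleton_iff.mp (closure_le_centralizer d hg)) hx

theorem isThreeTranspositionGroup_img (h : IsThreeTranspositionGroup D) (d : G) :
    IsThreeTranspositionGroup (img D d) := by
  refine ⟨⟨?_, ?_⟩, ?_, ?_⟩
  · rintro _ ⟨⟨x, hx, rfl⟩, hne⟩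
    refine orderOf_eq_prime ?_ hne
    rw [← QuotientGroup.mk_pow, show x ^ 2 = 1 from Subtype.ext ?_, QuotientGroup.mk_one]
    rw [Subgroup.coe_pow, sq]; exact mul_self h.1 hx.1
  · rintro _ ⟨⟨x, hx, rfl⟩, -⟩ _ ⟨⟨y, hy, rfl⟩, -⟩
    rw [← QuotientGroup.mk_mul, ← QuotientGroup.mk_pow, ← QuotientGroup.mk_pow]
    refine (h.1.2 _ hx.1 _ hy.1).imp (fun he => ?_) (fun he => ?_)
    · rw [show (x * y) ^ 2 = 1 from Subtype.ext (by simpa using he), QuotientGroup.mk_one]
    · rw [show (x * y) ^ 3 = 1 from Subtype.ext (by simpa using he), QuotientGroup.mk_one]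
  · intro q
    induction q using QuotientGroup.induction_on with
    | H g =>
      rintro _ ⟨⟨x, hx, rfl⟩, hne⟩
      refine ⟨⟨g * x * g⁻¹, ?_, by simp⟩, ?_⟩
      · simpa using conj_mem_perp' h g.2 hx
      · simpa using hne
  · rw [eq_top_iff]
    intro q hq
    clear hq
    induction q using QuotientGroup.induction_on with
    | H g =>
      obtain ⟨g, hg⟩ := g
      induction hg using Subgroup.closure_induction with
      | mem x hx =>
        by_cases hne : (QuotientGroup.mk (⟨x, mem_perp_closure hx⟩ :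
            ↥(Subgroup.closure (perp D d))) : PerpQuot D d) = 1
        · rw [hne]; exact one_mem _
        · exact Subgroup.subset_closure ⟨⟨_, hx, rfl⟩, hne⟩
      | one => exact one_mem _
      | mul x y hx hy ihx ihy =>
        have := mul_mem ihx ihy
        rwa [← QuotientGroup.mk_mul] at this
      | inv x hx ihx =>
        have := inv_mem ihx
        rwa [← QuotientGroup.mk_inv] at this

theorem commute_mk_iff (h : IsThreeTranspositionGroup D) {d : G}
    {x y : ↥(Subgroup.closure (perp D d))} (hx : (x : G) ∈ perp D d) (hy : (y : G) ∈ perp D d) :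
    Commute (QuotientGroup.mk x : PerpQuot D d) (QuotientGroup.mk y) ↔ Commute (x : G) (y : G) := by
  refine ⟨fun hc => ?_, fun hc => ?_⟩
  · rcases h.1.2 _ hx.1 _ hy.1 with h2 | h3
    · rw [sq, mul_eq_one_iff_eq_inv, mul_inv_rev, inv_eq h.1 hx.1, inv_eq h.1 hy.1] at h2
      exact h2
    · -- `(x y) ^ 2` is central, hence so is `x y`, as `(x y) ^ 3 = 1`
      have h2 : (x * y) ^ 2 ∈ Subgroup.center ↥(Subgroup.closure (perp D d)) := by
        rw [← QuotientGroup.eq_one_iff, QuotientGroup.mk_pow, QuotientGroup.mk_mul, sq]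
        have hxx : (QuotientGroup.mk x : PerpQuot D d) * QuotientGroup.mk x = 1 := by
          rw [← QuotientGroup.mk_mul, show x * x = 1 from Subtype.ext (mul_self h.1 hx.1),
            QuotientGroup.mk_one]
        have hyy : (QuotientGroup.mk y : PerpQuot D d) * QuotientGroup.mk y = 1 := by
          rw [← QuotientGroup.mk_mul, show y * y = 1 from Subtype.ext (mul_self h.1 hy.1),
            QuotientGroup.mk_one]
        rw [mul_assoc, ← mul_assoc (QuotientGroup.mk y : PerpQuot D d), hc.symm.eq,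
          mul_assoc, hyy, mul_one, hxx]
      have h1 : x * y ∈ Subgroup.center ↥(Subgroup.closure (perp D d)) := by
        have h3' : (x * y) ^ 3 = 1 := Subtype.ext (by simpa using h3)
        have : x * y = ((x * y) ^ 2) ^ 2 := by rw [← pow_mul, pow_succ, h3', one_mul]
        rw [this]; exact pow_mem h2 2
      have h4 := (mem_center_closure_iff.mp h1 x hx).eq
      rw [Subgroup.coe_mul, mul_assoc] at h4
      exact (mul_left_cancel h4).symm
  · show _ * _ = _ * _
    rw [← QuotientGroup.mk_mul, ← QuotientGroup.mk_mul,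
      show x * y = y * x from Subtype.ext hc]

theorem mk_ne_one {d : G} (hnc : NoCentralPerp D d)
    {x : ↥(Subgroup.closure (perp D d))} (hx : (x : G) ∈ perp D d) :
    (QuotientGroup.mk x : PerpQuot D d) ≠ 1 := by
  intro he
  obtain ⟨y, hy, hxy⟩ := hnc _ hx
  exact hxy (mem_center_closure_iff.mp ((QuotientGroup.eq_one_iff x).mp he) y hy)

theorem mk_inj (h : IsThreeTranspositionGroup D) {d : G}
    {x y : ↥(Subgroup.closure (perp D d))} (hx : (x : G) ∈ perp D d) (hy : (y : G) ∈ perp D d)
    (hne : (QuotientGroup.mk x : PerpQuot D d) ≠ 1)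
    (he : (QuotientGroup.mk x : PerpQuot D d) = QuotientGroup.mk y) : x = y := by
  have hc : Commute (x : G) (y : G) := (commute_mk_iff h hx hy).mp (he ▸ Commute.refl _)
  by_contra hxy
  apply hne
  rw [QuotientGroup.eq_one_iff, mem_center_closure_iff]
  intro z hz
  have h1 : x⁻¹ * y ∈ Subgroup.center ↥(Subgroup.closure (perp D d)) := QuotientGroup.eq.mp he
  have h2 := mem_center_closure_iff.mp h1 z hz
  rw [Subgroup.coe_mul, Subgroup.coe_inv, inv_eq h.1 hx.1] at h2
  exact (commute_of_commute_mul h.1 hx.1 hy.1 hz.1 hc (fun hh => hxy (Subtype.ext hh)) h2.symm).1.symm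

theorem mk_mem_img {d : G} (hnc : NoCentralPerp D d) {x : ↥(Subgroup.closure (perp D d))}
    (hx : (x : G) ∈ perp D d) : (QuotientGroup.mk x : PerpQuot D d) ∈ img D d :=
  ⟨⟨x, hx, rfl⟩, mk_ne_one hnc hx⟩

theorem img_eq {d : G} (hnc : NoCentralPerp D d) :
    (QuotientGroup.mk : ↥(Subgroup.closure (perp D d)) → _) '' {x | (x : G) ∈ perp D d} = img D d :=
  Set.Subset.antisymm (by rintro _ ⟨x, hx, rfl⟩; exact mk_mem_img hnc hx) Set.sdiff_subset

/-- A single class of images gives transitivity of `⟨D_d⟩` on `D_d`. -/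
theorem exists_conj_perp (h : IsThreeTranspositionGroup D) {d : G} (hnc : NoCentralPerp D d)
    (hsc : ∀ p ∈ img D d, ∀ q ∈ img D d, IsConj p q) {e f : G} (he : e ∈ perp D d)
    (hf : f ∈ perp D d) : ∃ g ∈ Subgroup.closure (perp D d), g * e * g⁻¹ = f := by
  obtain ⟨q, hq⟩ := isConj_iff.mp (hsc _ (mk_mem_img hnc (x := ⟨e, mem_perp_closure he⟩) he) _
    (mk_mem_img hnc (x := ⟨f, mem_perp_closure hf⟩) hf))
  induction q using QuotientGroup.induction_on with
  | H g =>
    refine ⟨g, g.2, ?_⟩
    rw [← QuotientGroup.mk_inv, ← QuotientGroup.mk_mul, ← QuotientGroup.mk_mul] at hq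
    have := mk_inj h (x := g * ⟨e, mem_perp_closure he⟩ * g⁻¹) (y := ⟨f, mem_perp_closure hf⟩)
      (by simpa using conj_mem_perp' h g.2 he) hf
      (mk_ne_one hnc (by simpa using conj_mem_perp' h g.2 he)) hq
    simpa using congrArg Subtype.val this

/-- One more member in a relation among pairwise commuting members. -/
theorem noRel_succ (h : IsThreeTranspositionGroup D) {d : G} (hd : d ∈ D)
    (hsc : ∀ a ∈ D, ∃ g : G, g * a * g⁻¹ = d) (hnc : NoCentralPerp D d) {n : ℕ}
    (hrel : NoRel (img D d) n) : NoRel D (n + 1) := by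
  intro l₀ hl₀ hlen₀ hD₀ hc₀ hp₀
  obtain ⟨a, t₀, rfl⟩ := List.exists_cons_of_length_eq_add_one hlen₀
  obtain ⟨g, hg⟩ := hsc a (hD₀ a List.mem_cons_self)
  set t := t₀.map (MulAut.conj g) with ht
  have hmem : ∀ x ∈ t, x ∈ perp D d := by
    intro x hx
    obtain ⟨y, hy, rfl⟩ := List.mem_map.mp hx
    rw [MulAut.conj_apply]
    refine ⟨h.2.1 g y (hD₀ y (List.mem_cons_of_mem _ hy)), fun he => ?_, ?_⟩
    · have : y = a := mul_left_cancel (mul_right_cancel (he.trans hg.symm))
      exact (List.nodup_cons.mp hl₀).1 (this ▸ hy)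
    · rw [← hg, commute_conj_iff']
      exact hc₀ a List.mem_cons_self y (List.mem_cons_of_mem _ hy)
  have hp : d * t.prod = 1 := by
    have := congrArg (MulAut.conj g) hp₀
    rw [List.prod_cons, map_mul, map_one, map_list_prod, MulAut.conj_apply, hg] at this
    exact this
  set s : List ↥(Subgroup.closure (perp D d)) :=
    t.attach.map (fun x => ⟨x.1, mem_perp_closure (hmem x.1 x.2)⟩) with hs
  have hsv : s.map Subtype.val = t := by simp [hs, List.map_map, Function.comp_def]
  have hsmem : ∀ x ∈ s, (x : G) ∈ perp D d := fun x hx =>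
    hmem x (hsv ▸ List.mem_map_of_mem hx)
  apply hrel (s.map QuotientGroup.mk)
  · have hsn : s.Nodup := List.Nodup.of_map Subtype.val
      (hsv.symm ▸ (List.nodup_cons.mp hl₀).2.map (MulAut.conj g).injective)
    exact hsn.map_on fun x hx y hy he =>
      mk_inj h (hsmem x hx) (hsmem y hy) (mk_ne_one hnc (hsmem x hx)) he
  · simp [hs, ht] ; simpa using hlen₀
  · intro q hq
    obtain ⟨x, hx, rfl⟩ := List.mem_map.mp hq
    exact mk_mem_img hnc (hsmem x hx)
  · intro p hp' q hq
    obtain ⟨x, hx, rfl⟩ := List.mem_map.mp hp'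
    obtain ⟨y, hy, rfl⟩ := List.mem_map.mp hq
    rw [commute_mk_iff h (hsmem x hx) (hsmem y hy)]
    have hx' : (x : G) ∈ t := hsv ▸ List.mem_map_of_mem hx
    have hy' : (y : G) ∈ t := hsv ▸ List.mem_map_of_mem hy
    obtain ⟨u, hu, hu'⟩ := List.mem_map.mp hx'
    obtain ⟨v, hv, hv'⟩ := List.mem_map.mp hy'
    rw [← hu', ← hv', MulAut.conj_apply, MulAut.conj_apply, commute_conj_iff']
    exact hc₀ u (List.mem_cons_of_mem _ hu) v (List.mem_cons_of_mem _ hv)
  · show (s.map (QuotientGroup.mk' _)).prod = 1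
    rw [← map_list_prod]
    refine (QuotientGroup.eq_one_iff _).mpr (mem_center_closure_iff.mpr fun y hy => ?_)
    have : ((s.prod : ↥(Subgroup.closure (perp D d))) : G) = d := by
      rw [SubmonoidClass.coe_list_prod, hsv]
      rw [mul_eq_one_iff_inv_eq, inv_eq h.1 hd] at hp
      exact hp.symm
    rw [this]; exact hy.2.2

end CfsgLib.FischerTypes
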