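import Cfsg.Agent.FischerTypes.M23OtherClass
import Cfsg.Agent.FischerTransitivity.Connected

/-!
# Every group of type M(23) acts primitively on its transpositions

The argument of type M(22): an involution fixes a member as the number of members is odd.
-/

set_option autoImplicit false
set_option linter.style.haveILetI false
set_option maxHeartbeats 400000

namespace CfsgLib.FischerTypes

open Cfsg
open CfsgLib.FischerTransitivity (commClass commClass_eq_iff commClass_eq_of_commute CommEdge fixSub fixSub_normal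
  mul_fixes)

variable {G : Type*} [Group G] {D : Set G} [Finite G]

namespace M23

/-- `bar` is injective, without primitivity. -/
theorem bar_inj' (h : IsThreeTranspositionGroup D) (h23 : IsOfTypeM23 G D) {d x y : G} (hd : d ∈ D)
    (hx : x ∈ perp D d) (hy : y ∈ perp D d) (he : bar hx = bar hy) : x = y :=
  congrArg Subtype.val (mk_inj h (x := ⟨x, mem_perp_closure hx⟩) (y := ⟨y, mem_perp_closure hy⟩)
    hx hy (mk_ne_one (local_M22 h h23 hd).1 hx) he)

theorem perp_nonempty (h : IsThreeTranspositionGroup D) (h23 : IsOfTypeM23 G D) {d : G} (hd : d ∈ D) :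
    (perp D d).Nonempty := by
  obtain ⟨-, p, hp, -⟩ := (local_M22 h h23 hd).2
  obtain ⟨x, hx, -⟩ := exists_lift hp
  exact ⟨x, hx⟩

theorem common_of_commute (h : IsThreeTranspositionGroup D) (h23 : IsOfTypeM23 G D) {u v : G} (hu : u ∈ D)
    (hv : v ∈ perp D u) : (perp D u ∩ perp D v).Nonempty := by
  obtain ⟨hnc, h22⟩ := local_M22 h h23 hu
  have hb : bar hv ∈ img D u := mk_mem_img hnc (x := ⟨v, mem_perp_closure hv⟩) hv
  obtain ⟨M⟩ := exists_perpModel (isThreeTranspositionGroup_img h u) h22 hb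
  obtain ⟨p, hp⟩ : (perp (img D u) (bar hv)).Nonempty :=
    Set.nonempty_of_ncard_ne_zero (by rw [M.ncard_perp]; norm_num)
  obtain ⟨f, hf, rfl⟩ := exists_lift hp.1
  exact ⟨f, hf, hf.1, fun h0 => hp.2.1 (by subst h0; rfl),
    (commute_mk_iff h (x := ⟨v, mem_perp_closure hv⟩) (y := ⟨f, mem_perp_closure hf⟩) hv hf).1 hp.2.2⟩

theorem exists_conj' (h : IsThreeTranspositionGroup D) (h23 : IsOfTypeM23 G D) {d x y : G} (hd : d ∈ D)
    (hx : x ∈ perp D d) (hy : y ∈ perp D d) : ∃ g ∈ Subgroup.closure (perp D d), g * x * g⁻¹ = y := by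
  obtain ⟨hnc, h22⟩ := local_M22 h h23 hd
  exact exists_conj_perp h hnc (fun p hp q hq => isConj_iff.2
    ((isPrimitive_of_M22 (isThreeTranspositionGroup_img h d) h22).1 p hp q hq)) hx hy

theorem perp_ne_of_ne (h : IsThreeTranspositionGroup D) (h23 : IsOfTypeM23 G D) {a b q : G}
    (hq : q ∈ perp D a) (hq' : q ∈ perp D b) (ha : a ∈ D) (hb : b ∈ D) (hne : a ≠ b) :
    perp D a ≠ perp D b := by
  intro he
  obtain ⟨hnc, h22⟩ := local_M22 h h23 hq.1
  have haq : a ∈ perp D q := perp_symm ha hq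
  have hbq : b ∈ perp D q := perp_symm hb hq'
  have hba : bar haq ∈ img D q := mk_mem_img hnc (x := ⟨a, mem_perp_closure haq⟩) haq
  have hbb : bar hbq ∈ img D q := mk_mem_img hnc (x := ⟨b, mem_perp_closure hbq⟩) hbq
  have hiff : ∀ {u : G} (hu : u ∈ perp D q) {z : G} (hz : z ∈ perp D q),
      bar hz ∈ perp (img D q) (bar hu) ↔ z ∈ perp D u := fun {u} hu {z} hz => by
    constructor
    · exact fun hh => ⟨hz.1, fun h0 => hh.2.1 (by subst h0; rfl),
        (commute_mk_iff h (x := ⟨u, mem_perp_closure hu⟩) (y := ⟨z, mem_perp_closure hz⟩) hu hz).1 hh.2.2⟩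
    · exact fun hh => ⟨mk_mem_img hnc (x := ⟨z, mem_perp_closure hz⟩) hz,
        fun h0 => hh.2.1 (bar_inj' h h23 hq.1 hz hu h0),
        (commute_mk_iff h (x := ⟨u, mem_perp_closure hu⟩) (y := ⟨z, mem_perp_closure hz⟩) hu hz).2 hh.2.2⟩
  have hG := isThreeTranspositionGroup_img h q
  obtain ⟨M⟩ := exists_perpModel hG h22 hba
  obtain ⟨p, hp⟩ : (perp (img D q) (bar haq)).Nonempty :=
    Set.nonempty_of_ncard_ne_zero (by rw [M.ncard_perp]; norm_num)
  have heq : perp (img D q) (bar haq) = perp (img D q) (bar hbq) := by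
    ext r
    constructor <;> intro hr <;> obtain ⟨z, hz, rfl⟩ := exists_lift hr.1
    · exact (hiff hbq hz).2 (he ▸ (hiff haq hz).1 hr)
    · exact (hiff haq hz).2 (he ▸ (hiff hbq hz).1 hr)
  obtain ⟨Mp⟩ := exists_perpModel hG h22 hp.1
  exact Mp.perp_ne_of_ne hG hp (heq ▸ hp) hba hbb (fun h0 => hne (bar_inj' h h23 hq.1 haq hbq h0)) heq

end M23

theorem cores_of_M23 (h : IsThreeTranspositionGroup D) (h23 : IsOfTypeM23 G D) :
    IsThreeTranspositionClass D ∧ pCore 2 G ≤ Subgroup.center G ∧ pCore 3 G ≤ Subgroup.center G := by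
  obtain ⟨d, hd, hN, -, -, -⟩ := nice_of_isOfTypeM23 psu62Facts h h23
  have hC := isClass_of_single h hN.single ⟨d, hd⟩
  refine ⟨hC, ?_, ?_⟩
  · by_contra hn
    obtain ⟨v, ⟨hv, hv'⟩, hvd⟩ := CfsgLib.Transpositions.exists_vRel_of_not_central hC hn d hd
    exact hvd (hN.noTwins v hv d hd fun z hz =>
      ⟨fun hc => ((hv' z hz).1 hc.symm).symm, fun hc => ((hv' z hz).2 hc.symm).symm⟩)
  · by_contra hn
    obtain ⟨w, ⟨hw, hw'⟩, hwd⟩ := CfsgLib.Transpositions.exists_wRel_of_not_central hC hn d hd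
    obtain ⟨q, hq⟩ := M23.perp_nonempty h h23 hd
    have hwq : q ∈ perp D w := (show perp D d = perp D w from hw') ▸ hq
    exact M23.perp_ne_of_ne h h23 hq hwq hd hw (Ne.symm hwd) hw'

/-- A group of type M(23) acts primitively on its transpositions. -/
theorem isPrimitive_of_M23 (h : IsThreeTranspositionGroup D) (h23 : IsOfTypeM23 G D) :
    IsPrimitiveUnderConj D := by
  classical
  obtain ⟨-, -, hN, -, -, -⟩ := nice_of_isOfTypeM23 psu62Facts h h23
  obtain ⟨hC, h2, h3⟩ := cores_of_M23 h h23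
  obtain ⟨hZ, d, hd, c₀, hc₀, hdc₀, hU, cc, hcc, hR⟩ := id h23
  clear hN
  have hD2 : ∃ a ∈ D, ∃ b ∈ D, a ≠ b := ⟨d, hd, c₀, hc₀, fun he => hdc₀ (he ▸ Commute.refl _)⟩
  by_cases hall : ∀ b ∈ D, b ∈ commClass D d
  · refine CfsgLib.Transpositions.primitive_of_cores hC hD2 h2 h3 ?_
    refine (SimpleGraph.connected_iff_exists_forall_reachable _).2 ⟨⟨d, hd⟩, fun x => ?_⟩
    exact reachable_of_commClass (hall x.1 x.2)
  push Not at hall
  obtain ⟨x, hx, hxC⟩ := hall
  exfalso
  obtain ⟨L, hL, hLn, -, hF⟩ := CfsgLib.Transpositions.exists_component_of_central hC hD2 h2 h3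
  haveI := hLn
  have hLc : Subgroup.centralizer (L : Set G) = ⊥ :=
    le_bot_iff.1 (hZ ▸ CfsgLib.Transpositions.centralizer_component_le_center hC h2 h3 hF)
  have hbot_of : ∀ N : Subgroup G, (∀ n ∈ N, ∀ l ∈ L, Commute n l) → N = ⊥ := fun N hN' =>
    le_bot_iff.1 (hLc ▸ fun n hn => Subgroup.mem_centralizer_iff.2 fun l hl => (hN' n hn l hl).eq.symm)
  have hLZ : ∀ l ∈ L, (∀ k ∈ L, Commute l k) → l = 1 := fun l _ hk => by
    have h1 : l ∈ Subgroup.centralizer (L : Set G) := Subgroup.mem_centralizer_iff.2 fun k hk' => (hk k hk').eq.symm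
    rwa [hLc, Subgroup.mem_bot] at h1
  -- a subgroup normalized by `L` contains it or centralizes it
  have hcontains : ∀ N : Subgroup G, (∀ l ∈ L, ∀ n ∈ N, l * n * l⁻¹ ∈ N) → (∃ n ∈ N, n ∈ L ∧ n ≠ 1) →
      L ≤ N := by
    rintro N hN' ⟨n, hnN, hnL, hn1⟩
    haveI : (N.subgroupOf L).Normal := ⟨fun m hm l => by simpa [Subgroup.mem_subgroupOf] using hN' l l.2 m hm⟩
    rcases CfsgLib.Components.IsQuasisimple.normal_eq_top_or_le_center hL.2 (N.subgroupOf L) with ht | ht
    · exact fun l hl => (ht ▸ Subgroup.mem_top (⟨l, hl⟩ : ↥L) : (⟨l, hl⟩ : ↥L) ∈ N.subgroupOf L)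
    · refine absurd (hLZ n hnL fun k hk => ?_) hn1
      exact (congrArg Subtype.val (Subgroup.mem_center_iff.1
        (ht (show (⟨n, hnL⟩ : ↥L) ∈ N.subgroupOf L from hnN)) ⟨k, hk⟩)).symm
  set C : Set G := commClass D d with hCdef
  have hCD : ∀ {u}, u ∈ C → u ∈ D := fun {u} hu => by
    induction hu with
    | refl => exact hd
    | tail _ he _ => exact he.2.1
  have hdC : d ∈ C := Relation.ReflTransGen.refl
  have hCstep : ∀ {u v}, u ∈ C → v ∈ D → Commute u v → v ∈ C := fun hu hv huv =>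
    Relation.ReflTransGen.tail hu ⟨hCD hu, hv, huv⟩
  have hperpC : ∀ {u v}, u ∈ C → v ∈ perp D u → v ∈ C := fun hu hv => hCstep hu hv.1 hv.2.2
  have hCeq : ∀ {u}, u ∈ C → commClass D u = C := fun hu => (commClass_eq_iff.2 hu).symm
  -- the kernel of the action on the components
  have hinv : ∀ g : G, ∀ u ∈ D, ∀ v ∈ D, commClass D u = commClass D v →
      commClass D (g * u * g⁻¹) = commClass D (g * v * g⁻¹) := fun g u _ v _ he =>
    commClass_eq_iff.2 (CfsgLib.FischerTransitivity.conj_mem_commClass hC g (commClass_eq_iff.1 he))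
  have h1 : ∀ x ∈ D, ∀ v ∈ D, ∀ z ∈ D,
      commClass D v = commClass D x → commClass D z ≠ commClass D x → Commute x z → Commute v z :=
    fun x hx v _ z hz _ hne hc => absurd (commClass_eq_of_commute hx hz hc).symm hne
  set N := fixSub hC (commClass D) with hNdef
  haveI : N.Normal := fixSub_normal hC (commClass D) hinv
  have hsame : ∀ u ∈ D, ∀ v ∈ D, commClass D u = commClass D v → u * v ∈ N := fun u hu v hv he =>
    mul_fixes hC (commClass D) hinv h1 hu ⟨hu, rfl⟩ ⟨hv, he.symm⟩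
  obtain ⟨e, he⟩ := M23.perp_nonempty h h23 hd
  have hLN : L ≤ N := by
    refine hcontains N (fun l _ n hn => Subgroup.Normal.conj_mem inferInstance n hn l) ⟨d * e,
      hsame d hd e he.1 (commClass_eq_of_commute hd he.1 he.2.2), ?_, ?_⟩
    · have := CfsgLib.Transpositions.inv_mul_mem_component hC hL hd he.1
        (by rw [he.2.2.eq, mul_inv_cancel_right, mul_inv_cancel]; exact one_mem L)
      rwa [inv_eq h.1 hd] at this
    · intro h0
      rw [mul_eq_one_iff_eq_inv, inv_eq h.1 he.1] at h0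
      exact he.2.1 h0.symm
  have hLC : ∀ l ∈ L, ∀ u ∈ C, l * u * l⁻¹ ∈ C := fun l hl u hu => by
    have h0 : commClass D (l * u * l⁻¹) = commClass D u := (hLN hl : ∀ z ∈ D, _) u (hCD hu)
    rw [hCeq hu] at h0
    exact h0 ▸ Relation.ReflTransGen.refl
  set P : Subgroup G := Subgroup.closure C with hP
  have hLP : L ≤ P := by
    refine hcontains P (fun l hl n hn => ?_) ⟨d * e, mul_mem (Subgroup.subset_closure hdC)
      (Subgroup.subset_closure (hperpC hdC he)), ?_, ?_⟩
    · induction hn using Subgroup.closure_induction with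
      | mem u hu => exact Subgroup.subset_closure (hLC l hl u hu)
      | one => simp
      | mul a b _ _ iha ihb =>
        rw [show l * (a * b) * l⁻¹ = (l * a * l⁻¹) * (l * b * l⁻¹) by group]; exact mul_mem iha ihb
      | inv a _ iha => rw [show l * a⁻¹ * l⁻¹ = (l * a * l⁻¹)⁻¹ by group]; exact inv_mem iha
    · have := CfsgLib.Transpositions.inv_mul_mem_component hC hL hd he.1
        (by rw [he.2.2.eq, mul_inv_cancel_right, mul_inv_cancel]; exact one_mem L)
      rwa [inv_eq h.1 hd] at this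
    · intro h0
      rw [mul_eq_one_iff_eq_inv, inv_eq h.1 he.1] at h0
      exact he.2.1 h0.symm
  -- an involution in `L` moving every member of `C` to a neighbour
  obtain ⟨x', hx'⟩ := M23.perp_nonempty h h23 hx
  have hncx : ∀ u ∈ C, ¬ Commute x u := fun u hu hc => hxC (hCstep hu hx hc.symm)
  have hncx' : ∀ u ∈ C, ¬ Commute x' u := fun u hu hc =>
    hxC (hCstep (hCstep hu hx'.1 hc.symm) hx hx'.2.2.symm)
  set j := x * x' with hj
  have hjj : j * j = 1 := by
    rw [hj, mul_assoc, ← mul_assoc x', ← hx'.2.2.eq, mul_assoc, mul_self h.1 hx'.1, mul_one, mul_self h.1 hx]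
  have hjL : j ∈ L := by
    have := CfsgLib.Transpositions.inv_mul_mem_component hC hL hx hx'.1
      (by rw [hx'.2.2.eq, mul_inv_cancel_right, mul_inv_cancel]; exact one_mem L)
    rwa [inv_eq h.1 hx] at this
  have hmove : ∀ u ∈ C, ¬ Commute j u := fun u hu hc => by
    refine hx'.2.1 ?_
    have h1 : x' * u * x' = x * u * x := by
      have h2 : j * u * j⁻¹ = u := by rw [hc.eq, mul_inv_cancel_right]
      rw [hj, _root_.mul_inv_rev, inv_eq h.1 hx, inv_eq h.1 hx'.1] at h2
      conv_rhs => rw [← h2]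
      simp [mul_assoc, mul_self h.1 hx, mul_self_cancel h.1 hx]
    rw [braid h.1 hx'.1 (hCD hu) (hncx' u hu), braid h.1 hx (hCD hu) (hncx u hu)] at h1
    exact mul_left_cancel (mul_right_cancel h1)
  -- `(P, C)` is of type M(23) and primitive
  have hPC : ∀ g ∈ P, ∀ u ∈ C, g * u * g⁻¹ ∈ C := by
    intro g hg
    induction hg using Subgroup.closure_induction with
    | mem v hv =>
      intro u hu
      have hv' : v * u * v⁻¹ ∈ commClass D (v * d * v⁻¹) :=
        CfsgLib.FischerTransitivity.conj_mem_commClass hC v hu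
      have hvd : v * d * v⁻¹ ∈ C := by
        have h2 := CfsgLib.FischerTransitivity.conj_mem_commClass hC v
          (commClass_eq_iff.1 (hCeq hv) : d ∈ commClass D v)
        rw [mul_inv_cancel_right] at h2
        exact hCeq hv ▸ h2
      exact hCeq hvd ▸ hv'
    | one => intro u hu; simpa using hu
    | mul a b _ _ iha ihb =>
      intro u hu; rw [show a * b * u * (a * b)⁻¹ = a * (b * u * b⁻¹) * a⁻¹ by group]; exact iha _ (ihb u hu)
    | inv a _ iha =>
      intro u hu
      -- `a` permutes the finite set `C`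
      obtain ⟨w, hw, hwu⟩ : u ∈ (fun z => a * z * a⁻¹) '' C := by
        have hle : C.ncard ≤ ((fun z => a * z * a⁻¹) '' C).ncard :=
          (Set.ncard_image_of_injective C fun p q hpq => mul_left_cancel (mul_right_cancel hpq)).ge
        rw [Set.eq_of_subset_of_ncard_le (Set.image_subset_iff.2 iha) hle (Set.toFinite _)]
        exact hu
      rw [← hwu, show a⁻¹ * (a * w * a⁻¹) * a⁻¹⁻¹ = w by group]
      exact hw
  set E : Set ↥P := {z | (z : G) ∈ C} with hE
  have hcomm : ∀ {a b : ↥P}, Commute a b ↔ Commute (a : G) (b : G) := fun {a b} =>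
    ⟨fun hc => congrArg Subtype.val hc, fun hc => Subtype.ext hc⟩
  have hgen : Subgroup.closure E = ⊤ := by
    rw [eq_top_iff]
    rintro ⟨z, hz⟩ -
    induction hz using Subgroup.closure_induction with
    | mem u hu => exact Subgroup.subset_closure hu
    | one => exact one_mem _
    | mul a b ha hb iha ihb => exact mul_mem iha ihb
    | inv a ha iha => exact inv_mem iha
  have hEg : IsThreeTranspositionGroup E := by
    refine ⟨⟨fun z hz => ?_, fun a ha b hb => ?_⟩, fun g z hz => hPC g g.2 z hz, hgen⟩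
    · rw [← Subgroup.orderOf_coe]; exact h.1.1 z (hCD hz)
    · exact (h.1.2 _ (hCD ha) _ (hCD hb)).imp (fun h0 => Subtype.ext (by simpa using h0))
        (fun h0 => Subtype.ext (by simpa using h0))
  have hPbot : Subgroup.center ↥P = ⊥ := by
    have hb := hbot_of ((Subgroup.center ↥P).map P.subtype) (by
      rintro _ ⟨z, hz, rfl⟩ l hl
      exact (congrArg Subtype.val (Subgroup.mem_center_iff.1 hz ⟨l, hLP hl⟩)).symm)
    rwa [Subgroup.map_eq_bot_iff_of_injective _ P.subtype_injective] at hb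
  have hEconj : ∀ b : ↥P, b ∈ E → IsConj (⟨d, Subgroup.subset_closure hdC⟩ : ↥P) b := by
    suffices H : ∀ b (hb : b ∈ C), IsConj (⟨d, Subgroup.subset_closure hdC⟩ : ↥P) ⟨b, Subgroup.subset_closure hb⟩
      from fun b hb => H b hb
    intro b hb
    induction id hb with
    | refl => exact IsConj.refl _
    | @tail u v hu hedge ih =>
      refine (ih hu).trans ?_
      by_cases huv : u = v
      · subst huv; exact IsConj.refl _
      obtain ⟨f, hf⟩ := M23.common_of_commute h h23 (hCD hu) ⟨hedge.2.1, Ne.symm huv, hedge.2.2⟩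
      obtain ⟨g, hg, hgv⟩ := M23.exists_conj' h h23 hf.1.1 (perp_symm (hCD hu) hf.1) (perp_symm hedge.2.1 hf.2)
      refine isConj_iff.2 ⟨⟨g, Subgroup.closure_mono (fun z hz => ?_) hg⟩, Subtype.ext hgv⟩
      exact hperpC (hperpC hu hf.1) hz
  have hEclass : IsThreeTranspositionClass E :=
    isClass_of_single hEg (fun a ha b hb => (hEconj a ha).symm.trans (hEconj b hb))
      ⟨⟨d, Subgroup.subset_closure hdC⟩, hdC⟩
  have hE2 : ∃ a ∈ E, ∃ b ∈ E, a ≠ b := ⟨⟨d, Subgroup.subset_closure hdC⟩, hdC,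
    ⟨e, Subgroup.subset_closure (hperpC hdC he)⟩, hperpC hdC he,
    fun h0 => he.2.1 (congrArg Subtype.val h0).symm⟩
  have hEcon : (commutingGraph E).Connected := by
    refine (SimpleGraph.connected_iff_exists_forall_reachable _).2
      ⟨⟨⟨d, Subgroup.subset_closure hdC⟩, hdC⟩, fun z => ?_⟩
    refine reachable_of_commClass ?_
    suffices H : ∀ b (hb : b ∈ C), (⟨b, Subgroup.subset_closure hb⟩ : ↥P) ∈
        commClass E (⟨d, Subgroup.subset_closure hdC⟩ : ↥P) from H z.1 z.2
    intro b hb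
    induction id hb with
    | refl => exact Relation.ReflTransGen.refl
    | @tail u v hu hedge ih =>
      exact Relation.ReflTransGen.tail (ih hu) ⟨hu, hb, Subtype.ext hedge.2.2⟩
  -- a normal `p`-subgroup of `P` centralizes `L`
  have hcore : ∀ (p : ℕ), p.Prime → pCore p ↥P ≤ Subgroup.center ↥P := by
    intro p hp
    haveI := Fact.mk hp
    have hpg := CfsgLib.PLocal.isPGroup_pCore p ↥P
    haveI := CfsgLib.Transpositions.isSolvable_of_isPGroup hpg
    suffices hb : (pCore p ↥P).map P.subtype = ⊥ by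
      rw [Subgroup.map_eq_bot_iff_of_injective _ P.subtype_injective] at hb
      rw [hb]; exact bot_le
    refine hbot_of _ ?_
    rintro _ ⟨z, hz, rfl⟩ l hl
    -- the commutator lies in both normal subgroups
    by_contra hzl
    have hmem : (z : G) * l * (z : G)⁻¹ * l⁻¹ ∈ (pCore p ↥P).map P.subtype := by
      have h0 := mul_mem hz ((inferInstance : (pCore p ↥P).Normal).conj_mem _ (inv_mem hz) ⟨l, hLP hl⟩)
      exact ⟨_, h0, by simp [mul_assoc]⟩
    have hmemL : (z : G) * l * (z : G)⁻¹ * l⁻¹ ∈ L :=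
      mul_mem (hLn.conj_mem l hl z) (inv_mem hl)
    have hne : (z : G) * l * (z : G)⁻¹ * l⁻¹ ≠ 1 := fun h0 => hzl (by
      rw [mul_inv_eq_one, mul_inv_eq_iff_eq_mul] at h0; exact h0)
    have hle : L ≤ (pCore p ↥P).map P.subtype := by
      refine hcontains _ ?_ ⟨_, hmem, hmemL, hne⟩
      rintro k hk _ ⟨w, hw, rfl⟩
      exact ⟨_, (inferInstance : (pCore p ↥P).Normal).conj_mem w hw ⟨k, hLP hk⟩, rfl⟩
    haveI : Group.IsSolvable ↥((pCore p ↥P).map P.subtype) :=
      Group.isSolvable_of_surjective (f := P.subtype.subgroupMap (pCore p ↥P))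
        (MonoidHom.subgroupMap_surjective _ _)
    exact CfsgLib.Components.IsQuasisimple.not_isSolvable hL.2
      (Group.isSolvable_of_isSolvable_injective (Subgroup.inclusion_injective hle))
  have hEp : IsPrimitiveUnderConj E := CfsgLib.Transpositions.primitive_of_cores hEclass hE2
    (hcore 2 Nat.prime_two) (hcore 3 Nat.prime_three) hEcon
  have hc₀C : c₀ ∈ C := by
    by_contra hcC
    have hempty : perp D d ∩ perp D c₀ = ∅ := Set.eq_empty_iff_forall_notMem.2 fun z hz =>
      hcC (hperpC (hperpC hdC hz.1) (perp_symm hc₀ hz.2))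
    haveI : Subsingleton (↥(Subgroup.closure (perp D d ∩ perp D c₀)) ⧸
        Subgroup.center ↥(Subgroup.closure (perp D d ∩ perp D c₀))) := by
      haveI : Subsingleton ↥(Subgroup.closure (perp D d ∩ perp D c₀)) := by
        rw [hempty, Subgroup.closure_empty]; infer_instance
      exact ⟨fun a b => by induction a using QuotientGroup.induction_on; induction b using QuotientGroup.induction_on; exact congrArg _ (Subsingleton.elim _ _)⟩
    exact card_reflection_quotient_ne_one (by norm_num) hcc hR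
  -- transport the two local groups
  have hperpE : ∀ (u : ↥P), (u : G) ∈ C → ∀ z : ↥P, z ∈ perp E u ↔ (z : G) ∈ perp D (u : G) := by
    intro u hu z
    exact ⟨fun hz => ⟨hCD hz.1, fun h0 => hz.2.1 (Subtype.ext h0), hcomm.1 hz.2.2⟩,
      fun hz => ⟨hperpC hu hz, fun h0 => hz.2.1 (congrArg Subtype.val h0), hcomm.2 hz.2.2⟩⟩
  have iso : ∀ (S : Set ↥P) (T : Set G), (∀ z, z ∈ S ↔ (z : G) ∈ T) → T ⊆ C →
      ∃ ψ : ↥(Subgroup.closure S) ≃* ↥(Subgroup.closure T), (∀ s, ((ψ s : ↥(Subgroup.closure T)) : G) = ((s : ↥P) : G)) ∧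
        (Subgroup.center ↥(Subgroup.closure S)).map ψ.toMonoidHom = Subgroup.center ↥(Subgroup.closure T) := by
    intro S T hST hTC
    have hmap : (Subgroup.closure S).map P.subtype = Subgroup.closure T := by
      rw [MonoidHom.map_closure]
      congr 1
      ext z
      constructor
      · rintro ⟨w, hw, rfl⟩; exact (hST w).1 hw
      · exact fun hz => ⟨⟨z, Subgroup.subset_closure (hTC hz)⟩, (hST _).2 hz, rfl⟩
    let ψ : ↥(Subgroup.closure S) ≃* ↥(Subgroup.closure T) :=
      ((Subgroup.closure S).equivMapOfInjective P.subtype P.subtype_injective).trans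
        (MulEquiv.subgroupCongr hmap)
    refine ⟨ψ, fun s => rfl, ?_⟩
    ext w
    simp only [Subgroup.mem_map, Subgroup.mem_center_iff]
    constructor
    · rintro ⟨y, hy, rfl⟩ k
      obtain ⟨k, rfl⟩ := ψ.surjective k
      exact (map_mul ψ k y).symm.trans ((congrArg ψ (hy k)).trans (map_mul ψ y k))
    · exact fun hw => ⟨ψ.symm w, fun k => ψ.injective (by simpa using hw (ψ k)), by simp⟩
  have hE23 : IsOfTypeM23 ↥P E := by
    set d' : ↥P := ⟨d, Subgroup.subset_closure hdC⟩
    set c' : ↥P := ⟨c₀, Subgroup.subset_closure hc₀C⟩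
    refine ⟨hPbot, d', hdC, c', hc₀C, fun hc => hdc₀ (hcomm.1 hc), ?_, cc, hcc, ?_⟩
    · obtain ⟨ψ, hψ, hψc⟩ := iso (perp E d') (perp D d) (hperpE d' hdC) (fun z hz => hperpC hdC hz)
      refine isOfTypeM22_equiv (QuotientGroup.congr _ _ ψ hψc).symm (fun p => ?_) hU
      constructor
      · rintro ⟨x, hx, rfl⟩
        refine ⟨ψ.symm x, (hperpE d' hdC _).2 ?_, ?_⟩
        · rw [← hψ, ψ.apply_symm_apply]; exact hx
        · apply (QuotientGroup.congr _ _ ψ hψc).injective
          rw [MulEquiv.apply_symm_apply]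
          show (QuotientGroup.mk (ψ (ψ.symm x)) : PerpQuot D d) = _
          rw [ψ.apply_symm_apply]
      · rintro ⟨x, hx, he⟩
        refine ⟨ψ x, ?_, ?_⟩
        · show ((ψ x : ↥(Subgroup.closure (perp D d))) : G) ∈ perp D d
          rw [hψ]
          exact (hperpE d' hdC _).1 hx
        · rw [← (QuotientGroup.congr _ _ ψ hψc).apply_symm_apply p, ← he]
          rfl
    · obtain ⟨Q, hQ, hdet, ⟨φ⟩⟩ := hR
      obtain ⟨ψ, -, hψc⟩ := iso (perp E d' ∩ perp E c') (perp D d ∩ perp D c₀)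
        (fun z => and_congr (hperpE d' hdC z) (hperpE c' hc₀C z)) (fun z hz => hperpC hdC hz.1)
      exact ⟨Q, hQ, hdet, ⟨(QuotientGroup.congr _ _ ψ hψc).trans φ⟩⟩
  obtain ⟨z, hz, hjz⟩ := M23.exists_fixed_member ⟨hEg, hEp, hE23⟩ (j := (⟨j, hLP hjL⟩ : ↥P)) (Subtype.ext hjj)
  exact hmove z hz (hcomm.1 hjz)

end CfsgLib.FischerTypes
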