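import Cfsg.Agent.FischerTypes.M22Graph

/-!
# A simple group of type M(22) acts primitively on `D`

First the commuting graph is connected: otherwise any two members of one component would induce the same
permutation of the components.  Then a block containing two members contains two commuting ones.
-/

set_option autoImplicit false
set_option maxHeartbeats 400000

namespace CfsgLib.FischerTypes

open Cfsg CfsgLib.U62 CfsgLib.RepBounds.Unit

variable {G : Type*} [Group G] [Finite G] {D : Set G}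

theorem PerpModel.ne_of_not_smul' {d : G} (M : PerpModel D d) {x y : G} (hx : x ∈ perp D d) (hy : y ∈ perp D d)
    {v w : I6 → M.K} (hv : herm M.C v v = 0) (hw : herm M.C w w = 0) (hw0 : w ≠ 0) (hvx : bar hx = M.θ (tv M.C v))
    (hwy : bar hy = M.θ (tv M.C w)) (hns : ∀ a : M.K, w ≠ a • v) : x ≠ y := by
  rintro rfl
  obtain ⟨a, -, ha⟩ := eq_smul_of_map_eq M.C M.hq M.θ M.hker hv hw hw0 (hvx.symm.trans hwy)
  exact hns a ha

/-- The commuting graph of a simple group of type M(22) is connected. -/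
theorem reach_of_simple [IsSimpleGroup G] (h : IsThreeTranspositionGroup D) (h22 : IsOfTypeM22 G D) {d e : G}
    (hd : d ∈ D) (he : e ∈ D) : Relation.ReflTransGen (Adj D) d e := by
  by_contra hall
  obtain ⟨-, -, hN, -, -⟩ := nice_of_isOfTypeM22 psu62Facts h h22
  obtain ⟨M⟩ := exists_perpModel h h22 hd
  have adjC : ∀ (g : G) {u v : G}, Adj D u v → Adj D (g * u * g⁻¹) (g * v * g⁻¹) := fun g u v hr =>
    ⟨h.2.1 g u hr.1, h.2.1 g v hr.2.1,
      fun he' => hr.2.2.1 (mul_left_cancel (mul_right_cancel he')), (commute_conj_iff' g _ _).2 hr.2.2.2⟩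
  have reachC : ∀ (g : G) {u v : G}, Relation.ReflTransGen (Adj D) u v →
      Relation.ReflTransGen (Adj D) (g * u * g⁻¹) (g * v * g⁻¹) := fun g u v huv => by
    induction huv with
    | refl => exact .refl
    | tail _ hr ih => exact ih.tail (adjC g hr)
  have hfix : ∀ a, a ∈ D → a * a * a⁻¹ = a := fun a _ => by group
  have hsym := fun {x y : G} => @reach_symm G _ D x y
  -- members of the component of `d` act alike on the components
  have key : ∀ a, Relation.ReflTransGen (Adj D) d a → a ∈ D ∧ ∀ f ∈ D,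
      Relation.ReflTransGen (Adj D) (d * f * d⁻¹) (a * f * a⁻¹) := by
    intro a ha
    induction ha with
    | refl => exact ⟨hd, fun f _ => .refl⟩
    | @tail b c hdb hbc ih =>
      obtain ⟨hb, ih⟩ := ih
      refine ⟨hbc.2.1, fun f hf => (ih f hf).trans ?_⟩
      by_cases hfA : Relation.ReflTransGen (Adj D) d f
      · -- both images stay in the component
        have hb' : Relation.ReflTransGen (Adj D) d (b * f * b⁻¹) := by
          have h1 := reachC b ((hsym hdb).trans hfA)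
          rw [hfix b hb] at h1
          exact hdb.trans h1
        have hc' : Relation.ReflTransGen (Adj D) d (c * f * c⁻¹) := by
          have h1 := reachC c ((hsym (hdb.tail hbc)).trans hfA)
          rw [hfix c hbc.2.1] at h1
          exact (hdb.tail hbc).trans h1
        exact (hsym hb').trans hc'
      · have hnc : ∀ u, Relation.ReflTransGen (Adj D) d u → u ∈ D → ¬ Commute u f := fun u hu huD hc => by
          by_cases hfu : f = u
          · exact hfA (hfu ▸ hu)
          · exact hfA (hu.tail ⟨huD, hf, hfu, hc⟩)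
        have hbr : ∀ u, u ∈ D → ¬ Commute u f → u * f * u⁻¹ = f * u * f⁻¹ := fun u hu hn => by
          rw [inv_eq h.1 hu, inv_eq h.1 hf, braid h.1 hu hf hn]
        rw [hbr b hb (hnc b hdb hb), hbr c hbc.2.1 (hnc c (hdb.tail hbc) hbc.2.1)]
        exact Relation.ReflTransGen.single (adjC f hbc)
  -- the kernel of the action on the components
  let N : Subgroup G :=
    { carrier := {g | ∀ f ∈ D, Relation.ReflTransGen (Adj D) f (g * f * g⁻¹)}
      one_mem' := fun f _ => by simp only [one_mul, inv_one, mul_one]; exact .refl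
      mul_mem' := fun {g k} hg hk f hf => by
        rw [show g * k * f * (g * k)⁻¹ = g * (k * f * k⁻¹) * g⁻¹ by group]
        exact (hk f hf).trans (hg _ (h.2.1 k f hf))
      inv_mem' := fun {g} hg f hf => by
        have h1 := hg (g⁻¹ * f * g) (by simpa using h.2.1 g⁻¹ f hf)
        rw [show g * (g⁻¹ * f * g) * g⁻¹ = f by group] at h1
        simpa using hsym h1 }
  have hNn : N.Normal := ⟨fun n hn g f hf => by
    have h1 := reachC g (hn (g⁻¹ * f * g) (by simpa using h.2.1 g⁻¹ f hf))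
    rwa [show g * (g⁻¹ * f * g) * g⁻¹ = f by group,
      show g * (n * (g⁻¹ * f * g) * n⁻¹) * g⁻¹ = g * n * g⁻¹ * f * (g * n * g⁻¹)⁻¹ by group] at h1⟩
  obtain ⟨a, ha⟩ : (perp D d).Nonempty := Set.nonempty_of_ncard_ne_zero (by rw [M.ncard_perp]; norm_num)
  obtain ⟨b, hb, hab⟩ := M.noCentral a ha
  have hAa : Relation.ReflTransGen (Adj D) d a := .single ⟨hd, ha⟩
  have hAb : Relation.ReflTransGen (Adj D) d b := .single ⟨hd, hb⟩
  have hmem : a * b ∈ N := fun f hf => by
    have h1 : Relation.ReflTransGen (Adj D) (b * f * b⁻¹) (a * f * a⁻¹) :=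
      (hsym ((key b hAb).2 f hf)).trans ((key a hAa).2 f hf)
    have h2 := reachC a h1
    rw [show a * (a * f * a⁻¹) * a⁻¹ = f by
      simp [inv_eq h.1 ha.1, mul_assoc, mul_self h.1 ha.1, mul_self_cancel h.1 ha.1]] at h2
    rw [show a * b * f * (a * b)⁻¹ = a * (b * f * b⁻¹) * a⁻¹ by group]
    exact hsym h2
  rcases hNn.eq_bot_or_eq_top with hN' | hN'
  · rw [hN', Subgroup.mem_bot, mul_eq_one_iff_eq_inv, inv_eq h.1 hb.1] at hmem
    exact hab (hmem ▸ Commute.refl a)
  · obtain ⟨g, hg⟩ := isConj_iff.1 (hN.single d hd e he)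
    have h1 : g ∈ N := hN' ▸ Subgroup.mem_top g
    exact hall (hg ▸ h1 d hd)

/-- A simple group of type M(22) acts primitively on `D`. -/
theorem isPrimitive_of_simple [IsSimpleGroup G] (h : IsThreeTranspositionGroup D) (h22 : IsOfTypeM22 G D) :
    IsPrimitiveUnderConj D := by
  obtain ⟨-, -, hN, -, -⟩ := nice_of_isOfTypeM22 psu62Facts h h22
  obtain ⟨-, d₀, hd₀, c₀, hc₀, hdc, -⟩ := id h22
  have hsc : ∀ a ∈ D, ∀ b ∈ D, ∃ g : G, g * a * g⁻¹ = b :=
    fun a ha b hb => isConj_iff.1 (hN.single a ha b hb)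
  refine ⟨hsc, ⟨d₀, hd₀, c₀, hc₀, fun e => hdc (e ▸ Commute.refl _)⟩, fun B hBD hblock => ?_⟩
  by_contra hcon
  push Not at hcon
  obtain ⟨hns, hne⟩ := hcon
  obtain ⟨d, hdB, e, heB, hde⟩ := hns
  have hd := hBD hdB
  have he := hBD heB
  have stab : ∀ {g b : G}, b ∈ B → g * b * g⁻¹ ∈ B → ∀ z ∈ B, g * z * g⁻¹ ∈ B := by
    intro g b hb hgb z hz
    rcases hblock g with h1 | h1
    · exact h1 ▸ ⟨z, hz, rfl⟩
    · exact absurd hgb (Set.disjoint_left.1 h1 ⟨b, hb, rfl⟩)
  have fixd : ∀ {v : G}, v ∈ perp D d → ∀ z ∈ B, v * z * v⁻¹ ∈ B := fun {v} hv => by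
    refine stab hdB ?_
    rw [← hv.2.2.eq, mul_inv_cancel_right]
    exact hdB
  obtain ⟨M⟩ := exists_perpModel h h22 hd
  -- a neighbour in the block gives all
  have big : ∀ {x : G}, x ∈ perp D d → x ∈ B → False := by
    intro x hx hxB
    have hperp : perp D d ⊆ B := fun y hy => by
      have hexc : ∃ g ∈ Subgroup.closure (perp D d), g * x * g⁻¹ = y := by
        refine exists_conj_perp h M.noCentral (fun p hp q hq => ?_) hx hy
        obtain ⟨v, hv, hv0, rfl⟩ := (M.mem_img p).1 hp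
        obtain ⟨w, hw, hw0, rfl⟩ := (M.mem_img q).1 hq
        obtain ⟨a, ha⟩ := exists_map_eq M.C hv hv0
        obtain ⟨b, hb⟩ := exists_map_eq M.C hw hw0
        refine isConj_iff.2 ⟨M.θ (b⁻¹ * a), ?_⟩
        rw [← map_inv, ← map_mul, ← map_mul, conj_tv M.C M.hq _ hv, app_mul, ha, ← hb,
          app_inv_app]
      obtain ⟨g, hg, rfl⟩ := hexc
      refine stab hdB ?_ x hxB
      rw [Subgroup.mem_centralizer_singleton_iff.mp (closure_le_centralizer d hg), mul_inv_cancel_right]
      exact hdB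
    have hall : ∀ a, Relation.ReflTransGen (Adj D) d a → a ∈ B := by
      intro a ha
      induction ha with
      | refl => exact hdB
      | @tail b c hdb hbc ih =>
        obtain ⟨g, hg⟩ := hsc d hd b hbc.1
        have hc : g⁻¹ * c * g ∈ perp D d := by
          refine ⟨by simpa using h.2.1 g⁻¹ c hbc.2.1, fun h0 => hbc.2.2.1 ?_, ?_⟩
          · rw [← hg, ← h0]; group
          · rw [← commute_conj_iff' g, hg, show g * (g⁻¹ * c * g) * g⁻¹ = c by group]
            exact hbc.2.2.2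
        have h1 := stab hdB (hg ▸ ih) _ (hperp hc)
        rwa [show g * (g⁻¹ * c * g) * g⁻¹ = c by group] at h1
    exact hne (Set.Subset.antisymm hBD fun a ha => hall a (reach_of_simple h h22 hd ha))
  by_cases hc : Commute d e
  · exact big ⟨he, Ne.symm hde, hc⟩ heB
  by_cases hvw : ∃ v ∈ perp D d, ∃ w ∈ perp D v, w ∈ perp D d ∧ ¬ Commute v e ∧ ¬ Commute w e
  · obtain ⟨v, hv, w, hwv, hw, nve, nwe⟩ := hvw
    set u := v * w * e * w * v with hu
    have hcu : Commute u e := commute_conj_pair h.1 hv.1 hw.1 he hwv.2.2 (fun hh => nve hh) (fun hh => nwe hh)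
    have huB : u ∈ B := by
      have h1 := fixd hv _ (fixd hw e heB)
      rw [inv_eq h.1 hv.1, inv_eq h.1 hw.1] at h1
      simpa [hu, mul_assoc] using h1
    have hue : u ≠ e := fun h0 => by
      have h1 : v * e * v = w * e * w := by
        conv_lhs => rw [← h0]
        simp [hu, mul_assoc, mul_self h.1 hv.1, mul_self_cancel h.1 hv.1]
      rw [braid h.1 hv.1 he nve, braid h.1 hw.1 he nwe] at h1
      exact hwv.2.1 (mul_left_cancel (mul_right_cancel h1)).symm
    obtain ⟨g, hg⟩ := hsc e he d hd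
    refine big (x := g * u * g⁻¹) ⟨h.2.1 g u (hBD huB),
      fun h0 => hue (mul_left_cancel (mul_right_cancel (h0.trans hg.symm))), ?_⟩
      (stab heB (hg ▸ hdB) u huB)
    rw [← hg, commute_conj_iff']
    exact hcu.symm
  push Not at hvw
  -- otherwise the members not commuting with `e` commute pairwise only with ones commuting with `e`
  by_cases hO : ∀ v ∈ perp D d, Commute v e
  · obtain ⟨a, ha⟩ : (perp D d).Nonempty := Set.nonempty_of_ncard_ne_zero (by rw [M.ncard_perp]; norm_num)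
    obtain ⟨b, hb⟩ : (perp D d ∩ perp D a).Nonempty :=
      Set.nonempty_of_ncard_ne_zero (by rw [M.ncard_perp_perp ha]; norm_num)
    obtain ⟨Ma⟩ := exists_perpModel h h22 ha.1
    have hda : d ∈ perp D a := perp_symm hd ha
    have hea : e ∈ perp D a := ⟨he, fun h0 => hc (h0 ▸ ha.2.2), hO a ha⟩
    obtain ⟨r, hr, hr0, hdr⟩ := Ma.exists_pt hda
    obtain ⟨q, hq, hq0, hbq⟩ := Ma.exists_pt hb.2
    obtain ⟨t, ht, ht0, het⟩ := Ma.exists_pt hea
    have hqr := (Ma.commute_iff hda hb.2 hr hq hq0 hdr hbq).1 hb.1.2.2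
    have hns := Ma.not_smul_of_ne hda hb.2 hr hq0 hdr hbq (Ne.symm hb.1.2.1)
    have hrq : herm Ma.C r q = 0 := by rw [← conj_herm, hqr, map_zero]
    have hsum : herm Ma.C (r + q) (r + q) = 0 := by
      simp [herm_add_left, herm_add_right, hr, hq, hqr, hrq]
    have hsum0 : r + q ≠ 0 := fun h0 => hns (-1) (by rw [neg_one_smul]; exact eq_neg_of_add_eq_zero_right h0)
    obtain ⟨c, hca, hcv⟩ := Ma.exists_mem hsum hsum0
    have hdc : Commute d c := (Ma.commute_iff hda hca hr hsum hsum0 hdr hcv).2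
      (by rw [herm_add_left, hr, hqr, add_zero])
    have hcne : d ≠ c := Ma.ne_of_not_smul' hda hca hr hsum hsum0 hdr hcv fun u hu =>
      hns (u - 1) (by rw [sub_smul, one_smul, ← hu]; abel)
    have e1 := (Ma.commute_iff hea hca ht hsum hsum0 het hcv).1 (hO c ⟨hca.1, Ne.symm hcne, hdc⟩).symm
    have e2 := (Ma.commute_iff hea hb.2 ht hq hq0 het hbq).1 (hO b hb.1).symm
    rw [herm_add_left, e2, add_zero] at e1
    exact hc ((Ma.commute_iff hea hda ht hr hr0 het hdr).2 e1).symm
  push Not at hO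
  obtain ⟨p, hp, hpe⟩ := hO
  set H := Subgroup.closure (perp D d) with hH
  set S := ((Subgroup.centralizer ({e} : Set G)).comap H.subtype).map
    (QuotientGroup.mk' (Subgroup.center ↥H)) with hS
  have hXS : ∀ v, ∀ hv : v ∈ perp D d, Commute v e → bar hv ∈ S := fun v hv hve =>
    ⟨⟨v, mem_perp_closure hv⟩, Subgroup.mem_centralizer_singleton_iff.2 hve.eq, rfl⟩
  have hy : ∀ v ∈ perp D d, (perp D d ∩ perp D v).Nonempty := fun v hv =>
    Set.nonempty_of_ncard_ne_zero (by rw [M.ncard_perp_perp hv]; norm_num)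
  have htop : S = ⊤ := by
    rw [eq_top_iff, ← (isThreeTranspositionGroup_img h d).2.2, Subgroup.closure_le]
    rintro _ ⟨⟨⟨v, hv'⟩, hv, rfl⟩, -⟩
    by_cases hve : Commute v e
    · exact hXS v hv hve
    obtain ⟨w, hwd, hwv⟩ := hy v hv
    obtain ⟨a, b, c, ha, hb, hc', hnd, hcm, hrel, -⟩ := M.exists_line hv hwd (Ne.symm hwv.2.1) hwv.2.2
    simp only [List.nodup_cons, List.mem_cons, List.not_mem_nil, or_false, not_or] at hnd
    have hh : ∀ u, ∀ hu : u ∈ perp D d, v ≠ u → Commute v u → bar hu ∈ S := fun u hu hvu hcu => by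
      exact hXS u hu (hvw v hv u ⟨hu.1, Ne.symm hvu, hcu⟩ hu hve)
    have h1 := mul_mem (mul_mem (mul_mem (hh w hwd (Ne.symm hwv.2.1) hwv.2.2) (hh a ha hnd.1.2.1 (hcm v (by simp) a (by simp))))
      (hh b hb hnd.1.2.2.1 (hcm v (by simp) b (by simp)))) (hh c hc' hnd.1.2.2.2 (hcm v (by simp) c (by simp)))
    have h2 : bar hv = (bar hwd * bar ha * bar hb * bar hc')⁻¹ := by
      rw [← mul_eq_one_iff_eq_inv]
      simpa [mul_assoc] using hrel
    show bar hv ∈ S
    rw [h2]
    exact inv_mem h1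
  have hdec : ∀ k ∈ H, ∃ s z, Commute s e ∧ s ∈ H ∧ z ∈ H ∧ (∀ g ∈ H, Commute z g) ∧ k = s * z := by
    intro k hk
    obtain ⟨s, hs, hsk⟩ : (QuotientGroup.mk (⟨k, hk⟩ : ↥H) : PerpQuot D d) ∈ S := htop ▸ Subgroup.mem_top _
    have hzc := QuotientGroup.eq.1 hsk
    refine ⟨s, (s : G)⁻¹ * k, Subgroup.mem_centralizer_singleton_iff.1 hs, s.2, mul_mem (inv_mem s.2) hk, ?_,
      by group⟩
    intro g hg
    exact (congrArg Subtype.val (Subgroup.mem_center_iff.1 hzc ⟨g, hg⟩)).symm
  obtain ⟨y, hyd, hyp⟩ := hy p hp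
  have hye : Commute y e := hvw p hp y hyp hyd hpe
  obtain ⟨k, hk, hkp⟩ : ∃ g ∈ Subgroup.closure (perp D d), g * p * g⁻¹ = y := by
    refine exists_conj_perp h M.noCentral (fun p' hp' q hq => ?_) hp hyd
    obtain ⟨v, hv, hv0, rfl⟩ := (M.mem_img p').1 hp'
    obtain ⟨w, hw, hw0, rfl⟩ := (M.mem_img q).1 hq
    obtain ⟨a, ha⟩ := exists_map_eq M.C hv hv0
    obtain ⟨b, hb⟩ := exists_map_eq M.C hw hw0
    refine isConj_iff.2 ⟨M.θ (b⁻¹ * a), ?_⟩
    rw [← map_inv, ← map_mul, ← map_mul, conj_tv M.C M.hq _ hv, app_mul, ha, ← hb,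
      app_inv_app]
  obtain ⟨s, z, hse, hsH, hzH, hzc, rfl⟩ := hdec k hk
  -- `y = s p s⁻¹`, so `p` commutes with `e` as `y` does
  refine hpe ?_
  have hy' : y = s * p * s⁻¹ := by
    rw [← hkp]
    calc s * z * p * (s * z)⁻¹ = s * (z * p * z⁻¹) * s⁻¹ := by group
      _ = s * p * s⁻¹ := by rw [(hzc p (mem_perp_closure hp)).eq, mul_inv_cancel_right]
  have h1 : Commute (s * p * s⁻¹) (s * e * s⁻¹) := by
    rw [hse.eq, mul_inv_cancel_right, ← hy']
    exact hye
  exact (commute_conj_iff' s p e).1 h1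

end CfsgLib.FischerTypes
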