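import Cfsg.Agent.FischerTypes.M22Primitive
import Cfsg.Agent.FischerTypes.M22Involution
import Cfsg.Agent.FischerTransitivity.Connected
import Cfsg.Agent.Transpositions.Simplicity
import Cfsg.Agent.S5360

/-!
# Every group of type M(22) acts primitively on its transpositions

The two cores are trivial as there are no twins.  If the commuting graph were disconnected, two commuting
members `x`, `x'` outside a component `C` would give an involution `x x'` of `⟨C⟩` moving every member of `C`
to a neighbour, but in type M(22) every involution fixes a member.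
set_option linter.style.haveILetI false
-/

set_option autoImplicit false
set_option maxHeartbeats 400000

namespace CfsgLib.FischerTypes

open Cfsg CfsgLib.U62 CfsgLib.RepBounds.Unit
open CfsgLib.FischerTransitivity (commClass commClass_eq_iff commClass_eq_of_commute CommEdge fixSub fixSub_normal
  mul_fixes)

variable {G : Type*} [Group G] {D : Set G}

theorem isClass_of_single (h : IsThreeTranspositionGroup D) (hsc : ∀ a ∈ D, ∀ b ∈ D, IsConj a b)
    (hne : D.Nonempty) : IsThreeTranspositionClass D := by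
  obtain ⟨d, hd⟩ := hne
  refine ⟨h.1, ⟨d, hd, Set.ext fun x => ⟨fun hx => hsc d hd x hx, fun hx => ?_⟩⟩, h.2.2⟩
  obtain ⟨g, rfl⟩ := isConj_iff.1 hx
  exact h.2.1 g d hd

theorem card_reflection_quotient_ne_one {X : Type*} [Group X] [Subsingleton X] {μ c : ZMod 3} {n : ℕ}
    (hn : 5 ≤ n) (hc : c ≠ 0) : ¬ IsProjReflectionGroupModThree X n μ c := by
  rintro ⟨Q, hQ, -, ⟨e⟩⟩
  have hq := (Cfsg.Agent.S5360.result n hn Q hQ c hc).1
  have hss : Subsingleton (↥(reflectionSubgroup (⇑Q) c) ⧸ Subgroup.center (reflectionSubgroup (⇑Q) c)) :=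
    e.symm.toEquiv.subsingleton
  have htop : Subgroup.center (reflectionSubgroup (⇑Q) c) = ⊤ :=
    Subgroup.eq_top_iff' _ |>.2 fun x => (QuotientGroup.eq_one_iff x).1 (Subsingleton.elim _ _)
  refine CfsgLib.Components.IsQuasisimple.center_ne_top hq (Subgroup.eq_top_iff' _ |>.2 fun x => ?_)
  refine Subgroup.mem_center_iff.2 fun y => Subtype.ext ?_
  exact Subgroup.mem_center_iff.1 (htop ▸ Subgroup.mem_top x.1) y.1

theorem reachable_of_commClass {a b : D} (hab : (b : G) ∈ commClass D (a : G)) :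
    (commutingGraph D).Reachable a b := by
  suffices H : ∀ c, c ∈ commClass D (a : G) → ∀ hc : c ∈ D, (commutingGraph D).Reachable a ⟨c, hc⟩ from
    H b hab b.2
  intro c hac
  induction hac with
  | refl => exact fun _ => SimpleGraph.Reachable.refl _
  | @tail u v _ he ih =>
    intro hv
    by_cases huv : u = v
    · subst huv; exact ih hv
    refine (ih he.1).trans (SimpleGraph.Adj.reachable ?_)
    simp only [commutingGraph, SimpleGraph.fromRel_adj]
    exact ⟨fun h0 => huv (congrArg Subtype.val h0), Or.inl he.2.2⟩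

variable [Finite G]

theorem PerpModel.perp_ne_of_ne (h : IsThreeTranspositionGroup D) {a b q : G} (M : PerpModel D q)
    (hq : q ∈ perp D a) (hq' : q ∈ perp D b) (ha : a ∈ D) (hb : b ∈ D) (hne : a ≠ b) :
    perp D a ≠ perp D b := by
  intro he
  have hab : ¬ Commute a b := fun hc => by
    have h1 : b ∈ perp D a := ⟨hb, Ne.symm hne, hc⟩
    rw [he] at h1
    exact h1.2.1 rfl
  have haq : a ∈ perp D q := perp_symm ha hq
  have h1 := M.ncard_perp_not_commute haq (perp_symm hb hq') hab
  rw [← he, Set.inter_self, M.ncard_perp_perp haq] at h1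
  norm_num at h1

theorem cores_of_M22 (h : IsThreeTranspositionGroup D) (h22 : IsOfTypeM22 G D) :
    IsThreeTranspositionClass D ∧ pCore 2 G ≤ Subgroup.center G ∧ pCore 3 G ≤ Subgroup.center G := by
  obtain ⟨d, hd, hN, -, -⟩ := nice_of_isOfTypeM22 psu62Facts h h22
  have hC := isClass_of_single h hN.single ⟨d, hd⟩
  refine ⟨hC, ?_, ?_⟩
  · by_contra hn
    obtain ⟨v, ⟨hv, hv'⟩, hvd⟩ := CfsgLib.Transpositions.exists_vRel_of_not_central hC hn d hd
    exact hvd (hN.noTwins v hv d hd fun z hz =>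
      ⟨fun hc => ((hv' z hz).1 hc.symm).symm, fun hc => ((hv' z hz).2 hc.symm).symm⟩)
  · by_contra hn
    obtain ⟨w, ⟨hw, hw'⟩, hwd⟩ := CfsgLib.Transpositions.exists_wRel_of_not_central hC hn d hd
    obtain ⟨Md⟩ := exists_perpModel h h22 hd
    obtain ⟨q, hq⟩ : (perp D d).Nonempty := Set.nonempty_of_ncard_ne_zero (by rw [Md.ncard_perp]; norm_num)
    obtain ⟨M⟩ := exists_perpModel h h22 hq.1
    have hwq : q ∈ perp D w := (show perp D d = perp D w from hw') ▸ hq
    exact M.perp_ne_of_ne h hq hwq hd hw (Ne.symm hwd) hw'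

/-- A group of type M(22) acts primitively on its transpositions. -/
theorem isPrimitive_of_M22 (h : IsThreeTranspositionGroup D) (h22 : IsOfTypeM22 G D) :
    IsPrimitiveUnderConj D := by
  classical
  obtain ⟨-, -, hN, -, -⟩ := nice_of_isOfTypeM22 psu62Facts h h22
  obtain ⟨hC, h2, h3⟩ := cores_of_M22 h h22
  obtain ⟨hZ, d, hd, c₀, hc₀, hdc₀, hU, cc, hcc, hR⟩ := id h22
  have hD2 : ∃ a ∈ D, ∃ b ∈ D, a ≠ b := ⟨d, hd, c₀, hc₀, fun he => hdc₀ (he ▸ Commute.refl _)⟩
  by_cases hall : ∀ b ∈ D, b ∈ commClass D d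
  · refine CfsgLib.Transpositions.primitive_of_cores hC hD2 h2 h3 ?_
    refine (SimpleGraph.connected_iff_exists_forall_reachable _).2 ⟨⟨d, hd⟩, fun x => ?_⟩
    exact reachable_of_commClass (hall x.1 x.2)
  push Not at hall
  obtain ⟨x, hx, hxC⟩ := hall
  exfalso
  obtain ⟨L, hL, hLn, -, hF⟩ := CfsgLib.Transpositions.exists_component_of_central hC hD2 h2 h3
  haveI := hLn
  have hLc : Subgroup.centralizer (L : Set G) = ⊥ :=
    le_bot_iff.1 (hZ ▸ CfsgLib.Transpositions.centralizer_component_le_center hC h2 h3 hF)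
  have hbot_of : ∀ N : Subgroup G, (∀ n ∈ N, ∀ l ∈ L, Commute n l) → N = ⊥ := fun N hN' =>
    le_bot_iff.1 (hLc ▸ fun n hn => Subgroup.mem_centralizer_iff.2 fun l hl => (hN' n hn l hl).eq.symm)
  have hLZ : ∀ l ∈ L, (∀ k ∈ L, Commute l k) → l = 1 := fun l _ hk => by
    have h1 : l ∈ Subgroup.centralizer (L : Set G) := Subgroup.mem_centralizer_iff.2 fun k hk' => (hk k hk').eq.symm
    rwa [hLc, Subgroup.mem_bot] at h1
  -- a subgroup normalized by `L` contains it or centralizes it
  have hcontains : ∀ N : Subgroup G, (∀ l ∈ L, ∀ n ∈ N, l * n * l⁻¹ ∈ N) → (∃ n ∈ N, n ∈ L ∧ n ≠ 1) →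
      L ≤ N := by
    rintro N hN' ⟨n, hnN, hnL, hn1⟩
    haveI : (N.subgroupOf L).Normal := ⟨fun m hm l => by simpa [Subgroup.mem_subgroupOf] using hN' l l.2 m hm⟩
    rcases CfsgLib.Components.IsQuasisimple.normal_eq_top_or_le_center hL.2 (N.subgroupOf L) with ht | ht
    · exact fun l hl => (ht ▸ Subgroup.mem_top (⟨l, hl⟩ : ↥L) : (⟨l, hl⟩ : ↥L) ∈ N.subgroupOf L)
    · refine absurd (hLZ n hnL fun k hk => ?_) hn1
      exact (congrArg Subtype.val (Subgroup.mem_center_iff.1
        (ht (show (⟨n, hnL⟩ : ↥L) ∈ N.subgroupOf L from hnN)) ⟨k, hk⟩)).symm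
  set C : Set G := commClass D d with hCdef
  have hCD : ∀ {u}, u ∈ C → u ∈ D := fun {u} hu => by
    induction hu with
    | refl => exact hd
    | tail _ he _ => exact he.2.1
  have hdC : d ∈ C := Relation.ReflTransGen.refl
  have hCstep : ∀ {u v}, u ∈ C → v ∈ D → Commute u v → v ∈ C := fun hu hv huv =>
    Relation.ReflTransGen.tail hu ⟨hCD hu, hv, huv⟩
  have hperpC : ∀ {u v}, u ∈ C → v ∈ perp D u → v ∈ C := fun hu hv => hCstep hu hv.1 hv.2.2
  have hCeq : ∀ {u}, u ∈ C → commClass D u = C := fun hu => (commClass_eq_iff.2 hu).symm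
  -- the kernel of the action on the components
  have hinv : ∀ g : G, ∀ u ∈ D, ∀ v ∈ D, commClass D u = commClass D v →
      commClass D (g * u * g⁻¹) = commClass D (g * v * g⁻¹) := fun g u _ v _ he =>
    commClass_eq_iff.2 (CfsgLib.FischerTransitivity.conj_mem_commClass hC g (commClass_eq_iff.1 he))
  have h1 : ∀ x ∈ D, ∀ v ∈ D, ∀ z ∈ D,
      commClass D v = commClass D x → commClass D z ≠ commClass D x → Commute x z → Commute v z :=
    fun x hx v _ z hz _ hne hc => absurd (commClass_eq_of_commute hx hz hc).symm hne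
  set N := fixSub hC (commClass D) with hNdef
  haveI : N.Normal := fixSub_normal hC (commClass D) hinv
  have hsame : ∀ u ∈ D, ∀ v ∈ D, commClass D u = commClass D v → u * v ∈ N := fun u hu v hv he =>
    mul_fixes hC (commClass D) hinv h1 hu ⟨hu, rfl⟩ ⟨hv, he.symm⟩
  obtain ⟨M⟩ := exists_perpModel h h22 hd
  obtain ⟨e, he⟩ : (perp D d).Nonempty := Set.nonempty_of_ncard_ne_zero (by rw [M.ncard_perp]; norm_num)
  have hLN : L ≤ N := by
    refine hcontains N (fun l _ n hn => Subgroup.Normal.conj_mem inferInstance n hn l) ⟨d * e,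
      hsame d hd e he.1 (commClass_eq_of_commute hd he.1 he.2.2), ?_, ?_⟩
    · have := CfsgLib.Transpositions.inv_mul_mem_component hC hL hd he.1
        (by rw [he.2.2.eq, mul_inv_cancel_right, mul_inv_cancel]; exact one_mem L)
      rwa [inv_eq h.1 hd] at this
    · intro h0
      rw [mul_eq_one_iff_eq_inv, inv_eq h.1 he.1] at h0
      exact he.2.1 h0.symm
  have hLC : ∀ l ∈ L, ∀ u ∈ C, l * u * l⁻¹ ∈ C := fun l hl u hu => by
    have h0 : commClass D (l * u * l⁻¹) = commClass D u := (hLN hl : ∀ z ∈ D, _) u (hCD hu)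
    rw [hCeq hu] at h0
    exact h0 ▸ Relation.ReflTransGen.refl
  set P : Subgroup G := Subgroup.closure C with hP
  have hLP : L ≤ P := by
    refine hcontains P (fun l hl n hn => ?_) ⟨d * e, mul_mem (Subgroup.subset_closure hdC)
      (Subgroup.subset_closure (hperpC hdC he)), ?_, ?_⟩
    · induction hn using Subgroup.closure_induction with
      | mem u hu => exact Subgroup.subset_closure (hLC l hl u hu)
      | one => simp
      | mul a b _ _ iha ihb =>
        rw [show l * (a * b) * l⁻¹ = (l * a * l⁻¹) * (l * b * l⁻¹) by group]; exact mul_mem iha ihb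
      | inv a _ iha => rw [show l * a⁻¹ * l⁻¹ = (l * a * l⁻¹)⁻¹ by group]; exact inv_mem iha
    · have := CfsgLib.Transpositions.inv_mul_mem_component hC hL hd he.1
        (by rw [he.2.2.eq, mul_inv_cancel_right, mul_inv_cancel]; exact one_mem L)
      rwa [inv_eq h.1 hd] at this
    · intro h0
      rw [mul_eq_one_iff_eq_inv, inv_eq h.1 he.1] at h0
      exact he.2.1 h0.symm
  -- an involution in `L` moving every member of `C` to a neighbour
  obtain ⟨Mx⟩ := exists_perpModel h h22 hx
  obtain ⟨x', hx'⟩ : (perp D x).Nonempty := Set.nonempty_of_ncard_ne_zero (by rw [Mx.ncard_perp]; norm_num)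
  have hncx : ∀ u ∈ C, ¬ Commute x u := fun u hu hc => hxC (hCstep hu hx hc.symm)
  have hncx' : ∀ u ∈ C, ¬ Commute x' u := fun u hu hc =>
    hxC (hCstep (hCstep hu hx'.1 hc.symm) hx hx'.2.2.symm)
  set j := x * x' with hj
  have hjj : j * j = 1 := by
    rw [hj, mul_assoc, ← mul_assoc x', ← hx'.2.2.eq, mul_assoc, mul_self h.1 hx'.1, mul_one, mul_self h.1 hx]
  have hjL : j ∈ L := by
    have := CfsgLib.Transpositions.inv_mul_mem_component hC hL hx hx'.1
      (by rw [hx'.2.2.eq, mul_inv_cancel_right, mul_inv_cancel]; exact one_mem L)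
    rwa [inv_eq h.1 hx] at this
  have hmove : ∀ u ∈ C, ¬ Commute j u := fun u hu hc => by
    refine hx'.2.1 ?_
    have h1 : x' * u * x' = x * u * x := by
      have h2 : j * u * j⁻¹ = u := by rw [hc.eq, mul_inv_cancel_right]
      rw [hj, _root_.mul_inv_rev, inv_eq h.1 hx, inv_eq h.1 hx'.1] at h2
      conv_rhs => rw [← h2]
      simp [mul_assoc, mul_self h.1 hx, mul_self_cancel h.1 hx]
    rw [braid h.1 hx'.1 (hCD hu) (hncx' u hu), braid h.1 hx (hCD hu) (hncx u hu)] at h1
    exact mul_left_cancel (mul_right_cancel h1)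
  -- `(P, C)` is of type M(22) and primitive
  have hPC : ∀ g ∈ P, ∀ u ∈ C, g * u * g⁻¹ ∈ C := by
    intro g hg
    induction hg using Subgroup.closure_induction with
    | mem v hv =>
      intro u hu
      have hv' : v * u * v⁻¹ ∈ commClass D (v * d * v⁻¹) :=
        CfsgLib.FischerTransitivity.conj_mem_commClass hC v hu
      have hvd : v * d * v⁻¹ ∈ C := by
        have h2 := CfsgLib.FischerTransitivity.conj_mem_commClass hC v
          (commClass_eq_iff.1 (hCeq hv) : d ∈ commClass D v)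
        rw [mul_inv_cancel_right] at h2
        exact hCeq hv ▸ h2
      exact hCeq hvd ▸ hv'
    | one => intro u hu; simpa using hu
    | mul a b _ _ iha ihb =>
      intro u hu; rw [show a * b * u * (a * b)⁻¹ = a * (b * u * b⁻¹) * a⁻¹ by group]; exact iha _ (ihb u hu)
    | inv a _ iha =>
      intro u hu
      -- `a` permutes the finite set `C`
      obtain ⟨w, hw, hwu⟩ : u ∈ (fun z => a * z * a⁻¹) '' C := by
        have hle : C.ncard ≤ ((fun z => a * z * a⁻¹) '' C).ncard :=
          (Set.ncard_image_of_injective C fun p q hpq => mul_left_cancel (mul_right_cancel hpq)).ge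
        rw [Set.eq_of_subset_of_ncard_le (Set.image_subset_iff.2 iha) hle (Set.toFinite _)]
        exact hu
      rw [← hwu, show a⁻¹ * (a * w * a⁻¹) * a⁻¹⁻¹ = w by group]
      exact hw
  set E : Set ↥P := {z | (z : G) ∈ C} with hE
  have hcomm : ∀ {a b : ↥P}, Commute a b ↔ Commute (a : G) (b : G) := fun {a b} =>
    ⟨fun hc => congrArg Subtype.val hc, fun hc => Subtype.ext hc⟩
  have hgen : Subgroup.closure E = ⊤ := by
    rw [eq_top_iff]
    rintro ⟨z, hz⟩ -
    induction hz using Subgroup.closure_induction with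
    | mem u hu => exact Subgroup.subset_closure hu
    | one => exact one_mem _
    | mul a b ha hb iha ihb => exact mul_mem iha ihb
    | inv a ha iha => exact inv_mem iha
  have hEg : IsThreeTranspositionGroup E := by
    refine ⟨⟨fun z hz => ?_, fun a ha b hb => ?_⟩, fun g z hz => hPC g g.2 z hz, hgen⟩
    · rw [← Subgroup.orderOf_coe]; exact h.1.1 z (hCD hz)
    · exact (h.1.2 _ (hCD ha) _ (hCD hb)).imp (fun h0 => Subtype.ext (by simpa using h0))
        (fun h0 => Subtype.ext (by simpa using h0))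
  have hPbot : Subgroup.center ↥P = ⊥ := by
    have hb := hbot_of ((Subgroup.center ↥P).map P.subtype) (by
      rintro _ ⟨z, hz, rfl⟩ l hl
      exact (congrArg Subtype.val (Subgroup.mem_center_iff.1 hz ⟨l, hLP hl⟩)).symm)
    rwa [Subgroup.map_eq_bot_iff_of_injective _ P.subtype_injective] at hb
  have hEconj : ∀ b : ↥P, b ∈ E → IsConj (⟨d, Subgroup.subset_closure hdC⟩ : ↥P) b := by
    suffices H : ∀ b (hb : b ∈ C), IsConj (⟨d, Subgroup.subset_closure hdC⟩ : ↥P) ⟨b, Subgroup.subset_closure hb⟩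
      from fun b hb => H b hb
    intro b hb
    induction id hb with
    | refl => exact IsConj.refl _
    | @tail u v hu hedge ih =>
      refine (ih hu).trans ?_
      by_cases huv : u = v
      · subst huv; exact IsConj.refl _
      obtain ⟨Mu⟩ := exists_perpModel h h22 (hCD hu)
      obtain ⟨f, hf⟩ : (perp D u ∩ perp D v).Nonempty := Set.nonempty_of_ncard_ne_zero (by
        rw [Mu.ncard_perp_perp ⟨hedge.2.1, Ne.symm huv, hedge.2.2⟩]; norm_num)
      obtain ⟨Mf⟩ := exists_perpModel h h22 hf.1.1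
      obtain ⟨g, hg, hgv⟩ := Mf.exists_conj (perp_symm (hCD hu) hf.1) (perp_symm hedge.2.1 hf.2)
      refine isConj_iff.2 ⟨⟨g, Subgroup.closure_mono (fun z hz => ?_) hg⟩, Subtype.ext hgv⟩
      exact hperpC (hperpC hu hf.1) hz
  have hEclass : IsThreeTranspositionClass E :=
    isClass_of_single hEg (fun a ha b hb => (hEconj a ha).symm.trans (hEconj b hb))
      ⟨⟨d, Subgroup.subset_closure hdC⟩, hdC⟩
  have hE2 : ∃ a ∈ E, ∃ b ∈ E, a ≠ b := ⟨⟨d, Subgroup.subset_closure hdC⟩, hdC,
    ⟨e, Subgroup.subset_closure (hperpC hdC he)⟩, hperpC hdC he,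
    fun h0 => he.2.1 (congrArg Subtype.val h0).symm⟩
  have hEcon : (commutingGraph E).Connected := by
    refine (SimpleGraph.connected_iff_exists_forall_reachable _).2
      ⟨⟨⟨d, Subgroup.subset_closure hdC⟩, hdC⟩, fun z => ?_⟩
    refine reachable_of_commClass ?_
    suffices H : ∀ b (hb : b ∈ C), (⟨b, Subgroup.subset_closure hb⟩ : ↥P) ∈
        commClass E (⟨d, Subgroup.subset_closure hdC⟩ : ↥P) from H z.1 z.2
    intro b hb
    induction id hb with
    | refl => exact Relation.ReflTransGen.refl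
    | @tail u v hu hedge ih =>
      exact Relation.ReflTransGen.tail (ih hu) ⟨hu, hb, Subtype.ext hedge.2.2⟩
  -- a normal `p`-subgroup of `P` centralizes `L`
  have hcore : ∀ (p : ℕ), p.Prime → pCore p ↥P ≤ Subgroup.center ↥P := by
    intro p hp
    haveI := Fact.mk hp
    have hpg := CfsgLib.PLocal.isPGroup_pCore p ↥P
    haveI := CfsgLib.Transpositions.isSolvable_of_isPGroup hpg
    suffices hb : (pCore p ↥P).map P.subtype = ⊥ by
      rw [Subgroup.map_eq_bot_iff_of_injective _ P.subtype_injective] at hb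
      rw [hb]; exact bot_le
    refine hbot_of _ ?_
    rintro _ ⟨z, hz, rfl⟩ l hl
    -- the commutator lies in both normal subgroups
    by_contra hzl
    have hmem : (z : G) * l * (z : G)⁻¹ * l⁻¹ ∈ (pCore p ↥P).map P.subtype := by
      have h0 := mul_mem hz ((inferInstance : (pCore p ↥P).Normal).conj_mem _ (inv_mem hz) ⟨l, hLP hl⟩)
      exact ⟨_, h0, by simp [mul_assoc]⟩
    have hmemL : (z : G) * l * (z : G)⁻¹ * l⁻¹ ∈ L :=
      mul_mem (hLn.conj_mem l hl z) (inv_mem hl)
    have hne : (z : G) * l * (z : G)⁻¹ * l⁻¹ ≠ 1 := fun h0 => hzl (by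
      rw [mul_inv_eq_one, mul_inv_eq_iff_eq_mul] at h0; exact h0)
    have hle : L ≤ (pCore p ↥P).map P.subtype := by
      refine hcontains _ ?_ ⟨_, hmem, hmemL, hne⟩
      rintro k hk _ ⟨w, hw, rfl⟩
      exact ⟨_, (inferInstance : (pCore p ↥P).Normal).conj_mem w hw ⟨k, hLP hk⟩, rfl⟩
    haveI : Group.IsSolvable ↥((pCore p ↥P).map P.subtype) :=
      Group.isSolvable_of_surjective (f := P.subtype.subgroupMap (pCore p ↥P))
        (MonoidHom.subgroupMap_surjective _ _)
    exact CfsgLib.Components.IsQuasisimple.not_isSolvable hL.2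
      (Group.isSolvable_of_isSolvable_injective (Subgroup.inclusion_injective hle))
  have hEp : IsPrimitiveUnderConj E := CfsgLib.Transpositions.primitive_of_cores hEclass hE2
    (hcore 2 Nat.prime_two) (hcore 3 Nat.prime_three) hEcon
  have hc₀C : c₀ ∈ C := by
    by_contra hcC
    have hempty : perp D d ∩ perp D c₀ = ∅ := Set.eq_empty_iff_forall_notMem.2 fun z hz =>
      hcC (hperpC (hperpC hdC hz.1) (perp_symm hc₀ hz.2))
    haveI : Subsingleton (↥(Subgroup.closure (perp D d ∩ perp D c₀)) ⧸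
        Subgroup.center ↥(Subgroup.closure (perp D d ∩ perp D c₀))) := by
      haveI : Subsingleton ↥(Subgroup.closure (perp D d ∩ perp D c₀)) := by
        rw [hempty, Subgroup.closure_empty]; infer_instance
      exact ⟨fun a b => by induction a using QuotientGroup.induction_on; induction b using QuotientGroup.induction_on; exact congrArg _ (Subsingleton.elim _ _)⟩
    exact card_reflection_quotient_ne_one (by norm_num) hcc hR
  -- transport the two local groups
  have hperpE : ∀ (u : ↥P), (u : G) ∈ C → ∀ z : ↥P, z ∈ perp E u ↔ (z : G) ∈ perp D (u : G) := by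
    intro u hu z
    exact ⟨fun hz => ⟨hCD hz.1, fun h0 => hz.2.1 (Subtype.ext h0), hcomm.1 hz.2.2⟩,
      fun hz => ⟨hperpC hu hz, fun h0 => hz.2.1 (congrArg Subtype.val h0), hcomm.2 hz.2.2⟩⟩
  have iso : ∀ (S : Set ↥P) (T : Set G), (∀ z, z ∈ S ↔ (z : G) ∈ T) → T ⊆ C →
      Nonempty (↥(Subgroup.closure S) ⧸ Subgroup.center ↥(Subgroup.closure S) ≃*
        ↥(Subgroup.closure T) ⧸ Subgroup.center ↥(Subgroup.closure T)) := by
    intro S T hST hTC
    have hmap : (Subgroup.closure S).map P.subtype = Subgroup.closure T := by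
      rw [MonoidHom.map_closure]
      congr 1
      ext z
      constructor
      · rintro ⟨w, hw, rfl⟩; exact (hST w).1 hw
      · exact fun hz => ⟨⟨z, Subgroup.subset_closure (hTC hz)⟩, (hST _).2 hz, rfl⟩
    let ψ : ↥(Subgroup.closure S) ≃* ↥(Subgroup.closure T) :=
      ((Subgroup.closure S).equivMapOfInjective P.subtype P.subtype_injective).trans
        (MulEquiv.subgroupCongr hmap)
    exact ⟨QuotientGroup.congr _ _ ψ (by
      ext w
      simp only [Subgroup.mem_map, Subgroup.mem_center_iff]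
      constructor
      · rintro ⟨y, hy, rfl⟩ k
        obtain ⟨k, rfl⟩ := ψ.surjective k
        exact (map_mul ψ k y).symm.trans ((congrArg ψ (hy k)).trans (map_mul ψ y k))
      · exact fun hw => ⟨ψ.symm w, fun k => ψ.injective (by simpa using hw (ψ k)), by simp⟩)⟩
  have hE22 : IsOfTypeM22 ↥P E := by
    set d' : ↥P := ⟨d, Subgroup.subset_closure hdC⟩
    set c' : ↥P := ⟨c₀, Subgroup.subset_closure hc₀C⟩
    refine ⟨hPbot, d', hdC, c', hc₀C, fun hc => hdc₀ (hcomm.1 hc), ?_, cc, hcc, ?_⟩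
    · obtain ⟨F, iF, iFt, hF, ⟨φ⟩⟩ := hU
      obtain ⟨ψ⟩ := iso (perp E d') (perp D d) (hperpE d' hdC) (fun z hz => hperpC hdC hz)
      exact ⟨F, iF, iFt, hF, ⟨ψ.trans φ⟩⟩
    · obtain ⟨Q, hQ, hdet, ⟨φ⟩⟩ := hR
      obtain ⟨ψ⟩ := iso (perp E d' ∩ perp E c') (perp D d ∩ perp D c₀)
        (fun z => and_congr (hperpE d' hdC z) (hperpE c' hc₀C z)) (fun z hz => hperpC hdC hz.1)
      exact ⟨Q, hQ, hdet, ⟨ψ.trans φ⟩⟩
  obtain ⟨z, hz, hjz⟩ := exists_fixed_member hEg hEp hE22 (j := (⟨j, hLP hjL⟩ : ↥P)) (Subtype.ext hjj)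
  exact hmove z hz (hcomm.1 hjz)

end CfsgLib.FischerTypes
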