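import Cfsg.Agent.FischerTypes.Local

/-!
# Single class, no twins and `<D_d>`-transitivity in groups of type M(22), M(23), M(24)

The only input about unitary groups is `PSU62Facts`: `PSU(6,2)` is simple and its order is divisible
by `2 ^ 15`, which no linear group of dimension at most 7 over the field with three elements achieves.
-/

set_option autoImplicit false
set_option maxHeartbeats 400000

namespace CfsgLib.FischerTypes

open Cfsg

/-- What is needed about `PSU(6,2)`. -/
def PSU62Facts : Prop :=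
  ∀ (F : Type) [Field F] [Fintype F], Fintype.card F = 4 →
    IsSimpleGroup (PSU 6 F 2) ∧ 2 ^ 15 ∣ Nat.card (PSU 6 F 2)

/-- The properties propagated through the chain of types. -/
structure Nice (K : Type*) [Group K] (E : Set K) : Prop where
  isGroup : IsThreeTranspositionGroup E
  center_eq : Subgroup.center K = ⊥
  single : ∀ a ∈ E, ∀ b ∈ E, IsConj a b
  noTwins : NoTwins E
  dvd : 2 ^ 15 ∣ Nat.card K

variable {G : Type*} [Group G] {D : Set G}

theorem single_of_simple [IsSimpleGroup G] (h : IsThreeTranspositionGroup D)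
    (hZ : Subgroup.center G = ⊥) : ∀ a ∈ D, ∀ b ∈ D, IsConj a b := by
  intro a ha b hb
  by_contra hab
  have hle : Subgroup.normalClosure {a} ≤ Subgroup.centralizer ({b} : Set G) := by
    refine (Subgroup.closure_le _).mpr fun x hx => Subgroup.mem_centralizer_singleton_iff.mpr ?_
    obtain ⟨y, rfl, hy⟩ := Group.mem_conjugatesOfSet_iff.mp hx
    obtain ⟨g, rfl⟩ := isConj_iff.mp hy
    by_contra hc
    exact hab (hy.trans (isConj_of_not_commute h.1 (h.2.1 g _ ha) hb hc))
  rcases (Subgroup.normalClosure_normal (s := {a})).eq_bot_or_eq_top with hn | hn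
  · exact ne_one h.1 ha (by
      have := Subgroup.subset_normalClosure (Set.mem_singleton a)
      rwa [hn] at this)
  · have hm : b ∈ Subgroup.center G := Subgroup.mem_center_iff.mpr fun g => by
      have := hle (hn ▸ Subgroup.mem_top g)
      exact Subgroup.mem_centralizer_singleton_iff.mp this
    rw [hZ, Subgroup.mem_bot] at hm
    exact ne_one h.1 hb hm

theorem nice_of_simple [Finite G] [IsSimpleGroup G] (h : IsThreeTranspositionGroup D)
    (hdvd : 2 ^ 15 ∣ Nat.card G) : Nice G D := by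
  have hZ : Subgroup.center G = ⊥ := by
    rcases (inferInstance : (Subgroup.center G).Normal).eq_bot_or_eq_top with hc | hc
    · exact hc
    exfalso
    obtain ⟨g, hg⟩ := exists_prime_orderOf_dvd_card' (G := G) 2
      ((dvd_pow_self 2 (by norm_num)).trans hdvd)
    have hn : (Subgroup.zpowers g).Normal := by
      refine ⟨fun x hx y => ?_⟩
      have hy : x * y = y * x :=
        Subgroup.mem_center_iff.mp (show y ∈ Subgroup.center G from hc ▸ Subgroup.mem_top y) x
      rwa [← hy, mul_inv_cancel_right]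
    rcases hn.eq_bot_or_eq_top with hb | ht
    · rw [Subgroup.zpowers_eq_bot] at hb
      simp [hb] at hg
    · have : Nat.card G = 2 := by rw [← hg, ← Nat.card_zpowers, ht, Subgroup.card_top]
      rw [this] at hdvd; norm_num at hdvd
  exact ⟨h, hZ, single_of_simple h hZ, noTwins_of_simple h hZ, hdvd⟩

theorem noTwins_of_noCentralPerp (h : IsThreeTranspositionGroup D)
    (hsc : ∀ a ∈ D, ∀ b ∈ D, IsConj a b) {d : G} (hd : d ∈ D) (hnc : NoCentralPerp D d) :
    NoTwins D := by
  intro a ha b hb hab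
  by_contra hne
  obtain ⟨g, hg⟩ := isConj_iff.mp (hsc a ha d hd)
  have hb' : g * b * g⁻¹ ∈ perp D d := by
    refine ⟨h.2.1 g b hb, fun he => hne ?_, ?_⟩
    · exact (mul_left_cancel (mul_right_cancel (he.trans hg.symm))).symm
    · rw [← hg, commute_conj_iff']
      exact (hab a ha).mp (Commute.refl a)
  obtain ⟨y, hy, hby⟩ := hnc _ hb'
  have := (hab.conj h g) y hy.1
  rw [hg] at this
  exact hby (this.mp hy.2.2.symm).symm

theorem noCentralPerp_of_noTwins [Finite G] (h : IsThreeTranspositionGroup D) (hnt : NoTwins D)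
    (hsc : ∀ a ∈ D, ∀ b ∈ D, IsConj a b) {d : G} (hd : d ∈ D) : NoCentralPerp D d := by
  intro x hx
  by_contra hc
  push Not at hc
  obtain ⟨g, hg⟩ := isConj_iff.mp (hsc d hd x hx.1)
  have hsub : {z | z ∈ D ∧ Commute z d} ⊆ {z | z ∈ D ∧ Commute z x} := by
    rintro z ⟨hz, hzd⟩
    refine ⟨hz, ?_⟩
    by_cases he : z = d
    · exact he ▸ hx.2.2
    · exact (hc z ⟨hz, he, hzd.symm⟩).symm
  have hle : {z | z ∈ D ∧ Commute z x}.ncard ≤ {z | z ∈ D ∧ Commute z d}.ncard := by
    rw [← Set.ncard_image_of_injective {z | z ∈ D ∧ Commute z d} (MulAut.conj g).injective]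
    refine Set.ncard_le_ncard (fun z hz => ⟨g⁻¹ * z * g, ⟨?_, ?_⟩, ?_⟩) (Set.toFinite _)
    · simpa using h.2.1 g⁻¹ z hz.1
    · rw [← commute_conj_iff' g, hg, show g * (g⁻¹ * z * g) * g⁻¹ = z from by group]
      exact hz.2
    · rw [MulAut.conj_apply]; group
  have heq := Set.eq_of_subset_of_ncard_le hsub hle (Set.toFinite _)
  refine hx.2.1 (hnt d hd x hx.1 fun z hz => ?_).symm
  have := Set.ext_iff.mp heq z
  simpa [hz] using this

/-- One step up in the chain of types. -/
theorem nice_step [Finite G] (h : IsThreeTranspositionGroup D) (hZ : Subgroup.center G = ⊥)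
    {d c : G} (hd : d ∈ D) (hc : c ∈ D) (hcd : ¬ Commute d c)
    (hN : Nice (PerpQuot D d) (img D d))
    (hL : ¬ 2 ^ 15 ∣ Nat.card (↥(Subgroup.closure (perp D d ∩ perp D c)) ⧸
      Subgroup.center ↥(Subgroup.closure (perp D d ∩ perp D c)))) :
    Nice G D ∧ NoCentralPerp D d := by
  have hcentral : ∀ x ∈ perp D d, ∀ hx : x ∈ Subgroup.closure (perp D d),
      (QuotientGroup.mk (⟨x, hx⟩ : ↥(Subgroup.closure (perp D d))) : PerpQuot D d) = 1 →
      ∀ y ∈ perp D d, Commute x y := fun x _ hx he y hy =>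
    mem_center_closure_iff.mp ((QuotientGroup.eq_one_iff _).mp he) y hy
  -- single class
  have hsd : ∀ x ∈ D, IsConj d x := by
    by_contra hne
    push Not at hne
    obtain ⟨e, he, hde⟩ := hne
    have hdc : IsConj d c := isConj_of_not_commute h.1 hd hc hcd
    have hP : ∀ x ∈ D, ¬ IsConj d x → x ∈ perp D d ∩ perp D c := by
      intro x hx hdx
      refine ⟨⟨hx, fun hh => hdx (hh ▸ IsConj.refl d), ?_⟩, ⟨hx, fun hh => hdx (hh ▸ hdc), ?_⟩⟩
      · by_contra hh; exact hdx (isConj_of_not_commute h.1 hd hx hh)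
      · by_contra hh; exact hdx (hdc.trans (isConj_of_not_commute h.1 hc hx hh))
    -- some member of the other classes is not central in `H`
    obtain ⟨x, hxD, hdx, hxne⟩ : ∃ x, ∃ hx : x ∈ D, ∃ hdx : ¬ IsConj d x,
        (QuotientGroup.mk (⟨x, mem_perp_closure (hP x hx hdx).1⟩ :
          ↥(Subgroup.closure (perp D d))) : PerpQuot D d) ≠ 1 := by
      by_contra hh
      push Not at hh
      have hm : e ∈ Subgroup.center G := mem_center_of_forall h fun y hy => by
        by_cases hdy : IsConj d y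
        · by_contra hc'
          exact hde (hdy.trans (isConj_of_not_commute h.1 he hy hc').symm)
        · exact hcentral e (hP e he hde).1 _ (hh e he hde) y (hP y hy hdy).1
      rw [hZ, Subgroup.mem_bot] at hm
      exact ne_one h.1 he hm
    set L := Subgroup.closure (perp D d ∩ perp D c) with hLdef
    set H := Subgroup.closure (perp D d) with hHdef
    have hLH : L ≤ H := Subgroup.closure_mono Set.inter_subset_left
    set f : ↥L →* PerpQuot D d := (QuotientGroup.mk' (Subgroup.center ↥H)).comp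
      (Subgroup.inclusion hLH) with hf
    have hsurj : Function.Surjective f := by
      rw [← MonoidHom.range_eq_top, eq_top_iff, ← hN.isGroup.2.2, Subgroup.closure_le]
      intro p hp
      obtain ⟨q, hq⟩ := isConj_iff.mp (hN.single _ ⟨⟨_, (hP x hxD hdx).1, rfl⟩, hxne⟩ p hp)
      induction q using QuotientGroup.induction_on with
      | H u =>
        rw [← QuotientGroup.mk_inv, ← QuotientGroup.mk_mul, ← QuotientGroup.mk_mul] at hq
        have h1 : (u : G) * x * (u : G)⁻¹ ∈ L := by
          refine Subgroup.subset_closure (hP _ (h.2.1 u x hxD) fun hh => hdx (hh.trans ?_))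
          exact isConj_iff.mpr ⟨(u : G)⁻¹, by group⟩
        exact ⟨⟨_, h1⟩, hq⟩
    have hker : f.ker = Subgroup.center ↥L := by
      ext z
      rw [MonoidHom.mem_ker, hf, MonoidHom.comp_apply, QuotientGroup.mk'_apply,
        QuotientGroup.eq_one_iff, Subgroup.mem_center_iff, Subgroup.mem_center_iff]
      refine ⟨fun hz w => Subtype.ext ?_, fun hz u => Subtype.ext ?_⟩
      · have := congrArg Subtype.val (hz (Subgroup.inclusion hLH w))
        simpa using this
      · obtain ⟨w, hw⟩ := hsurj (QuotientGroup.mk u)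
        have h1 : (Subgroup.inclusion hLH w)⁻¹ * u ∈ Subgroup.center ↥H := QuotientGroup.eq.mp hw
        have h2 := congrArg Subtype.val (Subgroup.mem_center_iff.mp h1 (Subgroup.inclusion hLH z))
        have h3 := congrArg Subtype.val (hz w)
        simp only [Subgroup.coe_mul, Subgroup.coe_inv, Subgroup.coe_inclusion] at h2 h3 ⊢
        calc (u : G) * z = (w : G) * (((w : G)⁻¹ * u) * z) := by group
          _ = (w : G) * ((z : G) * ((w : G)⁻¹ * u)) := by rw [h2]
          _ = ((w : G) * z) * ((w : G)⁻¹ * u) := by group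
          _ = ((z : G) * w) * ((w : G)⁻¹ * u) := by rw [h3]
          _ = z * u := by group
    apply hL
    have he' := QuotientGroup.quotientKerEquivOfSurjective f hsurj
    have hcard : Nat.card (↥L ⧸ f.ker) = Nat.card (PerpQuot D d) := Nat.card_congr he'.toEquiv
    rw [← Subgroup.index, hker, Subgroup.index] at hcard
    exact hcard ▸ hN.dvd
  have hsc : ∀ a ∈ D, ∀ b ∈ D, IsConj a b := fun a ha b hb => (hsd a ha).symm.trans (hsd b hb)
  -- no central member
  have hnc : NoCentralPerp D d := by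
    intro x hx
    by_contra hxc
    push Not at hxc
    -- `d` and `x` are twins
    obtain ⟨g, hg⟩ := isConj_iff.mp (hsd x hx.1)
    have hsub : {z | z ∈ D ∧ Commute z d} ⊆ {z | z ∈ D ∧ Commute z x} := by
      rintro z ⟨hz, hzd⟩
      refine ⟨hz, ?_⟩
      by_cases he : z = d
      · exact he ▸ hx.2.2
      · exact (hxc z ⟨hz, he, hzd.symm⟩).symm
    have hle : {z | z ∈ D ∧ Commute z x}.ncard ≤ {z | z ∈ D ∧ Commute z d}.ncard := by
      rw [← Set.ncard_image_of_injective {z | z ∈ D ∧ Commute z d} (MulAut.conj g).injective]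
      refine Set.ncard_le_ncard (fun z hz => ⟨g⁻¹ * z * g, ⟨?_, ?_⟩, ?_⟩) (Set.toFinite _)
      · simpa using h.2.1 g⁻¹ z hz.1
      · rw [← commute_conj_iff' g, hg, show g * (g⁻¹ * z * g) * g⁻¹ = z from by group]
        exact hz.2
      · rw [MulAut.conj_apply]; group
    have heq := Set.eq_of_subset_of_ncard_le hsub hle (Set.toFinite _)
    have htw : Twin D d x := fun z hz => by simpa [hz] using Set.ext_iff.mp heq z
    -- then every member of `D_d` is central
    have hall : ∀ y ∈ perp D d, ∀ w ∈ perp D d, Commute y w := by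
      intro y hy w hw
      obtain ⟨k, hk⟩ := isConj_iff.mp (hsd y hy.1)
      have hyy : Twin D y (k * x * k⁻¹) := hk ▸ htw.conj h k
      have hne : k * x * k⁻¹ ≠ y := fun he => hx.2.1 (mul_left_cancel (mul_right_cancel (he.trans hk.symm)))
      have hy'D : k * x * k⁻¹ ∈ D := h.2.1 k x hx.1
      by_cases hy'd : k * x * k⁻¹ = d
      · rw [hy'd] at hyy
        exact ((hyy w hw.1).mpr hw.2.2.symm).symm
      have hy' : k * x * k⁻¹ ∈ perp D d := ⟨hy'D, hy'd, (hyy d hd).mp hy.2.2⟩
      by_contra hyw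
      have h1 : (QuotientGroup.mk (⟨y, mem_perp_closure hy⟩ : ↥(Subgroup.closure (perp D d))) :
          PerpQuot D d) ≠ 1 := fun he => hyw (hcentral y hy _ he w hw)
      have h2 : (QuotientGroup.mk (⟨_, mem_perp_closure hy'⟩ : ↥(Subgroup.closure (perp D d))) :
          PerpQuot D d) ≠ 1 := fun he =>
        hyw ((hyy w hw.1).mpr (hcentral _ hy' _ he w hw).symm).symm
      have h3 := hN.noTwins _ ⟨⟨_, hy, rfl⟩, h1⟩ _ ⟨⟨_, hy', rfl⟩, h2⟩ (by
        rintro _ ⟨⟨z, hz, rfl⟩, -⟩
        rw [commute_mk_iff h hz hy, commute_mk_iff h hz hy']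
        exact hyy z hz.1)
      exact hne (congrArg Subtype.val (mk_inj h (x := ⟨y, mem_perp_closure hy⟩)
        (y := ⟨_, mem_perp_closure hy'⟩) hy hy' h1 h3)).symm
    have htop : Subgroup.center ↥(Subgroup.closure (perp D d)) = ⊤ := by
      rw [eq_top_iff]
      intro u _
      refine mem_center_closure_iff.mpr fun y hy => ?_
      have hle : Subgroup.closure (perp D d) ≤ Subgroup.centralizer ({y} : Set G) :=
        (Subgroup.closure_le _).mpr fun w hw =>
          Subgroup.mem_centralizer_singleton_iff.mpr (hall w hw y hy).eq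
      exact Subgroup.mem_centralizer_singleton_iff.mp (hle u.2)
    have h1 : Nat.card (PerpQuot D d) = 1 := by
      rw [← Subgroup.index, htop, Subgroup.index_top]
    have := hN.dvd
    rw [h1] at this
    norm_num at this
  refine ⟨⟨h, hZ, hsc, noTwins_of_noCentralPerp h hsc hd hnc, ?_⟩, hnc⟩
  exact hN.dvd.trans ((Subgroup.card_quotient_dvd_card _).trans (Subgroup.card_subgroup_dvd_card _))

theorem not_dvd_card_projReflection {X : Type*} [Group X] {n : ℕ} (hn : n = 6 ∨ n = 7)
    {μ c : ZMod 3} (hX : IsProjReflectionGroupModThree X n μ c) : ¬ 2 ^ 15 ∣ Nat.card X := by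
  obtain ⟨Q, -, -, ⟨e⟩⟩ := hX
  intro hdvd
  rw [Nat.card_congr e.toEquiv] at hdvd
  have h1 := hdvd.trans ((Subgroup.card_quotient_dvd_card _).trans
    ((Subgroup.card_subgroup_dvd_card _).trans (Subgroup.card_subgroup_dvd_card _)))
  haveI : Fact (Nat.Prime 3) := ⟨Nat.prime_three⟩
  rw [Matrix.card_GL_field, ZMod.card] at h1
  rcases hn with rfl | rfl <;> simp [Fin.prod_univ_succ] at h1 <;> norm_num at h1

theorem closure_sdiff_one (s : Set G) : Subgroup.closure (s \ {1}) = Subgroup.closure s := by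
  refine le_antisymm (Subgroup.closure_mono Set.sdiff_subset) ((Subgroup.closure_le _).mpr ?_)
  intro x hx
  by_cases h1 : x = 1
  · rw [h1]; exact one_mem _
  · exact Subgroup.subset_closure ⟨hx, h1⟩

theorem isOfTypeM22_sdiff_one {E : Set G} (h22 : IsOfTypeM22 G E) : IsOfTypeM22 G (E \ {1}) := by
  obtain ⟨hZ, d, hd, c, hc, hcd, hH, hL⟩ := h22
  have hd1 : d ≠ 1 := fun he => hcd (he ▸ Commute.one_left c)
  have hc1 : c ≠ 1 := fun he => hcd (he ▸ Commute.one_right d)
  have e1 : {y : G | y ∈ E \ {1} ∧ y ≠ d ∧ Commute d y} = {y : G | y ∈ E ∧ y ≠ d ∧ Commute d y} \ {1} := by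
    ext y; simp; tauto
  have e2 : {y : G | y ∈ E \ {1} ∧ y ≠ d ∧ Commute d y} ∩ {y : G | y ∈ E \ {1} ∧ y ≠ c ∧ Commute c y}
      = ({y : G | y ∈ E ∧ y ≠ d ∧ Commute d y} ∩ {y : G | y ∈ E ∧ y ≠ c ∧ Commute c y}) \ {1} := by
    ext y; simp; tauto
  refine ⟨hZ, d, ⟨hd, hd1⟩, c, ⟨hc, hc1⟩, hcd, ?_, ?_⟩
  · have key : ∀ S T : Subgroup G, S = T →
        (∃ (F : Type) (_ : Field F) (_ : Fintype F), Fintype.card F = 4 ∧
          Nonempty (↥S ⧸ Subgroup.center ↥S ≃* PSU 6 F 2)) →
        ∃ (F : Type) (_ : Field F) (_ : Fintype F), Fintype.card F = 4 ∧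
          Nonempty (↥T ⧸ Subgroup.center ↥T ≃* PSU 6 F 2) := by
      rintro S T rfl hh; exact hh
    exact key _ _ (by rw [e1, closure_sdiff_one]) hH
  · have key : ∀ S T : Subgroup G, S = T →
        (∃ c₃ : ZMod 3, c₃ ≠ 0 ∧ IsProjReflectionGroupModThree (↥S ⧸ Subgroup.center ↥S) 6 1 c₃) →
        ∃ c₃ : ZMod 3, c₃ ≠ 0 ∧ IsProjReflectionGroupModThree (↥T ⧸ Subgroup.center ↥T) 6 1 c₃ := by
      rintro S T rfl hh; exact hh
    exact key _ _ (by rw [e2, closure_sdiff_one]) hL

theorem nice_of_isOfTypeM22 [Finite G] (hU : PSU62Facts) (h : IsThreeTranspositionGroup D)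
    (h22 : IsOfTypeM22 G D) :
    ∃ d ∈ D, Nice G D ∧ NoCentralPerp D d ∧ Nice (PerpQuot D d) (img D d) := by
  obtain ⟨hZ, d, hd, c, hc, hcd, ⟨F, iF, iFt, hF, ⟨e⟩⟩, c₃, -, hL⟩ := h22
  obtain ⟨hs, hdvd⟩ := @hU F iF iFt hF
  haveI := hs
  haveI : Nontrivial (PerpQuot D d) := e.toEquiv.nontrivial
  haveI : IsSimpleGroup (PerpQuot D d) := IsSimpleGroup.isSimpleGroup_of_surjective e.symm.toMonoidHom e.symm.surjective
  have hN : Nice (PerpQuot D d) (img D d) :=
    nice_of_simple (isThreeTranspositionGroup_img h d) (Nat.card_congr e.toEquiv ▸ hdvd)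
  obtain ⟨h1, h2⟩ := nice_step h hZ hd hc hcd hN (not_dvd_card_projReflection (Or.inl rfl) hL)
  exact ⟨d, hd, h1, h2, hN⟩

theorem nice_of_isOfTypeM23 [Finite G] (hU : PSU62Facts) (h : IsThreeTranspositionGroup D)
    (h23 : IsOfTypeM23 G D) :
    ∃ d ∈ D, Nice G D ∧ NoCentralPerp D d ∧ Nice (PerpQuot D d) (img D d) ∧
      IsOfTypeM22 (PerpQuot D d) (img D d) := by
  obtain ⟨hZ, d, hd, c, hc, hcd, h22, c₃, -, hL⟩ := h23
  have h22' : IsOfTypeM22 (PerpQuot D d) (img D d) := isOfTypeM22_sdiff_one h22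
  obtain ⟨-, -, hN, -, -⟩ := nice_of_isOfTypeM22 hU (isThreeTranspositionGroup_img h d) h22'
  obtain ⟨h1, h2⟩ := nice_step h hZ hd hc hcd hN (not_dvd_card_projReflection (Or.inr rfl) hL)
  exact ⟨d, hd, h1, h2, hN, h22'⟩

theorem noRel_five_of_M22 [Finite G] (hU : PSU62Facts) (h : IsThreeTranspositionGroup D)
    (h22 : IsOfTypeM22 G D) : NoRel D 5 := by
  obtain ⟨d, hd, hG, hnc, hN⟩ := nice_of_isOfTypeM22 hU h h22
  exact noRel_succ h hd (fun a ha => isConj_iff.mp (hG.single a ha d hd)) hnc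
    (noRel_four hN.isGroup.1 hN.noTwins)

theorem noRel_of_M23 [Finite G] (hU : PSU62Facts) (h : IsThreeTranspositionGroup D)
    (h23 : IsOfTypeM23 G D) : NoRel D 5 ∧ NoRel D 6 := by
  obtain ⟨d, hd, hG, hnc, hN, h22⟩ := nice_of_isOfTypeM23 hU h h23
  have hsc := fun a ha => isConj_iff.mp (hG.single a ha d hd)
  exact ⟨noRel_succ h hd hsc hnc (noRel_four hN.isGroup.1 hN.noTwins),
    noRel_succ h hd hsc hnc (noRel_five_of_M22 hU hN.isGroup h22)⟩

theorem noRel_six_of_M24 [Finite G] (hU : PSU62Facts) (h : IsThreeTranspositionGroup D)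
    (hp : IsPrimitiveUnderConj D) (h24 : IsOfTypeM24 G D) : NoRel D 6 := by
  obtain ⟨hZ, d, hd, c, -, -, h23, -⟩ := h24
  have hsc : ∀ a ∈ D, ∀ b ∈ D, IsConj a b := fun a ha b hb => isConj_iff.mpr (hp.1 a ha b hb)
  have hnc := noCentralPerp_of_noTwins h (noTwins_of_primitive h hZ hp) hsc hd
  have h23' : IsOfTypeM23 (PerpQuot D d) (img D d) := img_eq hnc ▸ h23
  exact noRel_succ h hd (fun a ha => isConj_iff.mp (hsc a ha d hd)) hnc
    (noRel_of_M23 hU (isThreeTranspositionGroup_img h d) h23').1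

/-- Three pairwise commuting members are determined by their product when there are no relations
of lengths four and six. -/
theorem triple_unique (h : IsThreeTranspositionSet D) (hpu : PairUnique D) (h6 : NoRel D 6)
    {a b c a' b' c' : G} (hD : ∀ x ∈ [a, b, c, a', b', c'], x ∈ D)
    (hab : a ≠ b) (hac : a ≠ c) (hbc : b ≠ c) (cab : Commute a b) (cac : Commute a c) (cbc : Commute b c)
    (hab' : a' ≠ b') (hac' : a' ≠ c') (hbc' : b' ≠ c') (cab' : Commute a' b') (cac' : Commute a' c')
    (cbc' : Commute b' c') (he : a * b * c = a' * b' * c') :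
    ∀ x : G, x ∈ [a, b, c] ↔ x ∈ [a', b', c'] := by
  have ha := hD a (by simp); have hb := hD b (by simp); have hc := hD c (by simp)
  have ha' := hD a' (by simp); have hb' := hD b' (by simp); have hc' := hD c' (by simp)
  -- each member commutes with each member of the other triple
  have hx : ∀ x ∈ [a, b, c], ∀ y ∈ [a', b', c'], Commute x y := by
    intro x hx
    have hxD : x ∈ D := hD x (List.mem_append_left [a', b', c'] hx)
    have h0 : Commute x (a' * b' * c') := by
      rw [← he]
      simp only [List.mem_cons, List.not_mem_nil, or_false] at hx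
      rcases hx with rfl | rfl | rfl
      · exact ((Commute.refl _).mul_right cab).mul_right cac
      · exact (cab.symm.mul_right (Commute.refl _)).mul_right cbc
      · exact (cac.symm.mul_right cbc.symm).mul_right (Commute.refl _)
    intro y hy
    simp only [List.mem_cons, List.not_mem_nil, or_false] at hy
    rcases hy with h' | h' | h' <;> rw [h']
    · exact commute_of_commute_mul3 h ha' hb' hc' hxD cab' cac' cbc' hab' hac' hbc' h0
    · refine commute_of_commute_mul3 h hb' ha' hc' hxD cab'.symm cbc' cac' hab'.symm hbc' hac' ?_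
      rwa [cab'.symm.eq]
    · refine commute_of_commute_mul3 h hc' ha' hb' hxD cac'.symm cbc'.symm cab' hac'.symm
        hbc'.symm hab' ?_
      have e3 : c' * a' * b' = a' * b' * c' := by
        rw [mul_assoc]; exact (cac'.symm.mul_right cbc'.symm).eq
      exact e3.symm ▸ h0
  -- if a member is shared, pair uniqueness applies
  have shared : ∀ u v w u' v' : G, v ∈ D → w ∈ D → u' ∈ D → v' ∈ D → v ≠ w → Commute v w → u' ≠ v' →
      Commute u' v' → v * w = u' * v' → ∀ x, (x = u ∨ x = v ∨ x = w) ↔ (x = u ∨ x = u' ∨ x = v') := by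
    intro u v w u' v' hv hw hu' hv' n1 c1 n2 c2 e x
    rcases hpu v hv w hw u' hu' v' hv' n1 c1 n2 c2 e with ⟨rfl, rfl⟩ | ⟨rfl, rfl⟩ <;> tauto
  by_cases hov : ∃ x ∈ [a, b, c], x ∈ [a', b', c']
  · obtain ⟨x, hx1, hx2⟩ := hov
    simp only [List.mem_cons, List.not_mem_nil, or_false] at hx1 hx2 ⊢
    -- bring the shared member to the front on both sides
    obtain ⟨v, w, hv, hw, n1, c1, e1, m1⟩ : ∃ v w, v ∈ D ∧ w ∈ D ∧ v ≠ w ∧ Commute v w ∧
        a * b * c = x * (v * w) ∧ ∀ y, (y = a ∨ y = b ∨ y = c) ↔ (y = x ∨ y = v ∨ y = w) := by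
      rcases hx1 with rfl | rfl | rfl
      · exact ⟨b, c, hb, hc, hbc, cbc, mul_assoc _ _ _, fun y => Iff.rfl⟩
      · exact ⟨a, c, ha, hc, hac, cac, by rw [← mul_assoc, cab.eq], fun y => by tauto⟩
      · exact ⟨a, b, ha, hb, hab, cab, ((cac.symm.mul_right cbc.symm).eq).symm, fun y => by tauto⟩
    obtain ⟨v', w', hv', hw', n2, c2, e2, m2⟩ : ∃ v w, v ∈ D ∧ w ∈ D ∧ v ≠ w ∧ Commute v w ∧
        a' * b' * c' = x * (v * w) ∧ ∀ y, (y = a' ∨ y = b' ∨ y = c') ↔ (y = x ∨ y = v ∨ y = w) := by
      rcases hx2 with rfl | rfl | rfl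
      · exact ⟨b', c', hb', hc', hbc', cbc', mul_assoc _ _ _, fun y => Iff.rfl⟩
      · exact ⟨a', c', ha', hc', hac', cac', by rw [← mul_assoc, cab'.eq], fun y => by tauto⟩
      · exact ⟨a', b', ha', hb', hab', cab', ((cac'.symm.mul_right cbc'.symm).eq).symm, fun y => by tauto⟩
    intro y
    rw [m1, m2]
    exact shared x v w v' w' hv hw hv' hw' n1 c1 n2 c2
      (mul_left_cancel (e1.symm.trans (he.trans e2))) y
  · exfalso
    push Not at hov
    apply h6 [a, b, c, c', b', a']
    · simp only [List.mem_cons, List.not_mem_nil, or_false] at hov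
      simp only [List.nodup_cons, List.mem_cons, List.not_mem_nil, or_false, not_or,
        List.nodup_nil, and_true]
      refine ⟨⟨hab, hac, ?_, ?_, ?_⟩, ⟨hbc, ?_, ?_, ?_⟩, ⟨?_, ?_, ?_⟩, ⟨hbc'.symm, hac'.symm⟩,
        hab'.symm, not_false⟩ <;> intro hh <;> first
        | exact hov a (Or.inl rfl) (by simp [hh])
        | exact hov b (Or.inr (Or.inl rfl)) (by simp [hh])
        | exact hov c (Or.inr (Or.inr rfl)) (by simp [hh])
    · rfl
    · intro x hx; apply hD; simp at hx ⊢; tauto
    · intro x hx1 y hy1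
      simp only [List.mem_cons, List.not_mem_nil, or_false] at hx1 hy1 hx
      rcases hx1 with rfl | rfl | rfl | rfl | rfl | rfl <;>
        rcases hy1 with rfl | rfl | rfl | rfl | rfl | rfl <;>
        first
          | exact Commute.refl _
          | assumption
          | exact Commute.symm (by assumption)
          | exact hx _ (by simp) _ (by simp)
          | exact Commute.symm (hx _ (by simp) _ (by simp))
    · simp only [List.prod_cons, List.prod_nil, mul_one, ← mul_assoc]
      rw [he]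
      simp [mul_assoc, mul_self_cancel h hc', mul_self_cancel h hb', mul_self h ha']

end CfsgLib.FischerTypes
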