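import Cfsg.Agent.S0280
import Cfsg.Agent.Forms4.UnitarySimple
import Cfsg.Agent.FischerTypes.Types

/-!
# The facts about `PSU(6,2)`
-/

namespace CfsgLib.FischerTypes

theorem psu62Facts : PSU62Facts := by
  intro F _ _ hF
  refine ⟨CfsgLib.Forms4.isSimpleGroup_PSU (by rw [hF]; norm_num) 6 (by norm_num) (by norm_num), ?_⟩
  have h := Cfsg.Agent.S0280.result (F := F) (q := 2) (by rw [hF]; norm_num) 6 (by norm_num)
  have hc : Nat.Coprime (2 ^ 15) (Nat.gcd 6 (2 + 1) * (2 + 1)) := by decide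
  refine hc.dvd_of_dvd_mul_left ?_
  rw [mul_assoc, h]
  exact dvd_mul_right _ _

end CfsgLib.FischerTypes
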