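import Cfsg.Agent.FischerTypes.M23Mu

/-!
# The neighbourhood of a member in type M(24)

For every member `d`, `⟨D_d⟩` modulo its centre with the images of `D_d` is of type M(23).
-/

set_option autoImplicit false
set_option linter.style.haveILetI false
set_option maxHeartbeats 400000

namespace CfsgLib.FischerTypes

open Cfsg

variable {G : Type*} [Group G] {D : Set G}

/-- The isomorphism of generated subgroups induced by an isomorphism of groups. -/
theorem exists_closureEquiv {H : Type*} [Group H] (ψ : G ≃* H) {S : Set G} {T : Set H}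
    (hST : ∀ x, x ∈ S ↔ ψ x ∈ T) :
    ∃ θ : ↥(Subgroup.closure S) ≃* ↥(Subgroup.closure T), (∀ s, ((θ s : ↥(Subgroup.closure T)) : H) = ψ (s : G)) ∧
      (Subgroup.center ↥(Subgroup.closure S)).map θ.toMonoidHom = Subgroup.center ↥(Subgroup.closure T) := by
  have hmap : (Subgroup.closure S).map ψ.toMonoidHom = Subgroup.closure T := by
    rw [MonoidHom.map_closure]
    congr 1
    ext z
    constructor
    · rintro ⟨w, hw, rfl⟩; exact (hST w).1 hw
    · exact fun hz => ⟨ψ.symm z, (hST _).2 (by rwa [ψ.apply_symm_apply]), ψ.apply_symm_apply z⟩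
  let θ : ↥(Subgroup.closure S) ≃* ↥(Subgroup.closure T) :=
    (ψ.subgroupMap _).trans (MulEquiv.subgroupCongr hmap)
  refine ⟨θ, fun s => rfl, ?_⟩
  ext w
  simp only [Subgroup.mem_map, Subgroup.mem_center_iff]
  constructor
  · rintro ⟨y, hy, rfl⟩ k
    obtain ⟨k, rfl⟩ := θ.surjective k
    exact (map_mul θ k y).symm.trans ((congrArg θ (hy k)).trans (map_mul θ y k))
  · exact fun hw => ⟨θ.symm w, fun k => θ.injective (by simpa using hw (θ k)), by simp⟩

/-- Type M(23) is preserved by an isomorphism carrying one set to the other. -/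
theorem isOfTypeM23_equiv {H : Type*} [Group H] {E : Set H} (ψ : G ≃* H) (hψ : ∀ x, x ∈ D ↔ ψ x ∈ E)
    (h23 : IsOfTypeM23 G D) : IsOfTypeM23 H E := by
  obtain ⟨hZ, d, hd, c, hc, hdc, hU, cc, hcc, ⟨Q, hQ, hdet, ⟨e'⟩⟩⟩ := h23
  have hperp : ∀ u x, x ∈ perp D u ↔ ψ x ∈ perp E (ψ u) := fun u x => by
    constructor
    · exact fun hx => ⟨(hψ x).1 hx.1, fun h0 => hx.2.1 (ψ.injective h0), hx.2.2.map ψ.toMonoidHom⟩
    · exact fun hx => ⟨(hψ x).2 hx.1, fun h0 => hx.2.1 (congrArg ψ h0),
        by simpa using hx.2.2.map ψ.symm.toMonoidHom⟩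
  refine ⟨?_, ψ d, (hψ d).1 hd, ψ c, (hψ c).1 hc,
    fun h0 => hdc (by simpa using h0.map ψ.symm.toMonoidHom), ?_, cc, hcc, ?_⟩
  · rw [eq_bot_iff]
    intro z hz
    have h1 : ψ.symm z ∈ Subgroup.center G := Subgroup.mem_center_iff.2 fun g => by
      have := congrArg ψ.symm (Subgroup.mem_center_iff.1 hz (ψ g))
      simpa using this
    rw [hZ, Subgroup.mem_bot] at h1
    rw [Subgroup.mem_bot, ← ψ.apply_symm_apply z, h1, map_one]
  · obtain ⟨θ, hθ, hθc⟩ := exists_closureEquiv ψ (hperp d)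
    refine isOfTypeM22_equiv (QuotientGroup.congr _ _ θ hθc) (fun p => ?_) hU
    constructor
    · rintro ⟨x, hx, rfl⟩
      refine ⟨θ x, ?_, rfl⟩
      show ((θ x : ↥(Subgroup.closure (perp E (ψ d)))) : H) ∈ perp E (ψ d)
      rw [hθ]
      exact (hperp d _).1 hx
    · rintro ⟨y, hy, hye⟩
      refine ⟨θ.symm y, (hperp d _).2 ?_, (QuotientGroup.congr _ _ θ hθc).injective ?_⟩
      · rw [← hθ, θ.apply_symm_apply]; exact hy
      · rw [← hye]
        show (QuotientGroup.mk (θ (θ.symm y)) : PerpQuot E (ψ d)) = _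
        rw [θ.apply_symm_apply]
  · obtain ⟨θ, -, hθc⟩ := exists_closureEquiv ψ (S := perp D d ∩ perp D c) (T := perp E (ψ d) ∩ perp E (ψ c))
      (fun x => and_congr (hperp d x) (hperp c x))
    exact ⟨Q, hQ, hdet, ⟨(QuotientGroup.congr _ _ θ hθc).symm.trans e'⟩⟩

variable [Finite G]

namespace M24

/-- The standing hypotheses. -/
structure Hyp (G : Type*) [Group G] (D : Set G) : Prop where
  group : IsThreeTranspositionGroup D
  prim : IsPrimitiveUnderConj D
  type : IsOfTypeM24 G D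

/-- The neighbourhood of each member in type M(24). -/
theorem local_M23 (H : Hyp G D) {a : G} (ha : a ∈ D) :
    NoCentralPerp D a ∧ IsOfTypeM23 (PerpQuot D a) (img D a) := by
  have h := H.group
  obtain ⟨hZ, d, hd, c, -, -, h23, -⟩ := H.type
  have hsc : ∀ a ∈ D, ∀ b ∈ D, IsConj a b := fun a ha b hb => isConj_iff.mpr (H.prim.1 a ha b hb)
  have hnt := noTwins_of_primitive h hZ H.prim
  have hnca := noCentralPerp_of_noTwins h hnt hsc ha
  refine ⟨hnca, ?_⟩
  have hnc := noCentralPerp_of_noTwins h hnt hsc hd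
  have h23' : IsOfTypeM23 (PerpQuot D d) (img D d) := img_eq hnc ▸ h23
  obtain ⟨g, hg⟩ := H.prim.1 d hd a ha
  have hmem : ∀ x, x ∈ perp D d ↔ MulAut.conj g x ∈ perp D a := fun x => by
    rw [MulAut.conj_apply]
    constructor
    · intro hx
      refine ⟨h.2.1 g x hx.1, fun he => hx.2.1 ?_, ?_⟩
      · exact mul_left_cancel (mul_right_cancel (he.trans hg.symm))
      · rw [← hg, commute_conj_iff']; exact hx.2.2
    · intro hx
      refine ⟨by simpa [mul_assoc] using h.2.1 g⁻¹ _ hx.1, fun he => hx.2.1 (by rw [he, hg]), ?_⟩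
      rw [← commute_conj_iff' g, hg]; exact hx.2.2
  obtain ⟨θ, hθ, hθc⟩ := exists_closureEquiv (MulAut.conj g) hmem
  refine isOfTypeM23_equiv (QuotientGroup.congr _ _ θ hθc) (fun p => ?_) h23'
  constructor
  · rintro ⟨⟨x, hx, rfl⟩, -⟩
    refine mk_mem_img hnca (x := θ x) ?_
    rw [hθ]
    exact (hmem _).1 hx
  · intro hp
    obtain ⟨⟨y, hy, hye⟩, -⟩ := hp
    have : p = QuotientGroup.mk (θ.symm y) := (QuotientGroup.congr _ _ θ hθc).injective (by
      rw [← hye]
      show _ = (QuotientGroup.mk (θ (θ.symm y)) : PerpQuot D a)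
      rw [θ.apply_symm_apply])
    rw [this]
    refine mk_mem_img hnc (x := θ.symm y) ((hmem _).2 ?_)
    rw [← hθ, θ.apply_symm_apply]
    exact hy

variable (H : Hyp G D) {d : G} (hd : d ∈ D)

include H hd

theorem noCentral : NoCentralPerp D d := (local_M23 H hd).1

theorem quot : M23.Hyp (PerpQuot D d) (img D d) :=
  ⟨isThreeTranspositionGroup_img H.group d,
    isPrimitive_of_M23 (isThreeTranspositionGroup_img H.group d) (local_M23 H hd).2, (local_M23 H hd).2⟩

theorem bar_mem {x : G} (hx : x ∈ perp D d) : bar hx ∈ img D d :=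
  mk_mem_img (noCentral H hd) (x := ⟨x, mem_perp_closure hx⟩) hx

theorem bar_inj {x y : G} (hx : x ∈ perp D d) (hy : y ∈ perp D d) (he : bar hx = bar hy) : x = y :=
  congrArg Subtype.val (mk_inj H.group (x := ⟨x, mem_perp_closure hx⟩) (y := ⟨y, mem_perp_closure hy⟩)
    hx hy (mk_ne_one (noCentral H hd) hx) he)

omit hd [Finite G] in
theorem bar_commute {x y : G} (hx : x ∈ perp D d) (hy : y ∈ perp D d) :
    Commute (bar hx) (bar hy) ↔ Commute x y :=
  commute_mk_iff H.group (x := ⟨x, mem_perp_closure hx⟩) (y := ⟨y, mem_perp_closure hy⟩) hx hy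

theorem mem_perp_bar {x y : G} (hx : x ∈ perp D d) (hy : y ∈ perp D d) :
    bar hy ∈ perp (img D d) (bar hx) ↔ y ∈ perp D x := by
  constructor
  · exact fun hh => ⟨hy.1, fun h0 => hh.2.1 (by subst h0; rfl), (bar_commute H hx hy).1 hh.2.2⟩
  · exact fun hh => ⟨bar_mem H hd hy, fun h0 => hh.2.1 (bar_inj H hd hy hx h0),
      (bar_commute H hx hy).2 hh.2.2⟩

/-- A subset of `D_d` and its image have the same size. -/
theorem ncard_bar {S : Set G} {T : Set (PerpQuot D d)} (hS : S ⊆ perp D d) (hT : T ⊆ img D d)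
    (hST : ∀ x, ∀ hx : x ∈ perp D d, x ∈ S ↔ bar hx ∈ T) : S.ncard = T.ncard := by
  refine Set.ncard_congr (fun x hx => bar (hS hx)) (fun x hx => (hST x (hS hx)).1 hx)
    (fun x y hx hy he => bar_inj H hd (hS hx) (hS hy) he) fun p hp => ?_
  obtain ⟨x, hx, rfl⟩ := M23.exists_lift (hT hp)
  exact ⟨x, (hST x hx).2 hp, rfl⟩

theorem ncard_perp : (perp D d).ncard = (img D d).ncard :=
  ncard_bar H hd (S := perp D d) (T := img D d) subset_rfl subset_rfl
    (fun x hx => iff_of_true hx (bar_mem H hd hx))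

theorem ncard_perp_perp {x : G} (hx : x ∈ perp D d) : (perp D d ∩ perp D x).ncard = 3510 := by
  rw [ncard_bar H hd (S := perp D d ∩ perp D x) (T := perp (img D d) (bar hx)) Set.inter_subset_left
    (fun p hp => hp.1) (fun y hy => by rw [mem_perp_bar H hd hx hy]; exact and_iff_right hy)]
  exact M23.ncard_perp (quot H hd) (bar_mem H hd hx)

theorem ncard_perp_commute {x y : G} (hx : x ∈ perp D d) (hy : y ∈ perp D d) (hne : x ≠ y)
    (hc : Commute x y) : (perp D d ∩ (perp D x ∩ perp D y)).ncard = 693 := by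
  rw [ncard_bar H hd (S := perp D d ∩ (perp D x ∩ perp D y))
    (T := perp (img D d) (bar hx) ∩ perp (img D d) (bar hy)) Set.inter_subset_left (fun p hp => hp.1.1)
    (fun z hz => by
      rw [Set.mem_inter_iff, Set.mem_inter_iff, Set.mem_inter_iff, mem_perp_bar H hd hx hz,
        mem_perp_bar H hd hy hz]
      exact and_iff_right hz)]
  exact M23.ncard_perp_perp (quot H hd) (bar_mem H hd hx) ((mem_perp_bar H hd hx hy).2 ⟨hy.1, Ne.symm hne, hc⟩)

theorem ncard_perp_pair {x y : G} (hx : x ∈ perp D d) (hy : y ∈ perp D d) :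
    (perp D d ∩ (perp D x ∩ perp D y)).ncard =
      (perp (img D d) (bar hx) ∩ perp (img D d) (bar hy)).ncard :=
  ncard_bar H hd (S := perp D d ∩ (perp D x ∩ perp D y))
    (T := perp (img D d) (bar hx) ∩ perp (img D d) (bar hy)) Set.inter_subset_left (fun p hp => hp.1.1)
    (fun z hz => by
      rw [Set.mem_inter_iff, Set.mem_inter_iff, Set.mem_inter_iff, mem_perp_bar H hd hx hz,
        mem_perp_bar H hd hy hz]
      exact and_iff_right hz)

theorem exists_conj {x y : G} (hx : x ∈ perp D d) (hy : y ∈ perp D d) :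
    ∃ g ∈ Subgroup.closure (perp D d), g * x * g⁻¹ = y :=
  exists_conj_perp H.group (noCentral H hd)
    (fun p hp q hq => isConj_iff.2 ((quot H hd).prim.1 p hp q hq)) hx hy

/-- An element of `⟨D_d⟩` centralizing the neighbour `x` is, modulo the centre, in `⟨D_d ∩ D_x⟩`. -/
theorem exists_decomp {x z : G} (hx : x ∈ perp D d) (hz : z ∈ Subgroup.closure (perp D d))
    (hzx : Commute z x) : ∃ u ∈ Subgroup.closure (perp D d ∩ perp D x),
      ∀ y ∈ perp D d, Commute (u⁻¹ * z) y := by
  set π := QuotientGroup.mk' (Subgroup.center ↥(Subgroup.closure (perp D d))) with hπ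
  have h1 : π ⟨z, hz⟩ ∈ Subgroup.closure (perp (img D d) (bar hx)) := by
    rw [← M23.centralizer_eq (quot H hd).group (quot H hd) (bar_mem H hd hx),
      Subgroup.mem_centralizer_singleton_iff]
    exact ((show Commute (⟨z, hz⟩ : ↥(Subgroup.closure (perp D d))) ⟨x, mem_perp_closure hx⟩ from
      Subtype.ext hzx.eq).map π).eq
  set S := ((Subgroup.closure (perp D d ∩ perp D x)).comap (Subgroup.closure (perp D d)).subtype).map π
  have hle : Subgroup.closure (perp (img D d) (bar hx)) ≤ S := by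
    rw [Subgroup.closure_le]
    intro p hp
    obtain ⟨y, hy, rfl⟩ := M23.exists_lift hp.1
    exact ⟨⟨y, mem_perp_closure hy⟩,
      Subgroup.subset_closure (⟨hy, (mem_perp_bar H hd hx hy).1 hp⟩ : y ∈ perp D d ∩ perp D x), rfl⟩
  obtain ⟨⟨u, hu'⟩, hu, hue⟩ := hle h1
  exact ⟨u, hu, mem_center_closure_iff.1 (QuotientGroup.eq.1 hue)⟩

end M24

end CfsgLib.FischerTypes
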