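import Cfsg.Agent.Forms4.UnitarySimple

/-!
# Transvections of `SU(6,2)`

For `q = 2` there is one transvection `tv v` at each isotropic point. We record the relation between the five
transvections of a totally isotropic line, and that every involution is a product of commuting transvections.
-/

set_option autoImplicit false

namespace CfsgLib.U62

open Matrix CfsgLib.RepBounds.Unit
open scoped commutatorElement

variable {F : Type*} [Field F] [Fintype F] (C : ConjField F)

section field

theorem sigma_eq (hC : C.q = 2) (x : F) : C.σ x = x ^ 2 := by rw [C.pow, hC]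

theorem two_eq_zero (hC : C.q = 2) : (2 : F) = 0 := by
  have h := FiniteField.cast_card_eq_zero F
  rw [C.card, hC, Nat.cast_pow] at h
  exact eq_zero_of_pow_eq_zero h

theorem add_self (hC : C.q = 2) (x : F) : x + x = 0 := by
  rw [← two_mul, two_eq_zero C hC, zero_mul]

theorem vec_add_self (hC : C.q = 2) {ι : Type*} (x : ι → F) : x + x = 0 :=
  funext fun i => add_self C hC (x i)

theorem neg_eq (hC : C.q = 2) (x : F) : -x = x :=
  neg_eq_of_add_eq_zero_right (add_self C hC x)

theorem pow_three (hC : C.q = 2) {x : F} (hx : x ≠ 0) : x ^ 3 = 1 := by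
  have h := FiniteField.pow_card_sub_one_eq_one x hx
  rwa [C.card, hC] at h

theorem norm_eq_one (hC : C.q = 2) {x : F} (hx : x ≠ 0) : x * C.σ x = 1 := by
  rw [sigma_eq C hC, ← pow_three C hC hx]; ring

theorem one_mem_skew (hC : C.q = 2) : (1 : F) ∈ C.skew := by
  rw [C.mem_skew, map_one, add_self C hC]

theorem eq_one_of_fixed (hC : C.q = 2) {x : F} (h : C.σ x = x) (hx : x ≠ 0) : x = 1 := by
  rw [sigma_eq C hC, pow_two] at h
  exact mul_right_cancel₀ hx (h.trans (one_mul x).symm)

/-- There is a primitive cube root of unity. -/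
theorem exists_omega (hC : C.q = 2) : ∃ w : F, w ≠ 0 ∧ w ≠ 1 ∧ w ^ 2 + w + 1 = 0 := by
  classical
  obtain ⟨w, hw⟩ : ∃ w, w ∈ (({0, 1} : Finset F))ᶜ := by
    refine Finset.card_pos.mp ?_
    rw [Finset.card_compl, C.card, hC]
    have := Finset.card_le_two (a := (0 : F)) (b := 1)
    omega
  simp only [Finset.mem_compl, Finset.mem_insert, Finset.mem_singleton, not_or] at hw
  refine ⟨w, hw.1, hw.2, ?_⟩
  have h := pow_three C hC hw.1
  have h2 : (w - 1) * (w ^ 2 + w + 1) = 0 := by linear_combination h
  exact (mul_eq_zero.mp h2).resolve_left (sub_ne_zero.mpr hw.2)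

end field

section basic

variable {ι : Type*} [Fintype ι] [DecidableEq ι]

open Classical in
/-- The transvection at an isotropic vector, and `1` at other vectors. -/
noncomputable def tv (v : ι → F) : suG C ι :=
  if h : herm C v v = 0 ∧ (1 : F) ∈ C.skew then transvEl C v 1 h.1 h.2 else 1

variable (hC : C.q = 2)
include hC

theorem isTransv_tv {v : ι → F} (hv : herm C v v = 0) : IsTransv C (tv C v) v 1 := by
  rw [tv, dif_pos ⟨hv, one_mem_skew C hC⟩]
  exact isTransv_transvEl C v 1 hv _

theorem app_tv {v : ι → F} (hv : herm C v v = 0) (x : ι → F) :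
    app C (tv C v) x = x + herm C x v • v := by
  rw [isTransv_tv C hC hv x, one_mul]

theorem conj_tv (k : suG C ι) {v : ι → F} (hv : herm C v v = 0) :
    k * tv C v * k⁻¹ = tv C (app C k v) :=
  ((isTransv_tv C hC hv).conj C k).unique C (isTransv_tv C hC (by rw [herm_app, hv]))

theorem tv_mul_self {v : ι → F} (hv : herm C v v = 0) : tv C v * tv C v = 1 :=
  suG_ext C fun x => by
    rw [app_mul, app_tv C hC hv, app_tv C hC hv, herm_add_left, herm_smul_left, hv, mul_zero, add_zero,
      app_one, add_assoc, vec_add_self C hC, add_zero]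

theorem tv_smul {a : F} (ha : a ≠ 0) {v : ι → F} (hv : herm C v v = 0) : tv C (a • v) = tv C v := by
  refine (isTransv_tv C hC (by rw [herm_smul_left, herm_smul_right, hv, mul_zero, mul_zero])).unique C
    fun x => ?_
  rw [app_tv C hC hv, herm_smul_right, smul_smul, one_mul, mul_right_comm, mul_comm (C.σ a) a,
    norm_eq_one C hC ha, one_mul]

theorem commute_tv {v w : ι → F} (hv : herm C v v = 0) (hw : herm C w w = 0) (h : herm C w v = 0) :
    Commute (tv C v) (tv C w) := by
  have h1 := conj_tv C hC (tv C v) hw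
  rw [app_tv C hC hv, h, zero_smul, add_zero, mul_inv_eq_iff_eq_mul] at h1
  exact h1

theorem tv_ne_one {v : ι → F} (hv : herm C v v = 0) (hv0 : v ≠ 0) : tv C v ≠ 1 := fun h => by
  obtain ⟨y, hy⟩ := exists_herm_eq C hv0 1
  have h1 := app_tv C hC hv y
  rw [h, app_one, hy, one_smul] at h1
  exact hv0 (by simpa using h1)

/-- The five transvections at the points of an isotropic line have product one. -/
theorem tv_line {v q : ι → F} (hv : herm C v v = 0) (hq : herm C q q = 0) (hvq : herm C v q = 0)
    {w : F} (hw : w ^ 2 + w + 1 = 0) :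
    tv C v = tv C q * tv C (v + q) * tv C (v + w • q) * tv C (v + (w ^ 2) • q) := by
  have hqv : herm C q v = 0 := by rw [← conj_herm, hvq, map_zero]
  have h0 : ∀ a : F, herm C (v + a • q) (v + a • q) = 0 := fun a => by
    simp [herm_add_left, herm_add_right, herm_smul_left, herm_smul_right, hv, hq, hvq, hqv]
  have h1 : herm C (v + q) (v + q) = 0 := by simpa using h0 1
  refine suG_ext C fun x => ?_
  rw [app_mul, app_mul, app_mul, app_tv C hC hv, app_tv C hC (h0 _), app_tv C hC (h0 _), app_tv C hC h1,
    app_tv C hC hq]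
  simp only [herm_add_left, herm_add_right, herm_smul_left, herm_smul_right, hv, hq, hvq, hqv, sigma_eq C hC]
  match_scalars
  · simp
  · linear_combination (-herm C x v) * two_eq_zero C hC +
      (-herm C x q - herm C x q * w * (w - 1)) * hw
  · linear_combination (-2 * herm C x q) * two_eq_zero C hC +
      (-herm C x v - herm C x q * (w - 1) * (w ^ 3 + 2)) * hw

omit hC in
/-- `g + 1` is self-adjoint for an involution `g`. -/
theorem herm_moved {g : suG C ι} (hg : g * g = 1) (x y : ι → F) :
    herm C (app C g x + x) y = herm C x (app C g y + y) := by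
  have : g⁻¹ = g := inv_eq_of_mul_eq_one_right hg
  rw [herm_add_left, herm_add_right]
  congr 1
  conv_lhs => rw [← this, herm_app_left]

/-- Every involution is a product of transvections with centres in the image of `g + 1`. -/
theorem exists_list_tv (g : suG C ι) (hg : g * g = 1) :
    ∃ l : List (ι → F), (∀ v ∈ l, herm C v v = 0 ∧ v ≠ 0 ∧ ∃ u, v = app C g u + u) ∧
      g = (l.map (tv C)).prod := by
  classical
  induction' hn : Set.ncard {x | app C g x ≠ x} using Nat.strong_induction_on with n ih generalizing g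
  by_cases h1 : g = 1
  · exact ⟨[], by simp, by simp [h1]⟩
  obtain ⟨ω, -, hω1, hω⟩ := exists_omega C hC
  set N : (ι → F) → (ι → F) := fun x => app C g x + x with hN
  have hNN : ∀ x, N (N x) = 0 := fun x => by
    show app C g (app C g x + x) + (app C g x + x) = 0
    rw [app_add, ← app_mul, hg, app_one, add_comm x, vec_add_self C hC]
  have hfix : ∀ x, app C g x = x ↔ N x = 0 := fun x => by
    refine ⟨fun h => by show app C g x + x = 0; rw [h, vec_add_self C hC], fun h => ?_⟩
    have : app C g x + x + x = x := by rw [show app C g x + x = 0 from h, zero_add]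
    rwa [add_assoc, vec_add_self C hC, add_zero] at this
  have hNs : ∀ x y, herm C (N x) y = herm C x (N y) := herm_moved C hg
  obtain ⟨u, hu⟩ : ∃ u, herm C (N u) u ≠ 0 := by
    by_contra hall
    push Not at hall
    refine h1 (suG_ext C fun x => ?_)
    rw [app_one, hfix]
    by_contra hx
    obtain ⟨y, hy⟩ := exists_herm_eq C hx 1
    have hsym : ∀ a b, C.σ (herm C (N a) b) = herm C (N a) b := fun a b => by
      have h := hall (a + b)
      have e : N (a + b) = N a + N b := by
        show app C g (a + b) + (a + b) = (app C g a + a) + (app C g b + b)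
        rw [app_add]; abel
      rw [e, herm_add_left, herm_add_right, herm_add_right, hall, hall, zero_add, add_zero] at h
      rw [conj_herm, ← hNs, ← neg_eq C hC (herm C (N a) b)]
      exact eq_neg_of_add_eq_zero_right h
    have hy' : herm C (N x) y = 1 := by rw [← conj_herm, hy, map_one]
    have h := hsym x (ω • y)
    rw [herm_smul_right, hy', mul_one, C.invol] at h
    exact hω1 (eq_one_of_fixed C hC h.symm (fun h0 => by simp [h0] at hω))
  have hb : herm C (N u) u = 1 :=
    eq_one_of_fixed C hC (by rw [conj_herm, ← hNs]) hu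
  set v := N u with hv
  have hvv : herm C v v = 0 := by
    rw [hv, ← hNs, hNN, herm_zero_left]
  have hv0 : v ≠ 0 := fun h => hu (by rw [h, herm_zero_left])
  have hgv : app C g v = v := (hfix v).2 (hNN u)
  have hcm : g * tv C v = tv C v * g := by
    have := conj_tv C hC g hvv
    rwa [hgv, mul_inv_eq_iff_eq_mul] at this
  set g' := g * tv C v with hg'
  have hg2 : g' * g' = 1 := by
    rw [hg', mul_assoc, ← mul_assoc (tv C v) g, ← hcm, mul_assoc g, tv_mul_self C hC hvv, mul_one, hg]
  have happ : ∀ x, app C g' x = app C g x + herm C x v • v := fun x => by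
    rw [hg', app_mul, app_tv C hC hvv, app_add, app_smul, hgv]
  have hlt : Set.ncard {x | app C g' x ≠ x} < n := by
    rw [← hn]
    refine Set.ncard_lt_ncard ⟨fun x hx => ?_, fun hsub => ?_⟩ (Set.toFinite _)
    · intro hx'
      apply hx
      rw [happ, hx', hv, ← hNs, (hfix x).1 hx', herm_zero_left, zero_smul, add_zero]
    · have hu1 : app C g u ≠ u := fun h => hv0 ((hfix u).1 h)
      refine hsub hu1 ?_
      have : herm C u v = 1 := by rw [← conj_herm, hb, map_one]
      rw [happ, this, one_smul, hv]
      show app C g u + (app C g u + u) = u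
      rw [← add_assoc, vec_add_self C hC, zero_add]
  obtain ⟨l, hl, hl'⟩ := ih _ hlt g' hg2 rfl
  refine ⟨l ++ [v], fun a ha => ?_, ?_⟩
  · rcases List.mem_append.mp ha with ha | ha
    · obtain ⟨h2, h3, y, hy⟩ := hl a ha
      refine ⟨h2, h3, y + herm C y v • u, ?_⟩
      rw [hy, happ, app_add, app_smul, hv]
      show _ = app C g y + herm C y (N u) • app C g u + (y + herm C y (N u) • u)
      simp only [hN]
      module
    · rw [List.mem_singleton.mp ha]
      exact ⟨hvv, hv0, u, rfl⟩
  · rw [List.map_append, List.prod_append, ← hl']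
    simp [hg', mul_assoc, tv_mul_self C hC hvv]

/-- Centres in the image of `g + 1` are orthogonal. -/
theorem herm_image {g : suG C ι} (hg : g * g = 1) (a b : ι → F) :
    herm C (app C g a + a) (app C g b + b) = 0 := by
  rw [herm_moved C hg, app_add, ← app_mul, hg, app_one, add_comm b, vec_add_self C hC, herm_zero_right]

end basic

section six

/-- Coordinates for the six-dimensional space. -/
abbrev I6 := Fin 2 ⊕ (Fin 2 ⊕ Fin 2)

local notation "ee" => vE C (Fin 2 ⊕ Fin 2)

variable (hC : C.q = 2)
include hC

omit hC in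
/-- `SU(6,2)` is transitive on isotropic vectors. -/
theorem exists_map_eq {v : I6 → F} (hv : herm C v v = 0) (hv0 : v ≠ 0) :
    ∃ g : suG C I6, app C g v = ee := by
  obtain ⟨t, -, ht⟩ := exists_to_vE C hv hv0
  exact ⟨t, ht⟩

/-- The stabiliser of the vector `e`. -/
def stabE : Subgroup (suG C I6) where
  carrier := {g | app C g ee = ee}
  one_mem' := app_one C _
  mul_mem' {a b} ha hb := by
    show app C (a * b) _ = _
    rw [app_mul, hb, ha]
  inv_mem' {a} ha := by
    show app C a⁻¹ _ = _
    conv_lhs => rw [← ha, app_inv_app]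

omit hC in
theorem mem_stabE {g : suG C I6} : g ∈ stabE C ↔ app C g ee = ee := Iff.rfl

/-- A transvection orthogonal to `e` lies in the derived group of the stabiliser of `e`, or equals `tv e`. -/
theorem tv_mem_derived {q : I6 → F} (hq : herm C q q = 0) (hq0 : q ≠ 0) (hqe : herm C q ee = 0) :
    tv C q ∈ ⁅stabE C, stabE C⁆ ∨ tv C q = tv C ee := by
  have hd := decomp C q
  rw [hqe, zero_smul, add_zero] at hd
  set a := herm C q (vF C (Fin 2 ⊕ Fin 2)) with ha
  set w := q ∘ Sum.inr with hw
  by_cases hw0 : w = 0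
  · right
    rw [hw0, inW_zero, add_zero] at hd
    have ha0 : a ≠ 0 := fun h => hq0 (by rw [hd, h, zero_smul])
    rw [hd, tv_smul C hC ha0 (herm_vE_vE C)]
  left
  have hww : herm C w w = 0 := by
    rw [hd] at hq
    simpa [herm_add_left, herm_add_right, herm_smul_left, herm_smul_right, herm_vE_vE, herm_vE_inW,
      herm_inW_vE, herm_inW] using hq
  have hW : tv C (inW w) = blockHom C (Fin 2 ⊕ Fin 2) (tv C w) :=
    (isTransv_tv C hC (by rw [herm_inW, hww])).unique C ((isTransv_tv C hC hww).blockHom C)
  have hmem : tv C (inW w) ∈ ⁅stabE C, stabE C⁆ := by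
    rw [hW]
    have h1 : tv C w ∈ commutator (suG C (Fin 2 ⊕ Fin 2)) := by
      rw [CfsgLib.Forms4.commutator_suG_eq_top C (κ := Fin 2) (by simp)]
      exact Subgroup.mem_top _
    have h2 := Subgroup.mem_map_of_mem (blockHom C (Fin 2 ⊕ Fin 2)) h1
    rw [commutator_def, Subgroup.map_commutator] at h2
    refine Subgroup.commutator_mono ?_ ?_ h2 <;>
    · rintro _ ⟨x, -, rfl⟩
      rw [mem_stabE, app_blockHom]
      ext (i | i)
      · rfl
      · simp [vE, app, Function.comp_def, show (fun _ : Fin 2 ⊕ Fin 2 => (0 : F)) = 0 from rfl]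
  obtain ⟨w', hw'⟩ := exists_herm_eq C hw0 (C.σ (-a))
  have hww' : herm C w w' = -a := by rw [← conj_herm, hw', C.invol]
  have hc : -(herm C w' w' * tA C) + C.σ (-(herm C w' w' * tA C)) + herm C w' w' = 0 := by
    rw [map_neg, map_mul, herm_self_fixed]
    linear_combination (-herm C w' w') * tA_spec C
  set K : suG C I6 := uniEl C w' _ hc with hK
  have hKmem : K ∈ stabE C := app_uniEl_vE C w' _ hc
  have hKq : app C K (inW w) = q := by
    rw [hK, app_uniEl, herm_inW_vE, herm_inW, zero_smul, add_zero, hww', neg_smul, sub_neg_eq_add, add_comm]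
    exact hd.symm
  rw [← hKq, ← conj_tv C hC K (by rw [herm_inW, hww])]
  have hnorm : ∀ x ∈ ⁅stabE C, stabE C⁆, K * x * K⁻¹ ∈ ⁅stabE C, stabE C⁆ := by
    intro x hx
    rw [show K * x * K⁻¹ = ⁅K, x⁆ * x by rw [commutatorElement_def]; group]
    exact mul_mem (Subgroup.commutator_mem_commutator hKmem
      (Subgroup.commutator_le.mpr (fun a ha b hb => by
        rw [commutatorElement_def]
        exact mul_mem (mul_mem (mul_mem ha hb) (inv_mem ha)) (inv_mem hb)) hx)) hx
  exact hnorm _ hmem

omit hC in
/-- An isotropic vector orthogonal to `e` and not proportional to it. -/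
theorem exists_second : ∃ q : I6 → F, herm C q q = 0 ∧ herm C ee q = 0 ∧ ∀ a : F, q ≠ a • ee := by
  refine ⟨inW (vE C (Fin 2)), by rw [herm_inW, herm_vE_vE], herm_vE_inW C _, fun a h => ?_⟩
  have := congrArg (fun x => herm C x (inW (vF C (Fin 2)))) h
  simp [herm_inW, herm_vE_vF, herm_smul_left, herm_vE_inW] at this

/-- A central element has order dividing three. -/
theorem center_pow_three {z : suG C I6} (hz : z ∈ Subgroup.center (suG C I6)) : z ^ 3 = 1 := by
  have key : ∀ v, herm C v v = 0 → app C (z ^ 3) v = v := by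
    intro v hv
    by_cases hv0 : v = 0
    · rw [hv0]; simp [app]
    have h1 := conj_tv C hC z hv
    rw [← Subgroup.mem_center_iff.1 hz (tv C v), mul_inv_cancel_right] at h1
    obtain ⟨y, hy⟩ := exists_herm_eq C hv0 1
    have h2 := congrArg (fun g => app C g y) h1
    simp only [app_tv C hC hv, app_tv C hC (show herm C (app C z v) (app C z v) = 0 by rw [herm_app, hv]),
      add_right_inj, hy, one_smul] at h2
    set b := herm C y (app C z v)
    have hb0 : b ≠ 0 := fun h => hv0 (by rw [h2, h, zero_smul])
    have hzv : app C z v = b⁻¹ • v := by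
      conv_rhs => rw [h2, inv_smul_smul₀ hb0]
    rw [pow_succ, pow_two, app_mul, app_mul, hzv, app_smul, app_smul, hzv, app_smul, hzv, smul_smul,
      smul_smul, show b⁻¹ * b⁻¹ * b⁻¹ = b⁻¹ ^ 3 by ring, pow_three C hC (inv_ne_zero hb0), one_smul]
  obtain ⟨ω, hω0, hω1, -⟩ := exists_omega C hC
  refine suG_ext C fun x => ?_
  rw [app_one]
  have hsingle : ∀ j, app C (z ^ 3) (Pi.single j 1) = Pi.single j 1 := by
    intro j
    have : Nontrivial I6 := ⟨⟨Sum.inl 0, Sum.inl 1, by simp⟩⟩
    obtain ⟨i, hij⟩ := exists_ne j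
    have hiso : ∀ a : F, a ≠ 0 → herm C (Pi.single i 1 + a • Pi.single j 1)
        (Pi.single i 1 + a • Pi.single j 1) = 0 := by
      intro a ha
      simp only [herm_add_left, herm_add_right, herm_smul_left, herm_smul_right]
      simp [herm, Pi.single_apply, hij, hij.symm]
      linear_combination norm_eq_one C hC ha + two_eq_zero C hC
    have h1 := key _ (hiso 1 one_ne_zero)
    have h2 := key _ (hiso ω hω0)
    rw [app_add, app_smul, one_smul, one_smul] at h1
    rw [app_add, app_smul] at h2
    have h3 : (ω - 1) • app C (z ^ 3) (Pi.single j 1) = (ω - 1) • Pi.single j 1 := by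
      have := congrArg₂ (· - ·) h2 h1
      simp only [add_sub_add_left_eq_sub] at this
      rw [sub_smul, sub_smul, one_smul, one_smul]
      exact this
    exact smul_right_injective _ (sub_ne_zero.mpr hω1) h3
  conv_lhs => rw [pi_eq_sum_univ' x]
  conv_rhs => rw [pi_eq_sum_univ' x]
  show _ *ᵥ _ = _
  rw [Matrix.mulVec_sum]
  refine Finset.sum_congr rfl fun j _ => ?_
  rw [Matrix.mulVec_smul]
  exact congrArg _ (hsingle j)

/-- An element with central square differs from an involution by a central element. -/
theorem exists_involution_lift {g : suG C I6} (hg : g * g ∈ Subgroup.center (suG C I6)) :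
    ∃ h, h * h = 1 ∧ g⁻¹ * h ∈ Subgroup.center (suG C I6) := by
  refine ⟨g * (g * g), ?_, by simpa using hg⟩
  have hc : Commute g (g * g) := (Commute.refl g).mul_right (Commute.refl g)
  rw [← center_pow_three C hC hg]
  simp only [pow_succ, pow_zero, one_mul, mul_assoc]

end six

section model

/-- Renaming coordinates, as an isomorphism. -/
noncomputable def reindexEquiv {ι κ : Type*} [Fintype ι] [DecidableEq ι] [Fintype κ] [DecidableEq κ]
    (e : ι ≃ κ) : suG C ι ≃* suG C κ :=
  MonoidHom.toMulEquiv (reindexHom C e) (reindexHom C e.symm)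
    (MonoidHom.ext fun g => suG_ext C fun x => by
      rw [MonoidHom.comp_apply, app_reindexHom, app_reindexHom]; simp [Function.comp_def])
    (MonoidHom.ext fun g => suG_ext C fun x => by
      rw [MonoidHom.comp_apply, app_reindexHom, app_reindexHom]; simp [Function.comp_def])

end model

/-- `PSU(6,2)` as a quotient of the model. -/
theorem exists_model (K : Type*) [Field K] [Fintype K] (hK : Fintype.card K = 4) :
    ∃ (C : ConjField K) (_ : C.q = 2) (φ : suG C I6 →* Cfsg.PSU 6 K 2),
      Function.Surjective φ ∧ φ.ker = Subgroup.center (suG C I6) := by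
  obtain ⟨C, hC⟩ := exists_conjField (F := K) 2 (by rw [hK]; norm_num)
  refine ⟨C, hC, ?_⟩
  have hSU : suG C (Fin 6) = Cfsg.SU 6 K 2 := by rw [suG_fin_eq, hC]
  let e : suG C I6 ≃* Cfsg.SU 6 K 2 :=
    (reindexEquiv C (((Equiv.refl (Fin 2)).sumCongr finSumFinEquiv).trans finSumFinEquiv :
      I6 ≃ Fin 6)).trans (MulEquiv.subgroupCongr hSU)
  refine ⟨(QuotientGroup.mk' _).comp e.toMonoidHom,
    (QuotientGroup.mk'_surjective _).comp e.surjective, ?_⟩
  ext x
  rw [MonoidHom.mem_ker]
  show (QuotientGroup.mk (e x) : Cfsg.PSU 6 K 2) = 1 ↔ _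
  rw [QuotientGroup.eq_one_iff, Subgroup.mem_center_iff, Subgroup.mem_center_iff]
  exact ⟨fun h g => e.injective (by rw [map_mul, map_mul, h]), fun h g => by
    obtain ⟨g, rfl⟩ := e.surjective g
    rw [← map_mul, ← map_mul, h]⟩

end CfsgLib.U62
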