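import Cfsg.Agent.FischerTypes.U62Geometry
import Cfsg.Agent.Forms.HermitianCount

/-!
# Numbers of isotropic vectors in the unitary space of dimension six over four elements

`2079` non-zero isotropic vectors, `543` orthogonal to a given one, `135` orthogonal to two non-orthogonal
ones, `159` to two orthogonal ones.
-/

set_option autoImplicit false

namespace CfsgLib.U62

open Matrix CfsgLib.RepBounds.Unit

variable {F : Type*} [Field F] [Fintype F] (C : ConjField F)

variable (hC : C.q = 2)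
include hC

theorem card_iso_aux (n : ℕ) {ι : Type*} [Fintype ι] (hι : Fintype.card ι = n) :
    (Nat.card {v : ι → F // herm C v v = 0} : ℤ) * 2 = (2 : ℤ) ^ (2 * n) + (-2 : ℤ) ^ n := by
  classical
  have h := CfsgLib.Forms.card_sumNorm (F := F) (q := 2) (by rw [C.card, hC]) n 0 (by simp)
  let e : ι ≃ Fin n := Fintype.equivFinOfCardEq hι
  have hcard : Nat.card {v : ι → F // herm C v v = 0} =
      Nat.card {v : Fin n → F // ∑ i, v i ^ (2 + 1) = 0} := by
    refine Nat.card_congr ((e.arrowCongr (Equiv.refl F)).subtypeEquiv fun v => ?_)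
    have : herm C v v = ∑ i, (e.arrowCongr (Equiv.refl F) v) i ^ (2 + 1) := by
      rw [show (∑ i, (e.arrowCongr (Equiv.refl F) v) i ^ (2 + 1)) = ∑ i, v i ^ (2 + 1) from
        Fintype.sum_equiv e.symm _ _ fun i => rfl]
      refine Finset.sum_congr rfl fun i _ => ?_
      rw [sigma_eq C hC]; ring
    rw [this]
  rw [hcard]
  rw [if_pos rfl] at h
  push_cast at h
  linear_combination h

theorem card_iso_six : Nat.card {v : I6 → F // herm C v v = 0} = 2080 := by
  have h := card_iso_aux C hC 6 (ι := I6) (by simp)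
  norm_num at h
  omega

theorem card_iso_four : Nat.card {v : Fin 2 ⊕ Fin 2 → F // herm C v v = 0} = 136 := by
  have h := card_iso_aux C hC 4 (ι := Fin 2 ⊕ Fin 2) (by simp)
  norm_num at h
  omega

theorem card_iso_two : Nat.card {v : Fin 2 → F // herm C v v = 0} = 10 := by
  have h := card_iso_aux C hC 2 (ι := Fin 2) (by simp)
  norm_num at h
  omega

omit hC [Fintype F] in
theorem inW_comp {κ : Type*} (w : κ → F) : inW w ∘ Sum.inr = w := rfl

section split

variable {κ : Type*} [Fintype κ] [DecidableEq κ]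

omit hC [Fintype κ] [DecidableEq κ] in
theorem coord_inr (a : F) (w : κ → F) : (a • vE C κ + inW w) ∘ Sum.inr = w := by
  ext i; simp [inW, vE]

omit hC in
theorem coord_vF (a : F) (w : κ → F) : herm C (a • vE C κ + inW w) (vF C κ) = a := by
  simp [herm_add_left, herm_smul_left, herm_vE_vF, herm_inW_vF]

omit hC in
/-- Isotropic vectors orthogonal to `e`, in coordinates. -/
noncomputable def perpEquiv (P : (Fin 2 ⊕ κ → F) → Prop) (Q : (κ → F) → Prop)
    (hPQ : ∀ (a : F) (w : κ → F), P (a • vE C κ + inW w) ↔ Q w) :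
    {v : Fin 2 ⊕ κ → F // herm C v v = 0 ∧ herm C v (vE C κ) = 0 ∧ P v} ≃
      F × {w : κ → F // herm C w w = 0 ∧ Q w} := by
  have hd : ∀ v : Fin 2 ⊕ κ → F, herm C v (vE C κ) = 0 →
      v = herm C v (vF C κ) • vE C κ + inW (v ∘ Sum.inr) := fun v hv => by
    conv_lhs => rw [decomp C v, hv, zero_smul, add_zero]
  have hh : ∀ (a : F) (w : κ → F), herm C (a • vE C κ + inW w) (a • vE C κ + inW w) = herm C w w := fun a w => by
    simp [herm_add_left, herm_add_right, herm_smul_left, herm_smul_right, herm_vE_vE, herm_vE_inW,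
      herm_inW_vE, herm_inW]
  exact
    { toFun := fun v => (herm C v.1 (vF C κ), ⟨v.1 ∘ Sum.inr, by
        rw [← hh (herm C v.1 (vF C κ)), ← hd _ v.2.2.1]; exact v.2.1,
        (hPQ _ _).1 (by rw [← hd _ v.2.2.1]; exact v.2.2.2)⟩)
      invFun := fun p => ⟨p.1 • vE C κ + inW p.2.1, by rw [hh]; exact p.2.2.1,
        by simp [herm_add_left, herm_smul_left, herm_vE_vE, herm_inW_vE], (hPQ _ _).2 p.2.2.2⟩
      left_inv := fun v => Subtype.ext (hd _ v.2.2.1).symm
      right_inv := fun p => Prod.ext (coord_vF C p.1 p.2.1) (Subtype.ext (coord_inr C p.1 p.2.1)) }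

omit hC in
/-- Isotropic vectors orthogonal to `e` and `f`, in coordinates. -/
noncomputable def hypEquiv :
    {v : Fin 2 ⊕ κ → F // herm C v v = 0 ∧ herm C v (vE C κ) = 0 ∧ herm C v (vF C κ) = 0} ≃
      {w : κ → F // herm C w w = 0} := by
  have hd : ∀ v : Fin 2 ⊕ κ → F, herm C v (vE C κ) = 0 → herm C v (vF C κ) = 0 →
      v = inW (v ∘ Sum.inr) := fun v hv hv' => by
    conv_lhs => rw [decomp C v, hv, hv', zero_smul, zero_smul, zero_add, zero_add]
  exact
    { toFun := fun v => ⟨v.1 ∘ Sum.inr, by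
        rw [← herm_inW C, ← hd _ v.2.2.1 v.2.2.2]; exact v.2.1⟩
      invFun := fun w => ⟨inW w.1, by rw [herm_inW]; exact w.2, herm_inW_vE C _, herm_inW_vF C _⟩
      left_inv := fun v => Subtype.ext (hd _ v.2.2.1 v.2.2.2).symm
      right_inv := fun w => Subtype.ext (inW_comp w.1) }

end split

omit hC in
/-- Transport along an element of the group. -/
noncomputable def transportEquiv (g : suG C I6) (P Q : (I6 → F) → Prop)
    (h : ∀ v, P v ↔ Q (app C g v)) :
    {v : I6 → F // herm C v v = 0 ∧ P v} ≃ {v : I6 → F // herm C v v = 0 ∧ Q v} :=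
  ({ toFun := app C g, invFun := app C g⁻¹, left_inv := app_inv_app C g,
     right_inv := app_app_inv C g } : (I6 → F) ≃ (I6 → F)).subtypeEquiv fun v => by
    show _ ↔ herm C (app C g v) (app C g v) = 0 ∧ Q (app C g v)
    rw [herm_app, h]

/-- Isotropic vectors orthogonal to a given one. -/
theorem card_orth {u : I6 → F} (hu : herm C u u = 0) (hu0 : u ≠ 0) :
    Nat.card {v : I6 → F // herm C v v = 0 ∧ herm C v u = 0} = 544 := by
  obtain ⟨g, hg⟩ := exists_map_eq C hu hu0
  have e1 := transportEquiv C g (fun v => herm C v u = 0)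
    (fun v => herm C v (vE C (Fin 2 ⊕ Fin 2)) = 0 ∧ True)
    (fun v => by rw [← hg, herm_app]; exact (iff_of_eq (and_true _)).symm)
  have e2 := perpEquiv C (κ := Fin 2 ⊕ Fin 2) (fun _ => True) (fun _ => True) (fun _ _ => Iff.rfl)
  rw [Nat.card_congr (e1.trans e2), Nat.card_prod, Nat.card_eq_fintype_card, C.card, hC,
    Nat.card_congr (Equiv.subtypeEquivRight (p := fun w : Fin 2 ⊕ Fin 2 → F => herm C w w = 0 ∧ True)
      (q := fun w => herm C w w = 0) fun w => iff_of_eq (and_true _)), card_iso_four C hC]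
  rfl

/-- Isotropic vectors orthogonal to two non-orthogonal ones. -/
theorem card_orth_nonorth {u v : I6 → F} (hu : herm C u u = 0) (hv : herm C v v = 0) (hu0 : u ≠ 0)
    (hvu : herm C v u ≠ 0) :
    Nat.card {x : I6 → F // herm C x x = 0 ∧ herm C x u = 0 ∧ herm C x v = 0} = 136 := by
  obtain ⟨g, hg⟩ := exists_map_eq C hu hu0
  have hge : herm C (app C g v) (vE C (Fin 2 ⊕ Fin 2)) ≠ 0 := by rw [← hg, herm_app]; exact hvu
  obtain ⟨k, hk, hk'⟩ := CfsgLib.Forms4.exists_translate C (x := app C g v) (by rw [herm_app, hv]) hge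
  set m : suG C I6 := k⁻¹ * g with hm
  set b := herm C (app C g v) (vE C (Fin 2 ⊕ Fin 2))
  have hmu : app C m u = vE C (Fin 2 ⊕ Fin 2) := by
    rw [hm, app_mul, hg]
    conv_lhs => rw [← hk, app_inv_app]
  have hmv : app C m v = b • vF C (Fin 2 ⊕ Fin 2) := by
    rw [hm, app_mul, hk', app_smul, app_inv_app]
  have e1 := transportEquiv C m (fun x => herm C x u = 0 ∧ herm C x v = 0)
    (fun x => herm C x (vE C (Fin 2 ⊕ Fin 2)) = 0 ∧ herm C x (vF C (Fin 2 ⊕ Fin 2)) = 0)
    (fun x => by
      rw [← hmu, herm_app, ← herm_app C m x v, hmv, herm_smul_right, mul_eq_zero]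
      simp [(map_ne_zero C.σ).2 hge])
  rw [Nat.card_congr (e1.trans (hypEquiv C)), card_iso_four C hC]

/-- Isotropic vectors orthogonal to two orthogonal points. -/
theorem card_orth_orth {u v : I6 → F} (hu : herm C u u = 0) (hv : herm C v v = 0) (hu0 : u ≠ 0)
    (hvu : herm C v u = 0) (hne : ∀ a : F, v ≠ a • u) :
    Nat.card {x : I6 → F // herm C x x = 0 ∧ herm C x u = 0 ∧ herm C x v = 0} = 160 := by
  obtain ⟨g, hgu, hgv⟩ := exists_map_pair C hu hv hvu hu0 hne
  have e1 := transportEquiv C g (fun x => herm C x u = 0 ∧ herm C x v = 0)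
    (fun x => herm C x (vE C (Fin 2 ⊕ Fin 2)) = 0 ∧ herm C x (inW (vE C (Fin 2))) = 0)
    (fun x => by rw [← hgu, ← hgv, herm_app, herm_app])
  have e2 := perpEquiv C (κ := Fin 2 ⊕ Fin 2) (fun x => herm C x (inW (vE C (Fin 2))) = 0)
    (fun w => herm C w (vE C (Fin 2)) = 0) (fun a w => by
      simp [herm_add_left, herm_smul_left, herm_vE_inW, herm_inW])
  have e3 := perpEquiv C (κ := Fin 2) (fun _ => True) (fun _ => True) (fun _ _ => Iff.rfl)
  have e4 : {w : Fin 2 ⊕ Fin 2 → F // herm C w w = 0 ∧ herm C w (vE C (Fin 2)) = 0} ≃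
      F × {w : Fin 2 → F // herm C w w = 0} :=
    ((Equiv.subtypeEquivRight fun w => by simp).trans e3).trans
      (Equiv.prodCongr (Equiv.refl F) (Equiv.subtypeEquivRight fun w => iff_of_eq (and_true _)))
  rw [Nat.card_congr (e1.trans (e2.trans (Equiv.prodCongr (Equiv.refl F) e4))), Nat.card_prod,
    Nat.card_prod, Nat.card_eq_fintype_card, C.card, hC, card_iso_two C hC]
  rfl

end CfsgLib.U62
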