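import Cfsg.Agent.FischerTypes.U62Geometry

/-!
# Stabilisers of isotropic points of the unitary space of dimension six

The stabiliser of a point is generated modulo the centre by the transvections orthogonal to it; with one
further transvection these generate everything.
-/

set_option autoImplicit false

namespace CfsgLib.U62

open Matrix CfsgLib.RepBounds.Unit

variable {F : Type*} [Field F] [Fintype F] (C : ConjField F)

local notation "V6" => (I6 → F)
local notation "ee" => vE C (Fin 2 ⊕ Fin 2)
local notation "ff" => vF C (Fin 2 ⊕ Fin 2)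
local notation "ee2" => inW (vE C (Fin 2))
local notation "ff2" => inW (vF C (Fin 2))

variable (hC : C.q = 2)
include hC

/-- Scalar matrices of non-zero scalars are central elements. -/
theorem exists_scalar {μ : F} (hμ : μ ≠ 0) :
    ∃ z ∈ Subgroup.center (suG C I6), ∀ x, app C z x = μ • x := by
  classical
  have hdet : (μ • (1 : Matrix I6 I6 F)).det = 1 := by
    rw [Matrix.det_smul, Matrix.det_one, mul_one, show Fintype.card I6 = 3 * 2 by simp, pow_mul,
      pow_three C hC hμ, one_pow]
  refine ⟨⟨⟨_, hdet⟩, fun u v => ?_⟩, ?_⟩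
  · show herm C ((μ • (1 : Matrix I6 I6 F)) *ᵥ u) ((μ • (1 : Matrix I6 I6 F)) *ᵥ v) = _
    rw [Matrix.smul_mulVec, Matrix.smul_mulVec, Matrix.one_mulVec, Matrix.one_mulVec, herm_smul_left,
      herm_smul_right, ← mul_assoc, norm_eq_one C hC hμ, one_mul]
  · have h : ∀ x, app C (⟨⟨_, hdet⟩, fun u v => by
        show herm C ((μ • (1 : Matrix I6 I6 F)) *ᵥ u) ((μ • (1 : Matrix I6 I6 F)) *ᵥ v) = _
        rw [Matrix.smul_mulVec, Matrix.smul_mulVec, Matrix.one_mulVec, Matrix.one_mulVec, herm_smul_left,
          herm_smul_right, ← mul_assoc, norm_eq_one C hC hμ, one_mul]⟩ : suG C I6) x = μ • x := fun x => by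
      show (μ • (1 : Matrix I6 I6 F)) *ᵥ x = _
      rw [Matrix.smul_mulVec, Matrix.one_mulVec]
    exact ⟨mem_center_of_smul C h, h⟩

/-- The stabiliser of `e` is generated by transvections orthogonal to `e`, modulo the centre. -/
theorem mem_of_stab_vE (M : Subgroup (suG C I6)) (hcen : Subgroup.center (suG C I6) ≤ M)
    (hM : ∀ x, herm C x x = 0 → x ≠ 0 → herm C x ee = 0 → tv C x ∈ M)
    {g : suG C I6} {μ : F} (hg : app C g ee = μ • ee) : g ∈ M := by
  classical
  have he0 : (ee : V6) ≠ 0 := CfsgLib.Forms4.vE_ne_zero C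
  have hμ0 : μ ≠ 0 := fun h0 => he0 (by rw [← app_inv_app C g ee, hg, h0, zero_smul]; simp [app])
  obtain ⟨z, hz, hzs⟩ := exists_scalar C hC (inv_ne_zero hμ0)
  suffices h : z * g ∈ M by simpa using mul_mem (inv_mem (hcen hz)) h
  have hzg : app C (z * g) ee = ee := by rw [app_mul, hg, hzs, inv_smul_smul₀ hμ0]
  obtain ⟨w, c, hc, g', hg'⟩ := exists_eq_uniEl_mul C (z * g) hzg
  rw [hg']
  refine mul_mem ?_ ?_
  · -- the Heisenberg part
    set A : Set (Fin 2 ⊕ Fin 2 → F) := {w | ∀ c (hc : c + C.σ c + herm C w w = 0), uniEl C w c hc ∈ M}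
    have hcentral : ∀ c (hc : c + C.σ c + herm C (0 : Fin 2 ⊕ Fin 2 → F) 0 = 0),
        uniEl C 0 c hc ∈ M := by
      intro c hc
      have hc' : c ∈ C.skew := by rw [herm_zero_left, add_zero] at hc; exact hc
      by_cases hc0 : c = 0
      · rw [uniEl_congr C hc (by simp [herm_zero_left]) rfl hc0, uniEl_zero]; exact one_mem _
      · have hc1 : c = 1 := eq_one_of_fixed C hC (by rw [C.skew_eq hc', neg_eq C hC]) hc0
        subst hc1
        rw [(isTransv_central C hc').unique C (isTransv_tv C hC (herm_vE_vE C))]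
        exact hM _ (herm_vE_vE C) he0 (herm_vE_vE C)
    have hclosed : ∀ {w w'}, w ∈ A → w' ∈ A → w + w' ∈ A := by
      intro w w' hw hw' c hc
      have hv : ∀ u : Fin 2 ⊕ Fin 2 → F,
          -(herm C u u * tA C) + C.σ (-(herm C u u * tA C)) + herm C u u = 0 := fun u => by
        rw [map_neg, map_mul, herm_self_fixed]
        linear_combination (-herm C u u) * tA_spec C
      have h1 := mul_mem (hw _ (hv w)) (hw' _ (hv w'))
      rw [uniEl_mul] at h1
      set c₀ := -(herm C w w * tA C) + -(herm C w' w' * tA C) - herm C w' w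
      have hd : c - c₀ ∈ C.skew := by
        have h2 := uniEl_valid_mul C (hv w) (hv w')
        rw [C.mem_skew, map_sub]; linear_combination hc - h2
      have h3 := mul_mem h1 (hcentral (c - c₀) (skew_valid C hd))
      rw [uniEl_mul] at h3
      rwa [uniEl_congr C hc (uniEl_valid_mul C (uniEl_valid_mul C (hv w) (hv w')) (skew_valid C hd))
        (add_zero _).symm (by rw [herm_zero_left]; ring)]
    have hiso : ∀ w, herm C w w = 0 → w ∈ A := by
      intro w hw c hc
      by_cases hw0 : w = 0
      · subst hw0; exact hcentral c hc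
      have hc1 : (1 : F) + C.σ 1 + herm C w w = 0 := by rw [hw, add_zero]; exact one_mem_skew C hC
      have hv : herm C (ee + inW w) (ee + inW w) = 0 := by
        simp [herm_add_left, herm_add_right, herm_vE_vE, herm_vE_inW, herm_inW_vE, herm_inW, hw]
      have hw' : herm C (inW w) (inW w) = 0 := by rw [herm_inW, hw]
      have e1 : uniEl C w 1 hc1 = tv C (ee + inW w) * tv C (inW w) := suG_ext C fun x => by
        rw [app_mul, app_tv C hC hw', app_tv C hC hv, app_uniEl, herm_add_left, herm_smul_left,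
          herm_add_right C (inW w), herm_inW_vE, herm_inW, hw]
        simp only [herm_add_right]
        match_scalars <;> first
          | ring1
          | linear_combination (-herm C x (inW w)) * two_eq_zero C hC
      have hd : c - 1 ∈ C.skew := by rw [C.mem_skew, map_sub]; linear_combination hc - hc1
      have h3 := mul_mem (mul_mem
        (hM _ hv (fun h0 => hw0 (funext fun i => by simpa [inW, vE] using congrFun h0 (Sum.inr i)))
          (by simp [herm_add_left, herm_vE_vE, herm_inW_vE]))
        (hM _ hw' (fun h0 => hw0 (funext fun i => congrFun h0 (Sum.inr i))) (herm_inW_vE C w)))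
        (hcentral (c - 1) (skew_valid C hd))
      rw [← e1, uniEl_mul] at h3
      rwa [uniEl_congr C hc (uniEl_valid_mul C hc1 (skew_valid C hd)) (add_zero w).symm
        (by rw [herm_zero_left]; ring)]
    obtain ⟨ω, hω0, hω1, -⟩ := exists_omega C hC
    have hsingle : ∀ j a, (Pi.single j a : Fin 2 ⊕ Fin 2 → F) ∈ A := by
      intro j a
      have : Nontrivial (Fin 2 ⊕ Fin 2) := ⟨⟨Sum.inl 0, Sum.inl 1, by simp⟩⟩
      obtain ⟨i, hij⟩ := exists_ne j
      set t := a / (ω - 1) with ht
      have hiso' : ∀ b : F, b * C.σ b = 1 →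
          Pi.single i t + Pi.single j (b * t) ∈ A := fun b hb => hiso _ (by
        simp only [herm_add_left, herm_add_right]
        simp [herm, Pi.single_apply, hij, hij.symm]
        linear_combination (t * C.σ t) * hb + (t * C.σ t) * two_eq_zero C hC)
      have h := hclosed (hiso' ω (norm_eq_one C hC hω0)) (hiso' 1 (by rw [map_one, mul_one]))
      rwa [show (Pi.single i t + Pi.single j (ω * t)) + (Pi.single i t + Pi.single j (1 * t)) =
        (Pi.single j a : Fin 2 ⊕ Fin 2 → F) by
          rw [show (Pi.single i t + Pi.single j (ω * t)) + (Pi.single i t + Pi.single j (1 * t)) =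
            (Pi.single i t + Pi.single i t : Fin 2 ⊕ Fin 2 → F) + (Pi.single j (ω * t) + Pi.single j (1 * t))
              by abel, vec_add_self C hC, zero_add, ← Pi.single_add]
          congr 1
          rw [ht]
          field_simp [sub_ne_zero.2 hω1]
          linear_combination a * two_eq_zero C hC] at h
    have hall : ∀ (s : Finset (Fin 2 ⊕ Fin 2)) (w : Fin 2 ⊕ Fin 2 → F), ∑ j ∈ s, Pi.single j (w j) ∈ A := by
      intro s w
      induction s using Finset.induction_on with
      | empty => rw [Finset.sum_empty]; exact fun c hc => hcentral c hc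
      | insert j s hj ih => rw [Finset.sum_insert hj]; exact hclosed (hsingle _ _) ih
    have := hall Finset.univ w
    rw [Finset.univ_sum_single] at this
    exact this c hc
  · have hle : transvs C (Fin 2 ⊕ Fin 2) ≤ M.comap (blockHom C (Fin 2 ⊕ Fin 2)) := by
      rw [transvs, Subgroup.closure_le]
      rintro t ⟨v, c, hv, hc, ht⟩
      show blockHom C _ t ∈ M
      by_cases h0 : v = 0 ∨ c = 0
      · rw [show t = 1 from suG_ext C fun x => by
          rcases h0 with h | h <;> simp [ht x, h, app_one], map_one]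
        exact one_mem _
      push Not at h0
      have hc1 : c = 1 := eq_one_of_fixed C hC (by rw [C.skew_eq hc, neg_eq C hC]) h0.2
      rw [hc1] at ht
      rw [ht.blockHom.unique C (isTransv_tv C hC (by rw [herm_inW, hv]))]
      exact hM _ (by rw [herm_inW, hv]) (fun h => h0.1 (funext fun i => congrFun h (Sum.inr i)))
        (herm_inW_vE C v)
    exact hle (by rw [transvs_eq_top C (by simp)]; exact Subgroup.mem_top g')

/-- The stabiliser of a point is generated by transvections orthogonal to it, modulo the centre. -/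
theorem mem_of_stab (M : Subgroup (suG C I6)) (hcen : Subgroup.center (suG C I6) ≤ M) {v : V6}
    (hv : herm C v v = 0) (hv0 : v ≠ 0) (hM : ∀ x, herm C x x = 0 → x ≠ 0 → herm C x v = 0 → tv C x ∈ M)
    {g : suG C I6} {μ : F} (hg : app C g v = μ • v) : g ∈ M := by
  obtain ⟨k, hk⟩ := exists_map_eq C hv hv0
  have h := mem_of_stab_vE C hC (M.comap (MulAut.conj k⁻¹).toMonoidHom)
    (fun z hz => by
      show k⁻¹ * z * k⁻¹⁻¹ ∈ M
      rw [Subgroup.mem_center_iff.1 hz k⁻¹, mul_inv_cancel_right]
      exact hcen hz)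
    (fun x hx hx0 hxe => by
      show k⁻¹ * tv C x * k⁻¹⁻¹ ∈ M
      rw [conj_tv C hC _ hx]
      exact hM _ (by rw [herm_app, hx])
        (fun h0 => hx0 (by rw [← app_app_inv C k x, h0]; simp [app]))
        (by rw [herm_app_left, hk, hxe]))
    (g := k * g * k⁻¹) (μ := μ) (by rw [app_mul, app_mul, ← hk, app_inv_app, hg, app_smul])
  simpa [mul_assoc] using h

/-- A transvection orthogonal to `r` moving both of two other points of `r`'s perp. -/
theorem exists_transporter {v q r : V6} (hv : herm C v v = 0) (hr : herm C r r = 0)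
    (hv0 : v ≠ 0) (hrv : herm C r v = 0) (hqv : herm C q v = 0) (hqr : herm C q r = 0)
    (hr' : ∀ a : F, r ≠ a • v) (hqr' : ∀ a : F, q ≠ a • r) :
    ∃ s, herm C s s = 0 ∧ s ≠ 0 ∧ herm C s r = 0 ∧ herm C s v ≠ 0 ∧ herm C s q ≠ 0 := by
  classical
  obtain ⟨g, hgv, hgr⟩ := exists_map_pair C hv hr hrv hv0 hr'
  set q' := app C g q with hq'
  have hq'e : herm C q' ee = 0 := by rw [hq', ← hgv, herm_app, hqv]
  have hq'2 : herm C q' ee2 = 0 := by rw [hq', ← hgr, herm_app, hqr]
  have hd := decomp C q'
  rw [hq'e, zero_smul, add_zero] at hd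
  set a := herm C q' ff with ha
  set w := q' ∘ Sum.inr with hw
  have hwe : herm C w (vE C (Fin 2)) = 0 := by
    rw [hd] at hq'2
    simpa [herm_add_left, herm_smul_left, herm_vE_inW, herm_inW] using hq'2
  have hd2 := decomp C w
  rw [hwe, zero_smul, add_zero] at hd2
  set b := herm C w (vF C (Fin 2))
  set u := w ∘ Sum.inr with hu
  obtain ⟨u', hu', huu'⟩ : ∃ u' : Fin 2 → F, herm C u' u' = 0 ∧ (a ≠ 0 ∧ u' = 0 ∨ a = 0 ∧ herm C u' u ≠ 0) := by
    by_cases ha0 : a = 0
    · have hu0 : u ≠ 0 := by
        intro h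
        refine hqr' b ?_
        rw [h, inW_zero, add_zero] at hd2
        rw [ha0, zero_smul, zero_add, hd2, inW_smul] at hd
        rw [← app_inv_app C g q, ← hq', hd, app_smul, ← hgr, app_inv_app]
      by_contra hall
      push Not at hall
      obtain ⟨y, hy⟩ := exists_herm_eq C hu0 1
      have key := eq_of_eq_on_isotropic C hC
        ({ toFun := fun x => fun _ : Fin 1 => herm C x u
           map_add' := fun x y => by ext; simp [herm_add_left]
           map_smul' := fun c x => by ext; simp [herm_smul_left] } : (Fin 2 → F) →ₗ[F] (Fin 1 → F)) 0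
        (fun x hx => by ext; exact (hall x hx).2 ha0)
      have h2 := congrFun (LinearMap.congr_fun key y) 0
      simp [hy] at h2
    · exact ⟨0, herm_zero_left C 0, Or.inl ⟨ha0, rfl⟩⟩
  set s : V6 := ff + inW (inW u') with hs
  have hss : herm C s s = 0 := by
    simp [hs, herm_add_left, herm_add_right, herm_vF_vF, herm_vF_inW, herm_inW_vF, herm_inW, hu']
  have hse : herm C s ee = 1 := by simp [hs, herm_add_left, herm_vF_vE, herm_inW_vE]
  have hs2 : herm C s ee2 = 0 := by simp [hs, herm_add_left, herm_vF_inW, herm_inW, herm_inW_vE]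
  have hsq : herm C s q' ≠ 0 := by
    have h1 : herm C s q' = C.σ a + herm C u' u := by
      rw [hd, hd2]
      simp [hs, herm_add_left, herm_add_right, herm_smul_right, herm_vF_vE, herm_vF_inW, herm_inW_vE,
        herm_inW, inW_add, inW_smul]
    rw [h1]
    rcases huu' with ⟨ha0, hu0⟩ | ⟨ha0, hu0⟩
    · rw [hu0, herm_zero_left, add_zero]; exact (map_ne_zero C.σ).2 ha0
    · rw [ha0, map_zero, zero_add]; exact hu0
  refine ⟨app C g⁻¹ s, by rw [herm_app, hss], fun h0 => hsq ?_, by rw [herm_app_left, hgr, hs2],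
    by rw [herm_app_left, hgv, hse]; exact one_ne_zero, by rw [herm_app_left, ← hq']; exact hsq⟩
  rw [← app_app_inv C g s, h0, show app C g (0 : V6) = 0 by simp [app], herm_zero_left]

/-- Points outside `v^⊥` are determined up to the transvection at `v` by their perp inside `v^⊥`. -/
theorem eq_or_eq_tv_of_perp {v r r' : V6} (hv : herm C v v = 0) (hr : herm C r r = 0)
    (hr' : herm C r' r' = 0) (hrv : herm C r v ≠ 0) (hr'v : herm C r' v ≠ 0)
    (h : ∀ s, herm C s s = 0 → herm C s v = 0 → herm C s r = 0 → herm C s r' = 0) :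
    (∃ a : F, r' = a • r) ∨ ∃ a : F, r' = a • app C (tv C v) r := by
  have hv0 : v ≠ 0 := fun h0 => hrv (by rw [h0, herm_zero_right])
  obtain ⟨g, hg⟩ := exists_map_eq C hv hv0
  have hge : herm C (app C g r) ee ≠ 0 := by rw [← hg, herm_app]; exact hrv
  obtain ⟨k, hk, hk'⟩ := CfsgLib.Forms4.exists_translate C (x := app C g r) (by rw [herm_app, hr]) hge
  set m : suG C I6 := k⁻¹ * g with hm
  set b := herm C (app C g r) ee with hb
  have hmv : app C m v = ee := by
    rw [hm, app_mul, hg]
    conv_lhs => rw [← hk, app_inv_app]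
  have hmr : app C m r = b • ff := by rw [hm, app_mul, hk', app_smul, app_inv_app]
  set y := app C m r' with hy
  have hyW : y ∘ Sum.inr = (0 : Fin 2 ⊕ Fin 2 → F) := by
    have hperp : ∀ w : Fin 2 ⊕ Fin 2 → F, herm C w w = 0 → herm C w (y ∘ Sum.inr) = 0 := by
      intro w hw
      have h1 := h (app C m⁻¹ (inW w)) (by rw [herm_app, herm_inW, hw])
        (by rw [herm_app_left, hmv, herm_inW_vE])
        (by rw [herm_app_left, hmr, herm_smul_right, herm_inW_vF, mul_zero])
      rw [herm_app_left, ← hy, decomp C y] at h1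
      simpa [herm_add_right, herm_smul_right, herm_inW_vE, herm_inW_vF, herm_inW] using h1
    by_contra hne
    obtain ⟨z, hz⟩ := exists_herm_eq C hne 1
    have : Nontrivial (Fin 2 ⊕ Fin 2) := ⟨⟨Sum.inl 0, Sum.inl 1, by simp⟩⟩
    have key := eq_of_eq_on_isotropic C hC
      ({ toFun := fun x => fun _ : Fin 1 => herm C x (y ∘ Sum.inr)
         map_add' := fun x y => by ext; simp [herm_add_left]
         map_smul' := fun c x => by ext; simp [herm_smul_left] } :
        (Fin 2 ⊕ Fin 2 → F) →ₗ[F] (Fin 1 → F)) 0 (fun x hx => by ext; exact hperp x hx)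
    have h2 := congrFun (LinearMap.congr_fun key z) 0
    simp [hz] at h2
  set α := herm C y ff
  set β := herm C y ee
  have hyd : y = α • ee + β • ff := by conv_lhs => rw [decomp C y, hyW, inW_zero, add_zero]
  have hr'y : r' = app C m⁻¹ y := by rw [hy, app_inv_app]
  have hrr : r = b • app C m⁻¹ ff := by rw [← app_smul, ← hmr, app_inv_app]
  have hb0 : b ≠ 0 := hge
  have hβ0 : β ≠ 0 := by
    show herm C (app C m r') ee ≠ 0
    rw [← hmv, herm_app]
    exact hr'v
  have hyy : α * C.σ β + β * C.σ α = 0 := by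
    have h1 : herm C y y = 0 := by rw [hy, herm_app, hr']
    rw [hyd] at h1
    simp only [herm_add_left, herm_add_right, herm_smul_left, herm_smul_right, herm_vE_vE, herm_vE_vF,
      herm_vF_vE, herm_vF_vF] at h1
    linear_combination h1
  by_cases hα : α = 0
  · refine Or.inl ⟨β / b, ?_⟩
    rw [hr'y, hyd, hα, zero_smul, zero_add, app_smul, hrr, smul_smul, div_mul_cancel₀ _ hb0]
  · refine Or.inr ⟨β / b, ?_⟩
    have h1 : α * C.σ β = 1 := by
      refine eq_one_of_fixed C hC ?_ (mul_ne_zero hα ((map_ne_zero C.σ).2 hβ0))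
      rw [map_mul, C.invol, mul_comm (C.σ α), ← neg_eq C hC (α * C.σ β)]
      exact eq_neg_of_add_eq_zero_right hyy
    have hαβ : α = β := by
      calc α = α * C.σ β * β := by rw [mul_assoc, mul_comm (C.σ β), norm_eq_one C hC hβ0, mul_one]
        _ = β := by rw [h1, one_mul]
    have hv' : v = app C m⁻¹ ee := by rw [← hmv, app_inv_app]
    rw [hr'y, hyd, hαβ, app_tv C hC hv, hrr, hv']
    simp only [app_add, app_smul, herm_smul_left, herm_app, herm_vF_vE, mul_one, smul_add, smul_smul,
      div_mul_cancel₀ _ hb0]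
    abel

/-- The transvections orthogonal to `v` and one further generate all. -/
theorem tv_mem_of_orth_and_one (M : Subgroup (suG C I6)) {v r : V6} (hv : herm C v v = 0)
    (hr : herm C r r = 0) (hrv : herm C r v ≠ 0)
    (hM : ∀ x, herm C x x = 0 → x ≠ 0 → herm C x v = 0 → tv C x ∈ M) (hMr : tv C r ∈ M)
    {t : V6} (ht : herm C t t = 0) (ht0 : t ≠ 0) : tv C t ∈ M := by
  classical
  have hv0 : v ≠ 0 := fun h0 => hrv (by rw [h0, herm_zero_right])
  obtain ⟨g, hg⟩ := exists_map_eq C hv hv0
  have hge : herm C (app C g r) ee ≠ 0 := by rw [← hg, herm_app]; exact hrv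
  obtain ⟨k, hk, hk'⟩ := CfsgLib.Forms4.exists_translate C (x := app C g r) (by rw [herm_app, hr]) hge
  set m : suG C I6 := k⁻¹ * g with hm
  set b := herm C (app C g r) ee with hb
  have hmv : app C m v = ee := by
    rw [hm, app_mul, hg]
    conv_lhs => rw [← hk, app_inv_app]
  have hmr : app C m r = b • ff := by rw [hm, app_mul, hk', app_smul, app_inv_app]
  set M' := M.comap (MulAut.conj m⁻¹).toMonoidHom with hM'
  have hM'e : ∀ x, herm C x x = 0 → x ≠ 0 → herm C x ee = 0 → tv C x ∈ M' := fun x hx hx0 hxe => by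
    show m⁻¹ * tv C x * m⁻¹⁻¹ ∈ M
    rw [conj_tv C hC _ hx]
    exact hM _ (by rw [herm_app, hx]) (fun h0 => hx0 (by rw [← app_app_inv C m x, h0]; simp [app]))
      (by rw [herm_app_left, hmv, hxe])
  have hM'f : tv C ff ∈ M' := by
    show m⁻¹ * tv C ff * m⁻¹⁻¹ ∈ M
    have h1 : r = b • app C m⁻¹ ff := by rw [← app_smul, ← hmr, app_inv_app]
    rw [conj_tv C hC _ (herm_vF_vF C)]
    rw [h1, tv_smul C hC hge (by rw [herm_app, herm_vF_vF])] at hMr
    exact hMr
  -- one step
  have step : ∀ x y : V6, herm C x x = 0 → herm C y y = 0 → herm C x ee = 1 → herm C y ee = 1 →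
      herm C x y = 1 → tv C y ∈ M' → tv C x ∈ M' := by
    intro x y hx hy hxe hye hxy hym
    have hyx : herm C y x = 1 := by rw [← conj_herm, hxy, map_one]
    set s := y + x with hs
    have hss : herm C s s = 0 := by
      simp [hs, herm_add_left, herm_add_right, hx, hy, hxy, hyx, add_self C hC]
    have hse : herm C s ee = 0 := by rw [hs, herm_add_left, hxe, hye, add_self C hC]
    have hs0 : s ≠ 0 := fun h0 => by
      have h1 := congrArg (fun z => herm C z x) h0
      simp [hs, herm_add_left, hx, hyx, herm_zero_left] at h1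
    have hsy : app C (tv C s) y = x := by
      rw [app_tv C hC hss, hs, herm_add_right, hy, hyx, zero_add, one_smul, ← add_assoc, vec_add_self C hC,
        zero_add]
    rw [← hsy, ← conj_tv C hC _ hy]
    exact mul_mem (mul_mem (hM'e s hss hs0 hse) hym) (inv_mem (hM'e s hss hs0 hse))
  have hfee : herm C (ff : V6) ee = 1 := herm_vF_vE C
  have main : ∀ x : V6, herm C x x = 0 → herm C x ee = 1 → tv C x ∈ M' := by
    intro x hx hxe
    set c := herm C x ff with hc
    set w := x ∘ Sum.inr with hw
    have hd : x = c • ee + ff + inW w := by conv_lhs => rw [decomp C x, hxe, one_smul]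
    have hcw : c + C.σ c + herm C w w = 0 := by
      rw [hd] at hx
      simp only [herm_add_left, herm_add_right, herm_smul_left, herm_smul_right, herm_vE_vE, herm_vE_vF,
        herm_vF_vE, herm_vF_vF, herm_vE_inW, herm_vF_inW, herm_inW_vE, herm_inW_vF, herm_inW] at hx
      linear_combination hx
    by_cases hw0 : w = 0
    · rw [hw0, inW_zero, add_zero] at hd
      rw [hw0, herm_zero_left, add_zero] at hcw
      by_cases hc0 : c = 0
      · rwa [hd, hc0, zero_smul, zero_add]
      · have hc1 : c = 1 := eq_one_of_fixed C hC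
          ((eq_neg_of_add_eq_zero_right hcw).trans (neg_eq C hC c)) hc0
        exact step x ff hx (herm_vF_vF C) hxe hfee hc1 hM'f
    obtain ⟨w', hw', hww'⟩ : ∃ w' : Fin 2 ⊕ Fin 2 → F, herm C w' w' = 0 ∧ herm C w w' = c := by
      by_cases hc0 : c = 0
      · exact ⟨0, herm_zero_left C 0, by rw [herm_zero_right, hc0]⟩
      obtain ⟨w₀, hw₀, hne⟩ : ∃ w₀, herm C w₀ w₀ = 0 ∧ herm C w₀ w ≠ 0 := by
        by_contra hall
        push Not at hall
        obtain ⟨z, hz⟩ := exists_herm_eq C hw0 1
        have : Nontrivial (Fin 2 ⊕ Fin 2) := ⟨⟨Sum.inl 0, Sum.inl 1, by simp⟩⟩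
        have key := eq_of_eq_on_isotropic C hC
          ({ toFun := fun x => fun _ : Fin 1 => herm C x w
             map_add' := fun x y => by ext; simp [herm_add_left]
             map_smul' := fun c x => by ext; simp [herm_smul_left] } :
            (Fin 2 ⊕ Fin 2 → F) →ₗ[F] (Fin 1 → F)) 0 (fun x hx => by ext; exact hall x hx)
        have h2 := congrFun (LinearMap.congr_fun key z) 0
        simp [hz] at h2
      refine ⟨(C.σ c / herm C w₀ w) • w₀, by rw [herm_smul_left, herm_smul_right, hw₀, mul_zero, mul_zero], ?_⟩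
      rw [herm_smul_right, map_div₀, C.invol, ← conj_herm C w₀ w,
        div_mul_cancel₀ _ ((map_ne_zero C.σ).2 hne)]
    set y : V6 := ee + ff + inW w' with hy
    have hyy : herm C y y = 0 := by
      simp [hy, herm_add_left, herm_add_right, herm_vE_vE, herm_vE_vF, herm_vF_vE, herm_vF_vF, herm_vE_inW,
        herm_vF_inW, herm_inW_vE, herm_inW_vF, herm_inW, hw', add_self C hC]
    have hye : herm C y ee = 1 := by
      simp [hy, herm_add_left, herm_vE_vE, herm_vF_vE, herm_inW_vE]
    have hyf : herm C y ff = 1 := by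
      simp [hy, herm_add_left, herm_vE_vF, herm_vF_vF, herm_inW_vF]
    have hxy : herm C x y = 1 := by
      rw [hd, hy]
      simp only [herm_add_left, herm_add_right, herm_smul_left, herm_vE_vE, herm_vE_vF, herm_vF_vE,
        herm_vF_vF, herm_vE_inW, herm_vF_inW, herm_inW_vE, herm_inW_vF, herm_inW, hww']
      linear_combination c * two_eq_zero C hC
    exact step x y hx hyy hxe hye hxy (step y ff hyy (herm_vF_vF C) hye hfee hyf hM'f)
  have htt : tv C (app C m t) ∈ M' := by
    set x := app C m t with hx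
    have hxx : herm C x x = 0 := by rw [hx, herm_app, ht]
    have hx0 : x ≠ 0 := fun h0 => ht0 (by rw [← app_inv_app C m t, ← hx, h0]; simp [app])
    by_cases hxe : herm C x ee = 0
    · exact hM'e x hxx hx0 hxe
    · rw [← tv_smul C hC (inv_ne_zero hxe) hxx]
      exact main _ (by rw [herm_smul_left, herm_smul_right, hxx, mul_zero, mul_zero])
        (by rw [herm_smul_left, inv_mul_cancel₀ hxe])
  have h2 : m⁻¹ * tv C (app C m t) * m⁻¹⁻¹ ∈ M := htt
  rwa [conj_tv C hC _ (by rw [herm_app, ht]), app_inv_app] at h2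

omit hC in
/-- Two non-orthogonal points and a point orthogonal to both have a fourth point orthogonal to all three. -/
theorem exists_common_orth3 (hC : C.q = 2) {u v z : V6} (hu : herm C u u = 0) (hv : herm C v v = 0)
    (hz : herm C z z = 0) (hu0 : u ≠ 0) (hz0 : z ≠ 0) (hvu : herm C v u ≠ 0) (hzu : herm C z u = 0)
    (hzv : herm C z v = 0) :
    ∃ w, herm C w w = 0 ∧ w ≠ 0 ∧ herm C w u = 0 ∧ herm C w v = 0 ∧ herm C w z = 0 ∧
      (∀ a : F, w ≠ a • u) ∧ (∀ a : F, w ≠ a • v) ∧ ∀ a : F, w ≠ a • z := by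
  classical
  obtain ⟨g, hg⟩ := exists_map_eq C hu hu0
  have hge : herm C (app C g v) ee ≠ 0 := by rw [← hg, herm_app]; exact hvu
  obtain ⟨k, hk, hk'⟩ := CfsgLib.Forms4.exists_translate C (x := app C g v) (by rw [herm_app, hv]) hge
  set m : suG C I6 := k⁻¹ * g with hm
  set b := herm C (app C g v) ee
  have hmu : app C m u = ee := by
    rw [hm, app_mul, hg]
    conv_lhs => rw [← hk, app_inv_app]
  have hmv : app C m v = b • ff := by rw [hm, app_mul, hk', app_smul, app_inv_app]
  have hze : herm C (app C m z) ee = 0 := by rw [← hmu, herm_app, hzu]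
  have hzf : herm C (app C m z) ff = 0 := by
    have h1 : herm C (app C m z) (b • ff) = 0 := by rw [← hmv, herm_app, hzv]
    rw [herm_smul_right] at h1
    exact (mul_eq_zero.1 h1).resolve_left ((map_ne_zero C.σ).2 hge)
  set w₀ := app C m z ∘ Sum.inr with hw₀
  have hzd : app C m z = inW w₀ := by
    conv_lhs => rw [decomp C (app C m z), hze, hzf, zero_smul, zero_smul, zero_add, zero_add]
  have hw₀0 : w₀ ≠ 0 := fun h0 => hz0 (by
    rw [← app_inv_app C m z, hzd, h0, inW_zero]; simp [app])
  have hw₀i : herm C w₀ w₀ = 0 := by rw [← herm_inW C w₀ w₀, ← hzd, herm_app, hz]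
  obtain ⟨t, -, ht⟩ := exists_to_vE C hw₀i hw₀0
  set p : Fin 2 ⊕ Fin 2 → F := app C t⁻¹ (inW ![1, 1]) with hp
  have hpp : herm C p p = 0 := by
    rw [hp, herm_app, herm_inW]
    simp [herm, Fin.sum_univ_two, add_self C hC]
  have hpw : herm C p w₀ = 0 := by rw [hp, herm_app_left, ht, herm_inW_vE]
  have hpne : ∀ a : F, p ≠ a • w₀ := fun a ha => by
    have h1 := congrArg (app C t) ha
    rw [hp, app_app_inv, app_smul, ht] at h1
    have h2 := congrFun h1 (Sum.inr 0)
    simp [inW, vE] at h2
  have hp0 : p ≠ 0 := fun h0 => hpne 0 (by rw [h0, zero_smul])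
  refine ⟨app C m⁻¹ (inW p), by rw [herm_app, herm_inW, hpp], fun h0 => ?_,
    by rw [herm_app_left, hmu, herm_inW_vE],
    by rw [herm_app_left, hmv, herm_smul_right, herm_inW_vF, mul_zero],
    by rw [herm_app_left, hzd, herm_inW, hpw], fun a ha => ?_, fun a ha => ?_, fun a ha => ?_⟩
  · have h1 := congrArg (app C m) h0
    rw [app_app_inv, show app C m (0 : V6) = 0 by simp [app]] at h1
    exact hp0 (funext fun i => congrFun h1 (Sum.inr i))
  · have h1 := congrArg (app C m) ha
    rw [app_app_inv, app_smul, hmu] at h1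
    exact hp0 (funext fun i => by simpa [inW, vE] using congrFun h1 (Sum.inr i))
  · have h1 := congrArg (app C m) ha
    rw [app_app_inv, app_smul, hmv] at h1
    exact hp0 (funext fun i => by simpa [inW, vF] using congrFun h1 (Sum.inr i))
  · have h1 := congrArg (app C m) ha
    rw [app_app_inv, app_smul, hzd, ← inW_smul] at h1
    exact hpne a (funext fun i => congrFun h1 (Sum.inr i))

end CfsgLib.U62
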