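import Cfsg.Agent.FischerTypes.M22Six
import Cfsg.Agent.FischerTypes.U62Stab
import Cfsg.Agent.FischerTypes.U62Count

/-!
# The commuting graph in type M(22)

For non-commuting members `d`, `y` the set of members commuting with both is not empty, connected, and meets
the perp of every further member of `D_y`.
-/

set_option autoImplicit false
set_option maxHeartbeats 400000

namespace CfsgLib.FischerTypes

open Cfsg CfsgLib.U62 CfsgLib.RepBounds.Unit

variable {G : Type*} [Group G] {D : Set G}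

/-- Adjacency in the commuting graph. -/
def Adj (D : Set G) (u v : G) : Prop := u ∈ D ∧ v ∈ perp D u

theorem Adj.symm' {u v : G} (h : Adj D u v) : Adj D v u := ⟨h.2.1, perp_symm h.1 h.2⟩

theorem reach_symm {a b : G} (hab : Relation.ReflTransGen (Adj D) a b) :
    Relation.ReflTransGen (Adj D) b a := by
  induction hab with
  | refl => exact .refl
  | tail _ hr ih => exact .head hr.symm' ih

/-- In a primitive group the commuting graph is connected as soon as it has an edge. -/
theorem reach_of_primitive (h : IsThreeTranspositionGroup D) (hp : IsPrimitiveUnderConj D) {d e : G}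
    (hd : d ∈ D) (he : e ∈ perp D d) {y : G} (hy : y ∈ D) : Relation.ReflTransGen (Adj D) d y := by
  have hRc : ∀ (g : G) (u v : G), Adj D u v → Adj D (g * u * g⁻¹) (g * v * g⁻¹) := fun g u v hr =>
    ⟨h.2.1 g u hr.1, h.2.1 g v hr.2.1,
      fun he' => hr.2.2.1 (mul_left_cancel (mul_right_cancel he')), (commute_conj_iff' g _ _).2 hr.2.2.2⟩
  set B : Set G := {a | Relation.ReflTransGen (Adj D) d a} with hB
  have hBD : B ⊆ D := fun a ha => by
    induction ha with
    | refl => exact hd
    | tail _ hr _ => exact hr.2.1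
  have hlift : ∀ {a b}, Relation.ReflTransGen (Adj D) a b → ∀ k : G,
      Relation.ReflTransGen (Adj D) (k * a * k⁻¹) (k * b * k⁻¹) := by
    intro a b hab k
    induction hab with
    | refl => exact .refl
    | tail _ hr ih => exact ih.tail (hRc k _ _ hr)
  have hblock : ∀ g : G, (fun x => g * x * g⁻¹) '' B = B ∨ Disjoint ((fun x => g * x * g⁻¹) '' B) B := by
    intro g
    by_cases hd' : ∃ a ∈ B, g * a * g⁻¹ ∈ B
    · left
      obtain ⟨a, ha, hga⟩ := hd'
      have hgd : Relation.ReflTransGen (Adj D) d (g * d * g⁻¹) := hga.trans (hlift (reach_symm ha) g)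
      ext z
      constructor
      · rintro ⟨b, hb, rfl⟩
        exact hgd.trans (hlift hb g)
      · intro hz
        refine ⟨g⁻¹ * z * g, ?_, by group⟩
        have h1 := hlift ((reach_symm hgd).trans hz) g⁻¹
        rw [show g⁻¹ * (g * d * g⁻¹) * g⁻¹⁻¹ = d by group, inv_inv] at h1
        exact h1
    · right
      push Not at hd'
      exact Set.disjoint_left.2 (by rintro _ ⟨a, ha, rfl⟩; exact hd' a ha)
  rcases hp.2.2 B hBD hblock with hB1 | hB1
  · exact absurd (hB1 (Relation.ReflTransGen.single ⟨hd, he⟩) Relation.ReflTransGen.refl) he.2.1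
  · exact (hB1 ▸ hy : y ∈ B)

section sixlists

/-- Six pairwise commuting members with product one. -/
def IsSix (D : Set G) (l : List G) : Prop :=
  l.Nodup ∧ l.length = 6 ∧ (∀ a ∈ l, a ∈ D) ∧ (∀ a ∈ l, ∀ b ∈ l, Commute a b) ∧ l.prod = 1

theorem IsSix.perm {l l' : List G} (h : IsSix D l) (hp : l.Perm l') : IsSix D l' := by
  obtain ⟨h1, h2, h3, h4, h5⟩ := h
  refine ⟨hp.nodup_iff.1 h1, hp.length_eq ▸ h2, fun a ha => h3 a (hp.mem_iff.2 ha),
    fun a ha b hb => h4 a (hp.mem_iff.2 ha) b (hp.mem_iff.2 hb), ?_⟩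
  rw [← h5]
  refine (List.Perm.prod_eq' hp ?_).symm
  exact h1.pairwise_of_forall_ne fun a ha b hb _ => h4 a ha b hb

theorem IsSix.triple (h : IsThreeTranspositionGroup D) {a b c p q r : G} (hl : IsSix D [a, b, c, p, q, r]) :
    a * b * c = p * q * r := by
  obtain ⟨-, -, hD, hc, hp⟩ := hl
  have h1 : a * b * c * (p * q * r) = 1 := by simpa [mul_assoc] using hp
  rw [mul_eq_one_iff_eq_inv, _root_.mul_inv_rev, _root_.mul_inv_rev, inv_eq h.1 (hD p (by simp)),
    inv_eq h.1 (hD q (by simp)), inv_eq h.1 (hD r (by simp))] at h1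
  rw [h1, ((hc r (by simp) q (by simp)).mul_right (hc r (by simp) p (by simp))).eq,
    (hc q (by simp) p (by simp)).eq]

theorem isSix_of_triple (h : IsThreeTranspositionGroup D) {a b c p q r : G}
    (hnd : [a, b, c, p, q, r].Nodup) (hD : ∀ x ∈ [a, b, c, p, q, r], x ∈ D)
    (hc : ∀ x ∈ [a, b, c, p, q, r], ∀ y ∈ [a, b, c, p, q, r], Commute x y) (he : a * b * c = p * q * r) :
    IsSix D [a, b, c, p, q, r] := by
  refine ⟨hnd, rfl, hD, hc, ?_⟩
  have h1 : p * q * r * (p * q * r) = 1 := by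
    have c1 : Commute (p * q) r := (hc p (by simp) r (by simp)).mul_left (hc q (by simp) r (by simp))
    rw [Commute.mul_mul_mul_comm c1.symm (p * q) r, mul_self h.1 (hD r (by simp)), mul_one,
      Commute.mul_mul_mul_comm (hc q (by simp) p (by simp)) p q, mul_self h.1 (hD p (by simp)),
      mul_self h.1 (hD q (by simp)), mul_one]
  rw [← h1]
  nth_rewrite 1 [← he]
  simp [mul_assoc]

/-- A member commuting with three of six commutes with all. -/
theorem IsSix.commute_all (h : IsThreeTranspositionGroup D) {a b c p q r : G}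
    (hl : IsSix D [a, b, c, p, q, r]) {y : G} (hy : y ∈ D) (ha : Commute y a) (hb : Commute y b)
    (hc : Commute y c) : Commute y p ∧ Commute y q ∧ Commute y r := by
  have he := hl.triple h
  obtain ⟨hnd, -, hD, hcm, -⟩ := hl
  simp only [List.nodup_cons, List.mem_cons, List.not_mem_nil, or_false, not_or] at hnd
  have cpq := hcm p (by simp) q (by simp)
  have cpr := hcm p (by simp) r (by simp)
  have cqr := hcm q (by simp) r (by simp)
  have hp := hD p (by simp)
  have hq := hD q (by simp)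
  have hr := hD r (by simp)
  obtain ⟨-, -, -, ⟨npq, npr⟩, nqr, -⟩ := hnd
  have h0 : Commute y (p * q * r) := he ▸ (ha.mul_right hb).mul_right hc
  refine ⟨commute_of_commute_mul3 h.1 hp hq hr hy cpq cpr cqr npq npr nqr h0, ?_, ?_⟩
  · refine commute_of_commute_mul3 h.1 hq hp hr hy cpq.symm cqr cpr (Ne.symm npq) nqr npr ?_
    rwa [cpq.symm.eq]
  · refine commute_of_commute_mul3 h.1 hr hq hp hy cqr.symm cpr.symm cpq.symm (Ne.symm nqr) (Ne.symm npr)
      (Ne.symm npq) ?_
    rwa [show r * q * p = p * q * r by rw [cqr.symm.eq, mul_assoc, cpr.symm.eq, ← mul_assoc, cpq.symm.eq]]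

/-- No member commutes with exactly one of six. -/
theorem IsSix.not_exactly_one (h : IsThreeTranspositionGroup D) {a b c p q r : G}
    (hl : IsSix D [a, b, c, p, q, r]) {y : G} (hy : y ∈ D) (ha : Commute y a) (hb : ¬ Commute y b)
    (hc : ¬ Commute y c) (hp' : ¬ Commute y p) (hq' : ¬ Commute y q) (hr' : ¬ Commute y r) : False := by
  have he := hl.triple h
  obtain ⟨-, -, hD, hcm, -⟩ := hl
  have cc := fun (x z : G) (hx : x ∈ [a, b, c, p, q, r]) (hz : z ∈ [a, b, c, p, q, r]) => hcm x hx z hz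
  have hbD := hD b (by simp)
  have hcD := hD c (by simp)
  have hpD := hD p (by simp)
  have hqD := hD q (by simp)
  have hrD := hD r (by simp)
  set u := p * q * y * q * p with hu
  have hcu : Commute u y := commute_conj_pair h.1 hpD hqD hy (cc p q (by simp) (by simp))
    (fun hh => hp' hh.symm) (fun hh => hq' hh.symm)
  have huD : u ∈ D := by
    have := conj_mem h hpD (conj_mem h hqD hy)
    simpa [hu, mul_assoc] using this
  have hru : ¬ Commute r u := by
    intro hh
    apply hr'
    have h1 : u = (p * q) * y * (p * q)⁻¹ := by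
      rw [_root_.mul_inv_rev, inv_eq h.1 hpD, inv_eq h.1 hqD, hu]; simp [mul_assoc]
    have h2 : r = (p * q) * r * (p * q)⁻¹ := by
      rw [((cc p r (by simp) (by simp)).mul_left (cc q r (by simp) (by simp))).eq]; group
    rw [h1, h2, commute_conj_iff'] at hh
    exact hh.symm
  -- the other pair gives `r u r`
  have hbc : b * c * y * c * b = r * u * r := by
    have hbc' : b * c = a * (r * (p * q)) := by
      rw [← mul_self_cancel h.1 (hD a (by simp)) (b * c), ← mul_assoc a b c, he]
      congr 1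
      exact ((cc p r (by simp) (by simp)).mul_left (cc q r (by simp) (by simp))).eq
    have hcb : c * b = (q * p) * r * a := by
      have h3 := congrArg Inv.inv hbc'
      simp only [_root_.mul_inv_rev, inv_eq h.1 hbD, inv_eq h.1 hcD, inv_eq h.1 hrD, inv_eq h.1 hpD,
        inv_eq h.1 hqD, inv_eq h.1 (hD a (by simp))] at h3
      rw [h3]
    have hau : Commute a (r * u * r) := by
      have h1 : Commute a u := ((((cc a p (by simp) (by simp)).mul_right (cc a q (by simp) (by simp))).mul_right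
        ha.symm).mul_right (cc a q (by simp) (by simp))).mul_right (cc a p (by simp) (by simp))
      exact ((cc a r (by simp) (by simp)).mul_right h1).mul_right (cc a r (by simp) (by simp))
    calc b * c * y * c * b = (b * c) * y * (c * b) := by simp [mul_assoc]
      _ = a * (r * u * r) * a := by rw [hbc', hcb, hu]; simp [mul_assoc]
      _ = r * u * r := by rw [hau.eq, mul_assoc, mul_self h.1 (hD a (by simp)), mul_one]
  have h2 : Commute (r * u * r) y := hbc ▸ commute_conj_pair h.1 hbD hcD hy (cc b c (by simp) (by simp))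
    (fun hh => hb hh.symm) (fun hh => hc hh.symm)
  rw [braid h.1 hrD huD hru] at h2
  have h3 := (hcu.mul_left h2).mul_left hcu
  rw [show u * (u * r * u) * u = r by simp [mul_assoc, mul_self h.1 huD, mul_self_cancel h.1 huD]] at h3
  exact hr' h3.symm

end sixlists

namespace PerpModel

variable {d : G} (M : PerpModel D d)

/-- Counting members through their vectors. -/
theorem card_vectors (S : Set G) (hS : S ⊆ perp D d) (P : (I6 → M.K) → Prop) (hP0 : P 0)
    (hiff : ∀ x, ∀ hx : x ∈ perp D d, ∀ v, herm M.C v v = 0 → v ≠ 0 → bar hx = M.θ (tv M.C v) → (x ∈ S ↔ P v))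
    [Finite G] : Nat.card {v : I6 → M.K // herm M.C v v = 0 ∧ P v} = 3 * S.ncard + 1 := by
  classical
  have : Fintype {v : I6 → M.K // herm M.C v v = 0 ∧ P v} := Fintype.ofFinite _
  have hr : ∀ x : S, ∃ v, herm M.C v v = 0 ∧ v ≠ 0 ∧ bar (hS x.2) = M.θ (tv M.C v) := fun x => M.exists_pt _
  choose r hr1 hr2 hr3 using hr
  let f : Option (S × M.Kˣ) → {v : I6 → M.K // herm M.C v v = 0 ∧ P v} := fun o =>
    match o with
    | none => ⟨0, herm_zero_left M.C 0, hP0⟩
    | some (x, a) => ⟨(a : M.K) • r x, by rw [herm_smul_left, herm_smul_right, hr1, mul_zero, mul_zero],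
        (hiff x (hS x.2) _ (by rw [herm_smul_left, herm_smul_right, hr1, mul_zero, mul_zero])
          (smul_ne_zero a.ne_zero (hr2 x)) (by rw [hr3, tv_smul M.C M.hq a.ne_zero (hr1 x)])).1 x.2⟩
  have hf : Function.Bijective f := by
    constructor
    · rintro (_ | ⟨x, a⟩) (_ | ⟨y, b⟩) hxy
      · rfl
      · exact absurd (congrArg Subtype.val hxy).symm (smul_ne_zero b.ne_zero (hr2 y))
      · exact absurd (congrArg Subtype.val hxy) (smul_ne_zero a.ne_zero (hr2 x))
      · have h1 : (a : M.K) • r x = (b : M.K) • r y := congrArg Subtype.val hxy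
        have hxy' : x = y := by
          apply Subtype.ext
          refine M.eq_of_smul (hS x.2) (hS y.2) (hr1 x) (hr2 y) (hr3 x) (hr3 y) (a := (b : M.K)⁻¹ * a) ?_
          rw [mul_smul, h1, inv_smul_smul₀ b.ne_zero]
        subst hxy'
        rw [Units.ext (smul_left_injective M.K (hr2 x) h1)]
    · rintro ⟨v, hv, hvP⟩
      by_cases hv0 : v = 0
      · exact ⟨none, Subtype.ext hv0.symm⟩
      obtain ⟨x, hx, hxv⟩ := M.exists_mem hv hv0
      have hxS : x ∈ S := (hiff x hx v hv hv0 hxv).2 hvP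
      obtain ⟨a, ha0, ha⟩ := eq_smul_of_map_eq M.C M.hq M.θ M.hker (hr1 ⟨x, hxS⟩) hv hv0
        ((hr3 ⟨x, hxS⟩).symm.trans hxv)
      exact ⟨some (⟨x, hxS⟩, Units.mk0 a ha0), Subtype.ext ha.symm⟩
  rw [← Nat.card_eq_of_bijective f hf, Finite.card_option, Nat.card_prod, Nat.card_units,
    Nat.card_coe_set_eq, Nat.card_eq_fintype_card, M.C.card, M.hq, mul_comm]
  rfl

include M in
theorem ncard_perp [Finite G] : (perp D d).ncard = 693 := by
  have h := M.card_vectors (perp D d) subset_rfl (fun _ => True) trivial (fun x hx _ _ _ _ => iff_true_intro hx)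
  rw [Nat.card_congr (Equiv.subtypeEquivRight (q := fun v => herm M.C v v = 0) fun v => by simp),
    card_iso_six M.C M.hq] at h
  omega

include M in
theorem ncard_perp_perp [Finite G] {e : G} (he : e ∈ perp D d) : (perp D d ∩ perp D e).ncard = 180 := by
  obtain ⟨u, hu, hu0, hue⟩ := M.exists_pt he
  have hne : e ∉ perp D d ∩ perp D e := fun h => h.2.2.1 rfl
  have h := M.card_vectors (insert e (perp D d ∩ perp D e))
    (Set.insert_subset he Set.inter_subset_left) (fun v => herm M.C v u = 0) (herm_zero_left M.C u)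
    (fun x hx v hv hv0 hxv => by
      rw [← M.commute_iff he hx hu hv hv0 hue hxv]
      constructor
      · rintro (rfl | hh)
        · exact Commute.refl _
        · exact hh.2.2.2
      · intro hc
        by_cases hxe : x = e
        · exact Or.inl hxe
        · exact Or.inr ⟨hx, hx.1, hxe, hc⟩)
  rw [card_orth M.C M.hq hu hu0, Set.ncard_insert_of_notMem hne] at h
  omega

include M in
theorem ncard_perp_commute [Finite G] {e f : G} (he : e ∈ perp D d) (hf : f ∈ perp D d) (hne : e ≠ f)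
    (hc : Commute e f) : (perp D d ∩ (perp D e ∩ perp D f)).ncard = 51 := by
  obtain ⟨u, hu, hu0, hue⟩ := M.exists_pt he
  obtain ⟨w, hw, hw0, hwf⟩ := M.exists_pt hf
  have h1 : f ∉ perp D d ∩ (perp D e ∩ perp D f) := fun h => h.2.2.2.1 rfl
  have h2 : e ∉ insert f (perp D d ∩ (perp D e ∩ perp D f)) := by
    rintro (h | h)
    · exact hne h
    · exact h.2.1.2.1 rfl
  have h := M.card_vectors (insert e (insert f (perp D d ∩ (perp D e ∩ perp D f))))
    (Set.insert_subset he (Set.insert_subset hf Set.inter_subset_left))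
    (fun v => herm M.C v u = 0 ∧ herm M.C v w = 0) ⟨herm_zero_left M.C u, herm_zero_left M.C w⟩
    (fun x hx v hv hv0 hxv => by
      rw [← M.commute_iff he hx hu hv hv0 hue hxv, ← M.commute_iff hf hx hw hv hv0 hwf hxv]
      constructor
      · rintro (rfl | rfl | hh)
        · exact ⟨Commute.refl _, hc.symm⟩
        · exact ⟨hc, Commute.refl _⟩
        · exact ⟨hh.2.1.2.2, hh.2.2.2.2⟩
      · rintro ⟨hce, hcf⟩
        by_cases hxe : x = e
        · exact Or.inl hxe
        by_cases hxf : x = f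
        · exact Or.inr (Or.inl hxf)
        exact Or.inr (Or.inr ⟨hx, ⟨hx.1, hxe, hce⟩, ⟨hx.1, hxf, hcf⟩⟩))
  rw [card_orth_orth M.C M.hq hu hw hu0 ((M.commute_iff he hf hu hw hw0 hue hwf).1 hc)
    (M.not_smul_of_ne he hf hu hw0 hue hwf hne), Set.ncard_insert_of_notMem h2,
    Set.ncard_insert_of_notMem h1] at h
  omega

include M in
theorem ncard_perp_not_commute [Finite G] {e f : G} (he : e ∈ perp D d) (hf : f ∈ perp D d)
    (hc : ¬ Commute e f) : (perp D d ∩ (perp D e ∩ perp D f)).ncard = 45 := by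
  obtain ⟨u, hu, hu0, hue⟩ := M.exists_pt he
  obtain ⟨w, hw, hw0, hwf⟩ := M.exists_pt hf
  have h := M.card_vectors (perp D d ∩ (perp D e ∩ perp D f)) Set.inter_subset_left
    (fun v => herm M.C v u = 0 ∧ herm M.C v w = 0) ⟨herm_zero_left M.C u, herm_zero_left M.C w⟩
    (fun x hx v hv hv0 hxv => by
      rw [← M.commute_iff he hx hu hv hv0 hue hxv, ← M.commute_iff hf hx hw hv hv0 hwf hxv]
      constructor
      · exact fun hh => ⟨hh.2.1.2.2, hh.2.2.2.2⟩
      · rintro ⟨hce, hcf⟩
        exact ⟨hx, ⟨hx.1, fun hxe => hc (hxe ▸ hcf).symm, hce⟩, ⟨hx.1, fun hxf => hc (hxf ▸ hce), hcf⟩⟩)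
  rw [card_orth_nonorth M.C M.hq hu hw hu0 (fun h0 => hc ((M.commute_iff he hf hu hw hw0 hue hwf).2 h0))] at h
  omega

end PerpModel

variable [Finite G]

/-- The four members completing `d`, `x` with one of them to six. -/
theorem exists_block (h : IsThreeTranspositionGroup D) (hp : IsPrimitiveUnderConj D) (h22 : IsOfTypeM22 G D)
    {d x : G} (hd : d ∈ D) (hx : x ∈ perp D d) :
    ∃ B : G → List G, ∀ f ∈ perp D d ∩ perp D x, f ∈ B f ∧ IsSix D (d :: x :: B f) ∧
      ∀ o ∈ B f, ∀ z, z ∈ B o ↔ z ∈ B f := by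
  classical
  have key : ∀ f ∈ perp D d ∩ perp D x, ∃ l : List G, IsSix D (d :: x :: f :: l) ∧
      ∀ l' : List G, IsSix D (d :: x :: f :: l') → ∀ z ∈ l', z ∈ l := by
    intro f hf
    obtain ⟨a, b, c, hnd, hD, hc, he, huniq⟩ :=
      exists_six h hp h22 hd hx hf.1 (Ne.symm hf.2.2.1) hf.2.2.2
    refine ⟨[a, b, c], isSix_of_triple h hnd hD hc he, fun l' hl' => ?_⟩
    obtain ⟨p, q, r, rfl⟩ : ∃ p q r, l' = [p, q, r] := List.length_eq_three.1 (by
      have := hl'.2.1; simpa using this)
    exact huniq p q r hl'.1 (fun u hu => hl'.2.2.1 u (by simp at hu ⊢; tauto)) hl'.2.2.2.1 (hl'.triple h)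
  choose l hl hlu using key
  refine ⟨fun f => if hf : f ∈ perp D d ∩ perp D x then f :: l f hf else [], fun f hf => ?_⟩
  simp only [dif_pos hf]
  refine ⟨List.mem_cons_self, hl f hf, fun o ho z => ?_⟩
  have hsix := hl f hf
  have hmem : o ∈ d :: x :: f :: l f hf := List.mem_cons_of_mem _ (List.mem_cons_of_mem _ ho)
  have hnd := hsix.1
  simp only [List.nodup_cons, List.mem_cons, not_or] at hnd
  have hox : o ∈ perp D d ∩ perp D x := by
    have hdo : o ≠ d := fun he => by
      subst he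
      rcases List.mem_cons.1 ho with h0 | h0
      · exact hnd.1.2.1 h0
      · exact hnd.1.2.2 h0
    have hxo : o ≠ x := fun he => by
      subst he
      rcases List.mem_cons.1 ho with h0 | h0
      · exact hnd.2.1.1 h0
      · exact hnd.2.1.2 h0
    exact ⟨⟨hsix.2.2.1 o hmem, hdo, hsix.2.2.2.1 d (by simp) o hmem⟩,
      ⟨hsix.2.2.1 o hmem, hxo, hsix.2.2.2.1 x (by simp) o hmem⟩⟩
  rw [dif_pos hox]
  -- `o`'s block is the same four members
  have hperm : (f :: l f hf).Perm (o :: (f :: l f hf).erase o) := List.perm_cons_erase ho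
  have hsix' : IsSix D (d :: x :: o :: (f :: l f hf).erase o) := hsix.perm ((hperm.cons x).cons d)
  have hsub := hlu o hox _ hsix'
  have hnd' : ((f :: l f hf).erase o).Nodup :=
    ((List.nodup_cons.1 (List.nodup_cons.1 hsix.1).2).2).erase o
  have hlen : (l o hox).length ≤ ((f :: l f hf).erase o).length := by
    have h1 := (hl o hox).2.1
    have h2 := hsix.2.1
    simp only [List.length_cons, List.length_erase_of_mem ho] at h1 h2 ⊢
    omega
  have hp3 : ((f :: l f hf).erase o).Perm (l o hox) := (hnd'.subperm hsub).perm_of_length_le hlen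
  exact ((hperm.trans (hp3.cons o)).mem_iff).symm

/-- Every member of `X = D_d ∩ D_y` commutes with 45 others of it. -/
theorem ncard_common_perp (h : IsThreeTranspositionGroup D) (hp : IsPrimitiveUnderConj D)
    (h22 : IsOfTypeM22 G D) {d y x : G} (hd : d ∈ D) (hy : y ∈ D) (hdy : ¬ Commute d y) (hx : x ∈ perp D d)
    (hxy : x ∈ perp D y) : (perp D d ∩ perp D y ∩ perp D x).ncard = 45 := by
  classical
  have := Fintype.ofFinite G
  obtain ⟨M⟩ := exists_perpModel h h22 hd
  obtain ⟨B, hB⟩ := exists_block h hp h22 hd hx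
  have hyx : Commute y x := hxy.2.2
  -- exactly one of each block commutes with `y`
  have one : ∀ f ∈ perp D d ∩ perp D x, ∃ g ∈ B f, Commute y g ∧ ∀ g' ∈ B f, Commute y g' → g' = g := by
    intro f hf
    obtain ⟨-, hsix, -⟩ := hB f hf
    obtain ⟨a, l', hl'⟩ := List.exists_cons_of_length_eq_add_one (l := B f) (n := 3)
      (by have := hsix.2.1; simpa using this)
    obtain ⟨b, c, e, rfl⟩ := List.length_eq_three.1 (show l'.length = 3 by
      have := hsix.2.1; rw [hl'] at this; simpa using this)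
    have hex : ∃ g ∈ B f, Commute y g := by
      by_contra hall
      push Not at hall
      rw [hl'] at hsix hall
      exact (hsix.perm (List.Perm.swap x d _)).not_exactly_one h hy hyx (fun hh => hdy hh.symm)
        (hall a (by simp)) (hall b (by simp)) (hall c (by simp)) (hall e (by simp))
    obtain ⟨g, hg, hgy⟩ := hex
    refine ⟨g, hg, hgy, fun g' hg' hg'y => ?_⟩
    by_contra hne
    have hp1 : (B f).Perm (g :: (B f).erase g) := List.perm_cons_erase hg
    have hp2 : ((B f).erase g).Perm (g' :: ((B f).erase g).erase g') :=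
      List.perm_cons_erase ((List.mem_erase_of_ne hne).2 hg')
    obtain ⟨p, q, hpq⟩ : ∃ p q, ((B f).erase g).erase g' = [p, q] := List.length_eq_two.1 (by
      rw [List.length_erase_of_mem ((List.mem_erase_of_ne hne).2 hg'), List.length_erase_of_mem hg, hl']
      rfl)
    have hp3 : (d :: x :: B f).Perm [x, g, g', d, p, q] := by
      refine ((List.Perm.cons d (List.Perm.cons x (hp1.trans (hp2.cons g)))).trans ?_)
      rw [hpq]
      exact ((List.Perm.swap x d _).trans (List.Perm.cons x ((List.Perm.swap g d _).trans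
        (List.Perm.cons g (List.Perm.swap g' d _)))))
    exact hdy ((hsix.perm hp3).commute_all h hy hyx hgy hg'y).1.symm
  choose φ hφ hφy hφu using one
  set N : Finset G := Finset.univ.filter (fun f => f ∈ perp D d ∩ perp D x) with hN
  set X : Finset G := Finset.univ.filter (fun f => f ∈ perp D d ∩ perp D y ∩ perp D x) with hX
  have hXN : ∀ {g}, g ∈ X → g ∈ perp D d ∩ perp D x := fun {g} hg => by
    rw [hX, Finset.mem_filter] at hg; exact ⟨hg.2.1.1, hg.2.2⟩
  have hNcard : N.card = 180 := by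
    rw [← M.ncard_perp_perp hx, hN, Set.ncard_eq_toFinset_card']
    congr 1; ext z; simp only [Set.mem_toFinset, Finset.mem_filter, Finset.mem_univ, true_and]
  have hφX : ∀ f, ∀ hf : f ∈ perp D d ∩ perp D x, φ f hf ∈ perp D d ∩ perp D y ∩ perp D x := by
    intro f hf
    obtain ⟨-, hsix, -⟩ := hB f hf
    have hg := hφ f hf
    have hmem : φ f hf ∈ d :: x :: B f := by simp [hg]
    have hnd := hsix.1
    simp only [List.nodup_cons, List.mem_cons, not_or] at hnd
    have h1 : φ f hf ≠ d := fun he => hnd.1.2 (he ▸ hg)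
    have h2 : φ f hf ≠ x := fun he => hnd.2.1 (he ▸ hg)
    have hD' := hsix.2.2.1 _ hmem
    exact ⟨⟨⟨hD', h1, hsix.2.2.2.1 d (by simp) _ hmem⟩, ⟨hD',
      fun he => hdy (he ▸ hsix.2.2.2.1 d (by simp) _ hmem), hφy f hf⟩⟩, hD', h2, hsix.2.2.2.1 x (by simp) _ hmem⟩
  have hfib : ∀ g ∈ X, (N.filter fun f => ∃ hf : f ∈ perp D d ∩ perp D x, φ f hf = g).card = 4 := by
    intro g hg
    have hgN := hXN hg
    obtain ⟨-, hsix, hblk⟩ := hB g hgN
    have hnd : (B g).Nodup := (List.nodup_cons.1 (List.nodup_cons.1 hsix.1).2).2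
    have hlen : (B g).length = 4 := by have := hsix.2.1; simpa using this
    rw [← hlen, ← List.toFinset_card_of_nodup hnd]
    congr 1
    ext f
    rw [Finset.mem_filter, List.mem_toFinset]
    constructor
    · rintro ⟨-, hf, rfl⟩
      exact ((hB f hf).2.2 _ (hφ f hf) f).2 (hB f hf).1
    · intro hf
      have hfN : f ∈ perp D d ∩ perp D x := by
        have hmem : f ∈ d :: x :: B g := by simp [hf]
        have hnd' := hsix.1
        simp only [List.nodup_cons, List.mem_cons, not_or] at hnd'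
        exact ⟨⟨hsix.2.2.1 f hmem, fun he => hnd'.1.2 (he ▸ hf), hsix.2.2.2.1 d (by simp) f hmem⟩,
          ⟨hsix.2.2.1 f hmem, fun he => hnd'.2.1 (he ▸ hf), hsix.2.2.2.1 x (by simp) f hmem⟩⟩
      refine ⟨Finset.mem_filter.2 ⟨Finset.mem_univ _, hfN⟩, hfN, ?_⟩
      rw [hX, Finset.mem_filter] at hg
      exact (hφu f hfN g ((hblk f hf g).2 (hB g hgN).1) hg.2.1.2.2.2).symm
  have hsum := Finset.card_eq_sum_card_fiberwise (s := N) (t := X)
    (f := fun f => if hf : f ∈ perp D d ∩ perp D x then φ f hf else f) (fun f hf => by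
      have hf' : f ∈ perp D d ∩ perp D x := (Finset.mem_filter.1 hf).2
      simp only [dif_pos hf']
      exact Finset.mem_filter.2 ⟨Finset.mem_univ _, hφX f hf'⟩)
  have hrw : ∀ g ∈ X, (N.filter fun f => (if hf : f ∈ perp D d ∩ perp D x then φ f hf else f) = g).card = 4 :=
    fun g hg => by
      rw [← hfib g hg]
      congr 1
      refine Finset.filter_congr fun f hf => ?_
      have hf' : f ∈ perp D d ∩ perp D x := (Finset.mem_filter.1 hf).2
      rw [dif_pos hf']
      exact ⟨fun he => ⟨hf', he⟩, fun ⟨_, he⟩ => he⟩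
  rw [hNcard, Finset.sum_congr rfl hrw, Finset.sum_const, smul_eq_mul] at hsum
  rw [Set.ncard_eq_toFinset_card', show (perp D d ∩ perp D y ∩ perp D x).toFinset = X by
    ext z; simp only [hX, Set.mem_toFinset, Finset.mem_filter, Finset.mem_univ, true_and]]
  omega

/-- The counting inequality for a union `K` of components of `D_d ∩ D_y` and a set `Z` without neighbours
in `K`. -/
theorem component_bound {d : G} (M : PerpModel D d) (K Z : Finset G)
    (hK : ∀ q ∈ K, q ∈ perp D d) (hdeg : ∀ q ∈ K, ((K : Set G) ∩ perp D q).ncard = 45)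
    (hne : K.Nonempty) (hZ : ∀ p ∈ Z, p ∈ perp D d ∧ p ∉ K ∧ ∀ q ∈ K, q ∉ perp D p) :
    405 * (K.card : ℤ) ≤ (693 - K.card - Z.card) * ((K.card : ℤ) - 36) := by
  classical
  have := Fintype.ofFinite G
  set P : Finset G := Finset.univ.filter (fun p => p ∈ perp D d) with hP
  have hPcard : P.card = 693 := by
    rw [← M.ncard_perp, Set.ncard_eq_toFinset_card']; congr 1; ext z
    simp only [hP, Set.mem_toFinset, Finset.mem_filter, Finset.mem_univ, true_and]
  set r : G → G → ℕ := fun p q => if q ∈ perp D p then 1 else 0 with hr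
  set f : G → ℕ := fun p => ∑ q ∈ K, r p q with hf
  have hsymm : ∀ {p q}, p ∈ perp D d → q ∈ perp D p → p ∈ perp D q := fun hp hq => perp_symm hp.1 hq
  -- first moment
  have h1 : ∑ p ∈ P, f p = 180 * K.card := by
    simp only [hf]
    rw [Finset.sum_comm, Finset.sum_eq_card_nsmul (b := 180), smul_eq_mul, mul_comm]
    intro q hq
    simp only [hr, Finset.sum_boole, Nat.cast_id]
    rw [← M.ncard_perp_perp (hK q hq), Set.ncard_eq_toFinset_card']
    congr 1
    ext p
    simp only [hP, Finset.mem_filter, Finset.mem_univ, true_and, Set.mem_toFinset, Set.mem_inter_iff]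
    exact ⟨fun ⟨hp, hq'⟩ => ⟨hp, hsymm hp hq'⟩, fun ⟨hp, hp'⟩ => ⟨hp, perp_symm (hK q hq).1 hp'⟩⟩
  -- second moment
  have h2 : (∑ p ∈ P, (f p : ℤ) ^ 2) = (K.card : ℤ) * (45 * (K.card : ℤ) + 405) := by
    have e : ∀ p, (f p : ℤ) ^ 2 = ∑ q ∈ K, ∑ q' ∈ K, ((r p q * r p q' : ℕ) : ℤ) := fun p => by
      simp only [hf]; push_cast; rw [pow_two, Finset.sum_mul_sum]
    simp only [e]
    rw [Finset.sum_comm, Finset.sum_eq_card_nsmul (b := 45 * (K.card : ℤ) + 405)]
    · rw [nsmul_eq_mul]
    intro q hq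
    rw [Finset.sum_comm]
    have hcommon : ∀ q' ∈ K, (∑ p ∈ P, ((r p q * r p q' : ℕ) : ℤ)) =
        if q' = q then 180 else if q' ∈ perp D q then 51 else 45 := by
      intro q' hq'
      have e2 : ∀ p, ((r p q * r p q' : ℕ) : ℤ) = if q ∈ perp D p ∧ q' ∈ perp D p then 1 else 0 := fun p => by
        simp only [hr]
        by_cases ha : q ∈ perp D p
        · by_cases hb : q' ∈ perp D p
          · rw [if_pos ha, if_pos hb, if_pos ⟨ha, hb⟩]; rfl
          · rw [if_pos ha, if_neg hb, if_neg (fun hh => hb hh.2)]; rfl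
        · rw [if_neg ha, if_neg (show ¬ (q ∈ perp D p ∧ q' ∈ perp D p) from fun hh => ha hh.1), zero_mul]; rfl
      simp only [e2, Finset.sum_boole]
      have e3 : (P.filter fun p => q ∈ perp D p ∧ q' ∈ perp D p).card =
          (perp D d ∩ (perp D q ∩ perp D q')).ncard := by
        rw [Set.ncard_eq_toFinset_card']
        congr 1
        ext p
        simp only [hP, Finset.mem_filter, Finset.mem_univ, true_and, Set.mem_toFinset, Set.mem_inter_iff]
        exact ⟨fun ⟨hp, ha, hb⟩ => ⟨hp, hsymm hp ha, hsymm hp hb⟩,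
          fun ⟨hp, ha, hb⟩ => ⟨hp, perp_symm (hK q hq).1 ha, perp_symm (hK q' hq').1 hb⟩⟩
      rw [e3]
      split_ifs with ha hb
      · rw [ha, Set.inter_self, M.ncard_perp_perp (hK q hq)]; rfl
      · rw [M.ncard_perp_commute (hK q hq) (hK q' hq') (Ne.symm ha) hb.2.2]; rfl
      · rw [M.ncard_perp_not_commute (hK q hq) (hK q' hq') fun hc => hb ⟨(hK q' hq').1, ha, hc⟩]; rfl
    rw [Finset.sum_congr rfl hcommon]
    have e4 : ∀ q' ∈ K, (if q' = q then (180 : ℤ) else if q' ∈ perp D q then 51 else 45) =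
        45 + (if q' = q then 135 else 0) + (if q' ∈ perp D q then 6 else 0) := by
      intro q' _
      by_cases ha : q' = q
      · subst ha; simp
      · simp only [if_neg ha]; split_ifs <;> norm_num
    rw [Finset.sum_congr rfl e4, Finset.sum_add_distrib, Finset.sum_add_distrib, Finset.sum_const,
      Finset.sum_ite_eq' K q, if_pos hq, nsmul_eq_mul,
      ← Finset.sum_filter (s := K) (fun q' => q' ∈ perp D q) (fun _ => (6 : ℤ)), Finset.sum_const, nsmul_eq_mul]
    have e5 : (K.filter fun q' => q' ∈ perp D q).card = 45 := by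
      rw [← hdeg q hq, Set.ncard_eq_toFinset_card']
      congr 1; ext z; simp only [Set.mem_toFinset, Finset.mem_filter, Set.mem_inter_iff, Finset.mem_coe]
    rw [e5]; push_cast; ring
  -- values on `K` and `Z`
  have hKP : K ⊆ P := fun q hq => Finset.mem_filter.2 ⟨Finset.mem_univ _, hK q hq⟩
  have hfK : ∀ p ∈ K, f p = 45 := fun p hp => by
    simp only [hf, hr, Finset.sum_boole, Nat.cast_id]
    rw [← hdeg p hp, Set.ncard_eq_toFinset_card']
    congr 1; ext z; simp only [Set.mem_toFinset, Finset.mem_filter, Set.mem_inter_iff, Finset.mem_coe]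
  set O := P \ K with hO
  have hZO : Z ⊆ O := fun p hp => Finset.mem_sdiff.2
    ⟨Finset.mem_filter.2 ⟨Finset.mem_univ _, (hZ p hp).1⟩, (hZ p hp).2.1⟩
  have hfZ : ∀ p ∈ Z, f p = 0 := fun p hp => Finset.sum_eq_zero fun q hq => if_neg ((hZ p hp).2.2 q hq)
  have s1 : (∑ p ∈ O \ Z, (f p : ℤ)) = 135 * K.card := by
    have a1 := Finset.sum_sdiff (f := fun p => (f p : ℤ)) hKP
    have a2 := Finset.sum_sdiff (f := fun p => (f p : ℤ)) hZO
    rw [Finset.sum_congr (s₁ := K) rfl (fun p hp => show (f p : ℤ) = 45 by rw [hfK p hp]; rfl), Finset.sum_const,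
      nsmul_eq_mul, ← hO] at a1
    rw [Finset.sum_congr (s₁ := Z) rfl (fun p hp => show (f p : ℤ) = 0 by rw [hfZ p hp]; rfl), Finset.sum_const,
      smul_zero, add_zero] at a2
    have a3 : (∑ p ∈ P, (f p : ℤ)) = 180 * K.card := by exact_mod_cast h1
    linarith
  have s2 : (∑ p ∈ O \ Z, (f p : ℤ) ^ 2) = (K.card : ℤ) * (45 * K.card - 1620) := by
    have a1 := Finset.sum_sdiff (f := fun p => (f p : ℤ) ^ 2) hKP
    have a2 := Finset.sum_sdiff (f := fun p => (f p : ℤ) ^ 2) hZO
    rw [Finset.sum_congr (s₁ := K) rfl (fun p hp => show (f p : ℤ) ^ 2 = 2025 by rw [hfK p hp]; norm_num),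
      Finset.sum_const, nsmul_eq_mul, ← hO] at a1
    rw [Finset.sum_congr (s₁ := Z) rfl (fun p hp => show (f p : ℤ) ^ 2 = 0 by rw [hfZ p hp]; rfl), Finset.sum_const,
      smul_zero, add_zero] at a2
    linarith
  have hcard : ((O \ Z).card : ℤ) = 693 - K.card - Z.card := by
    rw [Finset.cast_card_sdiff hZO, hO, Finset.cast_card_sdiff hKP, hPcard]
    norm_num
  have hcs := sq_sum_le_card_mul_sum_sq (s := O \ Z) (f := fun p => (f p : ℤ))
  rw [s1, s2, hcard] at hcs
  have hpos : (0 : ℤ) < K.card := by exact_mod_cast hne.card_pos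
  have h3 : (K.card : ℤ) * (45 * (405 * K.card)) ≤
      (K.card : ℤ) * (45 * ((693 - K.card - Z.card) * ((K.card : ℤ) - 36))) := by
    linear_combination hcs
  exact le_of_mul_le_mul_left (le_of_mul_le_mul_left h3 hpos) (by norm_num)

/-- If `d`, `y` have a common neighbour then every member of `D_d` has a neighbour among these. -/
theorem exists_commute_common (h : IsThreeTranspositionGroup D) (hp : IsPrimitiveUnderConj D)
    (h22 : IsOfTypeM22 G D) {d y p : G} (hd : d ∈ D) (hy : y ∈ D) (hdy : ¬ Commute d y)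
    (hX : (perp D d ∩ perp D y).Nonempty) (hpd : p ∈ perp D d) (hpy : ¬ Commute y p) :
    ∃ q ∈ perp D d ∩ perp D y, q ∈ perp D p := by
  classical
  have := Fintype.ofFinite G
  by_contra hall
  push Not at hall
  obtain ⟨M⟩ := exists_perpModel h h22 hd
  set K : Finset G := (perp D d ∩ perp D y).toFinset with hK
  have hKm : ∀ {q}, q ∈ K ↔ q ∈ perp D d ∧ q ∈ perp D y :=
    fun {q} => Set.mem_toFinset
  have hnc : ∀ q ∈ K, ¬ Commute p q := fun q hq hc =>
    hall q ⟨(hKm.1 hq).1, (hKm.1 hq).2⟩ ⟨(hKm.1 hq).1.1, fun he => hpy (he ▸ (hKm.1 hq).2.2.2), hc⟩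
  have hcd : ∀ q ∈ K, Commute q d ∧ Commute q y ∧ q ∈ D :=
    fun q hq => ⟨(hKm.1 hq).1.2.2.symm, (hKm.1 hq).2.2.2.symm, (hKm.1 hq).1.1⟩
  set Z : Finset G := K.image (fun q => q * p * q) with hZ
  have hinj : Set.InjOn (fun q => q * p * q) (K : Set G) := by
    intro q hq q' hq' he
    simp only at he
    rw [braid h.1 (hcd q hq).2.2 hpd.1 (fun hc => hnc q hq hc.symm),
      braid h.1 (hcd q' hq').2.2 hpd.1 (fun hc => hnc q' hq' hc.symm)] at he
    exact mul_left_cancel (mul_right_cancel he)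
  have hcard : Z.card = K.card := Finset.card_image_of_injOn hinj
  have hdeg : ∀ q ∈ K, ((K : Set G) ∩ perp D q).ncard = 45 := fun q hq => by
    rw [hK, Set.coe_toFinset]
    exact ncard_common_perp h hp h22 hd hy hdy (hKm.1 hq).1 (hKm.1 hq).2
  have hZp : ∀ o ∈ Z, o ∈ perp D d ∧ o ∉ K ∧ ∀ q ∈ K, q ∉ perp D o := by
    intro o ho
    obtain ⟨q₀, hq₀, rfl⟩ := Finset.mem_image.1 ho
    obtain ⟨c1, c2, hqD⟩ := hcd q₀ hq₀
    have hi : q₀⁻¹ = q₀ := inv_eq h.1 hqD
    have hconj : ∀ a, Commute (q₀ * p * q₀) a ↔ Commute p (q₀ * a * q₀) := fun a => by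
      have h1 := commute_conj_iff' q₀ (q₀ * p * q₀) a
      rw [hi, show q₀ * (q₀ * p * q₀) * q₀ = p by
        simp [mul_assoc, mul_self h.1 hqD, mul_self_cancel h.1 hqD]] at h1
      exact h1.symm
    have hmem : q₀ * p * q₀ ∈ perp D d := by
      have h1 := conj_mem_perp h c1 hpd
      rwa [hi] at h1
    refine ⟨hmem, fun hK' => hpy ?_, fun q hq hqo => ?_⟩
    · have h1 := (hconj y).1 (hKm.1 hK').2.2.2.symm
      rw [c2.eq, mul_assoc, mul_self h.1 hqD, mul_one] at h1
      exact h1.symm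
    · have hm : q₀ * q * q₀ ∈ K := by
        have h1 := conj_mem_perp h c1 (hKm.1 hq).1
        have h2 := conj_mem_perp h c2 (hKm.1 hq).2
        rw [hi] at h1 h2
        exact hKm.2 ⟨h1, h2⟩
      exact hnc _ hm ((hconj q).1 hqo.2.2)
  have hb := component_bound M K Z (fun q hq => (hKm.1 hq).1) hdeg (by rw [hK, Set.toFinset_nonempty]; exact hX) hZp
  rw [hcard] at hb
  nlinarith [sq_nonneg ((K.card : ℤ) - 90)]

/-- Every two non-commuting members have a common neighbour. -/
theorem common_nonempty (h : IsThreeTranspositionGroup D) (hp : IsPrimitiveUnderConj D)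
    (h22 : IsOfTypeM22 G D) {d y : G} (hd : d ∈ D) (hy : y ∈ D) (hdy : ¬ Commute d y) :
    (perp D d ∩ perp D y).Nonempty := by
  obtain ⟨M⟩ := exists_perpModel h h22 hd
  obtain ⟨e, he⟩ : (perp D d).Nonempty := by
    by_contra hne
    have h1 := M.ncard_perp
    rw [Set.not_nonempty_iff_eq_empty.1 hne, Set.ncard_empty] at h1
    omega
  suffices key : ∀ z, Relation.ReflTransGen (Adj D) d z → ¬ Commute d z →
      (perp D d ∩ perp D z).Nonempty from key y (reach_of_primitive h hp hd he hy) hdy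
  intro z hz
  induction hz with
  | refl => exact fun hc => absurd (Commute.refl _) hc
  | @tail b c _ hbc ih =>
    intro hdc
    by_cases hdb : Commute d b
    · have hbd : b ≠ d := fun he' => hdc (he' ▸ hbc.2.2.2)
      exact ⟨b, ⟨hbc.1, hbd, hdb⟩, perp_symm hbc.1 hbc.2⟩
    · have hX := ih hdb
      obtain ⟨q, hq, hqc⟩ := exists_commute_common h hp h22 hbc.1 hd (fun hh => hdb hh.symm)
        (by rwa [Set.inter_comm]) hbc.2 hdc
      exact ⟨q, hq.2, hqc⟩

/-- The common neighbours of two non-commuting members are connected. -/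
theorem common_connected (h : IsThreeTranspositionGroup D) (hp : IsPrimitiveUnderConj D)
    (h22 : IsOfTypeM22 G D) {d y : G} (hd : d ∈ D) (hy : y ∈ D) (hdy : ¬ Commute d y) {x x' : G}
    (hx : x ∈ perp D d ∩ perp D y) (hx' : x' ∈ perp D d ∩ perp D y) :
    Relation.ReflTransGen (fun a b => b ∈ perp D d ∩ perp D y ∧ b ∈ perp D a) x x' := by
  classical
  have := Fintype.ofFinite G
  by_contra hall
  obtain ⟨M⟩ := exists_perpModel h h22 hd
  set R : G → G → Prop := fun a b => b ∈ perp D d ∩ perp D y ∧ b ∈ perp D a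
  have hsym : ∀ {a}, a ∈ perp D d ∩ perp D y → ∀ {b}, Relation.ReflTransGen R a b →
      b ∈ perp D d ∩ perp D y ∧ Relation.ReflTransGen R b a := by
    intro a ha b hab
    induction hab with
    | refl => exact ⟨ha, .refl⟩
    | @tail u v _ hr ih => exact ⟨hr.1, .head ⟨ih.1, perp_symm ih.1.1.1 hr.2⟩ ih.2⟩
  set X : Finset G := (perp D d ∩ perp D y).toFinset with hX
  set K₁ : Finset G := X.filter (fun z => Relation.ReflTransGen R x z) with hK₁
  set K₂ : Finset G := X.filter (fun z => ¬ Relation.ReflTransGen R x z) with hK₂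
  have hmX : ∀ {z}, z ∈ X ↔ z ∈ perp D d ∩ perp D y := fun {z} => Set.mem_toFinset
  have hdegX : ∀ q ∈ X, ((X : Set G) ∩ perp D q).ncard = 45 := fun q hq => by
    rw [hX, Set.coe_toFinset]
    exact ncard_common_perp h hp h22 hd hy hdy (hmX.1 hq).1 (hmX.1 hq).2
  have hdeg₁ : ∀ q ∈ K₁, ((K₁ : Set G) ∩ perp D q).ncard = 45 := fun q hq => by
    rw [hK₁, Finset.mem_filter] at hq
    rw [← hdegX q hq.1]
    congr 1
    ext z
    simp only [hK₁, Set.mem_inter_iff, Finset.coe_filter, Set.mem_ofPred_eq, Finset.mem_coe]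
    exact ⟨fun hz => ⟨hz.1.1, hz.2⟩, fun hz => ⟨⟨hz.1, hq.2.tail ⟨hmX.1 hz.1, hz.2⟩⟩, hz.2⟩⟩
  have hdeg₂ : ∀ q ∈ K₂, ((K₂ : Set G) ∩ perp D q).ncard = 45 := fun q hq => by
    rw [hK₂, Finset.mem_filter] at hq
    rw [← hdegX q hq.1]
    congr 1
    ext z
    simp only [hK₂, Set.mem_inter_iff, Finset.coe_filter, Set.mem_ofPred_eq, Finset.mem_coe]
    exact ⟨fun hz => ⟨hz.1.1, hz.2⟩, fun hz =>
      ⟨⟨hz.1, fun hh => hq.2 (hh.tail ⟨hmX.1 hq.1, perp_symm (hmX.1 hq.1).1.1 hz.2⟩)⟩, hz.2⟩⟩
  have hd' : ∀ q ∈ X, q ∈ perp D d := fun q hq => (hmX.1 hq).1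
  have b₁ := component_bound M K₁ ∅ (fun q hq => hd' q (Finset.mem_filter.1 hq).1) hdeg₁
    ⟨x, Finset.mem_filter.2 ⟨hmX.2 hx, .refl⟩⟩ (fun p hp => absurd hp (Finset.notMem_empty p))
  have b₂ := component_bound M K₂ ∅ (fun q hq => hd' q (Finset.mem_filter.1 hq).1) hdeg₂
    ⟨x', Finset.mem_filter.2 ⟨hmX.2 hx', hall⟩⟩ (fun p hp => absurd hp (Finset.notMem_empty p))
  have bX := component_bound M X ∅ hd' hdegX ⟨x, hmX.2 hx⟩ (fun p hp => absurd hp (Finset.notMem_empty p))
  have hsum : K₁.card + K₂.card = X.card :=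
    Finset.card_filter_add_card_filter_not (s := X) (fun z => Relation.ReflTransGen R x z)
  simp only [Finset.card_empty, Nat.cast_zero, sub_zero] at b₁ b₂ bX
  have hs : (K₁.card : ℤ) + K₂.card = X.card := by exact_mod_cast hsum
  have l₁ : (126 : ℤ) ≤ K₁.card := by nlinarith
  have l₂ : (126 : ℤ) ≤ K₂.card := by nlinarith
  nlinarith

end CfsgLib.FischerTypes
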