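import Cfsg.Agent.FischerTypes.U62Model

/-!
# Geometry of the isotropic points of `PSU(6,2)`

Transvection images are the only 3-transpositions, transitivity on orthogonal pairs, common neighbours,
generation by the transvections orthogonal to one of two points, and the five points of a line as the only
solution of the relation of length five.
-/

set_option autoImplicit false

namespace CfsgLib.U62

open Matrix CfsgLib.RepBounds.Unit

variable {F : Type*} [Field F] [Fintype F] (C : ConjField F)

local notation "V6" => (I6 → F)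
local notation "ee" => vE C (Fin 2 ⊕ Fin 2)
local notation "ff" => vF C (Fin 2 ⊕ Fin 2)
local notation "ee2" => inW (vE C (Fin 2))

variable (hC : C.q = 2)
include hC

/-- A linear map is determined on isotropic vectors. -/
theorem eq_of_eq_on_isotropic {ι κ : Type*} [Fintype ι] [DecidableEq ι] [Nontrivial ι]
    (L M : (ι → F) →ₗ[F] (κ → F)) (h : ∀ v, herm C v v = 0 → L v = M v) : L = M := by
  obtain ⟨ω, hω0, hω1, -⟩ := exists_omega C hC
  refine LinearMap.pi_ext fun j a => ?_
  obtain ⟨i, hij⟩ := exists_ne j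
  have hiso : ∀ a : F, a ≠ 0 → herm C (Pi.single i 1 + a • Pi.single j 1)
      (Pi.single i 1 + a • Pi.single j 1) = 0 := by
    intro a ha
    simp only [herm_add_left, herm_add_right, herm_smul_left, herm_smul_right]
    simp [herm, Pi.single_apply, hij, hij.symm]
    linear_combination norm_eq_one C hC ha + two_eq_zero C hC
  have h1 := h _ (hiso 1 one_ne_zero)
  have h2 := h _ (hiso ω hω0)
  simp only [map_add, map_smul, one_smul] at h1 h2
  have h3 : (ω - 1) • L (Pi.single j 1) = (ω - 1) • M (Pi.single j 1) := by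
    have := congrArg₂ (· - ·) h2 h1
    simp only [add_sub_add_left_eq_sub] at this
    rw [sub_smul, sub_smul, one_smul, one_smul]
    exact this
  rw [show (Pi.single j a : ι → F) = a • Pi.single j 1 by rw [← Pi.single_smul, smul_eq_mul, mul_one], map_smul, map_smul,
    smul_right_injective (κ → F) (sub_ne_zero.mpr hω1) h3]

omit hC in
theorem mem_center_of_smul {g : suG C I6} {a : F} (h : ∀ x, app C g x = a • x) :
    g ∈ Subgroup.center (suG C I6) :=
  Subgroup.mem_center_iff.2 fun k => suG_ext C fun x => by rw [app_mul, app_mul, h, app_smul, h]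

/-- A central element fixing a non-zero isotropic vector is trivial. -/
theorem center_eq_one {z : suG C I6} (hz : z ∈ Subgroup.center (suG C I6)) {v : V6}
    (hv : herm C v v = 0) (hv0 : v ≠ 0) (h : app C z v = v) : z = 1 := by
  have hfix : ∀ u, herm C u u = 0 → app C z u = u := by
    intro u hu
    by_cases hu0 : u = 0
    · rw [hu0]; simp [app]
    obtain ⟨g, hg⟩ := exists_map_eq C hv hv0
    obtain ⟨k, hk⟩ := exists_map_eq C hu hu0
    have hu' : u = app C (k⁻¹ * g) v := by rw [app_mul, hg, ← hk, app_inv_app]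
    rw [hu', ← app_mul, ← Subgroup.mem_center_iff.1 hz, app_mul, h]
  have : Nontrivial I6 := ⟨⟨Sum.inl 0, Sum.inl 1, by simp⟩⟩
  have h1 := eq_of_eq_on_isotropic C hC (Matrix.mulVecLin z.1.1) LinearMap.id
    (fun u hu => hfix u hu)
  exact suG_ext C fun x => by rw [app_one]; exact LinearMap.congr_fun h1 x

theorem eq_smul_of_tv_eq {ι : Type*} [Fintype ι] [DecidableEq ι] {v w : ι → F} (hv : herm C v v = 0)
    (hw : herm C w w = 0) (hw0 : w ≠ 0) (h : tv C v = tv C w) : ∃ a : F, w = a • v := by
  obtain ⟨y, hy⟩ := exists_herm_eq C hw0 1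
  have h1 := congrArg (fun g => app C g y) h
  simp only [app_tv C hC hv, app_tv C hC hw, add_right_inj, hy, one_smul] at h1
  exact ⟨_, h1.symm⟩

section theta

variable {S : Type*} [Group S] (θ : suG C I6 →* S) (hker : θ.ker = Subgroup.center (suG C I6))
include hker

omit hC in
theorem mem_center_of_map_eq_one {g : suG C I6} (h : θ g = 1) : g ∈ Subgroup.center (suG C I6) :=
  hker ▸ h

theorem eq_smul_of_map_eq {v w : V6} (hv : herm C v v = 0) (hw : herm C w w = 0) (hw0 : w ≠ 0)
    (h : θ (tv C v) = θ (tv C w)) : ∃ a : F, a ≠ 0 ∧ w = a • v := by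
  have hz : (tv C v)⁻¹ * tv C w ∈ Subgroup.center (suG C I6) :=
    mem_center_of_map_eq_one C θ hker (by rw [map_mul, map_inv, h, inv_mul_cancel])
  have h3 := center_pow_three C hC hz
  set z := (tv C v)⁻¹ * tv C w with hzd
  have hw' : tv C w = tv C v * z := by rw [hzd, mul_inv_cancel_left]
  have h2 : z * z = 1 := by
    have e := tv_mul_self C hC hw
    rw [hw', mul_assoc, ← mul_assoc z (tv C v) z, ← Subgroup.mem_center_iff.1 hz (tv C v),
      mul_assoc (tv C v) z z, ← mul_assoc (tv C v), tv_mul_self C hC hv, one_mul] at e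
    exact e
  have hz1 : z = 1 := by
    rw [pow_succ, pow_two, h2, one_mul] at h3
    exact h3
  rw [hz1, mul_one] at hw'
  obtain ⟨a, ha⟩ := eq_smul_of_tv_eq C hC hv hw hw0 hw'.symm
  exact ⟨a, fun h0 => hw0 (by rw [ha, h0, zero_smul]), ha⟩

theorem orth_of_commute {v w : V6} (hv : herm C v v = 0) (hw : herm C w w = 0) (hw0 : w ≠ 0)
    (h : Commute (θ (tv C v)) (θ (tv C w))) : herm C w v = 0 := by
  by_contra hne
  have hc : tv C v * tv C w * (tv C v)⁻¹ = tv C (app C (tv C v) w) := conj_tv C hC _ hw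
  have h1 : θ (tv C (app C (tv C v) w)) = θ (tv C w) := by
    rw [← hc, map_mul, map_mul, map_inv, h.eq, mul_inv_cancel_right]
  obtain ⟨a, ha0, ha⟩ := eq_smul_of_map_eq C hC θ hker (by rw [herm_app, hw]) hw hw0 h1
  rw [app_tv C hC hv] at ha
  have h2 := congrArg (fun x => herm C x v) ha
  simp only [herm_smul_left, herm_add_left, hv, mul_zero, add_zero] at h2
  have ha1 : a = 1 := mul_right_cancel₀ hne (by rw [one_mul]; exact h2.symm)
  rw [ha1, one_smul, left_eq_add, smul_eq_zero] at ha
  rcases ha with h0 | h0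
  · exact hne h0
  · exact hne (by rw [h0, herm_zero_right])

end theta

omit hC in
/-- `SU(6,2)` is transitive on orthogonal pairs of isotropic points. -/
theorem exists_map_pair {u v : V6} (hu : herm C u u = 0) (hv : herm C v v = 0) (hvu : herm C v u = 0)
    (hu0 : u ≠ 0) (hne : ∀ a : F, v ≠ a • u) :
    ∃ g : suG C I6, app C g u = ee ∧ app C g v = ee2 := by
  obtain ⟨g, hg⟩ := exists_map_eq C hu hu0
  set q := app C g v with hq
  have hqq : herm C q q = 0 := by rw [hq, herm_app, hv]
  have hqe : herm C q ee = 0 := by rw [← hg, hq, herm_app, hvu]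
  have hd := decomp C q
  rw [hqe, zero_smul, add_zero] at hd
  set a := herm C q ff
  set w := q ∘ Sum.inr
  have hw0 : w ≠ 0 := fun h => hne a (by
    rw [h, inW_zero, add_zero] at hd
    rw [← app_inv_app C g v, ← hq, hd, app_smul, ← hg, app_inv_app])
  obtain ⟨w', hw'⟩ := exists_herm_eq C hw0 (C.σ (-a))
  have hww' : herm C w w' = -a := by rw [← conj_herm, hw', C.invol]
  have hc : -(herm C w' w' * tA C) + C.σ (-(herm C w' w' * tA C)) + herm C w' w' = 0 := by
    rw [map_neg, map_mul, herm_self_fixed]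
    linear_combination (-herm C w' w') * tA_spec C
  set K : suG C I6 := uniEl C w' _ hc with hK
  have hKq : app C K (inW w) = q := by
    rw [hK, app_uniEl, herm_inW_vE, herm_inW, zero_smul, add_zero, hww', neg_smul, sub_neg_eq_add, add_comm]
    exact hd.symm
  have hww : herm C w w = 0 := by rw [← herm_inW C w w, ← herm_app C K, hKq, hqq]
  obtain ⟨t, -, ht⟩ := exists_to_vE C hww hw0
  have hbe : app C (blockHom C _ t) ee = ee := by
    rw [app_blockHom]
    ext (i | i)
    · rfl
    · simp [vE, app, Function.comp_def, show (fun _ : Fin 2 ⊕ Fin 2 => (0 : F)) = 0 from rfl]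
  refine ⟨blockHom C _ t * K⁻¹ * g, ?_, ?_⟩
  · rw [app_mul, hg, app_mul, show app C K⁻¹ ee = ee by
      conv_lhs => rw [← app_uniEl_vE C w' _ hc, app_inv_app], hbe]
  · rw [app_mul, ← hq, ← hKq, app_mul, app_inv_app, app_blockHom]
    simp only [inW, Sum.elim_comp_inl, Sum.elim_comp_inr, ht]

omit hC in
/-- Any two isotropic points have a common orthogonal one. -/
theorem exists_common_orth {u v : V6} (hu : herm C u u = 0) (hv : herm C v v = 0) (hu0 : u ≠ 0)
    (huv : herm C v u ≠ 0) : ∃ w, herm C w w = 0 ∧ w ≠ 0 ∧ herm C w u = 0 ∧ herm C w v = 0 ∧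
      (∀ a : F, w ≠ a • u) ∧ ∀ a : F, w ≠ a • v := by
  obtain ⟨g, hg⟩ := exists_map_eq C hu hu0
  have hx : herm C (app C g v) ee ≠ 0 := by rw [← hg, herm_app]; exact huv
  obtain ⟨k, hk, hk'⟩ := CfsgLib.Forms4.exists_translate C (x := app C g v) (by rw [herm_app, hv]) hx
  set b := herm C (app C g v) ee
  set r : suG C I6 := k⁻¹ * g with hr
  have hru : app C r u = ee := by
    rw [hr, app_mul, hg]
    conv_lhs => rw [← hk, app_inv_app]
  have hrv : app C r v = b • ff := by rw [hr, app_mul, hk', app_smul, app_inv_app]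
  set w := app C r⁻¹ ee2 with hw
  have h0 : herm C (ee2 : V6) ee2 = 0 := by rw [herm_inW, herm_vE_vE]
  have hwu : herm C w u = 0 := by rw [hw, herm_app_left, hru, herm_inW_vE]
  have hwv : herm C w v = 0 := by rw [hw, herm_app_left, hrv, herm_smul_right, herm_inW_vF, mul_zero]
  have hw0 : w ≠ 0 := fun h => by
    have h1 : app C r w = app C r 0 := by rw [h]
    rw [hw, app_app_inv] at h1
    have h2 := congrArg (fun x => herm C x (inW (vF C (Fin 2)))) h1
    simp [app, herm_inW, herm_vE_vF, herm_zero_left] at h2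
  refine ⟨w, by rw [hw, herm_app, h0], hw0, hwu, hwv, fun a ha => ?_, fun a ha => ?_⟩
  · have h1 := congrArg (fun x => herm C x v) ha
    simp only [herm_smul_left, hwv] at h1
    rcases mul_eq_zero.1 h1.symm with h2 | h2
    · exact hw0 (by rw [ha, h2, zero_smul])
    · exact huv (by rw [← conj_herm, h2, map_zero])
  · have h1 := congrArg (fun x => herm C x u) ha
    simp only [herm_smul_left, hwu] at h1
    rcases mul_eq_zero.1 h1.symm with h2 | h2
    · exact hw0 (by rw [ha, h2, zero_smul])
    · exact huv h2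

/-- The elements fixing every point orthogonal to `e`. -/
theorem center_or_tv_of_fix_orth {g : suG C I6}
    (h : ∀ x, herm C x x = 0 → x ≠ 0 → herm C x ee = 0 → ∃ a : F, app C g x = a • x) :
    g ∈ Subgroup.center (suG C I6) ∨ g * tv C ee ∈ Subgroup.center (suG C I6) := by
  have he0 : (ee : V6) ≠ 0 := CfsgLib.Forms4.vE_ne_zero C
  obtain ⟨μ, hμ⟩ := h ee (herm_vE_vE C) he0 (herm_vE_vE C)
  have hμ0 : μ ≠ 0 := fun h0 => he0 (by rw [← app_inv_app C g ee, hμ, h0, zero_smul]; simp [app])
  have hW : ∀ w, app C g (inW w) = μ • inW w := by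
    have : Nontrivial (Fin 2 ⊕ Fin 2) := ⟨⟨Sum.inl 0, Sum.inl 1, by simp⟩⟩
    have key := eq_of_eq_on_isotropic C hC
      ({ toFun := fun w => app C g (inW w), map_add' := fun a b => by simp [inW_add, app_add]
         map_smul' := fun a b => by simp [inW_smul, app_smul] } : (Fin 2 ⊕ Fin 2 → F) →ₗ[F] V6)
      ({ toFun := fun w => μ • inW w, map_add' := fun a b => by simp [inW_add]
         map_smul' := fun a b => by simp [inW_smul, smul_comm μ a] } : (Fin 2 ⊕ Fin 2 → F) →ₗ[F] V6)
      (fun w hw => by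
        show app C g (inW w) = μ • inW w
        by_cases hw0 : w = 0
        · rw [hw0, inW_zero]; simp [app]
        obtain ⟨a, ha⟩ := h (inW w) (by rw [herm_inW, hw])
          (fun h0 => hw0 (funext fun i => congrFun h0 (Sum.inr i))) (herm_inW_vE C w)
        obtain ⟨b, hb⟩ := h (ee + inW w)
          (by simp [herm_add_left, herm_add_right, herm_vE_vE, herm_vE_inW, herm_inW_vE, herm_inW, hw])
          (fun h0 => hw0 (funext fun i => by simpa [inW, vE] using congrFun h0 (Sum.inr i)))
          (by simp [herm_add_left, herm_vE_vE, herm_inW_vE])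
        rw [app_add, hμ, ha, smul_add] at hb
        have h1 := congrArg (fun x => herm C x ff) hb
        simp only [herm_add_left, herm_smul_left, herm_vE_vF, herm_inW_vF, mul_zero, add_zero, mul_one]
          at h1
        rw [← h1] at hb
        rw [ha, add_left_cancel hb])
    exact fun w => LinearMap.congr_fun key w
  set y := app C g ff with hy
  have hye : herm C y ee = μ := by
    have h1 := herm_app C g ff ee
    rw [← hy, hμ, herm_smul_right, herm_vF_vE] at h1
    calc herm C y ee = μ * (C.σ μ * herm C y ee) := by rw [← mul_assoc, norm_eq_one C hC hμ0, one_mul]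
      _ = μ := by rw [h1, mul_one]
  have hyW : y ∘ Sum.inr = (0 : Fin 2 ⊕ Fin 2 → F) := by
    by_contra hw0
    obtain ⟨w, hw⟩ := exists_herm_eq C hw0 1
    have h1 := herm_app C g ff (inW w)
    rw [← hy, hW, herm_smul_right, herm_vF_inW, decomp C y] at h1
    simp only [herm_add_left, herm_smul_left, herm_vE_inW, herm_vF_inW, herm_inW, mul_zero, zero_add] at h1
    rw [← conj_herm C w, hw, map_one, mul_one, map_eq_zero] at h1
    exact hμ0 h1
  set c := herm C y ff with hc
  have hyd : y = c • ee + μ • ff := by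
    conv_lhs => rw [decomp C y, hye, hyW, inW_zero, add_zero]
  have hg : ∀ x, app C g x = μ • x + (herm C x ee * c) • ee := by
    intro x
    conv_lhs => rw [decomp C x, app_add, app_add, app_smul, app_smul, hμ, hW, ← hy, hyd]
    conv_rhs => arg 1; rw [decomp C x]
    module
  by_cases hc0 : c = 0
  · exact Or.inl (mem_center_of_smul C (a := μ) fun x => by rw [hg, hc0, mul_zero, zero_smul, add_zero])
  · right
    have hiso : c * C.σ μ + μ * C.σ c = 0 := by
      have h1 := herm_app C g ff ff
      rw [← hy, hyd] at h1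
      simpa [herm_add_left, herm_add_right, herm_smul_left, herm_smul_right, herm_vE_vE, herm_vE_vF,
        herm_vF_vE, herm_vF_vF, mul_comm, add_comm] using h1
    have h1 : c * C.σ μ = 1 := by
      refine eq_one_of_fixed C hC ?_ (mul_ne_zero hc0 ((map_ne_zero C.σ).2 hμ0))
      rw [map_mul, C.invol, mul_comm (C.σ c), ← neg_eq C hC (c * C.σ μ)]
      exact eq_neg_of_add_eq_zero_right hiso
    have hcμ : c = μ := by
      calc c = c * C.σ μ * μ := by rw [mul_assoc, mul_comm (C.σ μ), norm_eq_one C hC hμ0, mul_one]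
        _ = μ := by rw [h1, one_mul]
    refine mem_center_of_smul C (a := μ) fun x => ?_
    rw [app_mul, app_tv C hC (herm_vE_vE C), hg, hcμ, herm_add_left, herm_smul_left, herm_vE_vE, mul_zero,
      add_zero]
    have h2 : (μ + μ : F) = 0 := add_self C hC μ
    calc μ • (x + herm C x ee • ee) + (herm C x ee * μ) • ee = μ • x + ((μ + μ) * herm C x ee) • ee := by
          module
      _ = μ • x := by rw [h2, zero_mul, zero_smul, add_zero]

/-- The transvections orthogonal to one of two orthogonal points generate all. -/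
theorem tv_mem_of_orth_pair (M : Subgroup (suG C I6)) {u v : V6} (hu : herm C u u = 0)
    (hv : herm C v v = 0) (hvu : herm C v u = 0) (hu0 : u ≠ 0) (hne : ∀ a : F, v ≠ a • u)
    (hM : ∀ x, herm C x x = 0 → x ≠ 0 → (herm C x u = 0 ∨ herm C x v = 0) → tv C x ∈ M)
    {r : V6} (hr : herm C r r = 0) (hr0 : r ≠ 0) : tv C r ∈ M := by
  obtain ⟨g, hgu, hgv⟩ := exists_map_pair C hu hv hvu hu0 hne
  by_cases h1 : herm C r u = 0
  · exact hM r hr hr0 (Or.inl h1)
  by_cases h2 : herm C r v = 0
  · exact hM r hr hr0 (Or.inr h2)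
  set r' := app C g r
  have ha : herm C r' ee ≠ 0 := by rw [← hgu, herm_app]; exact h1
  have hc : herm C r' ee2 ≠ 0 := by rw [← hgv, herm_app]; exact h2
  obtain ⟨ε, hε⟩ : ∃ ε : F, C.σ ε = (1 - herm C r' ff / herm C r' ee) * herm C r' ee / herm C r' ee2 :=
    ⟨C.σ _, C.invol _⟩
  set s : V6 := ff + ε • ee2 with hs
  have hss : herm C s s = 0 := by
    simp [hs, herm_add_left, herm_add_right, herm_smul_left, herm_smul_right, herm_vF_vF, herm_vF_inW,
      herm_inW_vF, herm_inW, herm_vE_vE]
  have hse : herm C s ee = 1 := by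
    simp [hs, herm_add_left, herm_smul_left, herm_vF_vE, herm_inW_vE]
  have hs2 : herm C s ee2 = 0 := by
    simp [hs, herm_add_left, herm_smul_left, herm_vF_inW, herm_inW, herm_vE_vE]
  have hrs : herm C r' s = herm C r' ee := by
    rw [hs, herm_add_right, herm_smul_right, hε]
    field_simp
    ring
  set s' := app C g⁻¹ s with hs'
  have hs'm : tv C s' ∈ M := hM s' (by rw [hs', herm_app, hss])
    (fun h0 => by
      have : s = 0 := by rw [← app_app_inv C g s, ← hs', h0]; simp [app]
      rw [this, herm_zero_left] at hse; exact zero_ne_one hse)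
    (Or.inr (by rw [hs', herm_app_left, hgv, hs2]))
  have hs'' : herm C s' s' = 0 := by rw [hs', herm_app, hss]
  set t := app C (tv C s') r with ht
  have htu : herm C t u = 0 := by
    rw [ht, app_tv C hC hs'', herm_add_left, herm_smul_left, hs', herm_app_left, hgu, hse, mul_one,
      ← conj_herm C (app C g⁻¹ s) r, herm_app_left, conj_herm,
      show app C g r = r' from rfl, hrs, ← hgu, herm_app, add_self C hC]
  have htm : tv C t ∈ M := hM t (by rw [ht, herm_app, hr])
    (fun h0 => hr0 (by rw [← app_inv_app C (tv C s') r, ← ht, h0]; simp [app])) (Or.inl htu)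
  rw [show r = app C (tv C s')⁻¹ t by rw [ht, app_inv_app], ← conj_tv C hC _ (by rw [ht, herm_app, hr])]
  exact mul_mem (mul_mem (inv_mem hs'm) htm) (inv_mem (inv_mem hs'm))

/-- The image of the transvections generates. -/
theorem top_of_tv_mem {S : Type*} [Group S] (θ : suG C I6 →* S) (hθ : Function.Surjective θ)
    (M : Subgroup S) (hM : ∀ r, herm C r r = 0 → r ≠ 0 → θ (tv C r) ∈ M) : M = ⊤ := by
  rw [eq_top_iff]
  intro s _
  obtain ⟨g, rfl⟩ := hθ s
  have : transvs C I6 ≤ M.comap θ := by
    rw [transvs, Subgroup.closure_le]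
    rintro g ⟨v, c, hv, hc, hg⟩
    show θ g ∈ M
    by_cases hv0 : v = 0
    · rw [show g = 1 from suG_ext C fun x => by rw [hg x, hv0, smul_zero, add_zero, app_one], map_one]
      exact one_mem _
    by_cases hc0 : c = 0
    · rw [show g = 1 from suG_ext C fun x => by rw [hg x, hc0, zero_mul, zero_smul, add_zero, app_one],
        map_one]
      exact one_mem _
    have hc1 : c = 1 := eq_one_of_fixed C hC (by rw [C.skew_eq hc, neg_eq C hC]) hc0
    rw [hc1] at hg
    rw [hg.unique C (isTransv_tv C hC hv)]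
    exact hM v hv hv0
  exact this (by rw [transvs_eq_top C (by simp)]; exact Subgroup.mem_top g)

/-- One step of the decomposition of an involution. -/
theorem exists_peel {g : suG C I6} (hg : g * g = 1) (h1 : g ≠ 1) :
    ∃ u v : V6, v = app C g u + u ∧ herm C v v = 0 ∧ herm C v u = 1 ∧ (g * tv C v) * (g * tv C v) = 1 ∧
      (∀ z, app C (g * tv C v) z + z = app C g (z + herm C z v • u) + (z + herm C z v • u)) ∧
      ∀ z, herm C (app C (g * tv C v) z + z) u = 0 := by
  obtain ⟨ω, -, hω1, hω⟩ := exists_omega C hC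
  set N : V6 → V6 := fun x => app C g x + x with hN
  have hNN : ∀ x, N (N x) = 0 := fun x => by
    show app C g (app C g x + x) + (app C g x + x) = 0
    rw [app_add, ← app_mul, hg, app_one, add_comm x, vec_add_self C hC]
  have hfix : ∀ x, app C g x = x ↔ N x = 0 := fun x => by
    refine ⟨fun h => by show app C g x + x = 0; rw [h, vec_add_self C hC], fun h => ?_⟩
    have : app C g x + x + x = x := by rw [show app C g x + x = 0 from h, zero_add]
    rwa [add_assoc, vec_add_self C hC, add_zero] at this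
  have hNs : ∀ x y, herm C (N x) y = herm C x (N y) := herm_moved C hg
  obtain ⟨u, hu⟩ : ∃ u, herm C (N u) u ≠ 0 := by
    by_contra hall
    push Not at hall
    refine h1 (suG_ext C fun x => ?_)
    rw [app_one, hfix]
    by_contra hx
    obtain ⟨y, hy⟩ := exists_herm_eq C hx 1
    have hsym : ∀ a b, C.σ (herm C (N a) b) = herm C (N a) b := fun a b => by
      have h := hall (a + b)
      have e : N (a + b) = N a + N b := by
        show app C g (a + b) + (a + b) = (app C g a + a) + (app C g b + b)
        rw [app_add]; abel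
      rw [e, herm_add_left, herm_add_right, herm_add_right, hall, hall, zero_add, add_zero] at h
      rw [conj_herm, ← hNs, ← neg_eq C hC (herm C (N a) b)]
      exact eq_neg_of_add_eq_zero_right h
    have hy' : herm C (N x) y = 1 := by rw [← conj_herm, hy, map_one]
    have h := hsym x (ω • y)
    rw [herm_smul_right, hy', mul_one, C.invol] at h
    exact hω1 (eq_one_of_fixed C hC h.symm (fun h0 => by simp [h0] at hω))
  have hb : herm C (N u) u = 1 := eq_one_of_fixed C hC (by rw [conj_herm, ← hNs]) hu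
  set v := N u with hv
  have hvv : herm C v v = 0 := by rw [hv, ← hNs, hNN, herm_zero_left]
  have hgv : app C g v = v := (hfix v).2 (hNN u)
  have hcm : g * tv C v = tv C v * g := by
    have := conj_tv C hC g hvv
    rwa [hgv, mul_inv_eq_iff_eq_mul] at this
  have hg2 : (g * tv C v) * (g * tv C v) = 1 := by
    rw [mul_assoc, ← mul_assoc (tv C v) g, ← hcm, mul_assoc g, tv_mul_self C hC hvv, mul_one, hg]
  have happ : ∀ z, app C (g * tv C v) z + z = app C g (z + herm C z v • u) + (z + herm C z v • u) :=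
    fun z => by
      rw [app_mul, app_tv C hC hvv, app_add, app_smul, hgv, app_add, app_smul, hv]
      show _ = _
      simp only [hN]
      module
  refine ⟨u, v, rfl, hvv, hb, hg2, happ, fun z => ?_⟩
  rw [happ]
  show herm C (N (z + herm C z v • u)) u = 0
  rw [hNs, herm_add_left, herm_smul_left, show herm C u (N u) = 1 by rw [← hNs, hb], mul_one,
    add_self C hC]

/-- An involution whose image is a 3-transposition is a transvection. -/
theorem exists_tv_of_threeTransposition {S : Type*} [Group S] (θ : suG C I6 →* S)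
    (hker : θ.ker = Subgroup.center (suG C I6)) {g : suG C I6} (hg : g * g = 1) (h1 : g ≠ 1)
    (h3t : ∀ k : suG C I6, θ (g * (k * g * k⁻¹)) ^ 2 = 1 ∨ θ (g * (k * g * k⁻¹)) ^ 3 = 1) :
    ∃ v : V6, herm C v v = 0 ∧ v ≠ 0 ∧ g = tv C v := by
  have contra : ∀ (k : suG C I6) (a a' b b' : V6), herm C a a = 0 → herm C a' a' = 0 → herm C b b = 0 →
      herm C b' b' = 0 → a' ≠ 0 → b ≠ 0 → herm C a' a ≠ 0 → herm C b a = 0 → herm C b a' = 0 →
      herm C b' a = 0 → herm C b' a' = 0 → herm C b' b = 0 → (∀ c : F, b' ≠ c • b) →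
      g * (k * g * k⁻¹) = (tv C a * tv C a') * (tv C b * tv C b') → False := by
    intro k a a' b b' haa ha'a' hbb hb'b' ha'0 hb0 haa' hba hba' hb'a hb'a' hb'b hind heq
    set P := tv C a * tv C a' with hP
    set Q := tv C b * tv C b' with hQ
    have cab := commute_tv C hC haa hbb hba
    have cab' := commute_tv C hC haa hb'b' hb'a
    have ca'b := commute_tv C hC ha'a' hbb hba'
    have ca'b' := commute_tv C hC ha'a' hb'b' hb'a'
    have cbb' := commute_tv C hC hbb hb'b' hb'b
    have hPQ : Commute P Q := (cab.mul_right cab').mul_left (ca'b.mul_right ca'b')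
    have hQ2 : Q * Q = 1 := by
      rw [hQ, Commute.mul_mul_mul_comm cbb'.symm (tv C b) (tv C b'), tv_mul_self C hC hbb,
        tv_mul_self C hC hb'b', one_mul]
    have hPb : app C P b = b := by
      rw [hP, app_mul, app_tv C hC ha'a', hba', zero_smul, add_zero, app_tv C hC haa, hba, zero_smul,
        add_zero]
    have hP3 : P ^ 3 = 1 := by
      have hx : (tv C a * tv C a') ^ 3 =
          (tv C a * tv C a' * tv C a) * (tv C a' * tv C a * tv C a') := by
        simp [pow_succ, mul_assoc]
      have hi : ∀ {y : V6}, herm C y y = 0 → (tv C y)⁻¹ = tv C y := fun hy =>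
        inv_eq_of_mul_eq_one_right (tv_mul_self C hC hy)
      have e1 := conj_tv C hC (tv C a) ha'a'
      have e2 := conj_tv C hC (tv C a') haa
      rw [hi haa, app_tv C hC haa] at e1
      rw [hi ha'a', app_tv C hC ha'a'] at e2
      have hh : herm C a a' ≠ 0 := fun h0 => haa' (by rw [← conj_herm, h0, map_zero])
      have hprop : a + herm C a a' • a' = herm C a a' • (a' + herm C a' a • a) := by
        rw [smul_add, smul_smul, ← conj_herm C a a', norm_eq_one C hC hh, one_smul, add_comm]
      rw [hP, hx, e1, e2, hprop, tv_smul C hC hh, tv_mul_self C hC] <;>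
      · simp only [herm_add_left, herm_add_right, herm_smul_left, herm_smul_right, haa, ha'a']
        linear_combination (herm C a' a) * conj_herm C a' a +
          (herm C a' a * herm C a a') * two_eq_zero C hC
    have hz : ∀ n : ℕ, θ ((P * Q) ^ n) = 1 → app C ((P * Q) ^ n) b = b → (P * Q) ^ n = 1 := fun n hn hb =>
      center_eq_one C hC (mem_center_of_map_eq_one C θ hker hn) hbb hb0 hb
    have hQb : app C Q b = b := by
      rw [hQ, app_mul, app_tv C hC hb'b', show herm C b b' = 0 by rw [← conj_herm, hb'b, map_zero],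
        zero_smul, add_zero, app_tv C hC hbb, hbb, zero_smul, add_zero]
    have hpow : ∀ n : ℕ, app C ((P * Q) ^ n) b = b := fun n => by
      induction n with
      | zero => rw [pow_zero, app_one]
      | succ n ih => rw [pow_succ, app_mul, app_mul, hQb, hPb, ih]
    rcases h3t k with h | h <;> rw [heq, ← map_pow] at h
    · have e := hz 2 h (hpow 2)
      rw [hPQ.mul_pow, pow_two Q, hQ2, mul_one] at e
      have hP1 : P = 1 := by rw [← hP3, pow_succ, e, one_mul]
      rw [hP, mul_eq_one_iff_eq_inv, inv_eq_of_mul_eq_one_right (tv_mul_self C hC ha'a')] at hP1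
      obtain ⟨c, hc⟩ := eq_smul_of_tv_eq C hC haa ha'a' ha'0 hP1
      exact haa' (by rw [hc, herm_smul_left, haa, mul_zero])
    · have e := hz 3 h (hpow 3)
      rw [hPQ.mul_pow, hP3, one_mul, pow_succ, pow_two, hQ2, one_mul, hQ, mul_eq_one_iff_eq_inv,
        inv_eq_of_mul_eq_one_right (tv_mul_self C hC hb'b')] at e
      have hb'0 : b' ≠ 0 := fun h0 => hind 0 (by rw [h0, zero_smul])
      obtain ⟨c, hc⟩ := eq_smul_of_tv_eq C hC hbb hb'b' hb'0 e
      exact hind c hc
  obtain ⟨u, v, hv, hvv, hvu, hg1, happ1, hperp1⟩ := exists_peel C hC hg h1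
  have hv0 : v ≠ 0 := fun h => by rw [h, herm_zero_left] at hvu; exact zero_ne_one hvu
  by_cases h2 : g * tv C v = 1
  · refine ⟨v, hvv, hv0, ?_⟩
    rw [mul_eq_one_iff_eq_inv, inv_eq_of_mul_eq_one_right (tv_mul_self C hC hvv)] at h2
    exact h2
  exfalso
  obtain ⟨u₁, v₁, hv₁, hvv₁, hvu₁, hg2, happ2, hperp2⟩ := exists_peel C hC hg1 h2
  have hv₁u : herm C v₁ u = 0 := by rw [hv₁]; exact hperp1 u₁
  set w₁ := u₁ + herm C u₁ v • u with hw₁
  have hv₁N : v₁ = app C g w₁ + w₁ := by rw [hv₁, happ1]
  have hv₁v : herm C v₁ v = 0 := by rw [hv₁N, hv]; exact herm_image C hC hg _ _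
  have hvv₁' : herm C v v₁ = 0 := by rw [← conj_herm, hv₁v, map_zero]
  have hv₁0 : v₁ ≠ 0 := fun h => by rw [h, herm_zero_left] at hvu₁; exact zero_ne_one hvu₁
  have hind : ∀ a : F, v₁ ≠ a • v := fun a ha => by
    rw [ha, herm_smul_left, hvu, mul_one] at hv₁u
    rw [hv₁u, zero_smul] at ha
    exact hv₁0 ha
  have huv : herm C u v = 1 := by rw [← conj_herm, hvu, map_one]
  have huv₁ : herm C u v₁ = 0 := by rw [← conj_herm, hv₁u, map_zero]
  have hNs := herm_moved C hg
  have hv₁w₁ : herm C v₁ w₁ = 1 := by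
    rw [hw₁, herm_add_right, herm_smul_right, hv₁u, mul_zero, add_zero, hvu₁]
  by_cases h3 : g * tv C v * tv C v₁ = 1
  · -- two commuting transvections
    have hgp : g = tv C v₁ * tv C v := by
      have e := h3
      rw [mul_assoc, mul_eq_one_iff_eq_inv, _root_.mul_inv_rev,
        inv_eq_of_mul_eq_one_right (tv_mul_self C hC hvv),
        inv_eq_of_mul_eq_one_right (tv_mul_self C hC hvv₁)] at e
      exact e
    obtain ⟨r, hr1, hr2⟩ := exists_map_pair C hvv hvv₁ hv₁v hv0 hind
    set b' : V6 := inW (inW (![1, 1] : Fin 2 → F)) with hb'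
    have hb'b' : herm C b' b' = 0 := by
      rw [hb', herm_inW, herm_inW]
      simp [herm, Fin.sum_univ_two, add_self C hC]
    have hnef : ∀ a : F, b' ≠ a • ff := fun a ha => by
      have := congrFun ha (Sum.inr (Sum.inr 0))
      simp [hb', inW, vF] at this
    obtain ⟨s, hs1, hs2⟩ := exists_map_pair C (herm_vF_vF C (κ := Fin 2 ⊕ Fin 2)) hb'b'
      (herm_inW_vF C _) (fun h0 => zero_ne_one (α := F) (by
        rw [← herm_vE_vF C (κ := Fin 2 ⊕ Fin 2), h0, herm_zero_right])) hnef
    set a' := app C r⁻¹ ff with ha'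
    set bb := app C r⁻¹ b' with hbb
    have hk1 : app C (r⁻¹ * s⁻¹ * r) v = a' := by
      rw [app_mul, hr1, app_mul, ← hs1, app_inv_app]
    have hk2 : app C (r⁻¹ * s⁻¹ * r) v₁ = bb := by
      rw [app_mul, hr2, app_mul, ← hs2, app_inv_app]
    have h0a : herm C a' a' = 0 := by rw [ha', herm_app, herm_vF_vF]
    have hbb0 : herm C bb bb = 0 := by rw [hbb, herm_app, hb'b']
    refine contra (r⁻¹ * s⁻¹ * r) v a' v₁ bb hvv h0a hvv₁ hbb0 ?_ hv₁0 ?_ hv₁v ?_ ?_ ?_ ?_ ?_ ?_
    · intro h0
      have := congrArg (fun x => herm C (app C r x) ee) h0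
      simp [ha', app_app_inv, herm_vF_vE] at this
      simp [app, herm_zero_left] at this
    · rw [ha', herm_app_left, hr1, herm_vF_vE]; exact one_ne_zero
    · rw [← conj_herm, ha', herm_app_left, hr2, herm_vF_inW, map_zero]
    · rw [hbb, herm_app_left, hr1, hb', herm_inW_vE]
    · rw [hbb, ha', herm_app, hb', herm_inW_vF]
    · rw [hbb, herm_app_left, hr2, hb', herm_inW, herm_inW_vE]
    · intro c hc
      have h0 := congrArg (app C r) hc
      rw [hbb, app_app_inv, app_smul, hr2] at h0
      have h4 := congrFun h0 (Sum.inr (Sum.inr 0))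
      simp [hb', inW, vE] at h4
    · have hk : (r⁻¹ * s⁻¹ * r) * g * (r⁻¹ * s⁻¹ * r)⁻¹ = tv C bb * tv C a' := by
        rw [← hk1, ← hk2, ← conj_tv C hC _ hvv₁, ← conj_tv C hC _ hvv, hgp]; group
      rw [hk, hgp]
      have c1 : Commute (tv C v₁) (tv C v) := commute_tv C hC hvv₁ hvv hvv₁'
      have c2 : Commute (tv C bb) (tv C a') := commute_tv C hC hbb0 h0a
        (by rw [hbb, ha', herm_app, hb', herm_vF_inW])
      rw [c1.eq, c2.eq]
      refine Commute.mul_mul_mul_comm ?_ _ _
      exact commute_tv C hC hvv₁ h0a (by rw [ha', herm_app_left, hr2, herm_vF_inW])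
  -- at least three commuting transvections
  obtain ⟨u₂, v₂, hv₂, hvv₂, hvu₂, -, -, -⟩ := exists_peel C hC hg2 h3
  have hv₂u₁ : herm C v₂ u₁ = 0 := by rw [hv₂]; exact hperp2 u₂
  have hv₂1 : v₂ = app C (g * tv C v) (u₂ + herm C u₂ v₁ • u₁) + (u₂ + herm C u₂ v₁ • u₁) := by
    rw [hv₂, happ2]
  have hv₂u : herm C v₂ u = 0 := by rw [hv₂1]; exact hperp1 _
  set z₂ := u₂ + herm C u₂ v₁ • u₁ with hz₂
  set w₂ := z₂ + herm C z₂ v • u with hw₂
  have hv₂N : v₂ = app C g w₂ + w₂ := by rw [hv₂1, happ1]
  have hv₂w₂ : herm C v₂ w₂ = 1 := by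
    rw [hw₂, herm_add_right, herm_smul_right, hv₂u, mul_zero, add_zero, hz₂, herm_add_right,
      herm_smul_right, hv₂u₁, mul_zero, add_zero, hvu₂]
  have hv₂w₁ : herm C v₂ w₁ = 0 := by
    rw [hw₁, herm_add_right, herm_smul_right, hv₂u, mul_zero, add_zero, hv₂u₁]
  have hv₁w₂ : herm C v₁ w₂ = 0 := by
    rw [hv₁N, hNs, ← hv₂N, ← conj_herm, hv₂w₁, map_zero]
  have hvw₁ : herm C v w₁ = 0 := by rw [hv, hNs, ← hv₁N, huv₁]
  have hvw₂ : herm C v w₂ = 0 := by
    rw [hv, hNs, ← hv₂N, ← conj_herm, hv₂u, map_zero]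
  set α := herm C u u * tA C with hα
  set x := u + α • v with hx
  set y₀ := w₁ + w₂ with hy₀
  set β := herm C y₀ y₀ * tA C with hβ
  set y := y₀ + herm C y₀ x • v + β • v₁ with hy
  have hy₀v : herm C v y₀ = 0 := by rw [hy₀, herm_add_right, hvw₁, hvw₂, add_zero]
  have hy₀v₁ : herm C v₁ y₀ = 1 := by rw [hy₀, herm_add_right, hv₁w₁, hv₁w₂, add_zero]
  have hy₀v' : herm C y₀ v = 0 := by rw [← conj_herm, hy₀v, map_zero]
  have hy₀v₁' : herm C y₀ v₁ = 1 := by rw [← conj_herm, hy₀v₁, map_one]
  have hxx : herm C x x = 0 := by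
    simp only [hx, hα, herm_add_left, herm_add_right, herm_smul_left, herm_smul_right, hvu, huv, hvv,
      map_mul, herm_self_fixed]
    linear_combination herm C u u * tA_spec C + herm C u u * two_eq_zero C hC
  have hxv : herm C x v = 1 := by
    rw [hx, herm_add_left, herm_smul_left, huv, hvv, mul_zero, add_zero]
  have hxv₁ : herm C x v₁ = 0 := by
    rw [hx, herm_add_left, herm_smul_left, huv₁, hvv₁', mul_zero, add_zero]
  have hxy : herm C y x = 0 := by
    rw [hy, herm_add_left, herm_add_left, herm_smul_left, herm_smul_left, ← conj_herm C x v, hxv,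
      ← conj_herm C x v₁, hxv₁, map_one, map_zero, mul_one, mul_zero, add_zero, add_self C hC]
  have hxy' : herm C x y = 0 := by rw [← conj_herm, hxy, map_zero]
  have hyy : herm C y y = 0 := by
    simp only [hy, hβ, herm_add_left, herm_add_right, herm_smul_left, herm_smul_right, hy₀v, hy₀v',
      hy₀v₁, hy₀v₁', hvv, hvv₁, hvv₁', hv₁v, map_mul, herm_self_fixed]
    linear_combination herm C y₀ y₀ * tA_spec C + herm C y₀ y₀ * two_eq_zero C hC
  have hgfix : ∀ w : V6, app C g (app C g w + w) = app C g w + w := fun w => by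
    rw [app_add, ← app_mul, hg, app_one, add_comm]
  have hmx : app C g x + x = v := by
    calc app C g x + x = (app C g u + u) + (α • v + α • v) := by
          rw [hx, app_add, app_smul, show app C g v = v by rw [hv, hgfix]]; abel
      _ = v := by rw [vec_add_self C hC, add_zero, ← hv]
  have hmy : app C g y + y = v₁ + v₂ := by
    calc app C g y + y = (app C g w₁ + w₁) + (app C g w₂ + w₂) +
          ((herm C y₀ x • v + herm C y₀ x • v) + (β • v₁ + β • v₁)) := by
          rw [hy, app_add, app_add, app_smul, app_smul, show app C g v = v by rw [hv, hgfix],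
            show app C g v₁ = v₁ by rw [hv₁N, hgfix], hy₀, app_add]; abel
      _ = v₁ + v₂ := by rw [vec_add_self C hC, vec_add_self C hC, add_zero, add_zero, ← hv₁N, ← hv₂N]
  have hgx : app C g x = v + x := by rw [← hmx, add_assoc, vec_add_self C hC, add_zero]
  have hgy : app C g y = v₁ + v₂ + y := by rw [← hmy, add_assoc, vec_add_self C hC, add_zero]
  have hvy : herm C v y = 0 := by
    rw [hy, herm_add_right, herm_add_right, herm_smul_right, herm_smul_right, hy₀v, hvv, hvv₁']
    ring
  have hv12 : herm C (v₁ + v₂) w₁ = 1 := by rw [herm_add_left, hv₁w₁, hv₂w₁, add_zero]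
  have hv12u : herm C (v₁ + v₂) u = 0 := by rw [herm_add_left, hv₁u, hv₂u, add_zero]
  have hv12x : herm C (v₁ + v₂) x = 0 := by
    rw [← hmy, hNs, hmx, ← conj_herm, hvy, map_zero]
  have hv12y : herm C (v₁ + v₂) y = 0 := by
    have hperp : ∀ p q : V6, herm C (app C g p + p) (app C g q + q) = 0 := herm_image C hC hg
    rw [hy, herm_add_right, herm_add_right, herm_smul_right, herm_smul_right,
      show herm C (v₁ + v₂) v = 0 by rw [← hmy, hv]; exact hperp _ _,
      show herm C (v₁ + v₂) v₁ = 0 by rw [← hmy, hv₁N]; exact hperp _ _,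
      hy₀, herm_add_left, herm_add_right C v₁ w₁ w₂, herm_add_right C v₂ w₁ w₂, hv₁w₁, hv₁w₂, hv₂w₁, hv₂w₂]
    linear_combination two_eq_zero C hC
  have hy0 : y ≠ 0 := fun h => by
    rw [h] at hgy
    simp [app] at hgy
    rw [← hgy, herm_zero_left] at hv12
    exact zero_ne_one hv12
  set k := tv C x * tv C y with hk
  refine contra k (app C g x) x (app C g y) y (by rw [herm_app, hxx]) hxx (by rw [herm_app, hyy]) hyy
    (fun h => by rw [h, herm_zero_left] at hxv; exact zero_ne_one hxv)
    (fun h => hy0 (by rw [← app_inv_app C g y, h]; simp [app])) ?_ ?_ ?_ ?_ ?_ ?_ ?_ ?_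
  · rw [hgx, herm_add_right, hxv, hxx, add_zero]; exact one_ne_zero
  · rw [herm_app, hxy]
  · rw [hgy, herm_add_left, hv12x, hxy, add_zero]
  · rw [hgx, herm_add_right, hxy, add_zero, ← conj_herm, hvy, map_zero]
  · exact hxy
  · rw [← conj_herm, hgy, herm_add_left, hv12y, hyy, add_zero, map_zero]
  · intro c hc
    have hc0 : c ≠ 0 := fun h => hy0 (by rw [hc, h, zero_smul])
    have h4 : app C g y = c⁻¹ • y := by conv_rhs => rw [hc, inv_smul_smul₀ hc0]
    have h5 := congrArg (app C g) h4
    rw [← app_mul, hg, app_one, app_smul, h4, smul_smul] at h5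
    have h6 : c⁻¹ * c⁻¹ = 1 := smul_left_injective F hy0 (h5.symm.trans (one_smul F y).symm)
    have h7 : c⁻¹ = 1 := by
      have h8 := pow_three C hC (inv_ne_zero hc0)
      rwa [pow_succ, pow_two, h6, one_mul] at h8
    rw [h7, one_smul, hgy] at h4
    have h9 : v₁ + v₂ = 0 := by simpa using h4
    rw [h9, herm_zero_left] at hv12
    exact zero_ne_one hv12
  · have hkk : k * k = 1 := by
      rw [hk, Commute.mul_mul_mul_comm (commute_tv C hC hyy hxx hxy') (tv C x) (tv C y),
        tv_mul_self C hC hxx, tv_mul_self C hC hyy, one_mul]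
    have hgi : g⁻¹ = g := inv_eq_of_mul_eq_one_right hg
    rw [inv_eq_of_mul_eq_one_right hkk, hk, ← conj_tv C hC g hxx, ← conj_tv C hC g hyy, hgi]
    have hgg : ∀ z : suG C I6, g * (g * z) = z := fun z => by rw [← mul_assoc, hg, one_mul]
    rw [show g * (tv C x * tv C y * g * (tv C x * tv C y)) =
      (g * tv C x * g) * (g * tv C y * g) * (tv C x * tv C y) by simp [mul_assoc, hgg]]
    refine Commute.mul_mul_mul_comm ?_ _ _
    have h := commute_tv C hC (show herm C (app C g y) (app C g y) = 0 by rw [herm_app, hyy]) hxx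
      (by rw [hgy, herm_add_right, hxy', add_zero, ← conj_herm, hv12x, map_zero])
    rwa [← conj_tv C hC g hyy, hgi] at h

end CfsgLib.U62
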