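import Cfsg.Agent.FischerTypes.M23Five
import Cfsg.Agent.S5482

/-!
# The normalizers of five-subgroups in type M(23)
-/

set_option autoImplicit false
set_option linter.style.haveILetI false
set_option maxHeartbeats 1000000

namespace CfsgLib.FischerTypes

open Cfsg

/-- Elements of the join of two commuting subgroups meeting trivially are products, in one way. -/
theorem sup_props {G : Type*} [Group G] (A B : Subgroup G) (hc : ∀ a ∈ A, ∀ b ∈ B, a * b = b * a)
    (hd : A ⊓ B = ⊥) : (∀ z ∈ A ⊔ B, ∃ a ∈ A, ∃ b ∈ B, z = a * b) ∧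
      Nat.card ↥(A ⊔ B) = Nat.card ↥A * Nat.card ↥B := by
  have hcm : ∀ (a : ↥A) (b : ↥B), Commute (A.subtype a) (B.subtype b) := fun a b => hc a a.2 b b.2
  set f : ↥A × ↥B →* G := A.subtype.noncommCoprod B.subtype hcm with hf
  have hr : f.range = A ⊔ B := by
    rw [hf, MonoidHom.noncommCoprod_range, Subgroup.range_subtype, Subgroup.range_subtype]
  refine ⟨fun z hz => ?_, ?_⟩
  · obtain ⟨⟨a, b⟩, rfl⟩ := hr.symm ▸ hz
    exact ⟨a, a.2, b, b.2, rfl⟩
  · have hinj : Function.Injective f := by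
      rw [injective_iff_map_eq_one]
      rintro ⟨a, b⟩ h1
      have h2 : (a : G) * b = 1 := h1
      have h3 : (a : G) ∈ A ⊓ B := Subgroup.mem_inf.2 ⟨a.2, by rw [mul_eq_one_iff_eq_inv.1 h2]; exact inv_mem b.2⟩
      rw [hd, Subgroup.mem_bot] at h3
      rw [h3, one_mul] at h2
      exact Prod.ext (Subtype.ext h3) (Subtype.ext h2)
    rw [← hr, ← Nat.card_congr (MonoidHom.ofInjective hinj).toEquiv, Nat.card_prod]

/-- Subgroups of full Sylow order in a subgroup are conjugate in it. -/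
theorem conj_in_of_sylow {G : Type*} [Group G] [Finite G] {p k M : ℕ} [hp : Fact p.Prime] {C A B : Subgroup G}
    (hC : Nat.card ↥C = p ^ k * M) (hM : ¬ p ∣ M) (hA : A ≤ C) (hB : B ≤ C) (hAc : Nat.card ↥A = p ^ k)
    (hBc : Nat.card ↥B = p ^ k) : ∃ c ∈ C, A.map (MulAut.conj c).toMonoidHom = B := by
  have hM0 : M ≠ 0 := fun h => hM (h ▸ dvd_zero p)
  have hf : p ^ (Nat.card ↥C).factorization p = p ^ k := by
    rw [hC, Nat.factorization_mul (pow_ne_zero _ hp.out.ne_zero) hM0, Finsupp.add_apply,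
      hp.out.factorization_pow, Finsupp.single_eq_same, Nat.factorization_eq_zero_of_not_dvd hM, add_zero]
  obtain ⟨c, hc⟩ := MulAction.exists_smul_eq ↥C
    (Sylow.ofCard (A.subgroupOf C)
      (((Nat.card_congr (Subgroup.subgroupOfEquivOfLe hA).toEquiv).trans hAc).trans hf.symm) : Sylow p ↥C)
    (Sylow.ofCard (B.subgroupOf C)
      (((Nat.card_congr (Subgroup.subgroupOfEquivOfLe hB).toEquiv).trans hBc).trans hf.symm))
  refine ⟨c, c.2, ?_⟩
  have h1 : (A.subgroupOf C).map (MulAut.conj c).toMonoidHom = B.subgroupOf C :=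
    congrArg (fun P : Sylow p ↥C => (P : Subgroup ↥C)) hc
  have h2 := congrArg (Subgroup.map C.subtype) h1
  rw [Subgroup.map_map, Subgroup.map_subgroupOf_eq_of_le hB] at h2
  rw [← h2]
  conv_lhs => rw [← Subgroup.map_subgroupOf_eq_of_le hA, Subgroup.map_map]
  rfl

namespace M23

variable {G : Type*} [Group G] [Finite G] {D : Set G} (H : Hyp G D)

include H

/-- The normalizer of a subgroup of order five. -/
theorem five_normalizer {x : G} (hx : orderOf x = 5) (Dt : FiveData D x) :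
    ∃ Fr : Subgroup G, Nat.card ↥Fr = 20 ∧ Subgroup.zpowers x ≤ Fr ∧
      Fr ⊓ Subgroup.centralizer ({x} : Set G) = Subgroup.zpowers x ∧ Fr ⊓ Dt.ψ.range = ⊥ ∧
      (∀ f ∈ Fr, ∀ y ∈ Dt.ψ.range, f * y = y * f) ∧
      Fr ⊔ Dt.ψ.range = Subgroup.normalizer ((Subgroup.zpowers x : Subgroup G) : Set G) ∧
      (∀ y ∈ Subgroup.zpowers x, y ≠ 1 → ∃ n ∈ Fr, n * x * n⁻¹ = y) := by
  classical
  have : Fact (Nat.Prime 5) := ⟨by norm_num⟩
  obtain ⟨φ, hφ, hφa, hφc, hφr⟩ := Dt.chain.exists_perm_hom H.group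
  obtain ⟨hF20, hFc, hcenter⟩ := Cfsg.Agent.S5482.frobTwenty_facts
  have hzp := Dt.zpow
  have hxo : orderOf (five Dt.a) = 5 := (Dt.chain.five_props H.group).2.1
  set F := Cfsg.Agent.S5482.frobTwenty.map φ with hF
  have hc20 : cycFive ∈ Cfsg.Agent.S5482.frobTwenty := Subgroup.le_normalizer (Subgroup.mem_zpowers _)
  have hxF : Subgroup.zpowers x ≤ F := by
    rw [hzp, Subgroup.zpowers_le]
    exact ⟨cycFive, hc20, hφc⟩
  have hFR : ∀ f ∈ F, ∀ y ∈ Dt.ψ.range, f * y = y * f := by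
    rintro f hf _ ⟨σ, rfl⟩
    have hle : Subgroup.closure (Set.range Dt.a) ≤ Subgroup.centralizer ({Dt.ψ σ} : Set G) := by
      rw [Subgroup.closure_le]
      rintro _ ⟨i, rfl⟩
      exact Subgroup.mem_centralizer_singleton_iff.2 (Dt.comm σ i).symm.eq
    exact Subgroup.mem_centralizer_singleton_iff.1 (hle (hφr ▸ (Subgroup.map_le_range φ _) hf))
  have hFcard : Nat.card ↥F = 20 := by rw [hF, Subgroup.card_map_of_injective hφ, hF20]
  set N := Subgroup.normalizer ((Subgroup.zpowers x : Subgroup G) : Set G) with hN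
  have hFN : F ≤ N := by
    rintro _ ⟨σ, hσ, rfl⟩
    refine Subgroup.mem_normalizer_iff_map_conj_eq.2 (Subgroup.eq_of_le_of_card_ge ?_ (by
      rw [Subgroup.card_map_of_injective (MulAut.conj (φ σ)).injective]))
    rw [hzp, MonoidHom.map_zpowers, Subgroup.zpowers_le]
    show φ σ * five Dt.a * (φ σ)⁻¹ ∈ _
    rw [← hφc, ← map_inv, ← map_mul, ← map_mul]
    obtain ⟨i, hi⟩ := Cfsg.Agent.S5482.mem_frobTwenty.1 hσ
    rw [hi, mul_inv_cancel_right, map_pow]
    exact pow_mem (Subgroup.mem_zpowers _) _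
  have hdis : F ⊓ Dt.ψ.range = ⊥ := by
    rw [Subgroup.eq_bot_iff_forall]
    rintro z hz
    obtain ⟨⟨σ, hσ, rfl⟩, τ, hτ⟩ := Subgroup.mem_inf.1 hz
    rw [hcenter σ fun i => hφ (by rw [map_mul, map_mul, hφa, ← hτ]; exact (Dt.comm τ i).eq), map_one]
  have hCX : Subgroup.centralizer ((Subgroup.zpowers x : Subgroup G) : Set G) =
      Subgroup.centralizer ({x} : Set G) := by
    rw [Subgroup.zpowers_eq_closure, Subgroup.centralizer_closure]
  have hRN : Dt.ψ.range ≤ N := by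
    refine le_trans ?_ (Subgroup.centralizer_le_normalizer _)
    rw [hCX, Dt.cent]
    exact le_sup_right
  refine ⟨F, hFcard, hxF, ?_, hdis, hFR, ?_, ?_⟩
  · refine le_antisymm ?_ (le_inf hxF (Dt.cent ▸ le_sup_left))
    intro z hz
    obtain ⟨⟨σ, hσ, rfl⟩, hzC⟩ := Subgroup.mem_inf.1 hz
    have h1 : Commute (φ σ) (five Dt.a) := by
      obtain ⟨n, hn⟩ := Subgroup.mem_zpowers_iff.1 (hzp.symm ▸ Subgroup.mem_zpowers (five Dt.a))
      rw [← hn]
      exact (show Commute (φ σ) x from Subgroup.mem_centralizer_singleton_iff.1 hzC).zpow_right n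
    obtain ⟨i, rfl⟩ := hFc σ (hφ (by rw [map_mul, map_mul, hφc]; exact h1.eq))
    rw [map_pow, hφc, hzp]
    exact pow_mem (Subgroup.mem_zpowers _) _
  · refine Subgroup.eq_of_le_of_card_ge (sup_le hFN hRN) ?_
    rw [(sup_props F _ hFR hdis).2, hFcard, ← Nat.card_congr (MonoidHom.ofInjective Dt.inj).toEquiv, Nat.card_perm,
      Nat.card_fin]
    obtain ⟨e, he, hc⟩ := card_normalizer_eq (p := 5) (X := Subgroup.zpowers x) ((Nat.card_zpowers x).trans hx)
    rw [hCX, Dt.card] at hc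
    rw [hN, hc, show Nat.factorial 7 = 5040 from rfl]
    have := Nat.le_of_dvd (by norm_num) he
    omega
  · intro y hy hy1
    have hd20 : dblFive ∈ Cfsg.Agent.S5482.frobTwenty :=
      Cfsg.Agent.S5482.mem_frobTwenty.2 ⟨2, mul_inv_eq_iff_eq_mul.1 dblFive_conj⟩
    set w := φ dblFive with hw
    have hw1 : w * five Dt.a * w⁻¹ = five Dt.a ^ 2 := by
      rw [hw, ← hφc, ← map_inv, ← map_mul, ← map_mul, ← map_pow, dblFive_conj]
    have hwx : w * x * w⁻¹ = x ^ 2 := by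
      obtain ⟨n, hn⟩ := Subgroup.mem_zpowers_iff.1 (hzp ▸ Subgroup.mem_zpowers x)
      rw [← hn, ← conj_zpow, hw1, ← zpow_natCast, ← zpow_natCast, ← zpow_mul, ← zpow_mul, mul_comm]
    have hwn : ∀ k : ℕ, w ^ k * x * (w ^ k)⁻¹ = x ^ (2 ^ k) := by
      intro k
      induction k with
      | zero => simp
      | succ k ih =>
        rw [pow_succ', _root_.mul_inv_rev, show w * w ^ k * x * ((w ^ k)⁻¹ * w⁻¹) = w * (w ^ k * x * (w ^ k)⁻¹) * w⁻¹
          by group, ih, ← conj_pow, hwx, ← pow_mul, ← pow_succ']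
    obtain ⟨i, hi, rfl⟩ := Finset.mem_image.1 ((isOfFinOrder_of_finite x).mem_zpowers_iff_mem_range_orderOf.1 hy)
    rw [hx, Finset.mem_range] at hi
    have hpow : ∀ a b : ℕ, a % 5 = b % 5 → x ^ a = x ^ b := fun a b hab => by
      rw [pow_eq_pow_iff_modEq, hx]; exact hab
    have hwF : ∀ k : ℕ, w ^ k ∈ F := fun k => pow_mem (Subgroup.mem_map.2 ⟨dblFive, hd20, rfl⟩ : w ∈ F) k
    interval_cases i
    · exact absurd (pow_zero x) hy1
    · exact ⟨w ^ 0, hwF 0, (hwn 0).trans (hpow _ _ rfl)⟩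
    · exact ⟨w ^ 1, hwF 1, (hwn 1).trans (hpow _ _ rfl)⟩
    · exact ⟨w ^ 3, hwF 3, (hwn 3).trans (hpow _ _ rfl)⟩
    · exact ⟨w ^ 2, hwF 2, (hwn 2).trans (hpow _ _ rfl)⟩

/-- A conjugate generating the given subgroup. -/
theorem five_conj_elem {x y : G} (hx : orderOf x = 5) (hy : orderOf y = 5) : ∃ g : G, g * x * g⁻¹ = y := by
  have : Fact (Nat.Prime 5) := ⟨by norm_num⟩
  obtain ⟨d, hd, hdx⟩ := exists_fixed H (p := 5) hx (by norm_num)
  obtain ⟨e, he, hey⟩ := exists_fixed H (p := 5) hy (by norm_num)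
  obtain ⟨g, -, hg⟩ := five_conj H hx hy hd he hdx hey
  rw [MonoidHom.map_zpowers] at hg
  have hgy : g * x * g⁻¹ ∈ Subgroup.zpowers y := hg ▸ Subgroup.mem_zpowers _
  obtain ⟨Dt⟩ := exists_fiveData H hy
  obtain ⟨Fr, -, -, -, -, -, -, htr⟩ := five_normalizer H hy Dt
  obtain ⟨n, -, hn⟩ := htr _ hgy fun h0 => by
    rw [mul_inv_eq_one, mul_eq_left] at h0
    rw [h0, orderOf_one] at hx; norm_num at hx
  refine ⟨n⁻¹ * g, ?_⟩
  rw [show n⁻¹ * g * x * (n⁻¹ * g)⁻¹ = n⁻¹ * (g * x * g⁻¹) * n by group, ← hn]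
  group

/-- The structure at a Sylow five-subgroup. -/
theorem five_sylow (E : Sylow 5 G) : IsElementaryAbelian 5 (E : Subgroup G) ∧ Nat.card (E : Subgroup G) = 25 ∧
    (∃ d ∈ D, (E : Subgroup G) ⊓ Subgroup.zpowers d = ⊥ ∧
      (∀ x ∈ (E : Subgroup G), ∀ y ∈ Subgroup.zpowers d, x * y = y * x) ∧
      (E : Subgroup G) ⊔ Subgroup.zpowers d = Subgroup.centralizer ((E : Subgroup G) : Set G)) ∧
    Nat.card ↥(Subgroup.normalizer ((E : Subgroup G) : Set G)) = 4800 := by
  classical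
  have : Fact (Nat.Prime 5) := ⟨by norm_num⟩
  have hE25 : Nat.card (E : Subgroup G) = 25 := by
    rw [E.card_eq_multiplicity, Transpositions.TypeM23.card_group H,
      show (4089470473293004800 : ℕ) = 5 ^ 2 * 163578818931720192 by norm_num,
      Nat.factorization_mul (by norm_num) (by norm_num), Finsupp.add_apply,
      (by norm_num : Nat.Prime 5).factorization_pow, Finsupp.single_eq_same,
      Nat.factorization_eq_zero_of_not_dvd (by norm_num), add_zero]
    norm_num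
  have hab : ∀ a ∈ (E : Subgroup G), ∀ b ∈ (E : Subgroup G), a * b = b * a := fun a ha b hb =>
    congrArg Subtype.val (IsPGroup.commutative_of_card_eq_prime_sq (p := 5) (by rw [hE25]; norm_num)
      (⟨a, ha⟩ : (E : Subgroup G)) ⟨b, hb⟩)
  obtain ⟨⟨x, hxE⟩, hxo⟩ := exists_prime_orderOf_dvd_card' (G := (E : Subgroup G)) 5 (by rw [hE25]; norm_num)
  have hx : orderOf x = 5 := by rw [← hxo, ← Subgroup.orderOf_coe]
  obtain ⟨Dt⟩ := exists_fiveData H hx
  set Cx := Subgroup.centralizer ({x} : Set G) with hCx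
  have hEC : (E : Subgroup G) ≤ Cx := fun a ha => Subgroup.mem_centralizer_singleton_iff.2 (hab a ha x hxE)
  have hcomm : ∀ a ∈ Subgroup.zpowers x, ∀ r ∈ Dt.ψ.range, a * r = r * a := by
    intro a ha r hr
    have h1 : Commute r x := Subgroup.mem_centralizer_singleton_iff.1 (Dt.cent ▸ Subgroup.mem_sup_right hr)
    obtain ⟨n, hn⟩ := Subgroup.mem_zpowers_iff.1 ha
    rw [← hn]; exact (h1.symm.zpow_left n).eq
  obtain ⟨hdec, -⟩ := sup_props _ _ hcomm Dt.disj
  set Y := (E : Subgroup G) ⊓ Dt.ψ.range with hY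
  have hXY : (E : Subgroup G) = Subgroup.zpowers x ⊔ Y := by
    refine le_antisymm (fun a ha => ?_) (sup_le (Subgroup.zpowers_le.2 hxE) inf_le_left)
    obtain ⟨u, hu, r, hr, rfl⟩ := hdec a (Dt.cent ▸ hEC ha)
    refine Subgroup.mul_mem_sup hu ⟨?_, hr⟩
    have := mul_mem (inv_mem ((Subgroup.zpowers_le.2 hxE : Subgroup.zpowers x ≤ _) hu)) ha
    rwa [inv_mul_cancel_left] at this
  have hXYc : ∀ a ∈ Subgroup.zpowers x, ∀ r ∈ Y, a * r = r * a := fun a ha r hr => hcomm a ha r hr.2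
  have hXYd : Subgroup.zpowers x ⊓ Y = ⊥ := eq_bot_iff.2 ((inf_le_inf_left _ inf_le_right).trans Dt.disj.le)
  obtain ⟨-, hXYcard⟩ := sup_props _ Y hXYc hXYd
  rw [← hXY, hE25, Nat.card_zpowers, hx] at hXYcard
  have hY5 : Nat.card ↥Y = 5 := by omega
  obtain ⟨⟨y, hyY⟩, hyo⟩ := exists_prime_orderOf_dvd_card' (G := ↥Y) 5 (dvd_of_eq hY5.symm)
  have hy : orderOf y = 5 := by rw [← hyo, ← Subgroup.orderOf_coe]
  have hYz : Y = Subgroup.zpowers y := (Subgroup.eq_of_le_of_card_ge (Subgroup.zpowers_le.2 hyY)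
    (by rw [Nat.card_zpowers, hy, hY5])).symm
  obtain ⟨σ, hσ⟩ := (hyY : y ∈ (E : Subgroup G) ⊓ Dt.ψ.range).2
  have hσo : orderOf σ = 5 := by rw [← orderOf_injective Dt.ψ Dt.inj σ, hσ, hy]
  -- the cycle type
  set c5 : Equiv.Perm (Fin 7) := Equiv.swap 0 1 * Equiv.swap 1 2 * Equiv.swap 2 3 * Equiv.swap 3 4 with hc5
  have htype : ∀ {π : Equiv.Perm (Fin 7)}, orderOf π = 5 → π.cycleType = {5} := by
    intro π hπ
    obtain ⟨n, hn⟩ := Equiv.Perm.cycleType_prime_order (σ := π) (by rw [hπ]; norm_num)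
    rw [hπ] at hn
    have h1 := Equiv.Perm.sum_cycleType π
    have h2 : π.support.card ≤ 7 := le_trans (Finset.card_le_univ _) (by simp)
    rw [hn, Multiset.sum_replicate, smul_eq_mul] at h1
    rw [hn, show n = 0 by omega]
    rfl
  have hc5o : orderOf c5 = 5 := orderOf_eq_prime (by decide) (by decide)
  obtain ⟨τ, hτ⟩ := isConj_iff.1 (Equiv.Perm.isConj_iff_cycleType_eq.2 ((htype hc5o).trans (htype hσo).symm))
  have hC10 : Nat.card ↥(Subgroup.centralizer ({σ} : Set (Equiv.Perm (Fin 7)))) = 10 := by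
    rw [Equiv.Perm.nat_card_centralizer, htype hσo]
    rfl
  set θ : Equiv.Perm (Fin 7) →* G := Dt.ψ.comp (MulAut.conj τ).toMonoidHom with hθ
  have hθinj : Function.Injective θ := Dt.inj.comp (MulAut.conj τ).injective
  have hθmem : ∀ i j : Fin 7, i ≠ j → θ (Equiv.swap i j) ∈ D ∧ Commute (θ (Equiv.swap i j)) x := by
    intro i j hij
    refine (Dt.mem _).2 ⟨τ i, τ j, fun h0 => hij (τ.injective h0), ?_⟩
    show Dt.ψ (τ * Equiv.swap i j * τ⁻¹) = _
    rw [Equiv.swap_apply_apply]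
  set b : Fin 4 → G := fun j => θ (Equiv.swap (Fin.castLE (by norm_num) j.castSucc)
    (Fin.castLE (by norm_num) j.succ)) with hb
  have hB : MemberChain D b := by
    have nc : ∀ {u v : Equiv.Perm (Fin 7)}, u * v ≠ v * u → ¬ Commute (θ u) (θ v) := fun {u v} hne hc =>
      hne (hθinj (by rw [map_mul, map_mul]; exact hc.eq))
    have cc : ∀ {u v : Equiv.Perm (Fin 7)}, u * v = v * u → Commute (θ u) (θ v) := fun {u v} he =>
      (show Commute u v from he).map θ
    exact ⟨fun i => (hθmem _ _ (by revert i; decide)).1, nc (by decide), nc (by decide), nc (by decide),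
      cc (by decide), cc (by decide), cc (by decide)⟩
  have hfb : five b = y := by
    rw [← hσ, five, hb]
    simp only
    rw [← map_mul, ← map_mul, ← map_mul, ← hτ]
    rfl
  obtain ⟨φ, hφ, hφb, hφc, hφr⟩ := hB.exists_perm_hom H.group
  set w := φ dblFive with hw
  have hwy : w * y * w⁻¹ = y ^ 2 := by
    rw [← hfb, hw, ← hφc, ← map_inv, ← map_mul, ← map_mul, ← map_pow, dblFive_conj]
  have hwx : Commute w x := by
    have h1 : φ dblFive ∈ Subgroup.closure (Set.range b) := hφr ▸ ⟨_, rfl⟩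
    have hle : Subgroup.closure (Set.range b) ≤ Subgroup.centralizer ({x} : Set G) := by
      rw [Subgroup.closure_le]
      rintro _ ⟨i, rfl⟩
      exact Subgroup.mem_centralizer_singleton_iff.2 (hθmem _ _ (by revert i; decide)).2.eq
    exact Subgroup.mem_centralizer_singleton_iff.1 (hle h1)
  set d' := θ (Equiv.swap 5 6) with hd'
  have hd'D : d' ∈ D ∧ Commute d' x := hθmem 5 6 (by decide)
  have hd'y : Commute d' y := by
    rw [← hfb]
    exact five_commute fun i => (show Commute (Equiv.swap (5 : Fin 7) 6) _ from (by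
      show _ * _ = _ * _
      revert i
      decide)).map θ
  -- the centralizer
  have hEmem : ∀ {a}, a ∈ (E : Subgroup G) → ∃ u ∈ Subgroup.zpowers x, ∃ r ∈ Subgroup.zpowers y, a = u * r := by
    intro a ha
    rw [hXY, hYz] at ha
    exact (sup_props _ _ (hYz ▸ hXYc) (hYz ▸ hXYd)).1 a ha
  have hEd : ∀ a ∈ (E : Subgroup G), ∀ z ∈ Subgroup.zpowers d', a * z = z * a := by
    intro a ha z hz
    obtain ⟨u, hu, r, hr, rfl⟩ := hEmem ha
    obtain ⟨n, rfl⟩ := Subgroup.mem_zpowers_iff.1 hu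
    obtain ⟨m, rfl⟩ := Subgroup.mem_zpowers_iff.1 hr
    obtain ⟨k, rfl⟩ := Subgroup.mem_zpowers_iff.1 hz
    exact (((hd'D.2.symm.zpow_left n).mul_left (hd'y.symm.zpow_left m)).zpow_right k).eq
  have hEdis : (E : Subgroup G) ⊓ Subgroup.zpowers d' = ⊥ :=
    Subgroup.inf_eq_bot_of_coprime (by rw [hE25, Nat.card_zpowers, H.group.1.1 d' hd'D.1]; norm_num)
  have hyE : y ∈ (E : Subgroup G) := (hyY : y ∈ (E : Subgroup G) ⊓ Dt.ψ.range).1
  set CE := Subgroup.centralizer ((E : Subgroup G) : Set G) with hCE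
  have hCEeq : (E : Subgroup G) ⊔ Subgroup.zpowers d' = CE := by
    refine le_antisymm (sup_le (fun a ha => Subgroup.mem_centralizer_iff.2 fun b hb => hab b hb a ha)
      (Subgroup.zpowers_le.2 (Subgroup.mem_centralizer_iff.2 fun a ha =>
        hEd a ha d' (Subgroup.mem_zpowers _)))) fun k hk => ?_
    have hkx : k ∈ Cx := Subgroup.mem_centralizer_singleton_iff.2 ((Subgroup.mem_centralizer_iff.1 hk) x hxE).symm
    obtain ⟨u, hu, _, ⟨ρ, rfl⟩, rfl⟩ := hdec k (Dt.cent ▸ hkx)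
    refine mul_mem (Subgroup.mem_sup_left ((Subgroup.zpowers_le.2 hxE : Subgroup.zpowers x ≤ _) hu)) ?_
    have hρ : ρ ∈ Subgroup.centralizer ({σ} : Set (Equiv.Perm (Fin 7))) := by
      rw [Subgroup.mem_centralizer_singleton_iff]
      refine Dt.inj ?_
      rw [map_mul, map_mul, hσ]
      have h1 : Commute (u * Dt.ψ ρ) y := ((Subgroup.mem_centralizer_iff.1 hk) y hyE).symm
      have h2 : Commute u⁻¹ y := by
        obtain ⟨n, rfl⟩ := Subgroup.mem_zpowers_iff.1 hu
        exact ((show Commute x y from hab x hxE y hyE).zpow_left n).inv_left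
      have h3 := h2.mul_left h1
      rwa [inv_mul_cancel_left] at h3
    set σd := τ * Equiv.swap 5 6 * τ⁻¹ with hσd
    have hd'σ : Dt.ψ σd = d' := rfl
    set T := Subgroup.zpowers σ ⊔ Subgroup.zpowers σd with hT
    have hcσ : Commute σd σ := by
      have h : Commute (Dt.ψ σd) (Dt.ψ σ) := by rw [hd'σ, hσ]; exact hd'y
      exact Dt.inj ((map_mul Dt.ψ σd σ).trans (h.eq.trans (map_mul Dt.ψ σ σd).symm))
    have hσdo : orderOf σd = 2 := by rw [← orderOf_injective Dt.ψ Dt.inj σd, hd'σ]; exact H.group.1.1 d' hd'D.1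
    have hTle : T ≤ Subgroup.centralizer ({σ} : Set (Equiv.Perm (Fin 7))) :=
      sup_le (Subgroup.zpowers_le.2 (Subgroup.mem_centralizer_singleton_iff.2 rfl))
        (Subgroup.zpowers_le.2 (Subgroup.mem_centralizer_singleton_iff.2 hcσ.eq))
    have hTcard : Nat.card ↥T = 10 := by
      rw [hT, (sup_props _ _ (fun a ha b hb => by
          obtain ⟨n, rfl⟩ := Subgroup.mem_zpowers_iff.1 ha
          obtain ⟨m, rfl⟩ := Subgroup.mem_zpowers_iff.1 hb
          exact ((hcσ.symm.zpow_left n).zpow_right m).eq)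
        (Subgroup.inf_eq_bot_of_coprime (by rw [Nat.card_zpowers, Nat.card_zpowers, hσo, hσdo]; norm_num))).2,
        Nat.card_zpowers, Nat.card_zpowers, hσo, hσdo]
    have hρT : ρ ∈ T := (Subgroup.eq_of_le_of_card_ge hTle (by rw [hTcard, hC10])) ▸ hρ
    have h4 := Subgroup.mem_map_of_mem Dt.ψ hρT
    rw [hT, Subgroup.map_sup, MonoidHom.map_zpowers, MonoidHom.map_zpowers, hσ, hd'σ] at h4
    exact (sup_le_sup_right (Subgroup.zpowers_le.2 hyE) _) h4
  have hCEcard : Nat.card ↥CE = 50 := by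
    rw [← hCEeq, (sup_props _ _ hEd hEdis).2, hE25, Nat.card_zpowers, H.group.1.1 d' hd'D.1]
  refine ⟨⟨⟨⟨fun a b => Subtype.ext (hab a a.2 b b.2)⟩⟩, fun a ha => ?_⟩, hE25,
    ⟨d', hd'D.1, hEdis, hEd, hCEeq⟩, ?_⟩
  · obtain ⟨u, hu, r, hr, rfl⟩ := hEmem ha
    obtain ⟨n, rfl⟩ := Subgroup.mem_zpowers_iff.1 hu
    obtain ⟨m, rfl⟩ := Subgroup.mem_zpowers_iff.1 hr
    have h5 : ∀ {z : G}, orderOf z = 5 → ∀ k : ℤ, (z ^ k) ^ 5 = 1 := fun {z} hz k => by
      rw [← zpow_natCast, ← zpow_mul, mul_comm, zpow_mul, zpow_natCast, ← hz, pow_orderOf_eq_one, one_zpow]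
    rw [(show Commute (x ^ n) (y ^ m) from (((show Commute x y from hab x hxE y hyE).zpow_left n).zpow_right m)).mul_pow,
      h5 hx, h5 hy, one_mul]
  -- the normalizer
  set N := Subgroup.normalizer ((E : Subgroup G) : Set G) with hN
  have hord : ∀ z ∈ (E : Subgroup G), z ≠ 1 → orderOf z = 5 := by
    intro z hz hz1
    refine orderOf_eq_prime ?_ hz1
    obtain ⟨u, hu, r, hr, rfl⟩ := hEmem hz
    obtain ⟨n, rfl⟩ := Subgroup.mem_zpowers_iff.1 hu
    obtain ⟨m, rfl⟩ := Subgroup.mem_zpowers_iff.1 hr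
    rw [(show Commute (x ^ n) (y ^ m) from (((show Commute x y from hab x hxE y hyE).zpow_left n).zpow_right m)).mul_pow,
      ← zpow_natCast (x ^ n), ← zpow_mul, mul_comm n, zpow_mul, zpow_natCast, ← hx, pow_orderOf_eq_one, one_zpow,
      hx, ← zpow_natCast (y ^ m), ← zpow_mul, mul_comm m, zpow_mul, zpow_natCast, ← hy, pow_orderOf_eq_one,
      one_zpow, one_mul]
  set M := N ⊓ Cx with hM
  have hnY : ∀ k ∈ M, k * y * k⁻¹ ∈ Y := by
    intro k hk
    refine ⟨(Subgroup.mem_normalizer_iff.1 hk.1 y).1 hyE, ?_⟩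
    obtain ⟨u, hu, r, hr, rfl⟩ := hdec k (Dt.cent ▸ hk.2)
    have hy' := (hyY : y ∈ (E : Subgroup G) ⊓ Dt.ψ.range).2
    have hmem : r * y * r⁻¹ ∈ Dt.ψ.range := mul_mem (mul_mem hr hy') (inv_mem hr)
    rw [show u * r * y * (u * r)⁻¹ = u * (r * y * r⁻¹) * u⁻¹ by group, hcomm u hu _ hmem, mul_inv_cancel_right]
    exact hmem
  have hwN : w ∈ N := by
    refine Subgroup.mem_normalizer_iff_map_conj_eq.2 (Subgroup.eq_of_le_of_card_ge ?_ (by
      rw [Subgroup.card_map_of_injective (MulAut.conj w).injective]))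
    rw [hXY, hYz, Subgroup.map_sup, MonoidHom.map_zpowers, MonoidHom.map_zpowers, sup_le_iff, Subgroup.zpowers_le,
      Subgroup.zpowers_le]
    refine ⟨?_, ?_⟩
    · show w * x * w⁻¹ ∈ _
      rw [hwx.eq, mul_inv_cancel_right]
      exact Subgroup.mem_sup_left (Subgroup.mem_zpowers _)
    · show w * y * w⁻¹ ∈ _
      rw [hwy]
      exact Subgroup.mem_sup_right (pow_mem (Subgroup.mem_zpowers _) _)
  have hwM : ∀ k : ℕ, w ^ k ∈ M := fun k =>
    pow_mem (Subgroup.mem_inf.2 ⟨hwN, Subgroup.mem_centralizer_singleton_iff.2 hwx.eq⟩) k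
  have hne1 : ({z : G | z ∈ (Subgroup.zpowers y : Set G) \ {1}}).ncard = 4 := by
    show ((Subgroup.zpowers y : Set G) \ {1}).ncard = 4
    rw [Set.ncard_sdiff_singleton_of_mem (one_mem _), ← Nat.card_coe_set_eq]
    show Nat.card ↥(Subgroup.zpowers y) - 1 = 4
    rw [Nat.card_zpowers, hy]
  have hMcard : Nat.card ↥M = 200 := by
    have h1 := card_eq_ncard_mul_card (H := M) (K := CE) ?_ (fun k => k * y * k⁻¹)
      (S := {z : G | z ∈ (Subgroup.zpowers y : Set G) \ {1}}) ?_ ?_ ?_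
    · rw [h1, hne1, hCEcard]
    · intro k hk
      refine ⟨Subgroup.centralizer_le_normalizer _ hk, Subgroup.mem_centralizer_singleton_iff.2 ?_⟩
      exact ((Subgroup.mem_centralizer_iff.1 hk) x hxE).symm
    · intro k hk
      refine ⟨hYz ▸ hnY k hk, fun h0 => ?_⟩
      rw [Set.mem_singleton_iff, mul_inv_eq_one, mul_eq_left] at h0
      rw [h0, orderOf_one] at hy; norm_num at hy
    · rintro z ⟨hz, hz1⟩
      have hwn : ∀ k : ℕ, w ^ k * y * (w ^ k)⁻¹ = y ^ (2 ^ k) := by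
        intro k
        induction k with
        | zero => simp
        | succ k ih =>
          rw [pow_succ', _root_.mul_inv_rev,
            show w * w ^ k * y * ((w ^ k)⁻¹ * w⁻¹) = w * (w ^ k * y * (w ^ k)⁻¹) * w⁻¹ by group, ih, ← conj_pow,
            hwy, ← pow_mul, ← pow_succ']
      have hpow : ∀ a b : ℕ, a % 5 = b % 5 → y ^ a = y ^ b := fun a b hab => by
        rw [pow_eq_pow_iff_modEq, hy]; exact hab
      obtain ⟨i, hi, rfl⟩ := Finset.mem_image.1 ((isOfFinOrder_of_finite y).mem_zpowers_iff_mem_range_orderOf.1 hz)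
      rw [hy, Finset.mem_range] at hi
      interval_cases i
      · exact absurd (pow_zero y) hz1
      · exact ⟨w ^ 0, hwM 0, (hwn 0).trans (hpow _ _ rfl)⟩
      · exact ⟨w ^ 1, hwM 1, (hwn 1).trans (hpow _ _ rfl)⟩
      · exact ⟨w ^ 3, hwM 3, (hwn 3).trans (hpow _ _ rfl)⟩
      · exact ⟨w ^ 2, hwM 2, (hwn 2).trans (hpow _ _ rfl)⟩
    · intro k hk l hl
      rw [conj_eq_conj_iff, hCE, Subgroup.mem_centralizer_iff]
      refine ⟨fun hc a ha => ?_, fun hc => (hc y hyE).symm⟩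
      have hkx : Commute (k⁻¹ * l) x :=
        Subgroup.mem_centralizer_singleton_iff.1 (mul_mem (inv_mem hk.2) hl.2)
      obtain ⟨u, hu, r, hr, rfl⟩ := hEmem ha
      obtain ⟨n, rfl⟩ := Subgroup.mem_zpowers_iff.1 hu
      obtain ⟨m, rfl⟩ := Subgroup.mem_zpowers_iff.1 hr
      exact ((hkx.zpow_right n).mul_right (hc.zpow_right m)).symm.eq
  have horb := card_eq_ncard_mul_card (H := N) (K := M) inf_le_left (fun k => k * x * k⁻¹)
    (S := ((E : Subgroup G) : Set G) \ {1}) ?_ ?_ ?_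
  · rw [horb, hMcard, Set.ncard_sdiff_singleton_of_mem (one_mem _), ← Nat.card_coe_set_eq]
    show (Nat.card ↥(E : Subgroup G) - 1) * 200 = 4800
    rw [hE25]
  · intro k hk
    refine ⟨(Subgroup.mem_normalizer_iff.1 hk x).1 hxE, fun h0 => ?_⟩
    rw [Set.mem_singleton_iff, mul_inv_eq_one, mul_eq_left] at h0
    rw [h0, orderOf_one] at hx; norm_num at hx
  · rintro z ⟨hz, hz1⟩
    have hzo := hord z hz hz1
    obtain ⟨g, hg⟩ := five_conj_elem H hx hzo
    obtain ⟨Dz⟩ := exists_fiveData H hzo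
    obtain ⟨c, hc, hcm⟩ := conj_in_of_sylow (p := 5) (k := 2) (M := 1008) (C := Subgroup.centralizer ({z} : Set G))
      (A := (E : Subgroup G).map (MulAut.conj g).toMonoidHom) (B := (E : Subgroup G)) (by rw [Dz.card]; norm_num)
      (by norm_num) (by
        rintro _ ⟨a, ha, rfl⟩
        refine Subgroup.mem_centralizer_singleton_iff.2 ?_
        show g * a * g⁻¹ * z = z * (g * a * g⁻¹)
        rw [← hg]
        exact ((commute_conj_iff' g a x).2 (hab a ha x hxE)).eq)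
      (fun a ha => Subgroup.mem_centralizer_singleton_iff.2 (hab a ha z hz))
      (by rw [Subgroup.card_map_of_injective (MulAut.conj g).injective, hE25]; norm_num) (by rw [hE25]; norm_num)
    refine ⟨c * g, Subgroup.mem_normalizer_iff_map_conj_eq.2 ?_, ?_⟩
    · conv_rhs => rw [← hcm, Subgroup.map_map]
      congr 1
      ext a
      simp [mul_assoc]
    · rw [show c * g * x * (c * g)⁻¹ = c * (g * x * g⁻¹) * c⁻¹ by group, hg,
        Subgroup.mem_centralizer_singleton_iff.1 hc, mul_inv_cancel_right]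
  · intro k hk l hl
    rw [conj_eq_conj_iff]
    exact ⟨fun hc => Subgroup.mem_inf.2 ⟨mul_mem (inv_mem hk) hl, Subgroup.mem_centralizer_singleton_iff.2 hc.eq⟩,
      fun hc => Subgroup.mem_centralizer_singleton_iff.1 hc.2⟩

end M23

end CfsgLib.FischerTypes
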