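import Cfsg.Agent.FischerTypes.M23Connected
import Cfsg.Agent.FischerTransitivity.Connected
import Cfsg.Agent.Transpositions.Simplicity

/-!
# The parameters of type M(23)

All pairs of non-commuting members are conjugate, so they have the same number `μ` of common neighbours,
`351 ≤ μ ≤ 675`; there are `(3510 · 2816) / μ` members not commuting with a given one.
-/

set_option autoImplicit false
set_option linter.style.haveILetI false
set_option maxHeartbeats 400000

namespace CfsgLib.FischerTypes.M23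

open Cfsg CfsgLib.FischerTypes

variable {G : Type*} [Group G] [Finite G] {D : Set G} (H : Hyp G D)

include H

theorem exists_conj_noncommute {d y d' y' : G} (hd : d ∈ D) (hy : y ∈ D) (hdy : ¬ Commute d y) (hd' : d' ∈ D)
    (hy' : y' ∈ D) (hdy' : ¬ Commute d' y') : ∃ g : G, g * d * g⁻¹ = d' ∧ g * y * g⁻¹ = y' := by
  have hne : (perp D d).Nonempty := Set.nonempty_of_ncard_ne_zero (by rw [ncard_perp H hd]; norm_num)
  obtain ⟨e, he⟩ := hne
  have hw : ∃ a ∈ D, ∃ b ∈ D, a ≠ b ∧ Commute a b := ⟨d, hd, e, he.1, Ne.symm he.2.1, he.2.2⟩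
  have hC := CfsgLib.Transpositions.isThreeTranspositionClass_of_primitive H.group H.prim
  obtain ⟨L, hLn, hLq, hidx, hF⟩ := CfsgLib.Transpositions.exists_component_of_primitive H.group H.prim hw
  haveI := hLn
  have hperfL : ⁅L, L⁆ = L := Subgroup.isPerfect_iff.mp hLq.1
  have hGL := CfsgLib.Transpositions.commutator_eq_of_index_le_two hperfL hidx
  have hperf : ⁅commutator G, commutator G⁆ = commutator G := by rw [hGL, hperfL]
  have hCL := CfsgLib.Transpositions.centralizer_component_le_center hC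
    (CfsgLib.Transpositions.pCore_two_le_center_of_primitive H.group H.prim)
    (CfsgLib.Transpositions.pCore_three_le_center_of_primitive H.group H.prim hw) hF
  have hsol : ∀ N : Subgroup G, N.Normal → Group.IsSolvable ↥N → N = ⊥ := by
    intro N hN hNs
    haveI := hN
    rcases CfsgLib.Components.IsQuasisimple.normal_eq_top_or_le_center hLq (N.subgroupOf L) with h0 | h0
    · exfalso
      haveI := hNs
      have hle : L ≤ N := fun x hx =>
        (h0 ▸ Subgroup.mem_top (⟨x, hx⟩ : ↥L) : (⟨x, hx⟩ : ↥L) ∈ N.subgroupOf L)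
      exact CfsgLib.Components.IsQuasisimple.not_isSolvable hLq
        (Group.isSolvable_of_isSolvable_injective (Subgroup.inclusion_injective hle))
    · rw [eq_bot_iff]
      intro n hn
      have hc : n ∈ Subgroup.center G := Subgroup.mem_center_iff.2 fun g => by
        have h2 : n * g * n⁻¹ * g⁻¹ ∈ N := by
          rw [mul_assoc, mul_assoc, ← mul_assoc g]
          exact mul_mem hn (hN.conj_mem _ (inv_mem hn) g)
        have h1 : n * g * n⁻¹ * g⁻¹ ∈ L := by
          rw [← hGL, commutator_def]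
          exact Subgroup.commutator_mem_commutator (Subgroup.mem_top n) (Subgroup.mem_top g)
        have h3 : (⟨_, h1⟩ : ↥L) ∈ Subgroup.center ↥L := h0 h2
        have h4 : n * g * n⁻¹ * g⁻¹ ∈ Subgroup.center G := hCL (Subgroup.mem_centralizer_iff.2 fun l hl =>
          congrArg Subtype.val (Subgroup.mem_center_iff.1 h3 ⟨l, hl⟩))
        rw [H.type.1, Subgroup.mem_bot, mul_inv_eq_one, mul_inv_eq_iff_eq_mul] at h4
        exact h4.symm
      rwa [H.type.1] at hc
  obtain ⟨k, hk⟩ := H.prim.1 d' hd' d hd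
  have hy2 : ¬ Commute d (k * y' * k⁻¹) := by rw [← hk, commute_conj_iff']; exact hdy'
  obtain ⟨g, hg1, hg2⟩ := CfsgLib.FischerTransitivity.transitive_on_noncommuting hC hsol hperf
    (⟨e, he⟩ : (CfsgLib.FischerTransitivity.commSet D d).Nonempty) hd hy (H.group.2.1 k y' hy') hdy hy2
  refine ⟨k⁻¹ * g, ?_, ?_⟩
  · rw [show k⁻¹ * g * d * (k⁻¹ * g)⁻¹ = k⁻¹ * (g * d * g⁻¹) * k by group, hg1, ← hk]; group
  · rw [show k⁻¹ * g * y * (k⁻¹ * g)⁻¹ = k⁻¹ * (g * y * g⁻¹) * k by group, hg2]; group

theorem ncard_common_eq {d y d' y' : G} (hd : d ∈ D) (hy : y ∈ D) (hdy : ¬ Commute d y) (hd' : d' ∈ D)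
    (hy' : y' ∈ D) (hdy' : ¬ Commute d' y') :
    (perp D d' ∩ perp D y').ncard = (perp D d ∩ perp D y).ncard := by
  obtain ⟨g, rfl, rfl⟩ := exists_conj_noncommute H hd hy hdy hd' hy' hdy'
  have hinj : Function.Injective fun a => g * a * g⁻¹ := fun a b h => mul_left_cancel (mul_right_cancel h)
  have hp : ∀ u, (fun a => g * a * g⁻¹) '' perp D u = perp D (g * u * g⁻¹) := fun u => by
    ext z
    constructor
    · rintro ⟨a, ha, rfl⟩
      exact ⟨H.group.2.1 g a ha.1, fun h0 => ha.2.1 (hinj h0), (commute_conj_iff' g u a).2 ha.2.2⟩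
    · intro hz
      refine ⟨g⁻¹ * z * g, ⟨by simpa using H.group.2.1 g⁻¹ z hz.1, fun h0 => hz.2.1 ?_, ?_⟩, by group⟩
      · rw [← h0]; group
      · rw [← commute_conj_iff' g, show g * (g⁻¹ * z * g) * g⁻¹ = z by group]; exact hz.2.2
  rw [← hp, ← hp, ← Set.image_inter hinj, Set.ncard_image_of_injective _ hinj]

variable {d y : G} (hd : d ∈ D) (hy : y ∈ D) (hdy : ¬ Commute d y)

include hd hy hdy

theorem bounds_common : 351 ≤ (perp D d ∩ perp D y).ncard ∧ (perp D d ∩ perp D y).ncard ≤ 675 := by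
  classical
  have := Fintype.ofFinite G
  set X : Finset G := (perp D d ∩ perp D y).toFinset with hX
  have hm : ∀ {q}, q ∈ X ↔ q ∈ perp D d ∧ q ∈ perp D y := fun {q} => Set.mem_toFinset
  have hb := component_bound H hd X ∅ (fun q hq => (hm.1 hq).1) (fun q hq => by
      rw [hX, Set.coe_toFinset]
      exact ncard_common_perp H hd hy hdy (hm.1 hq).1 (hm.1 hq).2)
    (by rw [hX, Set.toFinset_nonempty]; exact common_nonempty H hd hy hdy)
    (fun p hp => absurd hp (Finset.notMem_empty p))
  rw [Set.ncard_eq_toFinset_card', ← hX]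
  simp only [Finset.card_empty, Nat.cast_zero, sub_zero] at hb
  constructor <;> by_contra hlt <;> push Not at hlt <;>
    nlinarith [show (0 : ℤ) ≤ (X.card : ℤ) from Int.natCast_nonneg _]

/-- Double counting: `n₂ μ = 3510 · 2816`, and `|D| = 3511 + n₂`. -/
theorem card_eq : (D.ncard - 3511) * (perp D d ∩ perp D y).ncard = 3510 * 2816 ∧ 3511 ≤ D.ncard := by
  classical
  have := Fintype.ofFinite G
  set S : Finset G := (perp D d).toFinset with hS
  set T : Finset G := ({z | z ∈ D ∧ ¬ Commute d z} : Set G).toFinset with hT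
  have hmS : ∀ {x}, x ∈ S ↔ x ∈ perp D d := fun {x} => Set.mem_toFinset
  have hmT : ∀ {z}, z ∈ T ↔ z ∈ D ∧ ¬ Commute d z := fun {z} => Set.mem_toFinset
  have hsplit : D = insert d (perp D d) ∪ {z | z ∈ D ∧ ¬ Commute d z} := by
    ext z
    constructor
    · intro hz
      by_cases hzd : z = d
      · exact Or.inl (Or.inl hzd)
      by_cases hc : Commute d z
      · exact Or.inl (Or.inr ⟨hz, hzd, hc⟩)
      · exact Or.inr ⟨hz, hc⟩
    · rintro ((rfl | hz) | hz)
      exacts [hd, hz.1, hz.1]
  have hDcard : D.ncard = 3511 + T.card := by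
    conv_lhs => rw [hsplit]
    rw [Set.ncard_union_eq ?_ (Set.toFinite _) (Set.toFinite _),
      Set.ncard_insert_of_notMem (fun h0 => h0.2.1 rfl), ncard_perp H hd, hT, Set.ncard_eq_toFinset_card']
    refine Set.disjoint_left.2 ?_
    rintro z (rfl | hz) hz'
    · exact hz'.2 (Commute.refl _)
    · exact hz'.2 hz.2.2
  have hrow : ∀ x ∈ S, (T.filter fun z => z ∈ perp D x).card = 2816 := by
    intro x hx
    have hxd := hmS.1 hx
    have hdx : d ∈ perp D x := perp_symm hd hxd
    have hsub : perp D x = insert d (perp D d ∩ perp D x) ∪ {z | z ∈ perp D x ∧ ¬ Commute d z} := by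
      ext z
      constructor
      · intro hz
        by_cases hzd : z = d
        · exact Or.inl (Or.inl hzd)
        by_cases hc : Commute d z
        · exact Or.inl (Or.inr ⟨⟨hz.1, hzd, hc⟩, hz⟩)
        · exact Or.inr ⟨hz, hc⟩
      · rintro ((rfl | hz) | hz)
        exacts [hdx, hz.2, hz.1]
    have h1 := ncard_perp H hxd.1
    rw [hsub, Set.ncard_union_eq ?_ (Set.toFinite _) (Set.toFinite _),
      Set.ncard_insert_of_notMem (fun h0 => h0.1.2.1 rfl), ncard_perp_perp H hd hxd] at h1
    · have h2 : ({z | z ∈ perp D x ∧ ¬ Commute d z} : Set G).ncard = (T.filter fun z => z ∈ perp D x).card := by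
        rw [Set.ncard_eq_toFinset_card']
        congr 1
        ext z
        simp only [Set.mem_toFinset, Finset.mem_filter, hmT]
        exact ⟨fun hz => ⟨⟨hz.1.1, hz.2⟩, hz.1⟩, fun hz => ⟨hz.2, hz.1.2⟩⟩
      omega
    · refine Set.disjoint_left.2 ?_
      rintro z (rfl | hz) hz'
      · exact hz'.2 (Commute.refl _)
      · exact hz'.2 hz.1.2.2
  have hcol : ∀ z ∈ T, (S.filter fun x => z ∈ perp D x).card = (perp D d ∩ perp D y).ncard := by
    intro z hz
    rw [← ncard_common_eq H hd hy hdy hd (hmT.1 hz).1 (hmT.1 hz).2, Set.ncard_eq_toFinset_card']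
    congr 1
    ext x
    simp only [Set.mem_toFinset, Finset.mem_filter, hmS, Set.mem_inter_iff]
    exact ⟨fun ⟨a, b⟩ => ⟨a, perp_symm a.1 b⟩, fun ⟨a, b⟩ => ⟨a, perp_symm (hmT.1 hz).1 b⟩⟩
  have hcount := Finset.sum_comm (s := S) (t := T) (f := fun x z => if z ∈ perp D x then (1 : ℕ) else 0)
  simp only [Finset.sum_boole, Nat.cast_id] at hcount
  rw [Finset.sum_congr rfl hrow, Finset.sum_congr rfl hcol, Finset.sum_const, Finset.sum_const, smul_eq_mul,
    smul_eq_mul, hS, ← Set.ncard_eq_toFinset_card', ncard_perp H hd] at hcount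
  refine ⟨?_, by omega⟩
  rw [hDcard, Nat.add_sub_cancel_left]
  exact hcount.symm

omit hy hdy in
/-- A member commuting with every common neighbour of two non-commuting ones, and not with the first, is the
second or the third of their line. -/
theorem line_property {x x' : G} (hx : x ∈ D) (hx' : x' ∈ D) (hnc : ¬ Commute d x) (hnc' : ¬ Commute d x')
    (hsub : perp D d ∩ perp D x ⊆ perp D x') : x' = x ∨ x' = d * x * d := by
  have h := H.group
  obtain ⟨q, hq⟩ := common_nonempty H hd hx hnc
  have hqD := hq.1.1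
  have hdq : d ∈ perp D q := perp_symm hd hq.1
  have hxq : x ∈ perp D q := perp_symm hx hq.2
  have hx'q : x' ∈ perp D q := perp_symm hx' (hsub hq)
  rcases FischerTypes.line_property (quotGroup h q) (quotPrim H hqD) (quot22 H hqD) (bar_mem H hqD hdq)
      (bar_mem H hqD hxq) (bar_mem H hqD hx'q) (fun h0 => hnc ((bar_commute H hdq hxq).1 h0))
      (fun h0 => hnc' ((bar_commute H hdq hx'q).1 h0)) (by
    rintro p ⟨hpd, hpx⟩
    obtain ⟨z, hz, rfl⟩ := exists_lift hpd.1
    rw [mem_perp_bar H hqD hdq hz] at hpd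
    rw [mem_perp_bar H hqD hxq hz] at hpx
    rw [mem_perp_bar H hqD hx'q hz]
    exact hsub ⟨hpd, hpx⟩) with h1 | h1
  · exact Or.inl (bar_inj H hqD hx'q hxq h1)
  · right
    have hdx : d * x * d ∈ perp D q := by
      have h2 := conj_mem_perp h (g := d) hdq.2.2.symm hxq
      rwa [inv_eq h.1 hd] at h2
    exact bar_inj H hqD hx'q hdx (h1.trans rfl)

end CfsgLib.FischerTypes.M23
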