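import Cfsg.Agent.FischerTypes.M22Graph
import Cfsg.Agent.S0280

/-!
# The centralizer of a member of `D` in type M(22)

`C(d) = ⟨D_d⟩` and its centre is `{1, d}`.  The first is proved by showing that the covering of the commuting
graph by the cosets of `⟨D_d⟩` is trivial: transporters from `d` are defined through one or two steps and are
closed under right multiplication by generators.
-/

set_option autoImplicit false
set_option maxHeartbeats 400000

namespace CfsgLib.FischerTypes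

open Cfsg CfsgLib.U62 CfsgLib.RepBounds.Unit

variable {G : Type*} [Group G] {D : Set G}

namespace PerpModel

variable {d : G} (M : PerpModel D d)

include M in
theorem exists_conj {x y : G} (hx : x ∈ perp D d) (hy : y ∈ perp D d) :
    ∃ g ∈ Subgroup.closure (perp D d), g * x * g⁻¹ = y := by
  refine exists_conj_perp M.group M.noCentral (fun p hp q hq => ?_) hx hy
  obtain ⟨v, hv, hv0, rfl⟩ := (M.mem_img p).1 hp
  obtain ⟨w, hw, hw0, rfl⟩ := (M.mem_img q).1 hq
  obtain ⟨a, ha⟩ := exists_map_eq M.C hv hv0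
  obtain ⟨b, hb⟩ := exists_map_eq M.C hw hw0
  refine isConj_iff.2 ⟨M.θ (b⁻¹ * a), ?_⟩
  rw [← map_inv, ← map_mul, ← map_mul, conj_tv M.C M.hq _ hv, app_mul, ha, ← hb, app_inv_app]

include M in
/-- `⟨D_d⟩` is transitive on ordered pairs of commuting members of `D_d`. -/
theorem exists_conj_pair {e f e' f' : G} (he : e ∈ perp D d) (hf : f ∈ perp D d) (he' : e' ∈ perp D d)
    (hf' : f' ∈ perp D d) (hne : e ≠ f) (hne' : e' ≠ f') (hc : Commute e f) (hc' : Commute e' f') :
    ∃ g ∈ Subgroup.closure (perp D d), g * e * g⁻¹ = e' ∧ g * f * g⁻¹ = f' := by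
  obtain ⟨v, hv, hv0, hve⟩ := M.exists_pt he
  obtain ⟨w, hw, hw0, hwf⟩ := M.exists_pt hf
  obtain ⟨v', hv', hv'0, hve'⟩ := M.exists_pt he'
  obtain ⟨w', hw', hw'0, hwf'⟩ := M.exists_pt hf'
  obtain ⟨a, ha1, ha2⟩ := exists_map_pair M.C hv hw ((M.commute_iff he hf hv hw hw0 hve hwf).1 hc) hv0
    (M.not_smul_of_ne he hf hv hw0 hve hwf hne)
  obtain ⟨b, hb1, hb2⟩ := exists_map_pair M.C hv' hw' ((M.commute_iff he' hf' hv' hw' hw'0 hve' hwf').1 hc')
    hv'0 (M.not_smul_of_ne he' hf' hv' hw'0 hve' hwf' hne')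
  obtain ⟨g, hg⟩ := QuotientGroup.mk_surjective (M.θ (b⁻¹ * a))
  have key : ∀ {x x' : G} (hx : x ∈ perp D d) (hx' : x' ∈ perp D d) {p p' : I6 → M.K},
      herm M.C p p = 0 → bar hx = M.θ (tv M.C p) → bar hx' = M.θ (tv M.C p') →
      app M.C (b⁻¹ * a) p = p' → (g : G) * x * (g : G)⁻¹ = x' := by
    intro x x' hx hx' p p' hp hpx hpx' hmap
    refine M.bar_inj (conj_mem_perp' M.group g.2 hx) hx' ?_
    have e1 : bar (conj_mem_perp' M.group g.2 hx) =
        (QuotientGroup.mk g : PerpQuot D d) * bar hx * (QuotientGroup.mk g : PerpQuot D d)⁻¹ := rfl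
    rw [e1, hg, hpx, hpx', ← map_inv, ← map_mul, ← map_mul, conj_tv M.C M.hq _ hp, hmap]
  exact ⟨g, g.2, key he he' hv hve hve' (by rw [app_mul, ha1, ← hb1, app_inv_app]),
    key hf hf' hw hwf hwf' (by rw [app_mul, ha2, ← hb2, app_inv_app])⟩

end PerpModel

variable [Finite G] (h : IsThreeTranspositionGroup D) (hp : IsPrimitiveUnderConj D) (h22 : IsOfTypeM22 G D)
  {d : G} (hd : d ∈ D)

include h hp h22 hd

omit hp in
theorem exists_edge : ∃ e f, e ∈ perp D d ∧ f ∈ perp D d ∧ f ∈ perp D e := by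
  obtain ⟨M⟩ := exists_perpModel h h22 hd
  obtain ⟨e, he⟩ : (perp D d).Nonempty :=
    Set.nonempty_of_ncard_ne_zero (by rw [M.ncard_perp]; norm_num)
  obtain ⟨f, hf⟩ : (perp D d ∩ perp D e).Nonempty :=
    Set.nonempty_of_ncard_ne_zero (by rw [M.ncard_perp_perp he]; norm_num)
  exact ⟨e, f, he, hf.1, hf.2⟩

theorem mem_closure_perp_self : d ∈ Subgroup.closure (perp D d) := by
  obtain ⟨e, f, he, hf, hef⟩ := exists_edge h h22 hd
  obtain ⟨a, b, c, hnd, hD, hc, heq, -⟩ :=
    exists_six h hp h22 hd he hf (Ne.symm hef.2.1) hef.2.2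
  have hm : ∀ x ∈ [e, f, a, b, c], x ∈ Subgroup.closure (perp D d) := fun x hx =>
    mem_perp_closure ⟨hD x (List.mem_cons_of_mem _ hx), fun he' => (List.nodup_cons.1 hnd).1 (he' ▸ hx),
      hc d (by simp) x (List.mem_cons_of_mem _ hx)⟩
  have h1 : a * b * c * (f⁻¹ * e⁻¹) = d := by rw [← heq]; group
  have h2 := mul_mem (mul_mem (mul_mem (hm a (by simp)) (hm b (by simp))) (hm c (by simp)))
    (mul_mem (inv_mem (hm f (by simp))) (inv_mem (hm e (by simp))))
  rwa [h1] at h2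

/-- The only elements centralizing `d` and `D_d` are `1` and `d`. -/
theorem eq_one_or_eq_of_centralize {w : G} (hwd : Commute w d) (hw : ∀ y ∈ perp D d, Commute w y) :
    w = 1 ∨ w = d := by
  have hM : ∀ a ∈ D, Nonempty (PerpModel D a) := fun a ha => exists_perpModel h h22 ha
  obtain ⟨e, f, he, hf, hef⟩ := exists_edge h h22 hd
  obtain ⟨M⟩ := hM e he.1
  have hde : d ∈ perp D e := perp_symm hd he
  obtain ⟨v, hv, hv0, hvd⟩ := M.exists_pt hde
  obtain ⟨r, hr, hrv'⟩ := CfsgLib.Forms4.exists_partner M.C hv hv0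
  have hrv : herm M.C r v ≠ 0 := by
    rw [← conj_herm]; exact (map_ne_zero M.C.σ).2 hrv'
  have hr0 : r ≠ 0 := fun h0 => hrv (by rw [h0, herm_zero_left])
  obtain ⟨x, hx, hxr⟩ := M.exists_mem hr hr0
  have hnc : ¬ Commute d x := fun hc => hrv ((M.commute_iff hde hx hv hr hr0 hvd hxr).1 hc)
  -- an element as `w` fixing `x` is central
  have fixed : ∀ w : G, Commute w d → (∀ y ∈ perp D d, Commute w y) → Commute w x → w = 1 := by
    intro w hwd hw hwx
    have hwe : Commute w e := hw e he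
    have hfix : ∀ z, ∀ hz : z ∈ perp D e, Commute d z → Commute w z := by
      intro z hz hc
      by_cases hzd : z = d
      · exact hzd ▸ hwd
      · exact hw z ⟨hz.1, hzd, hc⟩
    set S := ((Subgroup.centralizer ({w} : Set G)).comap (Subgroup.closure (perp D e)).subtype).map
      (QuotientGroup.mk' (Subgroup.center ↥(Subgroup.closure (perp D e)))) with hS
    have hmem : ∀ {z : G} (hz : z ∈ perp D e), Commute w z → bar hz ∈ S := fun {z} hz hwz =>
      ⟨⟨z, mem_perp_closure hz⟩, Subgroup.mem_centralizer_singleton_iff.2 hwz.eq.symm, rfl⟩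
    have htop : S = ⊤ := top_of_tv_mem M.C M.hq M.θ M.surj S fun t ht ht0 =>
      tv_mem_of_orth_and_one M.C M.hq (S.comap M.θ) hv hr hrv (fun s hs hs0 hsv => by
        obtain ⟨z, hz, hzs⟩ := M.exists_mem hs hs0
        show M.θ (tv M.C s) ∈ S
        rw [← hzs]
        exact hmem hz (hfix z hz ((M.commute_iff hde hz hv hs hs0 hvd hzs).2 hsv)))
        (show M.θ (tv M.C r) ∈ S from hxr ▸ hmem hx hwx) ht ht0
    have hgd : Good D w d := ⟨hd, hwd, hw⟩
    have hge : Good D w e := ⟨he.1, hwe, fun z hz => M.commute_of_top h hwe htop hz⟩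
    have := mem_center_of_good h hp hM hgd hge he
    rwa [h22.1, Subgroup.mem_bot] at this
  have hwe : Commute w e := hw e he
  have hx' : w * x * w⁻¹ ∈ perp D e := conj_mem_perp h hwe hx
  obtain ⟨r', hr', hr'0, hxr'⟩ := M.exists_pt hx'
  have hr'v : herm M.C r' v ≠ 0 := fun h0 => hnc (by
    have h1 := (M.commute_iff hde hx' hv hr' hr'0 hvd hxr').2 h0
    rw [show d = w * d * w⁻¹ by rw [hwd.eq]; group, commute_conj_iff'] at h1
    exact h1)
  have hperp : ∀ s, herm M.C s s = 0 → herm M.C s v = 0 → herm M.C s r = 0 → herm M.C s r' = 0 := by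
    intro s hs hsv hsr
    by_cases hs0 : s = 0
    · rw [hs0, herm_zero_left]
    obtain ⟨z, hz, hzs⟩ := M.exists_mem hs hs0
    have hzd := (M.commute_iff hde hz hv hs hs0 hvd hzs).2 hsv
    have hzx := (M.commute_iff hx hz hr hs hs0 hxr hzs).2 hsr
    have hwz : Commute w z := by
      by_cases hzd' : z = d
      · exact hzd' ▸ hwd
      · exact hw z ⟨hz.1, hzd', hzd⟩
    refine (M.commute_iff hx' hz hr' hs hs0 hxr' hzs).1 ?_
    rw [show z = w * z * w⁻¹ by rw [hwz.eq]; group, commute_conj_iff']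
    exact hzx
  rcases eq_or_eq_tv_of_perp M.C M.hq hv hr hr' hrv hr'v hperp with ⟨a, ha⟩ | ⟨a, ha⟩
  · left
    have hxx : x = w * x * w⁻¹ := M.eq_of_smul hx hx' hr hr'0 hxr hxr' ha
    exact fixed w hwd hw (show w * x = x * w by rw [eq_mul_inv_iff_mul_eq] at hxx; exact hxx.symm)
  · right
    have hdx : d * x * d ∈ perp D e := by
      have h1 := conj_mem_perp h (g := d) hde.2.2.symm hx
      rwa [inv_eq h.1 hd] at h1
    have hbar : bar hdx = M.θ (tv M.C (app M.C (tv M.C v) r)) := by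
      have e1 : bar hdx = bar hde * bar hx * bar hde := rfl
      rw [e1, hvd, hxr, ← map_mul, ← map_mul, ← conj_tv M.C M.hq _ hr,
        inv_eq_of_mul_eq_one_right (tv_mul_self M.C M.hq hv)]
    have hxx : d * x * d = w * x * w⁻¹ :=
      M.eq_of_smul hdx hx' (by rw [herm_app, hr]) hr'0 hbar hxr' ha
    have h1 : w * d = 1 := by
      refine fixed (w * d) (hwd.mul_left (Commute.refl d)) (fun y hy => (hw y hy).mul_left hy.2.2) ?_
      have h2 : d * (d * x * d) * d = x := by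
        simp [mul_assoc, mul_self h.1 hd, mul_self_cancel h.1 hd]
      rw [hxx] at h2
      have h3 : (w * d) * x * (w * d)⁻¹ = x := by
        rw [hwd.eq, _root_.mul_inv_rev, inv_eq h.1 hd]
        simpa [mul_assoc] using h2
      exact mul_inv_eq_iff_eq_mul.1 h3
    rw [mul_eq_one_iff_eq_inv, inv_eq h.1 hd] at h1
    exact h1

theorem center_closure_perp {z : G} (hz : z ∈ Subgroup.closure (perp D d)) :
    (∀ y ∈ perp D d, Commute z y) ↔ z = 1 ∨ z = d := by
  refine ⟨fun hc => eq_one_or_eq_of_centralize h hp h22 hd ?_ hc, ?_⟩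
  · exact Subgroup.mem_centralizer_singleton_iff.mp (closure_le_centralizer d hz)
  · rintro (rfl | rfl) y hy
    · exact Commute.one_left y
    · exact hy.2.2

/-- An element of `⟨D_f⟩` fixing a neighbour `d` of `f` lies in `⟨D_d⟩`. -/
theorem mem_of_mem_neighbour {f z : G} (hf : f ∈ perp D d) (hz : z ∈ Subgroup.closure (perp D f))
    (hzd : Commute z d) : z ∈ Subgroup.closure (perp D d) := by
  obtain ⟨M⟩ := exists_perpModel h h22 hf.1
  have hdf : d ∈ perp D f := perp_symm hd hf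
  obtain ⟨v, hv, hv0, hvd⟩ := M.exists_pt hdf
  set S := ((Subgroup.closure (perp D d)).comap (Subgroup.closure (perp D f)).subtype).map
    (QuotientGroup.mk' (Subgroup.center ↥(Subgroup.closure (perp D f)))) with hS
  obtain ⟨g, hg⟩ := M.surj (QuotientGroup.mk (⟨z, hz⟩ : ↥(Subgroup.closure (perp D f))))
  have hgc : Commute (M.θ g) (M.θ (tv M.C v)) := by
    rw [hg, ← hvd]
    show _ = _
    rw [← QuotientGroup.mk_mul, ← QuotientGroup.mk_mul]
    exact congrArg _ (Subtype.ext hzd.eq)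
  obtain ⟨a, ha0, ha⟩ := eq_smul_of_map_eq M.C M.hq M.θ M.hker hv (w := app M.C g v)
    (by rw [herm_app, hv]) (fun h0 => hv0 (by rw [← app_inv_app M.C g v, h0]; simp [app]))
    (show M.θ (tv M.C v) = M.θ (tv M.C (app M.C g v)) by
      rw [← conj_tv M.C M.hq g hv, map_mul, map_mul, map_inv, hgc.eq, mul_inv_cancel_right])
  have hgS : g ∈ S.comap M.θ := by
    refine mem_of_stab M.C M.hq (S.comap M.θ) (fun c hc => ?_) hv hv0 (fun s hs hs0 hsv => ?_) ha
    · rw [← M.hker, MonoidHom.mem_ker] at hc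
      rw [Subgroup.mem_comap, hc]
      exact one_mem S
    · obtain ⟨y, hy, hys⟩ := M.exists_mem hs hs0
      have hyd := (M.commute_iff hdf hy hv hs hs0 hvd hys).2 hsv
      show M.θ (tv M.C s) ∈ S
      rw [← hys]
      refine ⟨⟨y, mem_perp_closure hy⟩, ?_, rfl⟩
      show y ∈ Subgroup.closure (perp D d)
      by_cases hyd' : y = d
      · rw [hyd']; exact mem_closure_perp_self h hp h22 hd
      · exact mem_perp_closure ⟨hy.1, hyd', hyd⟩
  obtain ⟨u, hu, huz⟩ : (QuotientGroup.mk (⟨z, hz⟩ : ↥(Subgroup.closure (perp D f))) : PerpQuot D f) ∈ S :=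
    hg ▸ hgS
  have hc := mem_center_closure_iff.mp (QuotientGroup.eq.mp huz)
  have hu' : (u : G) ∈ Subgroup.closure (perp D d) := hu
  rcases (center_closure_perp h hp h22 hf.1 (mul_mem (inv_mem u.2) hz)).1 hc with h0 | h0
  · rwa [← inv_mul_eq_one.1 h0]
  · rw [show z = (u : G) * ((u : G)⁻¹ * z) by group, h0]
    exact mul_mem hu' (mem_perp_closure hf)

omit h hp h22 hd

/-- One step transporters from `d`. -/
def Step (D : Set G) (d e g : G) : Prop :=
  e ∈ perp D d ∧ g * d * g⁻¹ = e ∧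
    ∃ f, f ∈ perp D d ∧ f ∈ perp D e ∧ ∃ a ∈ Subgroup.closure (perp D f), a⁻¹ * g ∈ Subgroup.closure (perp D d)

omit [Finite G] in
theorem conj_of_mem {d h : G} (hh : h ∈ Subgroup.closure (perp D d)) : h * d * h⁻¹ = d := by
  rw [Subgroup.mem_centralizer_singleton_iff.mp (closure_le_centralizer d hh), mul_inv_cancel_right]

omit [Finite G] in
theorem Step.mul_right {d e g k : G} (hs : Step D d e g) (hk : k ∈ Subgroup.closure (perp D d)) :
    Step D d e (g * k) := by
  obtain ⟨he, hg, f, hf, hfe, a, ha, hag⟩ := hs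
  refine ⟨he, ?_, f, hf, hfe, a, ha, ?_⟩
  · rw [_root_.mul_inv_rev, ← hg]
    calc g * k * d * (k⁻¹ * g⁻¹) = g * (k * d * k⁻¹) * g⁻¹ := by group
      _ = g * d * g⁻¹ := by rw [conj_of_mem hk]
  · rw [← mul_assoc]; exact mul_mem hag hk

include h

omit [Finite G] in
theorem conj_mem_closure {g f a : G} (ha : a ∈ Subgroup.closure (perp D f)) :
    g * a * g⁻¹ ∈ Subgroup.closure (perp D (g * f * g⁻¹)) := by
  induction ha using Subgroup.closure_induction with
  | mem x hx =>
    exact mem_perp_closure ⟨h.2.1 g x hx.1, fun he => hx.2.1 (mul_left_cancel (mul_right_cancel he)),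
      (commute_conj_iff' g _ _).2 hx.2.2⟩
  | one => simp
  | mul x y _ _ ihx ihy =>
    rw [show g * (x * y) * g⁻¹ = (g * x * g⁻¹) * (g * y * g⁻¹) by group]; exact mul_mem ihx ihy
  | inv x _ ihx => rw [show g * x⁻¹ * g⁻¹ = (g * x * g⁻¹)⁻¹ by group]; exact inv_mem ihx

omit [Finite G] in
theorem Step.mul_left {e g k : G} (hs : Step D d e g) (hk : k ∈ Subgroup.closure (perp D d)) :
    Step D d (k * e * k⁻¹) (k * g) := by
  obtain ⟨he, hg, f, hf, hfe, a, ha, hag⟩ := hs
  have hkd : Commute k d := Subgroup.mem_centralizer_singleton_iff.mp (closure_le_centralizer d hk)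
  refine ⟨conj_mem_perp h hkd he, by rw [← hg]; group, k * f * k⁻¹, conj_mem_perp h hkd hf,
    ⟨h.2.1 k f hf.1, fun h0 => hfe.2.1 (mul_left_cancel (mul_right_cancel h0)),
      (commute_conj_iff' k _ _).2 hfe.2.2⟩, k * a * k⁻¹, conj_mem_closure h ha, ?_⟩
  rw [show (k * a * k⁻¹)⁻¹ * (k * g) = k * (a⁻¹ * g) by group]
  exact mul_mem hk hag

include hp h22 hd

omit hp in
/-- A transporter inside the neighbourhood of a third member. -/
theorem exists_trans {e f : G} (he : e ∈ perp D d) (hf : f ∈ perp D d) (hfe : f ∈ perp D e) :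
    ∃ a ∈ Subgroup.closure (perp D f), a * d * a⁻¹ = e := by
  obtain ⟨M⟩ := exists_perpModel h h22 hf.1
  obtain ⟨g, hg, hge⟩ := M.exists_conj (perp_symm hd hf) (perp_symm he.1 hfe)
  exact ⟨g, hg, hge⟩

theorem step_unique_adj {e f f' g g' : G} (he : e ∈ perp D d) (hf : f ∈ perp D d) (hfe : f ∈ perp D e)
    (hf' : f' ∈ perp D d) (hfe' : f' ∈ perp D e) (hff : f' ∈ perp D f)
    {a a' : G} (ha : a ∈ Subgroup.closure (perp D f)) (hag : a⁻¹ * g ∈ Subgroup.closure (perp D d))
    (ha' : a' ∈ Subgroup.closure (perp D f')) (hag' : a'⁻¹ * g' ∈ Subgroup.closure (perp D d))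
    (hg : g * d * g⁻¹ = e) (hg' : g' * d * g'⁻¹ = e) : g⁻¹ * g' ∈ Subgroup.closure (perp D d) := by
  obtain ⟨M⟩ := exists_perpModel h h22 hf.1
  have hdf : d ∈ perp D f := perp_symm hd hf
  have hef : e ∈ perp D f := perp_symm he.1 hfe
  obtain ⟨v, hv, hv0, hvd⟩ := M.exists_pt hdf
  obtain ⟨q, hq, hq0, hqe⟩ := M.exists_pt hef
  obtain ⟨r, hr, hr0, hrf⟩ := M.exists_pt hff
  obtain ⟨s, hs, hs0, hsr, hsv, hsq⟩ := exists_transporter M.C M.hq hv hr hv0
    ((M.commute_iff hdf hff hv hr hr0 hvd hrf).1 hf'.2.2)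
    ((M.commute_iff hdf hef hv hq hq0 hvd hqe).1 he.2.2)
    ((M.commute_iff hff hef hr hq hq0 hrf hqe).1 hfe'.2.2.symm)
    (M.not_smul_of_ne hdf hff hv hr0 hvd hrf (Ne.symm hf'.2.1))
    (M.not_smul_of_ne hff hef hr hq0 hrf hqe hfe'.2.1)
  obtain ⟨u, hu, hus⟩ := M.exists_mem hs hs0
  have hud : ¬ Commute d u := fun hc => hsv ((M.commute_iff hdf hu hv hs hs0 hvd hus).1 hc)
  have hue : ¬ Commute e u := fun hc => hsq ((M.commute_iff hef hu hq hs hs0 hqe hus).1 hc)
  have huf' : u ∈ perp D f' := ⟨hu.1, fun h0 => hud (h0 ▸ hf'.2.2),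
    (M.commute_iff hff hu hr hs hs0 hrf hus).2 hsr⟩
  have step : ∀ {x y : G}, x ∈ D → y ∈ D → ¬ Commute x y → x * y * x * (y * x) = y := by
    intro x y hx hy hxy
    calc x * y * x * (y * x) = (x * y * x) * (y * x) := rfl
      _ = (y * x * y) * (y * x) := by rw [braid h.1 hx hy hxy]
      _ = y := by simp [mul_assoc, mul_self h.1 hx, mul_self_cancel h.1 hy]
  set t := u * e * (d * u) with ht
  have htd : t * d * t⁻¹ = e := by
    rw [ht]
    simp only [_root_.mul_inv_rev, inv_eq h.1 hu.1, inv_eq h.1 he.1, inv_eq h.1 hd]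
    calc u * e * (d * u) * d * (u * d * (e * u)) = u * e * (d * u * d * (u * d)) * (e * u) := by
          simp [mul_assoc]
      _ = u * e * u * (e * u) := by rw [step hd hu.1 hud]
      _ = e := step hu.1 he.1 fun hh => hue hh.symm
  have htf : t ∈ Subgroup.closure (perp D f) :=
    mul_mem (mul_mem (mem_perp_closure hu) (mem_perp_closure hef))
      (mul_mem (mem_perp_closure hdf) (mem_perp_closure hu))
  have htf' : t ∈ Subgroup.closure (perp D f') :=
    mul_mem (mul_mem (mem_perp_closure huf') (mem_perp_closure (perp_symm he.1 hfe')))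
      (mul_mem (mem_perp_closure (perp_symm hd hf')) (mem_perp_closure huf'))
  have fixd : ∀ {x y : G}, x * d * x⁻¹ = e → y * d * y⁻¹ = e → Commute (x⁻¹ * y) d := by
    intro x y hx hy
    have h1 : (x⁻¹ * y) * d * (x⁻¹ * y)⁻¹ = d := by
      rw [_root_.mul_inv_rev, inv_inv, show x⁻¹ * y * d * (y⁻¹ * x) = x⁻¹ * (y * d * y⁻¹) * x by group, hy,
        ← hx]
      group
    exact mul_inv_eq_iff_eq_mul.1 h1
  have conjeq : ∀ {b k : G}, b⁻¹ * k ∈ Subgroup.closure (perp D d) → k * d * k⁻¹ = e → b * d * b⁻¹ = e := by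
    intro b k hbk hk
    rw [← hk]
    calc b * d * b⁻¹ = b * ((b⁻¹ * k) * d * (b⁻¹ * k)⁻¹) * b⁻¹ := by rw [conj_of_mem hbk]
      _ = k * d * k⁻¹ := by group
  have e1 := mem_of_mem_neighbour h hp h22 hd hf (mul_mem (inv_mem ha) htf) (fixd (conjeq hag hg) htd)
  have e2 := mem_of_mem_neighbour h hp h22 hd hf' (mul_mem (inv_mem htf') ha') (fixd htd (conjeq hag' hg'))
  rw [show g⁻¹ * g' = (a⁻¹ * g)⁻¹ * (a⁻¹ * t) * (t⁻¹ * a') * (a'⁻¹ * g') by group]
  exact mul_mem (mul_mem (mul_mem (inv_mem hag) e1) e2) hag'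

/-- One step transporters form a single coset. -/
theorem Step.unique {e g g' : G} (hs : Step D d e g) (hs' : Step D d e g') :
    g⁻¹ * g' ∈ Subgroup.closure (perp D d) := by
  obtain ⟨he, hg, f, hf, hfe, a, ha, hag⟩ := hs
  obtain ⟨-, hg', f', hf', hfe', a', ha', hag'⟩ := hs'
  obtain ⟨M⟩ := exists_perpModel h h22 hd
  have aux : ∀ {f₁ f₂ a₁ a₂ k₁ k₂ : G}, f₁ ∈ perp D d → f₁ ∈ perp D e → f₂ ∈ perp D d → f₂ ∈ perp D e →
      f₂ ∈ perp D f₁ → a₁ ∈ Subgroup.closure (perp D f₁) → a₁⁻¹ * k₁ ∈ Subgroup.closure (perp D d) →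
      a₂ ∈ Subgroup.closure (perp D f₂) → a₂⁻¹ * k₂ ∈ Subgroup.closure (perp D d) →
      k₁ * d * k₁⁻¹ = e → k₂ * d * k₂⁻¹ = e → k₁⁻¹ * k₂ ∈ Subgroup.closure (perp D d) :=
    fun h1 h2 h3 h4 h5 h6 h7 h8 h9 h10 h11 =>
      step_unique_adj h hp h22 hd he h1 h2 h3 h4 h5 h6 h7 h8 h9 h10 h11
  -- go through a member commuting with `f` and `f'`
  obtain ⟨c, hc, hce, hcf, hcf'⟩ : ∃ c, c ∈ perp D d ∧ c ∈ perp D e ∧ c ∈ perp D f ∧ c ∈ perp D f' := by
    obtain ⟨p, hp', hp0, hpf⟩ := M.exists_pt hf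
    obtain ⟨q, hq, hq0, hqf⟩ := M.exists_pt hf'
    obtain ⟨v, hv, hv0, hve⟩ := M.exists_pt he
    have hpv : herm M.C v p = 0 := (M.commute_iff hf he hp' hv hv0 hpf hve).1 hfe.2.2.symm
    have hqv : herm M.C v q = 0 := (M.commute_iff hf' he hq hv hv0 hqf hve).1 hfe'.2.2.symm
    have hvp : herm M.C p v = 0 := by rw [← conj_herm, hpv, map_zero]
    have hvq : herm M.C q v = 0 := by rw [← conj_herm, hqv, map_zero]
    have npv := M.not_smul_of_ne he hf hv hp0 hve hpf (Ne.symm hfe.2.1)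
    have nqv := M.not_smul_of_ne he hf' hv hq0 hve hqf (Ne.symm hfe'.2.1)
    obtain ⟨w, hw, hw0, hwp, hwq, hwv, nwp, nwq, nwv⟩ : ∃ w, herm M.C w w = 0 ∧ w ≠ 0 ∧ herm M.C w p = 0 ∧
        herm M.C w q = 0 ∧ herm M.C w v = 0 ∧ (∀ a : M.K, w ≠ a • p) ∧ (∀ a : M.K, w ≠ a • q) ∧
        ∀ a : M.K, w ≠ a • v := by
      by_cases hcc : Commute f f'
      swap
      · exact exists_common_orth3 M.C M.hq hp' hq hv hp0 hv0
          (fun h0 => hcc ((M.commute_iff hf hf' hp' hq hq0 hpf hqf).2 h0)) hpv hqv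
      have hqp : herm M.C q p = 0 := (M.commute_iff hf hf' hp' hq hq0 hpf hqf).1 hcc
      have hpq : herm M.C p q = 0 := by rw [← conj_herm, hqp, map_zero]
      by_cases hff : f = f'
      · -- a third point of the line of `e` and `f`
        subst hff
        obtain ⟨a, ha0, ha⟩ := eq_smul_of_map_eq M.C M.hq M.θ M.hker hp' hq hq0 (hpf.symm.trans hqf)
        refine ⟨p + v, ?_, ?_, ?_, ?_, ?_, ?_, ?_, ?_⟩
        · simp [herm_add_left, herm_add_right, hp', hv, hpv, hvp]
        · intro h0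
          exact npv (-1) (by rw [neg_one_smul]; exact eq_neg_of_add_eq_zero_left h0)
        · simp [herm_add_left, hp', hpv]
        · simp [herm_add_left, ha, herm_smul_right, hp', hpv]
        · simp [herm_add_left, hvp, hv]
        · intro b hb
          have h1 : v = (b - 1) • p := by linear_combination (norm := module) hb
          rcases eq_or_ne (b - 1) 0 with h0 | h0
          · exact hv0 (by rw [h1, h0, zero_smul])
          · exact npv (b - 1)⁻¹ (by rw [h1, inv_smul_smul₀ h0])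
        · intro b hb
          rw [ha, smul_smul] at hb
          have h1 : v = (b * a - 1) • p := by linear_combination (norm := module) hb
          rcases eq_or_ne (b * a - 1) 0 with h0 | h0
          · exact hv0 (by rw [h1, h0, zero_smul])
          · exact npv (b * a - 1)⁻¹ (by rw [h1, inv_smul_smul₀ h0])
        · intro b hb
          exact npv (b - 1) (by linear_combination (norm := module) hb)
      -- a point of the line of `f` and `f'` different from `e`
      have nqp := M.not_smul_of_ne hf hf' hp' hq0 hpf hqf hff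
      obtain ⟨ω, hω0, hω1, -⟩ := exists_omega M.C M.hq
      obtain ⟨t, ht0, htv⟩ : ∃ t : M.K, t ≠ 0 ∧ ∀ a : M.K, p + t • q ≠ a • v := by
        by_contra hall
        push Not at hall
        obtain ⟨a, ha⟩ := hall 1 one_ne_zero
        obtain ⟨b, hb⟩ := hall ω hω0
        refine nqv ((ω - 1)⁻¹ * (b - a)) ?_
        have h1 : (ω - 1) • q = (b - a) • v := by linear_combination (norm := module) hb - ha
        rw [mul_smul, ← h1, inv_smul_smul₀ (sub_ne_zero.2 hω1)]
      have nq : ∀ a : M.K, p + t • q ≠ a • q := fun a ha => by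
        have h1 : p = (a - t) • q := by linear_combination (norm := module) ha
        rcases eq_or_ne (a - t) 0 with h0 | h0
        · exact hp0 (by rw [h1, h0, zero_smul])
        · exact nqp (a - t)⁻¹ (by rw [h1, inv_smul_smul₀ h0])
      refine ⟨p + t • q, ?_, fun h0 => htv 0 (by rw [h0, zero_smul]), ?_, ?_, ?_, ?_, nq, htv⟩
      · simp [herm_add_left, herm_add_right, herm_smul_left, herm_smul_right, hp', hq, hpq, hqp]
      · simp [herm_add_left, herm_smul_left, hp', hqp]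
      · simp [herm_add_left, herm_smul_left, hq, hpq]
      · simp [herm_add_left, herm_smul_left, hvp, hvq]
      · intro a ha
        have h1 : t • q = (a - 1) • p := by linear_combination (norm := module) ha
        exact nqp (t⁻¹ * (a - 1)) (by rw [mul_smul, ← h1, inv_smul_smul₀ ht0])
    obtain ⟨c, hc, hcw⟩ := M.exists_mem hw hw0
    have ne_of : ∀ {o : G} (ho : o ∈ perp D d) {t : I6 → M.K}, herm M.C t t = 0 → bar ho = M.θ (tv M.C t) →
        (∀ a : M.K, w ≠ a • t) → c ≠ o := by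
      intro o ho t ht hto hwt h0
      subst h0
      obtain ⟨a, -, ha⟩ := eq_smul_of_map_eq M.C M.hq M.θ M.hker ht hw hw0 (hto.symm.trans hcw)
      exact hwt a ha
    exact ⟨c, hc, ⟨hc.1, ne_of he hv hve nwv, (M.commute_iff he hc hv hw hw0 hve hcw).2 hwv⟩,
      ⟨hc.1, ne_of hf hp' hpf nwp, (M.commute_iff hf hc hp' hw hw0 hpf hcw).2 hwp⟩,
      ⟨hc.1, ne_of hf' hq hqf nwq, (M.commute_iff hf' hc hq hw hw0 hqf hcw).2 hwq⟩⟩
  obtain ⟨b, hb, hbe⟩ := exists_trans h h22 hd he hc hce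
  have hbb : b⁻¹ * b ∈ Subgroup.closure (perp D d) := by rw [inv_mul_cancel]; exact one_mem _
  have e1 := aux hf hfe hc hce hcf ha hag hb hbb hg hbe
  have e2 := aux hc hce hf' hfe' (perp_symm hf'.1 hcf') hb hbb ha' hag' hbe hg'
  rw [show g⁻¹ * g' = (g⁻¹ * b) * (b⁻¹ * g') by group]
  exact mul_mem e1 e2

theorem exists_step {e : G} (he : e ∈ perp D d) : ∃ g, Step D d e g := by
  obtain ⟨M⟩ := exists_perpModel h h22 hd
  obtain ⟨f, hf⟩ : (perp D d ∩ perp D e).Nonempty :=
    Set.nonempty_of_ncard_ne_zero (by rw [M.ncard_perp_perp he]; norm_num)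
  obtain ⟨a, ha, hae⟩ := exists_trans h h22 hd he hf.1 hf.2
  exact ⟨a, he, hae, f, hf.1, hf.2, a, ha, by rw [inv_mul_cancel]; exact one_mem _⟩

/-- The common part of the return and triangle rules: both steps can be made inside `⟨D_f⟩`. -/
theorem step_compose {e w g u f : G} (hs : Step D d e g) (hw : Step D d w u) (hf : f ∈ perp D d)
    (hfe : f ∈ perp D e) (hfw : g * w * g⁻¹ = d ∨ g * w * g⁻¹ ∈ perp D d ∩ perp D f) :
    (g * w * g⁻¹ = d → g * u ∈ Subgroup.closure (perp D d)) ∧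
      (g * w * g⁻¹ ∈ perp D d ∩ perp D f → Step D d (g * w * g⁻¹) (g * u)) := by
  obtain ⟨a, ha, hae⟩ := exists_trans h h22 hd hs.1 hf hfe
  have hsa : Step D d e a :=
    ⟨hs.1, hae, f, hf, hfe, a, ha, by rw [inv_mul_cancel]; exact one_mem _⟩
  set k := a⁻¹ * g with hk
  have hkm : k ∈ Subgroup.closure (perp D d) := Step.unique h hp h22 hd hsa hs
  have hgk : g = a * k := by rw [hk, mul_inv_cancel_left]
  have hkw := hw.mul_left h hkm
  set w' := k * w * k⁻¹ with hw'
  have hgw : g * w * g⁻¹ = a * w' * a⁻¹ := by rw [hw', hgk]; group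
  have hdf : d ∈ perp D f := perp_symm hd hf
  -- `w'` is a neighbour of `f`
  have hw'f : w' ∈ perp D f := by
    have hm : g * w * g⁻¹ ∈ perp D f := by
      rcases hfw with h0 | h0
      · rw [h0]; exact hdf
      · exact h0.2
    have h1 := conj_mem_perp' h (inv_mem ha) hm
    rwa [show a⁻¹ * (g * w * g⁻¹) * a⁻¹⁻¹ = w' by rw [hgw]; group] at h1
  obtain ⟨b, hb, hbw⟩ := exists_trans h h22 hd hkw.1 hf (perp_symm hf.1 hw'f)
  have hsb : Step D d w' b :=
    ⟨hkw.1, hbw, f, hf, perp_symm hf.1 hw'f, b, hb, by rw [inv_mul_cancel]; exact one_mem _⟩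
  have hbu : b⁻¹ * (k * u) ∈ Subgroup.closure (perp D d) := Step.unique h hp h22 hd hsb hkw
  have hab : a * b * d * (a * b)⁻¹ = g * w * g⁻¹ := by
    rw [hgw, ← hbw]; group
  have hgu : g * u = a * b * (b⁻¹ * (k * u)) := by rw [hgk]; group
  constructor
  · intro h0
    rw [hgu]
    refine mul_mem (mem_of_mem_neighbour h hp h22 hd hf (mul_mem ha hb) ?_) hbu
    rw [h0] at hab
    exact mul_inv_eq_iff_eq_mul.1 hab
  · intro h0
    rw [hgu]
    exact Step.mul_right ⟨h0.1, hab, f, hf, perp_symm hf.1 h0.2, a * b, mul_mem ha hb,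
      by rw [inv_mul_cancel]; exact one_mem _⟩ hbu

theorem step_return {e w g u : G} (hs : Step D d e g) (hw : Step D d w u) (hd' : g * w * g⁻¹ = d) :
    g * u ∈ Subgroup.closure (perp D d) := by
  obtain ⟨-, -, f, hf, hfe, -⟩ := id hs
  exact (step_compose h hp h22 hd hs hw hf hfe (Or.inl hd')).1 hd'

theorem step_triangle {e w g u : G} (hs : Step D d e g) (hw : Step D d w u)
    (hy : g * w * g⁻¹ ∈ perp D d) : Step D d (g * w * g⁻¹) (g * u) := by
  obtain ⟨M⟩ := exists_perpModel h h22 hd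
  set y := g * w * g⁻¹ with hy'
  have hye : y ∈ perp D e := by
    refine ⟨hy.1, fun h0 => hw.1.2.1 ?_, ?_⟩
    · rw [← hs.2.1] at h0; exact mul_left_cancel (mul_right_cancel h0)
    · rw [← hs.2.1, hy', commute_conj_iff']; exact hw.1.2.2
  obtain ⟨a, b, c, ha, hb, hc, hnd, hcm, -, -⟩ := M.exists_line hs.1 hy (Ne.symm hye.2.1) hye.2.2
  simp only [List.nodup_cons, List.mem_cons, List.not_mem_nil, or_false, not_or] at hnd
  exact (step_compose h hp h22 hd hs hw ha
    ⟨ha.1, Ne.symm hnd.1.2.1, hcm e (by simp) a (by simp)⟩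
    (Or.inr ⟨hy, hy.1, hnd.2.1.1, hcm a (by simp) y (by simp)⟩)).2
    ⟨hy, hy.1, hnd.2.1.1, hcm a (by simp) y (by simp)⟩

omit h hp h22 hd

/-- Two step transporters. -/
def TwoStep (D : Set G) (d y e g : G) : Prop :=
  e ∈ perp D d ∧ e ∈ perp D y ∧ ∃ g₁, Step D d e g₁ ∧ Step D d (g₁⁻¹ * y * g₁) (g₁⁻¹ * g)

include h hp h22 hd

theorem TwoStep.change {y e e' g : G} (hy : y ∈ D) (hs : TwoStep D d y e g) (he'd : e' ∈ perp D d)
    (he'y : e' ∈ perp D y) (hee : e' ∈ perp D e) : TwoStep D d y e' g := by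
  obtain ⟨he, hey, g₁, hg₁, hg₂⟩ := hs
  have conj' : ∀ {x z : G} (k : G), x ∈ D → z ∈ perp D x → k * z * k⁻¹ ∈ perp D (k * x * k⁻¹) :=
    fun k _ hz => ⟨h.2.1 k _ hz.1, fun h0 => hz.2.1 (mul_left_cancel (mul_right_cancel h0)),
      (commute_conj_iff' k _ _).2 hz.2.2⟩
  set w := g₁⁻¹ * e' * g₁ with hw
  have hgw : g₁ * w * g₁⁻¹ = e' := by rw [hw]; group
  have hwd : w ∈ perp D d := by
    have h1 := conj' g₁⁻¹ he.1 hee
    rwa [inv_inv, show g₁⁻¹ * e * g₁ = d by rw [← hg₁.2.1]; group] at h1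
  obtain ⟨u, hu⟩ := exists_step h hp h22 hd hwd
  have hg₁u : Step D d e' (g₁ * u) := hgw ▸ step_triangle h hp h22 hd hg₁ hu (by rw [hgw]; exact he'd)
  refine ⟨he'd, he'y, g₁ * u, hg₁u, ?_⟩
  set y' := (g₁ * u)⁻¹ * y * (g₁ * u) with hy'
  have hy'd : y' ∈ perp D d := by
    have h1 := conj' (g₁ * u)⁻¹ he'd.1 (perp_symm hy he'y)
    rwa [inv_inv, show (g₁ * u)⁻¹ * e' * (g₁ * u) = d by rw [← hg₁u.2.1]; group] at h1
  obtain ⟨v, hv⟩ := exists_step h hp h22 hd hy'd
  have heq : u * y' * u⁻¹ = g₁⁻¹ * y * g₁ := by rw [hy']; group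
  have huv : Step D d (g₁⁻¹ * y * g₁) (u * v) :=
    heq ▸ step_triangle h hp h22 hd hu hv (by rw [heq]; exact hg₂.1)
  have hm := Step.unique h hp h22 hd huv hg₂
  rw [show (g₁ * u)⁻¹ * g = v * ((u * v)⁻¹ * (g₁⁻¹ * g)) by group]
  exact hv.mul_right hm

theorem TwoStep.change' {y e e' g : G} (hy : y ∈ D) (hdy : ¬ Commute d y) (hs : TwoStep D d y e g)
    (he'd : e' ∈ perp D d) (he'y : e' ∈ perp D y) : TwoStep D d y e' g := by
  have hcon := common_connected h hp h22 hd hy hdy ⟨hs.1, hs.2.1⟩ ⟨he'd, he'y⟩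
  clear he'd he'y
  induction hcon with
  | refl => exact hs
  | tail _ hr ih => exact TwoStep.change h hp h22 hd hy ih hr.1.1 hr.1.2 hr.2

/-- The centralizer of a member is generated by the members commuting with it. -/
theorem centralizer_eq : Subgroup.centralizer ({d} : Set G) = Subgroup.closure (perp D d) := by
  refine le_antisymm (fun g hg => ?_) (closure_le_centralizer d)
  set W : Set G := {g | g ∈ Subgroup.closure (perp D d) ∨ Step D d (g * d * g⁻¹) g ∨
    ¬ Commute d (g * d * g⁻¹) ∧ ∃ e, TwoStep D d (g * d * g⁻¹) e g} with hW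
  have rightH : ∀ g ∈ W, ∀ k ∈ Subgroup.closure (perp D d), g * k ∈ W := by
    intro g hg k hk
    have hgk : g * k * d * (g * k)⁻¹ = g * d * g⁻¹ := by
      calc g * k * d * (g * k)⁻¹ = g * (k * d * k⁻¹) * g⁻¹ := by group
        _ = _ := by rw [conj_of_mem hk]
    rcases hg with h0 | h0 | ⟨hnc, e, he, hey, g₁, hg₁, hg₂⟩
    · exact Or.inl (mul_mem h0 hk)
    · exact Or.inr (Or.inl (by rw [hgk]; exact h0.mul_right hk))
    · refine Or.inr (Or.inr ⟨by rw [hgk]; exact hnc, e, he, by rw [hgk]; exact hey, g₁, hg₁, ?_⟩)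
      rw [hgk, show g₁⁻¹ * (g * k) = g₁⁻¹ * g * k from (mul_assoc _ _ _).symm]
      exact hg₂.mul_right hk
  have rightStep : ∀ g ∈ W, ∀ w u, Step D d w u → g * u ∈ W := by
    intro g hg w u hu
    set y := g * d * g⁻¹ with hy
    set y' := g * w * g⁻¹ with hy'
    have hguy : g * u * d * (g * u)⁻¹ = y' := by rw [hy', ← hu.2.1]; group
    have hyD : y ∈ D := h.2.1 g d hd
    have hy'y : y' ∈ perp D y := ⟨h.2.1 g w hu.1.1,
      fun h0 => hu.1.2.1 (mul_left_cancel (mul_right_cancel h0)), (commute_conj_iff' g _ _).2 hu.1.2.2⟩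
    rcases hg with h0 | h0 | ⟨hnc, e, hs⟩
    · exact Or.inr (Or.inl (by rw [hguy]; exact hu.mul_left h h0))
    · rcases eq_or_ne y' d with h1 | h1
      · exact Or.inl (step_return h hp h22 hd h0 hu h1)
      by_cases h2 : Commute d y'
      · exact Or.inr (Or.inl (by rw [hguy]; exact step_triangle h hp h22 hd h0 hu ⟨hy'y.1, h1, h2⟩))
      · refine Or.inr (Or.inr ⟨by rw [hguy]; exact h2, y, h0.1, by rw [hguy]; exact perp_symm hyD hy'y, g,
          h0, ?_⟩)
        rw [hguy, show g⁻¹ * y' * g = w by rw [hy']; group, inv_mul_cancel_left]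
        exact hu
    · have hne : y' ≠ d := fun h1 => hnc (h1 ▸ hy'y.2.2).symm
      by_cases h2 : Commute d y'
      · have hy'd : y' ∈ perp D d := ⟨hy'y.1, hne, h2⟩
        obtain ⟨-, -, g₁, hg₁, hg₂⟩ := TwoStep.change' h hp h22 hd hyD hnc hs hy'd hy'y
        have hr := step_return h hp h22 hd hg₂ hu (by
          rw [show g₁⁻¹ * g * w * (g₁⁻¹ * g)⁻¹ = g₁⁻¹ * y' * g₁ by rw [hy']; group, ← hg₁.2.1]; group)
        refine Or.inr (Or.inl ?_)
        rw [hguy, show g * u = g₁ * (g₁⁻¹ * g * u) by group]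
        exact hg₁.mul_right hr
      · obtain ⟨q, hq, hqy'⟩ := exists_commute_common h hp h22 hyD hd (fun hh => hnc hh.symm)
          ⟨e, hs.2.1, hs.1⟩ hy'y h2
        obtain ⟨-, -, g₁, hg₁, hg₂⟩ := TwoStep.change' h hp h22 hd hyD hnc hs hq.2 hq.1
        refine Or.inr (Or.inr ⟨by rw [hguy]; exact h2, q, hq.2, by rw [hguy]; exact hqy', g₁, hg₁, ?_⟩)
        have heq : g₁⁻¹ * g * w * (g₁⁻¹ * g)⁻¹ = g₁⁻¹ * y' * g₁ := by rw [hy']; group
        have hm : g₁⁻¹ * y' * g₁ ∈ perp D d := by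
          have hqd : g₁⁻¹ * q * g₁ = d := by rw [← hg₁.2.1]; group
          refine ⟨by simpa using h.2.1 g₁⁻¹ y' hy'y.1, fun h1 => hqy'.2.1 ?_, ?_⟩
          · exact (mul_left_cancel (mul_right_cancel (h1.trans hqd.symm))).symm
          · rw [← hqd]
            simpa using (commute_conj_iff' g₁⁻¹ q y').2 hqy'.2.2.symm
        rw [hguy, ← heq, ← mul_assoc]
        exact step_triangle h hp h22 hd hg₂ hu (by rw [heq]; exact hm)
  obtain ⟨e₀, f₀, he₀, -, -⟩ := exists_edge h h22 hd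
  obtain ⟨u₀, hu₀⟩ := exists_step h hp h22 hd he₀
  set S : Set G := insert u₀ (perp D d) with hS
  have hHS : Subgroup.closure (perp D d) ≤ Subgroup.closure S := Subgroup.closure_mono (Set.subset_insert _ _)
  have hu₀S : u₀ ∈ Subgroup.closure S := Subgroup.subset_closure (Set.mem_insert _ _)
  have htop : Subgroup.closure S = ⊤ := by
    have horb : ∀ y ∈ D, ∃ k ∈ Subgroup.closure S, k * d * k⁻¹ = y := by
      intro y hy
      have hr := reach_of_primitive h hp hd he₀ hy
      clear hy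
      induction hr with
      | refl => exact ⟨1, one_mem _, by simp⟩
      | @tail b c _ hbc ih =>
        obtain ⟨k, hk, hkb⟩ := ih
        obtain ⟨M⟩ := exists_perpModel h h22 hd
        have hc' : k⁻¹ * c * k ∈ perp D d := by
          refine ⟨by simpa using h.2.1 k⁻¹ c hbc.2.1, fun h0 => hbc.2.2.1 ?_, ?_⟩
          · rw [← hkb, ← h0]; group
          · rw [← commute_conj_iff' k, hkb, show k * (k⁻¹ * c * k) * k⁻¹ = c by group]
            exact hbc.2.2.2
        obtain ⟨m, hm, hm'⟩ := M.exists_conj he₀ hc'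
        refine ⟨k * m * u₀, mul_mem (mul_mem hk (hHS hm)) hu₀S, ?_⟩
        calc k * m * u₀ * d * (k * m * u₀)⁻¹ = k * (m * (u₀ * d * u₀⁻¹) * m⁻¹) * k⁻¹ := by group
          _ = k * (m * e₀ * m⁻¹) * k⁻¹ := by rw [hu₀.2.1]
          _ = c := by rw [hm']; group
    rw [eq_top_iff, ← h.2.2, Subgroup.closure_le]
    intro y hy
    obtain ⟨k, hk, rfl⟩ := horb y hy
    exact mul_mem (mul_mem hk (hHS (mem_closure_perp_self h hp h22 hd))) (inv_mem hk)
  have hinv : ∃ k ∈ Subgroup.closure (perp D d), ∃ a w, Step D d w a ∧ u₀⁻¹ = k * a := by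
    obtain ⟨-, hg0, f, hf, hfe, a, ha, hag⟩ := id hu₀
    have hkd := conj_of_mem hag
    have hae : a * d * a⁻¹ = e₀ := by
      rw [← hg0]
      calc a * d * a⁻¹ = a * ((a⁻¹ * u₀) * d * (a⁻¹ * u₀)⁻¹) * a⁻¹ := by rw [hkd]
        _ = _ := by group
    refine ⟨(a⁻¹ * u₀)⁻¹, inv_mem hag, a⁻¹, a⁻¹ * d * a, ⟨⟨?_, ?_, ?_⟩, by group, f, hf, ?_, a⁻¹, inv_mem ha,
      by group; exact one_mem _⟩, by group⟩
    · simpa using h.2.1 a⁻¹ d hd
    · intro h0
      apply he₀.2.1
      rw [← hae]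
      calc a * d * a⁻¹ = a * (a⁻¹ * d * a) * a⁻¹ := by rw [h0]
        _ = d := by group
    · rw [← commute_conj_iff' a, hae, show a * (a⁻¹ * d * a) * a⁻¹ = d by group]
      exact he₀.2.2.symm
    · refine perp_symm hf.1 ?_
      simpa using conj_mem_perp' h (inv_mem ha) (perp_symm hd hf)
  have hall : ∀ g, g ∈ W := by
    intro g
    have hg' : g ∈ Subgroup.closure S := htop ▸ Subgroup.mem_top g
    induction hg' using Subgroup.closure_induction_right with
    | one => exact Or.inl (one_mem _)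
    | mul_right x _ s hs ih =>
      rcases hs with rfl | hs
      · exact rightStep x ih _ _ hu₀
      · exact rightH x ih s (mem_perp_closure hs)
    | mul_inv_cancel x _ s hs ih =>
      rcases hs with rfl | hs
      · obtain ⟨k, hk, a, w, ha, heq⟩ := hinv
        rw [heq, ← mul_assoc]
        exact rightStep _ (rightH x ih k hk) _ _ ha
      · exact rightH x ih _ (inv_mem (mem_perp_closure hs))
  have hgd : g * d * g⁻¹ = d := by rw [Subgroup.mem_centralizer_singleton_iff.1 hg, mul_inv_cancel_right]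
  rcases hall g with h0 | h0 | ⟨h0, -⟩
  · exact h0
  · exact absurd hgd h0.1.2.1
  · exact absurd (hgd.symm ▸ Commute.refl d) h0

/-- The order of the centralizer. -/
theorem card_centralizer : Nat.card ↥(Subgroup.centralizer ({d} : Set G)) = 18393661440 := by
  classical
  rw [centralizer_eq h hp h22 hd]
  obtain ⟨M⟩ := exists_perpModel h h22 hd
  have hcard := Subgroup.card_eq_card_quotient_mul_card_subgroup
    (Subgroup.center ↥(Subgroup.closure (perp D d)))
  have hZ : Nat.card (Subgroup.center ↥(Subgroup.closure (perp D d))) = 2 := by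
    rw [Nat.card_eq_two_iff]
    have hdm := mem_closure_perp_self h hp h22 hd
    refine ⟨1, ⟨⟨d, hdm⟩, mem_center_closure_iff.2 fun y hy => hy.2.2⟩, ?_, ?_⟩
    · intro h0
      exact ne_one h.1 hd (congrArg (fun z => ((z : ↥(Subgroup.closure (perp D d))) : G))
        (congrArg Subtype.val h0)).symm
    · ext ⟨z, hz⟩
      simp only [Set.mem_insert_iff, Set.mem_singleton_iff, Set.mem_univ, iff_true]
      rcases (center_closure_perp h hp h22 hd z.2).1 (mem_center_closure_iff.1 hz) with h0 | h0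
      · exact Or.inl (Subtype.ext (Subtype.ext h0))
      · exact Or.inr (Subtype.ext (Subtype.ext h0))
  obtain ⟨C', hC', φ, hφ, hφk⟩ := exists_model M.K (by rw [M.C.card, M.hq]; norm_num)
  have hC : C' = M.C := by
    have hσ : C'.σ = M.C.σ := RingHom.ext fun x => by rw [sigma_eq C' hC', sigma_eq M.C M.hq]
    have hqq : C'.q = M.C.q := hC'.trans M.hq.symm
    cases hC'' : C'
    cases hM : M.C
    rw [hC''] at hσ hqq
    rw [hM] at hσ hqq
    simp only at hσ hqq
    subst hσ hqq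
    rfl
  subst hC
  have hQ : Nat.card (PerpQuot D d) = Nat.card (PSU 6 M.K 2) := by
    rw [← Nat.card_congr (QuotientGroup.quotientKerEquivOfSurjective M.θ M.surj).toEquiv, M.hker, ← hφk]
    exact Nat.card_congr (QuotientGroup.quotientKerEquivOfSurjective φ hφ).toEquiv
  have hU := Cfsg.Agent.S0280.result (F := M.K) (q := 2) (by rw [M.C.card, M.hq]) 6 (by norm_num)
  simp [Finset.prod_range_succ, Nat.even_iff] at hU
  rw [hcard, hZ]
  show Nat.card (PerpQuot D d) * 2 = _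
  rw [hQ]
  rw [← Nat.card_eq_fintype_card] at hU
  omega

end CfsgLib.FischerTypes
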