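import Cfsg.Agent.FischerTypes.M22Thompson
import Cfsg.Agent.FischerTypes.InvolutionClasses
import Cfsg.Agent.FischerTypes.M22Triples

/-!
# The group generated by a maximal commuting set in type M(22)

Its non-trivial elements are the 22 members, the 231 products of two and the 770 products of three; it has
order 1024, every elementary abelian subgroup of that order is one, and fusion inside it is controlled by
its normaliser.
-/

set_option autoImplicit false
set_option linter.unusedSectionVars false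
set_option maxHeartbeats 1000000

namespace CfsgLib.FischerTypes

open Cfsg

variable {G : Type*} [Group G] [Finite G] {D : Set G}
  (h : IsThreeTranspositionGroup D) (hp : IsPrimitiveUnderConj D) (h22 : IsOfTypeM22 G D)

include h hp h22

omit hp h22 in
/-- The elements of `⟨M⟩` commute. -/
theorem commute_closure_clique {M : Set G} (hM : IsMaxClique D M) {x y : G} (hx : x ∈ Subgroup.closure M)
    (hy : y ∈ Subgroup.closure M) : Commute x y :=
  CfsgLib.PLocal.comm_of_isMulCommutative (isElementaryAbelian_clique h hM).1 hx hy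

omit hp h22 in
/-- A member in `⟨M⟩` is in `M`. -/
theorem mem_clique_of_mem_closure {M : Set G} (hM : IsMaxClique D M) {y : G} (hy : y ∈ D)
    (hyc : y ∈ Subgroup.closure M) : y ∈ M :=
  hM.max y hy fun _ hm => commute_closure_clique h hM hyc (Subgroup.subset_closure hm)

/-- The elements of `⟨M⟩` are products of at most three members of `M`. -/
theorem closure_clique_cases {M : Set G} (hM : IsMaxClique D M) {g : G} (hg : g ∈ Subgroup.closure M)
    (hg1 : g ≠ 1) : ∃ l, 1 ≤ l.length ∧ l.length ≤ 3 ∧ IsCList D l ∧ (∀ x ∈ l, x ∈ M) ∧ l.prod = g := by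
  have hg2 : g * g = 1 := by rw [← pow_two]; exact (isElementaryAbelian_clique h hM).2 g hg
  obtain ⟨m, h1, h3, l, hnd, hlen, hD, hc, hprod⟩ :=
    (involution_classes22 h hp h22).1 g (orderOf_eq_prime (by rw [pow_two, hg2]) hg1)
  have hl : IsCList D l := ⟨hnd, hD, hc⟩
  refine ⟨l, by omega, by omega, hl, fun x hx => hM.max x (hD x hx) fun y hy => ?_, hprod⟩
  exact (hl.commute_each h.1 (by omega) (hM.sub hy)
    (by rw [hprod]; exact commute_closure_clique h hM (Subgroup.subset_closure hy) hg) x hx).symm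

omit h hp h22 in
theorem isCList_of_clique {M : Set G} (hM : IsMaxClique D M) {l : List G} (hnd : l.Nodup)
    (hl : ∀ x ∈ l, x ∈ M) : IsCList D l :=
  ⟨hnd, fun x hx => hM.sub (hl x hx), fun x hx y hy => hM.comm x (hl x hx) y (hl y hy)⟩

omit h hp h22 in
theorem prod_mem_closure {M : Set G} {l : List G} (hl : ∀ x ∈ l, x ∈ M) : l.prod ∈ Subgroup.closure M :=
  Subgroup.list_prod_mem _ fun x hx => Subgroup.subset_closure (hl x hx)

/-- The products of `k` members of `M`. -/
def cliqueProds (M : Set G) (k : ℕ) : Set G :=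
  {g | ∃ l : List G, l.Nodup ∧ l.length = k ∧ (∀ x ∈ l, x ∈ M) ∧ l.prod = g}

theorem cliqueProds_disjoint {M : Set G} (hM : IsMaxClique D M) {j k : ℕ} (hj : 1 ≤ j) (hj3 : j ≤ 3)
    (hk : 1 ≤ k) (hk3 : k ≤ 3) {g : G} (h1 : g ∈ cliqueProds M j) (h2 : g ∈ cliqueProds M k) : j = k := by
  obtain ⟨l, hnd, hlen, hlM, hprod⟩ := h1
  obtain ⟨l', hnd', hlen', hlM', hprod'⟩ := h2
  have c1 := isCList_of_clique hM hnd hlM
  have c2 := isCList_of_clique hM hnd' hlM'
  exact (involution_classes22 h hp h22).2.2 j k g hj hj3 hk hk3 ⟨l, hnd, hlen, c1.mem, c1.comm, hprod⟩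
    ⟨l', hnd', hlen', c2.mem, c2.comm, hprod'⟩

/-- The numbers of products. -/
theorem ncard_cliqueProds {M : Set G} (hM : IsMaxClique D M) :
    (cliqueProds M 1).ncard = 22 ∧ (cliqueProds M 2).ncard = 231 ∧ (cliqueProds M 3).ncard = 770 := by
  classical
  obtain ⟨d, hd, -⟩ := hp.2.1
  obtain ⟨m, hm⟩ : M.Nonempty := by
    by_contra hne
    exact hne ⟨d, hM.max d hd fun m hm => absurd ⟨m, hm⟩ hne⟩
  have h22c : M.ncard = 22 := (ncard_clique h h22 hM hm).2
  have hMf := M.toFinite
  set F := hMf.toFinset with hF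
  have hFc : F.card = 22 := by rw [hF, ← Set.ncard_eq_toFinset_card M hMf, h22c]
  -- products of sets
  have hperm : ∀ {l l' : List G}, l.Nodup → l'.Nodup → (∀ x ∈ l, x ∈ M) → (∀ x, x ∈ l ↔ x ∈ l') →
      l.prod = l'.prod := fun {l l'} hn hn' hl he =>
    ((List.perm_ext_iff_of_nodup hn hn').2 he).prod_eq'
      (hn.pairwise_of_forall_ne fun a ha b hb _ => (hM.comm a (hl a ha) b (hl b hb)).eq)
  have himg : ∀ k, cliqueProds M k = ↑((F.powersetCard k).image fun s => s.toList.prod) := by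
    intro k
    ext g
    simp only [cliqueProds, Set.mem_ofPred_eq, Finset.coe_image, Set.mem_image, Finset.mem_coe,
      Finset.mem_powersetCard]
    constructor
    · rintro ⟨l, hnd, hlen, hlM, rfl⟩
      refine ⟨l.toFinset, ⟨fun x hx => hMf.mem_toFinset.2 (hlM x (List.mem_toFinset.1 hx)),
        by rw [List.toFinset_card_of_nodup hnd, hlen]⟩, ?_⟩
      exact (hperm hnd (Finset.nodup_toList _) hlM fun x => by simp).symm
    · rintro ⟨s, ⟨hs, hsk⟩, rfl⟩
      exact ⟨s.toList, s.nodup_toList, by rw [Finset.length_toList, hsk],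
        fun x hx => hMf.mem_toFinset.1 (hs (Finset.mem_toList.1 hx)), rfl⟩
  have hsM : ∀ {k} {s : Finset G}, s ∈ F.powersetCard k → s.toList.Nodup ∧ s.toList.length = k ∧
      (∀ a ∈ s.toList, a ∈ D) ∧ (∀ a ∈ s.toList, ∀ b ∈ s.toList, Commute a b) ∧
      s.toList.prod = s.toList.prod := by
    intro k s hs
    rw [Finset.mem_powersetCard] at hs
    have hl : ∀ a ∈ s.toList, a ∈ M := fun a ha => hMf.mem_toFinset.1 (hs.1 (Finset.mem_toList.1 ha))
    exact ⟨s.nodup_toList, by rw [Finset.length_toList, hs.2], fun a ha => hM.sub (hl a ha),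
      fun a ha b hb => hM.comm a (hl a ha) b (hl b hb), rfl⟩
  obtain ⟨hpair, htrip⟩ := m22_factorizations h hp h22
  refine ⟨?_, ?_, ?_⟩
  · rw [himg, Set.ncard_coe_finset, Finset.card_image_of_injOn ?_, Finset.card_powersetCard, hFc]; · rfl
    intro s hs t ht he
    obtain ⟨a, rfl⟩ := Finset.card_eq_one.1 (Finset.mem_powersetCard.1 hs).2
    obtain ⟨b, rfl⟩ := Finset.card_eq_one.1 (Finset.mem_powersetCard.1 ht).2
    simpa using he
  · rw [himg, Set.ncard_coe_finset, Finset.card_image_of_injOn ?_, Finset.card_powersetCard, hFc]; · rfl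
    intro s hs t ht he
    have h1 := hsM hs
    have h2 := hsM ht
    ext x
    simpa using hpair _ s.toList t.toList h1 ⟨h2.1, h2.2.1, h2.2.2.1, h2.2.2.2.1, he.symm⟩ x
  · rw [himg, Set.ncard_coe_finset]
    have hfib : ∀ g ∈ (F.powersetCard 3).image (fun s => s.toList.prod),
        ((F.powersetCard 3).filter fun s => s.toList.prod = g).card = 2 := by
      intro g hg
      obtain ⟨s, hs, rfl⟩ := Finset.mem_image.1 hg
      obtain ⟨l₁, l₂, h₁, h₂, h12, hu⟩ := htrip s.toList.prod s.toList (hsM hs)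
      have hin : ∀ l : List G, (l.Nodup ∧ l.length = 3 ∧ (∀ a ∈ l, a ∈ D) ∧ (∀ a ∈ l, ∀ b ∈ l, Commute a b) ∧
          l.prod = s.toList.prod) → l.toFinset ∈ F.powersetCard 3 ∧ l.toFinset.toList.prod = s.toList.prod := by
        rintro l ⟨hnd, hlen, hD, hc, hprod⟩
        have hl : IsCList D l := ⟨hnd, hD, hc⟩
        have hlM : ∀ x ∈ l, x ∈ M := fun x hx => hM.max x (hD x hx) fun y hy =>
          (hl.commute_each h.1 (by omega) (hM.sub hy) (by
            rw [hprod]
            exact commute_closure_clique h hM (Subgroup.subset_closure hy)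
              (prod_mem_closure fun a ha => hMf.mem_toFinset.1
                ((Finset.mem_powersetCard.1 hs).1 (Finset.mem_toList.1 ha)))) x hx).symm
        refine ⟨Finset.mem_powersetCard.2 ⟨fun x hx => hMf.mem_toFinset.2 (hlM x (List.mem_toFinset.1 hx)),
          by rw [List.toFinset_card_of_nodup hnd, hlen]⟩, ?_⟩
        rw [← hprod]
        exact (hperm hnd (Finset.nodup_toList _) hlM fun x => by simp).symm
      have hset : ((F.powersetCard 3).filter fun t => t.toList.prod = s.toList.prod) =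
          {l₁.toFinset, l₂.toFinset} := by
        ext t
        simp only [Finset.mem_filter, Finset.mem_insert, Finset.mem_singleton]
        constructor
        · rintro ⟨ht, he⟩
          obtain ⟨t1, t2, t3, t4, -⟩ := hsM ht
          rcases hu t.toList ⟨t1, t2, t3, t4, he⟩ with e | e
          · left; ext x; simpa using e x
          · right; ext x; simpa using e x
        · rintro (rfl | rfl)
          exacts [hin _ h₁, hin _ h₂]
      rw [hset, Finset.card_pair]
      intro e
      exact h12 fun x => by simpa using Finset.ext_iff.1 e x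
    have hsum := Finset.card_eq_sum_card_image (fun s : Finset G => s.toList.prod) (F.powersetCard 3)
    rw [Finset.sum_congr rfl hfib, Finset.sum_const, Finset.card_powersetCard, hFc, smul_eq_mul] at hsum
    have : Nat.choose 22 3 = 1540 := by decide
    omega

/-- The order of `⟨M⟩`. -/
theorem card_closure_clique {M : Set G} (hM : IsMaxClique D M) : Nat.card (Subgroup.closure M) = 1024 := by
  classical
  obtain ⟨n1, n2, n3⟩ := ncard_cliqueProds h hp h22 hM
  have heq : (Subgroup.closure M : Set G) = {1} ∪ (cliqueProds M 1 ∪ (cliqueProds M 2 ∪ cliqueProds M 3)) := by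
    ext g
    simp only [SetLike.mem_coe, Set.mem_union, Set.mem_singleton_iff]
    constructor
    · intro hg
      by_cases hg1 : g = 1
      · exact Or.inl hg1
      obtain ⟨l, l1, l3, hl, hlM, hprod⟩ := closure_clique_cases h hp h22 hM hg hg1
      have hmem : g ∈ cliqueProds M l.length := ⟨l, hl.nodup, rfl, hlM, hprod⟩
      obtain e | e | e : l.length = 1 ∨ l.length = 2 ∨ l.length = 3 := by omega
      · exact Or.inr (Or.inl (e ▸ hmem))
      · exact Or.inr (Or.inr (Or.inl (e ▸ hmem)))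
      · exact Or.inr (Or.inr (Or.inr (e ▸ hmem)))
    · rintro (rfl | ⟨l, -, -, hl, rfl⟩ | ⟨l, -, -, hl, rfl⟩ | ⟨l, -, -, hl, rfl⟩)
      · exact one_mem _
      all_goals exact prod_mem_closure hl
  have h1 : ∀ k, 1 ≤ k → k ≤ 3 → (1 : G) ∉ cliqueProds M k := by
    rintro k hk hk3 ⟨l, hnd, hlen, hlM, hprod⟩
    have hrel : NoRel D k := by
      interval_cases k
      exacts [noRel_one h.1, noRel_two h.1, noRel_three h.1 (by
        intro a ha
        obtain ⟨P⟩ := exists_perpModel h h22 ha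
        by_contra hall
        push Not at hall
        have hc := mem_center_of_forall h fun x hx => (hall x hx).symm
        rw [h22.1, Subgroup.mem_bot] at hc
        exact ne_one h.1 ha hc)]
    have hc := isCList_of_clique hM hnd hlM
    exact hrel l hnd hlen hc.mem hc.comm hprod
  have hd : ∀ j k, 1 ≤ j → j ≤ 3 → 1 ≤ k → k ≤ 3 → j ≠ k → Disjoint (cliqueProds M j) (cliqueProds M k) :=
    fun j k a b c e hne => Set.disjoint_left.2 fun g g1 g2 => hne (cliqueProds_disjoint h hp h22 hM a b c e g1 g2)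
  rw [show Nat.card (Subgroup.closure M) = (Subgroup.closure M : Set G).ncard from (Nat.card_coe_set_eq _),
    heq, Set.ncard_union_eq ?_ (Set.toFinite _) (Set.toFinite _),
    Set.ncard_union_eq ?_ (Set.toFinite _) (Set.toFinite _),
    Set.ncard_union_eq (hd 2 3 (by norm_num) (by norm_num) (by norm_num) (by norm_num) (by norm_num))
      (Set.toFinite _) (Set.toFinite _), Set.ncard_singleton, n1, n2, n3]
  · rw [Set.disjoint_union_right]
    exact ⟨hd 1 2 le_rfl (by norm_num) (by norm_num) (by norm_num) (by norm_num),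
      hd 1 3 le_rfl (by norm_num) (by norm_num) le_rfl (by norm_num)⟩
  · rw [Set.disjoint_singleton_left]
    rintro (h0 | h0 | h0)
    exacts [h1 1 le_rfl (by norm_num) h0, h1 2 (by norm_num) (by norm_num) h0, h1 3 (by norm_num) le_rfl h0]

omit hp h22 in
/-- Commuting members lie in a maximal commuting set. -/
theorem exists_clique_supset {S : Set G} (hS : S ⊆ D) (hc : ∀ a ∈ S, ∀ b ∈ S, Commute a b) :
    ∃ M, IsMaxClique D M ∧ S ⊆ M := by
  let 𝒮 : Set (Set G) := {T | S ⊆ T ∧ T ⊆ D ∧ ∀ a ∈ T, ∀ b ∈ T, Commute a b}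
  obtain ⟨M, hM, hmax⟩ := Set.exists_max_image 𝒮 Set.ncard (Set.toFinite _) ⟨S, subset_rfl, hS, hc⟩
  refine ⟨M, ⟨hM.2.1, hM.2.2, fun y hy hyc => ?_⟩, hM.1⟩
  by_contra hyM
  have h1 := hmax (insert y M) ⟨hM.1.trans (Set.subset_insert _ _), Set.insert_subset hy hM.2.1, by
    rintro a (rfl | ha) b (rfl | hb)
    exacts [Commute.refl _, hyc b hb, (hyc a ha).symm, hM.2.2 a ha b hb]⟩
  rw [Set.ncard_insert_of_notMem hyM] at h1
  omega

omit h22 in
/-- Members in a 2-group commute. -/
theorem commute_of_isPGroup {T : Subgroup G} (hT : IsPGroup 2 T) {a b : G} (ha : a ∈ D) (hb : b ∈ D)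
    (haT : a ∈ T) (hbT : b ∈ T) : Commute a b := by
  by_contra hab
  have h3 : (a * b) ^ 3 = 1 := by
    rcases h.1.2 a ha b hb with h2 | h3
    · exfalso
      refine hab ?_
      have h4 : a * b * (a * b) = 1 := by rw [← pow_two]; exact h2
      show a * b = b * a
      rw [eq_inv_of_mul_eq_one_left h4, mul_inv_rev, inv_eq h.1 ha, inv_eq h.1 hb]
    · exact h3
  obtain ⟨k, hk⟩ := hT ⟨a * b, mul_mem haT hbT⟩
  have h1 : a * b = 1 := orderOf_eq_one_iff.1 (Nat.eq_one_of_dvd_coprimes
    (Nat.Coprime.pow_left k (by decide : Nat.Coprime 2 3)) (orderOf_dvd_of_pow_eq_one (congrArg Subtype.val hk))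
    (orderOf_dvd_of_pow_eq_one h3))
  rw [mul_eq_one_iff_eq_inv, inv_eq h.1 hb] at h1
  exact hab (h1 ▸ Commute.refl b)

/-- Elementary abelian subgroups have order at most 1024, with equality only for the `⟨M⟩`. -/
theorem elementary_le {B : Subgroup G} (hB : IsElementaryAbelian 2 B) :
    Nat.card B ≤ 1024 ∧ (Nat.card B = 1024 → ∀ T : Sylow 2 G, B ≤ (T : Subgroup G) →
      IsMaxClique D {x : G | x ∈ D ∧ x ∈ (T : Subgroup G)} ∧
      B = Subgroup.closure {x : G | x ∈ D ∧ x ∈ (T : Subgroup G)}) := by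
  haveI : Fact (Nat.Prime 2) := ⟨Nat.prime_two⟩
  have key : ∀ T : Sylow 2 G, B ≤ (T : Subgroup G) → Nat.card B ≤ 1024 ∧ (Nat.card B = 1024 →
      IsMaxClique D {x : G | x ∈ D ∧ x ∈ (T : Subgroup G)} ∧
      B = Subgroup.closure {x : G | x ∈ D ∧ x ∈ (T : Subgroup G)}) := by
    intro T hBT
    -- the members in `T` form a maximal commuting set
    obtain ⟨M₀, hM₀, -⟩ := exists_clique_supset h (S := ∅) (Set.empty_subset D) (fun a ha => ha.elim)
    have hcomm : ∀ a ∈ {x : G | x ∈ D ∧ x ∈ (T : Subgroup G)}, ∀ b ∈ {x : G | x ∈ D ∧ x ∈ (T : Subgroup G)},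
        Commute a b := fun a ha b hb => commute_of_isPGroup h hp T.2 ha.1 hb.1 ha.2 hb.2
    obtain ⟨M, hM, hsub⟩ := exists_clique_supset h (fun x hx => hx.1) hcomm
    obtain ⟨T', hT'⟩ := (CfsgLib.PLocal.isPGroup_of_isElementaryAbelian
      (isElementaryAbelian_clique h hM₀)).exists_le_sylow
    obtain ⟨g, hg⟩ := MulAction.exists_smul_eq G T' T
    have h0 : (fun x => g * x * g⁻¹) '' M₀ ⊆ {x : G | x ∈ D ∧ x ∈ (T : Subgroup G)} := by
      rintro _ ⟨x, hx, rfl⟩
      refine ⟨h.2.1 g x (hM₀.sub hx), ?_⟩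
      rw [← hg, Sylow.coe_subgroup_smul]
      exact ⟨x, hT' (Subgroup.subset_closure hx), rfl⟩
    obtain ⟨m, hm⟩ : M₀.Nonempty := by
      obtain ⟨d, hd, -⟩ := hp.2.1
      by_contra hne
      exact hne ⟨d, hM₀.max d hd fun m hm => absurd ⟨m, hm⟩ hne⟩
    have hTM : {x : G | x ∈ D ∧ x ∈ (T : Subgroup G)} = M := by
      refine Set.eq_of_subset_of_ncard_le hsub ?_ (Set.toFinite _)
      have h1 := Set.ncard_le_ncard h0 (Set.toFinite _)
      rw [Set.ncard_image_of_injective _ (fun a b e => mul_left_cancel (mul_right_cancel e)),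
        (ncard_clique h h22 hM₀ hm).2] at h1
      obtain ⟨x, hx⟩ : M.Nonempty := ⟨_, hsub (h0 ⟨m, hm, rfl⟩)⟩
      rwa [(ncard_clique h h22 hM hx).2]
    have hJ := closure_inter_eq_thompson h hp h22 T
    rw [hTM] at hJ ⊢
    have hMc := card_closure_clique h hp h22 hM
    -- a largest one lies in the Thompson subgroup
    obtain ⟨A₀, hA₀, hmax⟩ := Set.exists_max_image {X : Subgroup ↥(T : Subgroup G) | IsElementaryAbelian 2 X}
      (fun X => Nat.card X) (Set.toFinite _) ⟨⊥, CfsgLib.PLocal.isElementaryAbelian_bot⟩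
    have hin : ∀ X : Subgroup ↥(T : Subgroup G), X ∈ maxElementaryAbelianSubgroups 2 ↥(T : Subgroup G) →
        X.map (T : Subgroup G).subtype ≤ Subgroup.closure M := fun X hX => by
      rw [hJ]
      exact Subgroup.map_mono (le_sSup hX)
    have hA₀c : Nat.card A₀ ≤ 1024 := by
      rw [← hMc, ← Subgroup.card_map_of_injective (Subgroup.subtype_injective (T : Subgroup G))]
      exact Subgroup.card_le_of_le (hin A₀ ⟨hA₀, hmax⟩)
    set B' := B.subgroupOf (T : Subgroup G) with hB'
    have hB'e : IsElementaryAbelian 2 B' := by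
      refine (CfsgLib.PLocal.isElementaryAbelian_map_iff (Subgroup.subtype_injective _)).1 ?_
      rw [hB', Subgroup.map_subgroupOf_eq_of_le hBT]
      exact hB
    have hBc : Nat.card B' = Nat.card B := Nat.card_congr (Subgroup.subgroupOfEquivOfLe hBT).toEquiv
    have hle : Nat.card B ≤ 1024 := hBc ▸ (hmax B' hB'e).trans hA₀c
    refine ⟨hle, fun he => ⟨hM, ?_⟩⟩
    have hmem : B' ∈ maxElementaryAbelianSubgroups 2 ↥(T : Subgroup G) :=
      ⟨hB'e, fun X hX => ((hmax X hX).trans hA₀c).trans (le_of_eq (he.symm.trans hBc.symm))⟩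
    have h2 := hin B' hmem
    rw [hB', Subgroup.map_subgroupOf_eq_of_le hBT] at h2
    exact Subgroup.eq_of_le_of_card_ge h2 (by rw [hMc, he])
  obtain ⟨T, hT⟩ := (CfsgLib.PLocal.isPGroup_of_isElementaryAbelian hB).exists_le_sylow
  exact ⟨(key T hT).1, fun he T' hT' => (key T' hT').2 he⟩

omit h hp h22 in
theorem conj_closure {M : Set G} (k : G) :
    (Subgroup.closure M).map (MulAut.conj k).toMonoidHom = Subgroup.closure ((fun x => k * x * k⁻¹) '' M) := by
  rw [MonoidHom.map_closure]; rfl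

omit hp h22 in
theorem isMaxClique_conj {M : Set G} (hM : IsMaxClique D M) (k : G) :
    IsMaxClique D ((fun x => k * x * k⁻¹) '' M) := by
  refine ⟨?_, ?_, fun y hy hc => ⟨k⁻¹ * y * k, hM.max _ (by simpa using h.2.1 k⁻¹ y hy) fun m hm => ?_, ?_⟩⟩
  · rintro _ ⟨x, hx, rfl⟩; exact h.2.1 k x (hM.sub hx)
  · rintro _ ⟨a, ha, rfl⟩ _ ⟨b, hb, rfl⟩; exact (commute_conj_iff' k _ _).2 (hM.comm a ha b hb)
  · rw [← commute_conj_iff' k, show k * (k⁻¹ * y * k) * k⁻¹ = y by group]
    exact hc _ ⟨m, hm, rfl⟩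
  · group

/-- Two maximal commuting sets fixed by `X` are conjugate by an element fixing `X`. -/
theorem exists_conj_fixing {M M' : Set G} (hM : IsMaxClique D M) (hM' : IsMaxClique D M') {X : Set G}
    (hX : Subgroup.closure M ≤ Subgroup.centralizer X) (hX' : Subgroup.closure M' ≤ Subgroup.centralizer X) :
    ∃ k ∈ Subgroup.centralizer X, (fun x => k * x * k⁻¹) '' M = M' := by
  haveI : Fact (Nat.Prime 2) := ⟨Nat.prime_two⟩
  set K := Subgroup.centralizer X
  have hpg : ∀ {N : Set G}, IsMaxClique D N → Subgroup.closure N ≤ K →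
      IsPGroup 2 ↥((Subgroup.closure N).subgroupOf K) := fun {N} hN hle =>
    (CfsgLib.PLocal.isPGroup_of_isElementaryAbelian (isElementaryAbelian_clique h hN)).of_equiv
      (Subgroup.subgroupOfEquivOfLe hle).symm
  obtain ⟨T₁, hT₁⟩ := (hpg hM hX).exists_le_sylow
  obtain ⟨T₂, hT₂⟩ := (hpg hM' hX').exists_le_sylow
  obtain ⟨k, hk⟩ := MulAction.exists_smul_eq K T₁ T₂
  obtain ⟨T, hT⟩ := (T₂.2.map K.subtype).exists_le_sylow
  have h1 : Subgroup.closure M' ≤ (T : Subgroup G) := fun x hx =>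
    hT ⟨⟨x, hX' hx⟩, hT₂ (Subgroup.mem_subgroupOf.2 hx), rfl⟩
  set N := (fun x => (k : G) * x * (k : G)⁻¹) '' M with hN
  have h2 : Subgroup.closure N ≤ (T : Subgroup G) := by
    rw [Subgroup.closure_le]
    rintro _ ⟨x, hx, rfl⟩
    refine hT ⟨k * ⟨x, hX (Subgroup.subset_closure hx)⟩ * k⁻¹, ?_, rfl⟩
    rw [← hk, Sylow.coe_subgroup_smul]
    exact ⟨⟨x, hX (Subgroup.subset_closure hx)⟩, hT₁ (Subgroup.mem_subgroupOf.2 (Subgroup.subset_closure hx)), rfl⟩
  have hNc := isMaxClique_conj h hM (k : G)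
  refine ⟨k, k.2, ?_⟩
  obtain ⟨-, e1⟩ := (elementary_le h hp h22 (isElementaryAbelian_clique h hNc)).2
    (card_closure_clique h hp h22 hNc) T h2
  obtain ⟨-, e2⟩ := (elementary_le h hp h22 (isElementaryAbelian_clique h hM')).2
    (card_closure_clique h hp h22 hM') T h1
  have e := e1.trans e2.symm
  ext x
  exact ⟨fun hx => mem_clique_of_mem_closure h hM' (hNc.sub hx) (e ▸ Subgroup.subset_closure hx),
    fun hx => mem_clique_of_mem_closure h hNc (hM'.sub hx) (e.symm ▸ Subgroup.subset_closure hx)⟩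

/-- Fusion in `⟨M⟩` is controlled by the stabiliser of `M`. -/
theorem exists_conj_stab {M : Set G} (hM : IsMaxClique D M) {S : Set G} (hS : S ⊆ Subgroup.closure M) {g : G}
    (hg : ∀ x ∈ S, g * x * g⁻¹ ∈ Subgroup.closure M) :
    ∃ k : G, (fun x => k * x * k⁻¹) '' M = M ∧ ∀ x ∈ S, k * x * k⁻¹ = g * x * g⁻¹ := by
  set X := (fun x => g * x * g⁻¹) '' S
  have h1 : Subgroup.closure ((fun x => g * x * g⁻¹) '' M) ≤ Subgroup.centralizer X := by
    rw [← conj_closure]
    rintro _ ⟨y, hy, rfl⟩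
    rw [Subgroup.mem_centralizer_iff]
    rintro _ ⟨x, hx, rfl⟩
    exact ((commute_conj_iff' g _ _).2 (commute_closure_clique h hM (hS hx) hy)).eq
  have h2 : Subgroup.closure M ≤ Subgroup.centralizer X := fun y hy => Subgroup.mem_centralizer_iff.2 (by
    rintro _ ⟨x, hx, rfl⟩
    exact (commute_closure_clique h hM (hg x hx) hy).eq)
  obtain ⟨k, hk, he⟩ := exists_conj_fixing h hp h22 (isMaxClique_conj h hM g) hM h1 h2
  refine ⟨k * g, ?_, fun x hx => ?_⟩
  · refine Eq.trans ?_ he
    rw [Set.image_image]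
    exact Set.image_congr' fun x => by group
  · have := Subgroup.mem_centralizer_iff.1 hk _ ⟨x, hx, rfl⟩
    calc k * g * x * (k * g)⁻¹ = k * (g * x * g⁻¹) * k⁻¹ := by group
      _ = _ := by rw [← this, mul_inv_cancel_right]

/-- The stabiliser of `M` is transitive on its members, ordered pairs and ordered triples. -/
theorem exists_stab_triple {M : Set G} (hM : IsMaxClique D M) {a b c a' b' c' : G} (ha : a ∈ M) (hb : b ∈ M)
    (hc : c ∈ M) (ha' : a' ∈ M) (hb' : b' ∈ M) (hc' : c' ∈ M) (hab : a ≠ b) (hac : a ≠ c) (hbc : b ≠ c)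
    (hab' : a' ≠ b') (hac' : a' ≠ c') (hbc' : b' ≠ c') :
    ∃ k : G, (fun x => k * x * k⁻¹) '' M = M ∧ k * a * k⁻¹ = a' ∧ k * b * k⁻¹ = b' ∧ k * c * k⁻¹ = c' := by
  obtain ⟨g, g1, g2, g3⟩ := exists_conj_triple h h22 (hM.sub ha) (hM.mem_perp ha hb hab)
    (hM.mem_perp ha hc hac) (hM.mem_perp hb hc hbc) (hM.sub ha') (hM.mem_perp ha' hb' hab')
    (hM.mem_perp ha' hc' hac') (hM.mem_perp hb' hc' hbc')
  obtain ⟨k, hk, hkS⟩ := exists_conj_stab h hp h22 hM (S := {a, b, c}) (g := g)
    (by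
      rintro x (rfl | rfl | rfl)
      exacts [Subgroup.subset_closure ha, Subgroup.subset_closure hb, Subgroup.subset_closure hc])
    (by
      rintro x (rfl | rfl | rfl)
      · rw [g1]; exact Subgroup.subset_closure ha'
      · rw [g2]; exact Subgroup.subset_closure hb'
      · rw [g3]; exact Subgroup.subset_closure hc')
  exact ⟨k, hk, by rw [hkS a (by simp), g1], by rw [hkS b (by simp), g2], by rw [hkS c (by simp), g3]⟩

/-- A third member. -/
theorem exists_third {M : Set G} (hM : IsMaxClique D M) {a b : G} (ha : a ∈ M) :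
    ∃ c ∈ M, c ≠ a ∧ c ≠ b := by
  by_contra hall
  push Not at hall
  have h1 : M ⊆ {a, b} := fun x hx => by
    by_cases hxa : x = a
    · exact Or.inl hxa
    · exact Or.inr (hall x hx hxa)
  have h2 := Set.ncard_le_ncard h1 (Set.toFinite _)
  rw [(ncard_clique h h22 hM ha).2] at h2
  have h3 : ({a, b} : Set G).ncard ≤ 2 := by
    refine le_trans (Set.ncard_insert_le _ _) ?_
    rw [Set.ncard_singleton]
  omega

theorem exists_stab_pair {M : Set G} (hM : IsMaxClique D M) {a b a' b' : G} (ha : a ∈ M) (hb : b ∈ M)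
    (ha' : a' ∈ M) (hb' : b' ∈ M) (hab : a ≠ b) (hab' : a' ≠ b') :
    ∃ k : G, (fun x => k * x * k⁻¹) '' M = M ∧ k * a * k⁻¹ = a' ∧ k * b * k⁻¹ = b' := by
  obtain ⟨c, hc, hca, hcb⟩ := exists_third h hp h22 hM (b := b) ha
  obtain ⟨c', hc', hca', hcb'⟩ := exists_third h hp h22 hM (b := b') ha'
  obtain ⟨k, h1, h2, h3, -⟩ := exists_stab_triple h hp h22 hM ha hb hc ha' hb' hc' hab hca.symm hcb.symm
    hab' hca'.symm hcb'.symm
  exact ⟨k, h1, h2, h3⟩

theorem exists_stab_member {M : Set G} (hM : IsMaxClique D M) {a a' : G} (ha : a ∈ M) (ha' : a' ∈ M) :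
    ∃ k : G, (fun x => k * x * k⁻¹) '' M = M ∧ k * a * k⁻¹ = a' := by
  obtain ⟨b, hb, hba, -⟩ := exists_third h hp h22 hM (b := a) ha
  obtain ⟨b', hb', hba', -⟩ := exists_third h hp h22 hM (b := a') ha'
  obtain ⟨k, h1, h2, -⟩ := exists_stab_pair h hp h22 hM ha hb ha' hb' hba.symm hba'.symm
  exact ⟨k, h1, h2⟩

end CfsgLib.FischerTypes
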