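import Cfsg.Agent.FischerTypes.M22Lift
import Cfsg.Agent.FischerTypes.M22Primitive
import Cfsg.Agent.FischerTypes.InvolutionClasses
import Cfsg.Agent.FischerTypes.M22SixWords
import Cfsg.Agent.Transpositions.M22Unique

/-!
# The double cover of a group of type M(22) on six commuting members

In a perfect central extension by a group of order two, the lifts of the members form two classes of
involutions, each a class of 3-transpositions, and in each of them there are six commuting lifts, over
members with product one, whose product is the central involution.  Otherwise all relations of the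
presented group `Fi₂₂` would hold for the lifts of a configuration, and the extension would split.
-/

set_option autoImplicit false
set_option linter.unusedSectionVars false
set_option maxHeartbeats 1000000

namespace CfsgLib.FischerTypes

open Cfsg CfsgLib.U62
open CfsgLib.Transpositions.Braid (pw pw_of_check pw_append pw_reverse pw_singleton pw_replicate pw_nil pw_cons)
open CfsgLib.Transpositions.M22Unique (Config)
open CfsgLib.Transpositions.Braid.Words hiding trans
open CfsgLib.Transpositions.Braid.SixWords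
open scoped commutatorElement

variable {P G : Type*} [Group P] [Group G] [Finite P] [Finite G] {D : Set G}

/-- A perfect double cover of a group of type M(22), with central involution `d`. -/
structure Cover22 (π : P →* G) (D : Set G) (d : P) : Prop where
  surj : Function.Surjective π
  ker : ∀ z : P, π z = 1 ↔ z = 1 ∨ z = d
  central : ∀ g : P, Commute d g
  sq : d * d = 1
  ne : d ≠ 1
  perfect : commutator P = ⊤
  group : IsThreeTranspositionGroup D
  prim : IsPrimitiveUnderConj D
  type : IsOfTypeM22 G D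

namespace Cover22

variable {π : P →* G} {d : P} (H : Cover22 π D d)

include H

theorem hker (z : P) (hz : π z = 1) : (∀ g : P, Commute z g) ∧ z * z = 1 := by
  rcases (H.ker z).1 hz with rfl | rfl
  · exact ⟨fun g => Commute.one_left g, one_mul _⟩
  · exact ⟨H.central, H.sq⟩

theorem map_d : π d = 1 := (H.ker d).2 (Or.inr rfl)

theorem eq_or_eq_mul {x y : P} (hxy : π x = π y) : y = x ∨ y = x * d := by
  rcases (H.ker (x⁻¹ * y)).1 (by rw [map_mul, map_inv, hxy, inv_mul_cancel]) with e | e
  · exact Or.inl (inv_mul_eq_one.1 e).symm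
  · exact Or.inr (by rw [← e, mul_inv_cancel_left])

theorem member_mul_self {x : P} (hx : π x ∈ D) : x * x = 1 :=
  lift_member_mul_self π H.surj H.hker H.group H.prim H.type hx rfl

theorem commute_of_commute {x y : P} (hx : π x ∈ D) (hy : π y ∈ D) (hc : Commute (π x) (π y)) :
    Commute x y := by
  by_cases he : π x = π y
  · rcases H.eq_or_eq_mul he with rfl | rfl
    · exact Commute.refl y
    · exact (Commute.refl x).mul_right (H.central x).symm
  · exact commute_lifts π H.surj H.hker H.group H.prim H.type hx ⟨hy, Ne.symm he, hc⟩ rfl rfl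

/-- An element whose image fixes a member commutes with its lifts. -/
theorem commute_of_fix {x g : P} (hx : π x ∈ D) (hg : Commute (π g) (π x)) : Commute g x := by
  set K := (Subgroup.centralizer ({x} : Set P)).map π with hK
  have hle : Subgroup.closure (perp D (π x)) ≤ K := by
    refine (Subgroup.closure_le _).2 fun z hz => ?_
    obtain ⟨y, rfl⟩ := H.surj z
    exact ⟨y, Subgroup.mem_centralizer_singleton_iff.2 (H.commute_of_commute hz.1 hx hz.2.2.symm).eq, rfl⟩
  rw [← centralizer_eq H.group H.prim H.type hx] at hle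
  obtain ⟨y, hy, hyg⟩ := hle (Subgroup.mem_centralizer_singleton_iff.2 hg.eq)
  have hyx : Commute y x := Subgroup.mem_centralizer_singleton_iff.1 hy
  rcases H.eq_or_eq_mul hyg with rfl | rfl
  · exact hyx
  · exact hyx.mul_left (H.central x)

/-- Conjugate lifts of one member are equal. -/
theorem lift_unique {x y : P} (hx : π x ∈ D) (hc : IsConj x y) (he : π x = π y) : x = y := by
  obtain ⟨g, rfl⟩ := isConj_iff.1 hc
  rw [map_mul, map_mul, map_inv, eq_mul_inv_iff_mul_eq] at he
  have h1 := H.commute_of_fix hx (g := g) he.symm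
  rw [h1.eq, mul_inv_cancel_right]

theorem not_conj_mul {x : P} (hx : π x ∈ D) : ¬ IsConj x (x * d) := fun hc => by
  have h1 := H.lift_unique hx hc (by rw [map_mul, H.map_d, mul_one])
  exact H.ne (mul_eq_left.1 h1.symm)

theorem conj_mem_D {x g : P} (hx : π x ∈ D) : π (g * x * g⁻¹) ∈ D := by
  rw [map_mul, map_mul, map_inv]
  exact H.group.2.1 _ _ hx

theorem mem_D_of_conj {x y : P} (hx : π x ∈ D) (hc : IsConj x y) : π y ∈ D := by
  obtain ⟨g, rfl⟩ := isConj_iff.1 hc
  exact H.conj_mem_D hx

/-- Two members of one class of lifts braid. -/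
theorem braid_lifts {x y : P} (hx : π x ∈ D) (hc : IsConj x y) (hn : ¬ Commute (π x) (π y)) :
    x * y * x = y * x * y := by
  have hy := H.mem_D_of_conj hx hc
  have ex : x⁻¹ = x := inv_eq_of_mul_eq_one_right (H.member_mul_self hx)
  have ey : y⁻¹ = y := inv_eq_of_mul_eq_one_right (H.member_mul_self hy)
  have c1 : IsConj y (x * y * x) := isConj_iff.2 ⟨x, by rw [ex]⟩
  have c2 : IsConj x (y * x * y) := isConj_iff.2 ⟨y, by rw [ey]⟩
  refine H.lift_unique (H.mem_D_of_conj hy c1) ((c1.symm.trans hc.symm).trans c2) ?_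
  rw [map_mul, map_mul, map_mul, map_mul]
  exact braid H.group.1 hx hy hn

/-- Every member has a lift in a given class. -/
theorem exists_lift_in {u : P} (hu : π u ∈ D) {m : G} (hm : m ∈ D) : ∃ x, IsConj u x ∧ π x = m := by
  obtain ⟨g, rfl⟩ := single_class H.group H.type hu hm
  obtain ⟨g, rfl⟩ := H.surj g
  exact ⟨g * u * g⁻¹, isConj_iff.2 ⟨g, rfl⟩, by rw [map_mul, map_mul, map_inv]⟩

/-- The lifts in a class of the members of a configuration. -/
theorem exists_lifts {u : P} (hu : π u ∈ D) {F : ℕ → G} (hF : Config D F) (h9 : ∀ s, 9 ≤ s → F s = 1) :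
    ∃ f : ℕ → P, CfsgLib.Transpositions.Braid.Braided f ∧ (∀ s, π (f s) = F s) ∧
      (∀ s, s < 9 → IsConj u (f s)) ∧ ∀ s, 9 ≤ s → f s = 1 := by
  choose f hfc hfπ using fun (s : ℕ) (hs : s < 9) => H.exists_lift_in hu (hF.mem s hs)
  set φ : ℕ → P := fun s => if hs : s < 9 then f s hs else 1 with hφ
  have hπ : ∀ s, π (φ s) = F s := fun s => by
    simp only [hφ]
    split
    · exact hfπ s _
    · rw [map_one, h9 s (by omega)]
  have hcl : ∀ s, s < 9 → IsConj u (φ s) := fun s hs => by simp only [hφ, dif_pos hs]; exact hfc s hs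
  have h1 : ∀ s, ¬ s < 9 → φ s = 1 := fun s hs => by simp only [hφ, dif_neg hs]
  refine ⟨φ, ⟨fun s => ?_, fun s t hst => ?_, fun s t hst => ?_⟩, hπ, hcl, fun s hs => h1 s (by omega)⟩
  · by_cases hs : s < 9
    · exact H.member_mul_self (H.mem_D_of_conj hu (hcl s hs))
    · rw [h1 s hs, one_mul]
  · by_cases hs : s < 9
    · by_cases ht : t < 9
      · refine H.commute_of_commute (H.mem_D_of_conj hu (hcl s hs)) (H.mem_D_of_conj hu (hcl t ht)) ?_
        rw [hπ, hπ]
        exact hF.braided.comm s t hst
      · rw [h1 t ht]; exact Commute.one_right _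
    · rw [h1 s hs]; exact Commute.one_left _
  · obtain ⟨hs, ht⟩ := CfsgLib.Transpositions.M22Unique.adjb_lt hst
    refine H.braid_lifts (H.mem_D_of_conj hu (hcl s hs)) ((hcl s hs).symm.trans (hcl t ht)) ?_
    rw [hπ, hπ]
    exact hF.non s t hst

omit H in
theorem pw_map_hom (f : ℕ → P) (l : List ℕ) : π (pw f l) = pw (fun s => π (f s)) l := by
  simp [pw, map_list_prod, List.map_map, Function.comp_def]

/-- The spider relation holds for the lifts. -/
theorem spider_eq_one {F : ℕ → G} (hF : Config D F) {u : P} (hu : π u ∈ D) {f : ℕ → P}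
    (hb : CfsgLib.Transpositions.Braid.Braided f) (hπ : ∀ s, π (f s) = F s)
    (hcl : ∀ s, s < 9 → IsConj u (f s)) : pw f spider = 1 := by
  have hfun : (fun s => π (f s)) = F := funext hπ
  have hπw : ∀ l, π (pw f l) = pw F l := fun l => by rw [pw_map_hom, hfun]
  -- the translation has order three
  have hθc : IsConj u (pw f theta6) := by
    rw [show theta6 = theta6.take 10 ++ [2] ++ (theta6.take 10).reverse by decide +kernel,
      pw_append, pw_append, pw_singleton, pw_reverse hb]
    exact (hcl 2 (by norm_num)).trans (isConj_iff.2 ⟨_, rfl⟩)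
  have ht : pw f CfsgLib.Transpositions.Braid.Words.trans ^ 3 = 1 := by
    set x := pw f theta6 with hx
    have h1c := hcl 1 (by norm_num)
    have hxD := H.mem_D_of_conj hu hθc
    have h1D := H.mem_D_of_conj hu h1c
    have hx2 := H.member_mul_self hxD
    have h12 := H.member_mul_self h1D
    rw [CfsgLib.Transpositions.Braid.Words.trans, pw_append, pw_singleton, ← hx]
    by_cases hc : Commute (π x) (π (f 1))
    · have hcc := H.commute_of_commute hxD h1D hc
      have h3 : π (x * f 1) ^ 3 = 1 := by
        have := CfsgLib.Transpositions.M22Unique.trans_cube H.group H.prim H.type hF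
        rwa [← hπw, CfsgLib.Transpositions.Braid.Words.trans, pw_append, pw_singleton, ← hx] at this
      have e2 : (x * f 1) * (x * f 1) = 1 := by
        rw [Commute.mul_mul_mul_comm hcc.symm, hx2, h12, one_mul]
      have e1 : π (x * f 1) = 1 := by
        have e2' : π (x * f 1) * π (x * f 1) = 1 := by rw [← map_mul, e2, map_one]
        rwa [pow_succ, pow_two, e2', one_mul] at h3
      have e : x = f 1 := H.lift_unique hxD (hθc.symm.trans h1c) (by
        rwa [map_mul, mul_eq_one_iff_eq_inv, FischerTypes.inv_eq H.group.1 h1D] at e1)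
      rw [e, h12, one_pow]
    · have hbr := H.braid_lifts hxD (hθc.symm.trans h1c) hc
      calc (x * f 1) ^ 3 = x * f 1 * x * (f 1 * x * f 1) := by simp [pow_succ, mul_assoc]
        _ = 1 := by
          rw [← hbr]
          have c1 : ∀ z, x * (x * z) = z := fun z => by rw [← mul_assoc, hx2, one_mul]
          have c2 : ∀ z, f 1 * (f 1 * z) = z := fun z => by rw [← mul_assoc, h12, one_mul]
          simp [mul_assoc, c1, c2, hx2]
  have ht' : pw f CfsgLib.Transpositions.Braid.Words.trans.reverse ^ 3 = 1 := by rw [pw_reverse hb, inv_pow, ht, inv_one]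
  have hcub : ∀ {u t : List ℕ}, pw f t ^ 3 = 1 → pw f (u ++ (List.replicate 3 t).flatten ++ u.reverse) = 1 :=
    fun {u t} h3 => CfsgLib.Transpositions.M22Unique.pw_cube hb h3
  have hzR : pw f spider = pw f rest := by
    have hc : pw f spiderCubes = 1 := by
      rw [spiderCubes, pw_append, pw_append, hcub ht, hcub ht, hcub ht', one_mul, one_mul]
    have e := pw_of_check hb spider_split
    rwa [pw_append, pw_append, pw_reverse hb, pw_reverse hb, hc, inv_one, mul_one, mul_inv_eq_one] at e
  rw [hzR]
  -- the rest has order three and lies in the kernel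
  set R := pw f rest with hR
  have hR3 : R ^ 3 = 1 := by
    have hT : ∀ {u : List ℕ}, pw f (u ++ CfsgLib.Transpositions.Braid.Words.trans ++ u.reverse) ^ 3 = 1 := fun {u} => by
      rw [pw_append, pw_append, pw_reverse hb, conj_pow, ht, mul_one, mul_inv_cancel]
    have hcT : ∀ {p q : List ℕ}, pw f (p ++ q ++ p.reverse ++ q.reverse) = 1 → Commute (pw f p) (pw f q) :=
      fun {p q} e => by
        rw [pw_append, pw_append, pw_append, pw_reverse hb, pw_reverse hb, mul_inv_eq_one, mul_inv_eq_iff_eq_mul] at e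
        exact e
    have c45 := hcT (p := T4) (q := T5) (pw_of_check hb T_comm_4_5)
    have c47 := hcT (p := T4) (q := T7) (pw_of_check hb T_comm_4_7)
    have c48 := hcT (p := T4) (q := T8) (pw_of_check hb T_comm_4_8)
    have c57 := hcT (p := T5) (q := T7) (pw_of_check hb T_comm_5_7)
    have c58 := hcT (p := T5) (q := T8) (pw_of_check hb T_comm_5_8)
    have c78 := hcT (p := T7) (q := T8) (pw_of_check hb T_comm_7_8)
    rw [hR, rest, pw_append, pw_append, pw_append, pw_reverse hb, pw_reverse hb,
      ((c48.mul_left c58.inv_left).mul_left c78.inv_left).mul_pow,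
      (c47.inv_right.mul_left c57.inv_left.inv_right).mul_pow, c45.inv_right.mul_pow, inv_pow, inv_pow,
      T4, T5, T7, T8, hT, hT, hT, hT]
    simp
  have hRπ : π R = 1 := by
    rw [← hzR, hπw]
    exact CfsgLib.Transpositions.M22Unique.pw_spider H.group H.prim H.type hF
  rw [pow_succ, pow_two, (H.hker R hRπ).2, one_mul] at hR3
  exact hR3

/-- Not both ninth powers are trivial, for the extension does not split. -/
theorem not_both {F : ℕ → G} (hF : Config D F) {u : P} (hu : π u ∈ D) {f : ℕ → P}
    (hb : CfsgLib.Transpositions.Braid.Braided f) (hπ : ∀ s, π (f s) = F s)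
    (hcl : ∀ s, s < 9 → IsConj u (f s)) : ¬ (pw f z1 = 1 ∧ pw f z2 = 1) := by
  rintro ⟨e1, e2⟩
  have e3 := H.spider_eq_one hF hu hb hπ hcl
  rw [z1, pw_replicate] at e1
  rw [z2, pw_replicate] at e2
  rw [spider, pw_replicate] at e3
  let L : Spor.Fi22.Gen → P := fun x => f (CfsgLib.Transpositions.M22Unique.letter x)
  have hrel : ∀ r ∈ (Spor.coxRelators Spor.Fi22.edges ∪ {r | r ∈ Spor.Fi22.extra} : Set (FreeGroup Spor.Fi22.Gen)),
      FreeGroup.lift L r = 1 := by
    rintro r (⟨x, -, y, -, rfl⟩ | hr)
    · rw [map_pow, map_mul, FreeGroup.lift_apply_of, FreeGroup.lift_apply_of,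
        CfsgLib.Transpositions.M22Unique.coxLabel_eq]
      simp only [L]
      by_cases hxy : x = y
      · rw [if_pos hxy, pow_one, hxy, hb.sq]
      rw [if_neg hxy]
      generalize CfsgLib.Transpositions.M22Unique.letter x = s
      generalize CfsgLib.Transpositions.M22Unique.letter y = t
      cases ha : CfsgLib.Transpositions.Braid.adjb s t
      · rw [if_neg Bool.false_ne_true, pow_two, Commute.mul_mul_mul_comm (hb.comm _ _ ha).symm, hb.sq, hb.sq,
          one_mul]
      · rw [if_pos rfl]
        calc (f s * f t) ^ 3 = f s * f t * f s * (f t * f s * f t) := by simp [pow_succ, mul_assoc]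
          _ = 1 := by
            rw [← hb.braid _ _ ha]
            have c1 : ∀ z, f s * (f s * z) = z := fun z => by rw [← mul_assoc, hb.sq, one_mul]
            have c2 : ∀ z, f t * (f t * z) = z := fun z => by rw [← mul_assoc, hb.sq, one_mul]
            simp [mul_assoc, c1, c2, hb.sq]
    · simp only [Set.mem_ofPred_eq, Spor.Fi22.extra, List.mem_cons, List.not_mem_nil, or_false] at hr
      rcases hr with rfl | rfl | rfl
      · rw [map_pow]; simpa [L, pw, CfsgLib.Transpositions.M22Unique.letter, mul_assoc] using e3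
      · rw [map_pow]; simpa [L, pw, CfsgLib.Transpositions.M22Unique.letter, mul_assoc] using e1
      · rw [map_pow]; simpa [L, pw, CfsgLib.Transpositions.M22Unique.letter, mul_assoc] using e2
  set φ := PresentedGroup.toGroup hrel with hφ
  have hφof : φ (PresentedGroup.of Spor.Fi22.Gen.a) = f 0 := PresentedGroup.toGroup.of hrel
  have := CfsgLib.CosetEnum.Fi22.isSimpleGroup_Fi22
  have hcard : Nat.card Spor.Fi22 = Nat.card G := by
    rw [CfsgLib.CosetEnum.Fi22.card_Fi22, card_group H.group H.prim H.type]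
  have hfin : Finite Spor.Fi22 := Nat.finite_of_card_ne_zero (by rw [hcard]; exact Nat.card_pos.ne')
  have hinj : Function.Injective (π.comp φ) := by
    rw [← MonoidHom.ker_eq_bot_iff]
    rcases (inferInstance : (π.comp φ).ker.Normal).eq_bot_or_eq_top with hb' | hb'
    · exact hb'
    · exfalso
      have ha : (π.comp φ) (PresentedGroup.of Spor.Fi22.Gen.a) = 1 :=
        MonoidHom.mem_ker.1 (hb' ▸ Subgroup.mem_top _)
      rw [MonoidHom.comp_apply, hφof, hπ] at ha
      exact ne_one H.group.1 (hF.mem 0 (by norm_num)) ha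
  have hsurj : Function.Surjective (π.comp φ) :=
    ((Nat.bijective_iff_injective_and_card _).2 ⟨hinj, hcard⟩).2
  -- every element is an image times a kernel element, so the image is everything
  have hz : ∀ w : P, ∃ r ∈ φ.range, w = r ∨ w = r * d := fun w => by
    obtain ⟨q, hq⟩ := hsurj (π w)
    exact ⟨φ q, ⟨q, rfl⟩, H.eq_or_eq_mul hq⟩
  have hcomm : commutator P ≤ φ.range := by
    rw [commutator_def, Subgroup.commutator_le]
    intro p _ q _
    obtain ⟨r, hr, hpr⟩ := hz p
    obtain ⟨s, hs, hqs⟩ := hz q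
    have hd : ∀ g : P, d * g = g * d := fun g => (H.central g).eq
    have e : ⁅p, q⁆ = ⁅r, s⁆ := by
      have i1 : ∀ a b : P, ⁅a * d, b⁆ = ⁅a, b⁆ := fun a b => by
        rw [commutatorElement_def, commutatorElement_def, mul_inv_rev, mul_assoc a d b, hd b]; group
      have i2 : ∀ a b : P, ⁅a, b * d⁆ = ⁅a, b⁆ := fun a b => by
        rw [commutatorElement_def, commutatorElement_def, mul_inv_rev, ← mul_assoc a b d, mul_assoc (a * b) d,
          hd a⁻¹]
        group
      rcases hpr with rfl | rfl <;> rcases hqs with rfl | rfl <;> simp only [i1, i2]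
    rw [e, commutatorElement_def]
    exact mul_mem (mul_mem (mul_mem hr hs) (inv_mem hr)) (inv_mem hs)
  rw [H.perfect, top_le_iff] at hcomm
  obtain ⟨q, hq⟩ := hcomm.symm ▸ Subgroup.mem_top d
  have hq1 : q = 1 := hinj (by rw [MonoidHom.comp_apply, hq, H.map_d, map_one])
  exact H.ne (by rw [← hq, hq1, map_one])

/-- Moving the central involution out of a word. -/
theorem pw_central (f : ℕ → P) (l : List ℕ) :
    pw (fun s => f s * d) l = pw f l * d ^ l.length := by
  induction l with
  | nil => simp [pw]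
  | cons a l ih =>
    rw [pw_cons, pw_cons, ih, List.length_cons, pow_succ', mul_assoc, mul_assoc]
    congr 1
    rw [← mul_assoc, (H.central (pw f l)).eq, mul_assoc]

/-- The two ninth powers of lifts in one class differ. -/
theorem z1_mul_z2 {F : ℕ → G} (hF : Config D F) (h9 : ∀ s, 9 ≤ s → F s = 1) {u : P} (hu : π u ∈ D) :
    ∃ f : ℕ → P, CfsgLib.Transpositions.Braid.Braided f ∧ (∀ s, π (f s) = F s) ∧
      (∀ s, s < 9 → IsConj u (f s)) ∧ pw f z1 * pw f z2 = d := by
  obtain ⟨f, hb, hπ, hcl, hf9⟩ := H.exists_lifts hu hF h9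
  refine ⟨f, hb, hπ, hcl, ?_⟩
  have hfun : (fun s => π (f s)) = F := funext hπ
  have hval : ∀ z, pw F z = 1 → pw f z = 1 ∨ pw f z = d := fun z hz =>
    (H.ker _).1 (by rw [pw_map_hom, hfun, hz])
  have h1 := hval _ (CfsgLib.Transpositions.M22Unique.pw_z1 H.group H.prim H.type hF)
  have h2 := hval _ (CfsgLib.Transpositions.M22Unique.pw_z2 H.group H.prim H.type hF)
  have hnb := H.not_both hF hu hb hπ hcl
  rcases h1 with h1 | h1 <;> rcases h2 with h2 | h2
  · exact absurd ⟨h1, h2⟩ hnb
  · rw [h1, h2, one_mul]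
  · rw [h1, h2, mul_one]
  · exfalso
    -- pass to the other class
    set g : ℕ → P := fun s => if s < 9 then f s * d else 1 with hg
    have hu' : π (u * d) ∈ D := by rw [map_mul, H.map_d, mul_one]; exact hu
    have hgb : CfsgLib.Transpositions.Braid.Braided g := by
      have hd : ∀ x : P, d * x = x * d := fun x => (H.central x).eq
      refine ⟨fun s => ?_, fun s t hst => ?_, fun s t hst => ?_⟩
      · simp only [hg]
        split
        · rw [Commute.mul_mul_mul_comm (H.central _), hb.sq, H.sq, one_mul]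
        · rw [one_mul]
      · simp only [hg]
        have hc := hb.comm s t hst
        split <;> split <;> first
          | exact (hc.mul_right (H.central _).symm).mul_left ((H.central _).mul_right (Commute.refl d))
          | exact Commute.one_left _
          | exact Commute.one_right _
      · obtain ⟨hs, ht⟩ := CfsgLib.Transpositions.M22Unique.adjb_lt hst
        simp only [hg, if_pos hs, if_pos ht]
        have e : ∀ x y : P, x * d * (y * d) * (x * d) = x * y * x * d := fun x y => by
          rw [Commute.mul_mul_mul_comm (H.central y), H.sq, mul_one, ← mul_assoc]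
        rw [e, e, hb.braid s t hst]
    have hgπ : ∀ s, π (g s) = F s := fun s => by
      simp only [hg]
      split
      · rw [map_mul, H.map_d, mul_one, hπ]
      · rw [map_one, h9 s (by omega)]
    have hgc : ∀ s, s < 9 → IsConj (u * d) (g s) := fun s hs => by
      obtain ⟨k, hk⟩ := isConj_iff.1 (hcl s hs)
      refine isConj_iff.2 ⟨k, ?_⟩
      simp only [hg, if_pos hs]
      rw [← hk, mul_assoc, mul_assoc u d, (H.central k⁻¹).eq]; group
    refine H.not_both hF hu' hgb hgπ hgc ⟨?_, ?_⟩
    · have e : pw g z1 = pw (fun s => f s * d) z1 := by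
        refine congrArg List.prod (List.map_congr_left fun s hs => ?_)
        have : ∀ s ∈ z1, s < 9 := by decide +kernel
        simp only [hg, if_pos (this s hs)]
      rw [e, H.pw_central f, h1, show z1.length = 2 * 31 + 1 by decide +kernel, pow_succ, pow_mul, pow_two,
        H.sq, one_pow, one_mul, H.sq]
    · have e : pw g z2 = pw (fun s => f s * d) z2 := by
        refine congrArg List.prod (List.map_congr_left fun s hs => ?_)
        have : ∀ s ∈ z2, s < 9 := by decide +kernel
        simp only [hg, if_pos (this s hs)]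
      rw [e, H.pw_central f, h2, show z2.length = 2 * 31 + 1 by decide +kernel, pow_succ, pow_mul, pow_two,
        H.sq, one_pow, one_mul, H.sq]

/-- Six commuting lifts of one class with product `d`, over six members with product one. -/
theorem exists_six_cover {u : P} (hu : π u ∈ D) :
    ∃ l : List P, l.length = 6 ∧ (l.map π).Nodup ∧ (∀ x ∈ l, IsConj u x) ∧
      (∀ x ∈ l, ∀ y ∈ l, Commute (π x) (π y)) ∧ l.prod = d := by
  obtain ⟨a, ha, b, hb', hab, -⟩ := id H.type.2
  obtain ⟨F, hF, -, -⟩ := CfsgLib.Transpositions.M22Unique.exists_config H.group H.prim H.type ha hb' hab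
  -- outside the nine letters the configuration may be taken trivial
  set F' : ℕ → G := fun s => if s < 9 then F s else 1 with hF'
  have hF'c : Config D F' := by
    refine ⟨⟨fun s => ?_, fun s t hst => ?_, fun s t hst => ?_⟩, fun s hs => ?_, fun s t hst => ?_⟩
    · simp only [hF']; split
      · exact hF.braided.sq s
      · exact one_mul 1
    · simp only [hF']; split <;> split <;> first
        | exact hF.braided.comm s t hst
        | exact Commute.one_left _
        | exact Commute.one_right _
    · obtain ⟨hs, ht⟩ := CfsgLib.Transpositions.M22Unique.adjb_lt hst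
      simp only [hF', if_pos hs, if_pos ht]
      exact hF.braided.braid s t hst
    · simp only [hF', if_pos hs]; exact hF.mem s hs
    · obtain ⟨hs, ht⟩ := CfsgLib.Transpositions.M22Unique.adjb_lt hst
      simp only [hF', if_pos hs, if_pos ht]
      exact hF.non s t hst
  obtain ⟨f, hb, hπ, hcl, hz⟩ := H.z1_mul_z2 hF'c (fun s hs => by simp only [hF']; rw [if_neg (by omega)]) hu
  have hcj : ∀ (v : List ℕ) (s : ℕ), s < 9 → IsConj u (pw f (v ++ [s] ++ v.reverse)) := fun v s hs => by
    rw [pw_append, pw_append, pw_singleton, pw_reverse hb]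
    exact (hcl s hs).trans (isConj_iff.2 ⟨_, rfl⟩)
  set x₀ := pw f p0 with hx₀
  set x₁ := pw f p1 with hx₁
  set x₂ := pw f p2 with hx₂
  set y₀ := pw f q0 with hy₀
  set y₁ := pw f q1 with hy₁
  set y₂ := pw f q2 with hy₂
  have cl : IsConj u x₀ ∧ IsConj u x₁ ∧ IsConj u x₂ ∧ IsConj u y₀ ∧ IsConj u y₁ ∧ IsConj u y₂ := by
    rw [hx₀, hx₁, hx₂, hy₀, hy₁, hy₂]
    exact ⟨hcj _ _ (by norm_num), hcj _ _ (by norm_num), hcj _ _ (by norm_num), hcj _ _ (by norm_num),
      hcj _ _ (by norm_num), hcj _ _ (by norm_num)⟩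
  obtain ⟨kx0, kx1, kx2, ky0, ky1, ky2⟩ := cl
  have memD : ∀ {x : P}, IsConj u x → π x ∈ D := fun hx => H.mem_D_of_conj hu hx
  have sqP : ∀ {x : P}, IsConj u x → x * x = 1 := fun hx => H.member_mul_self (memD hx)
  have invP : ∀ {x : P}, IsConj u x → x⁻¹ = x := fun hx => inv_eq_of_mul_eq_one_right (sqP hx)
  have uniq : ∀ {x y : P}, IsConj u x → IsConj u y → π x = π y → x = y :=
    fun hx hy he => H.lift_unique (memD hx) (hx.symm.trans hy) he
  -- commutation
  have hcm : ∀ (p q : List ℕ), pw f (p ++ q ++ p ++ q) = 1 → IsConj u (pw f p) → IsConj u (pw f q) →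
      Commute (pw f p) (pw f q) := fun p q e hp hq => by
    rw [pw_append, pw_append, pw_append] at e
    calc pw f p * pw f q = pw f p * pw f q * (pw f p * pw f q * pw f p * pw f q)⁻¹ := by
          rw [e, inv_one, mul_one]
      _ = (pw f q)⁻¹ * (pw f p)⁻¹ := by group
      _ = pw f q * pw f p := by rw [invP hp, invP hq]
  have cx01 := hcm p0 p1 (pw_of_check hb p_comm_01) kx0 kx1
  have cx02 := hcm p0 p2 (pw_of_check hb p_comm_02) kx0 kx2
  have cx12 := hcm p1 p2 (pw_of_check hb p_comm_12) kx1 kx2
  have cy01 := hcm q0 q1 (pw_of_check hb q_comm_01) ky0 ky1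
  have cy02 := hcm q0 q2 (pw_of_check hb q_comm_02) ky0 ky2
  have cy12 := hcm q1 q2 (pw_of_check hb q_comm_12) ky1 ky2
  rw [← hx₀, ← hx₁] at cx01
  rw [← hx₀, ← hx₂] at cx02
  rw [← hx₁, ← hx₂] at cx12
  rw [← hy₀, ← hy₁] at cy01
  rw [← hy₀, ← hy₂] at cy02
  rw [← hy₁, ← hy₂] at cy12
  have hprod : x₀ * x₁ * x₂ * (y₀ * y₁ * y₂) = d := by
    have e := pw_of_check hb pq_split
    simp only [pw_append, pw_reverse hb, ← hx₀, ← hx₁, ← hx₂, ← hy₀, ← hy₁, ← hy₂, hz] at e
    have e' : d * ((x₀ * x₁ * x₂ * (y₀ * y₁ * y₂)))⁻¹ = 1 := by rw [← e]; group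
    exact (mul_inv_eq_one.1 e').symm
  -- each triple is either a repetition or distinct
  have shape : ∀ {a b c : P}, IsConj u a → IsConj u b → IsConj u c → Commute a b → Commute a c → Commute b c →
      (∃ e, IsConj u e ∧ a * b * c = e) ∨
        ((π a ≠ π b ∧ π a ≠ π c ∧ π b ≠ π c) ∧ IsCList D [π a, π b, π c]) := by
    intro a b c ka kb kc cab cac cbc
    by_cases h1 : π a = π b
    · exact Or.inl ⟨c, kc, by rw [uniq ka kb h1, sqP kb, one_mul]⟩
    by_cases h2 : π a = π c
    · exact Or.inl ⟨b, kb, by rw [uniq ka kc h2, mul_assoc, cbc.eq, ← mul_assoc,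
        sqP kc, one_mul]⟩
    by_cases h3 : π b = π c
    · exact Or.inl ⟨a, ka, by rw [uniq kb kc h3, mul_assoc, sqP kc, mul_one]⟩
    refine Or.inr ⟨⟨h1, h2, h3⟩, isCList_triple (memD ka) ⟨memD kb, Ne.symm h1, cab.map π⟩
      ⟨memD kc, Ne.symm h2, cac.map π⟩ ⟨memD kc, Ne.symm h3, cbc.map π⟩⟩
  have hY2 : y₀ * y₁ * y₂ * (y₀ * y₁ * y₂) = 1 := by
    rw [Commute.mul_mul_mul_comm (cy02.mul_left cy12).symm, Commute.mul_mul_mul_comm cy01.symm, sqP ky0, sqP ky1,
      sqP ky2, one_mul, one_mul]
  have hXY : x₀ * x₁ * x₂ = y₀ * y₁ * y₂ * d := by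
    rw [← (H.central _).eq, ← hprod, mul_assoc _ (y₀ * y₁ * y₂), hY2, mul_one]
  have hXYπ : π x₀ * π x₁ * π x₂ = π y₀ * π y₁ * π y₂ := by
    have e := congrArg π hXY
    simpa only [map_mul, H.map_d, mul_one] using e
  have hd1 : ∀ {e e' : P}, IsConj u e → IsConj u e' → e ≠ e' * d := fun {e e'} he he' h0 => by
    have h1 := uniq he he' (by rw [h0, map_mul, H.map_d, mul_one])
    rw [h1] at h0
    exact H.ne (mul_eq_left.1 h0.symm)
  have hI := involution_classes22 H.group H.prim H.type
  have one_three : ∀ {e a b c : G}, e ∈ D → IsCList D [a, b, c] → e = a * b * c → False := by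
    intro e a b c he hl h0
    have := hI.2.2 1 3 e le_rfl (by norm_num) (by norm_num) le_rfl ⟨[e], by simp, by simp, by simp [he], by simp, by simp⟩
      ⟨[a, b, c], hl.nodup, rfl, hl.mem, hl.comm, by rw [h0]; simp [mul_assoc]⟩
    omega
  rcases shape kx0 kx1 kx2 cx01 cx02 cx12 with ⟨e, ke, he⟩ | ⟨⟨nx01, nx02, nx12⟩, lx⟩ <;>
    rcases shape ky0 ky1 ky2 cy01 cy02 cy12 with ⟨e', ke', he'⟩ | ⟨⟨ny01, ny02, ny12⟩, ly⟩
  · exact absurd (he.symm.trans (hXY.trans (by rw [he']))) (hd1 ke ke')
  · exact (one_three (memD ke) ly (by rw [← hXYπ, ← he]; simp)).elim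
  · exact (one_three (memD ke') lx (by rw [hXYπ, ← he']; simp)).elim
  -- two triples with one product
  have hpu := pairUnique H.group.1 (noTwins_of_primitive H.group H.type.1 H.prim)
  have hsh : ∀ {a b c a' b' c' : P}, IsConj u a → IsConj u b → IsConj u c → IsConj u a' → IsConj u b' →
      IsConj u c' → π b ≠ π c → π b' ≠ π c' → Commute b c → Commute b' c' →
      a * b * c = a' * b' * c' * d → π a = π a' → False := by
    intro a b c a' b' c' ka kb kc ka' kb' kc' nbc nbc' cbc cbc' h0 haa
    obtain rfl := uniq ka ka' haa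
    have h1 : b * c = b' * c' * d := by
      rw [mul_assoc, mul_assoc a b', mul_assoc] at h0
      exact mul_left_cancel h0
    have h2 : π b * π c = π b' * π c' := by
      have := congrArg π h1
      simpa only [map_mul, H.map_d, mul_one] using this
    rcases hpu _ (memD kb) _ (memD kc) _ (memD kb') _ (memD kc') nbc (cbc.map π) nbc' (cbc'.map π) h2 with
      ⟨e1, e2⟩ | ⟨e1, e2⟩
    · rw [uniq kb kb' e1, uniq kc kc' e2] at h1
      exact H.ne (mul_eq_left.1 h1.symm)
    · rw [uniq kb kc' e1, uniq kc kb' e2, cbc'.symm.eq] at h1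
      exact H.ne (mul_eq_left.1 h1.symm)
  -- orders of the triples with a given front
  have fx : ∀ a ∈ [x₀, x₁, x₂], ∃ b c, IsConj u a ∧ IsConj u b ∧ IsConj u c ∧ π b ≠ π c ∧ Commute b c ∧
      x₀ * x₁ * x₂ = a * b * c := by
    simp only [List.mem_cons, List.not_mem_nil, or_false]
    rintro a (rfl | rfl | rfl)
    · exact ⟨x₁, x₂, kx0, kx1, kx2, nx12, cx12, rfl⟩
    · exact ⟨x₀, x₂, kx1, kx0, kx2, nx02, cx02, by rw [cx01.eq]⟩
    · exact ⟨x₀, x₁, kx2, kx0, kx1, nx01, cx01, by
        rw [← (cx02.mul_left cx12).eq.symm, mul_assoc]⟩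
  have fy : ∀ a ∈ [y₀, y₁, y₂], ∃ b c, IsConj u a ∧ IsConj u b ∧ IsConj u c ∧ π b ≠ π c ∧ Commute b c ∧
      y₀ * y₁ * y₂ = a * b * c := by
    simp only [List.mem_cons, List.not_mem_nil, or_false]
    rintro a (rfl | rfl | rfl)
    · exact ⟨y₁, y₂, ky0, ky1, ky2, ny12, cy12, rfl⟩
    · exact ⟨y₀, y₂, ky1, ky0, ky2, ny02, cy02, by rw [cy01.eq]⟩
    · exact ⟨y₀, y₁, ky2, ky0, ky1, ny01, cy01, by
        rw [← (cy02.mul_left cy12).eq.symm, mul_assoc]⟩
  have hdis : ∀ a ∈ [x₀, x₁, x₂], ∀ b ∈ [y₀, y₁, y₂], π a ≠ π b ∧ Commute (π a) (π b) := by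
    intro a hax b hby
    obtain ⟨a₁, a₂, ka, ka1, ka2, na, ca, ea⟩ := fx a hax
    obtain ⟨b₁, b₂, kb, kb1, kb2, nb, cb, eb⟩ := fy b hby
    have hne : π a ≠ π b := fun h0 =>
      hsh ka ka1 ka2 kb kb1 kb2 na nb ca cb (by rw [← ea, ← eb]; exact hXY) h0
    refine ⟨hne, ?_⟩
    have hab' : Commute (π a) (π y₀ * π y₁ * π y₂) := by
      rw [← hXYπ]
      simp only [List.mem_cons, List.not_mem_nil, or_false] at hax
      rcases hax with rfl | rfl | rfl
      · exact ((Commute.refl _).mul_right (cx01.map π)).mul_right (cx02.map π)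
      · exact ((cx01.symm.map π).mul_right (Commute.refl _)).mul_right (cx12.map π)
      · exact ((cx02.symm.map π).mul_right (cx12.symm.map π)).mul_right (Commute.refl _)
    simp only [List.mem_cons, List.not_mem_nil, or_false] at hby
    have d0 := memD ky0
    have d1 := memD ky1
    have d2 := memD ky2
    rcases hby with rfl | rfl | rfl
    · exact commute_of_commute_mul3 H.group.1 d0 d1 d2 (memD ka) (cy01.map π) (cy02.map π) (cy12.map π)
        ny01 ny02 ny12 hab'
    · refine commute_of_commute_mul3 H.group.1 d1 d0 d2 (memD ka) (cy01.symm.map π) (cy12.map π) (cy02.map π)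
        ny01.symm ny12 ny02 ?_
      rwa [(cy01.symm.map π).eq]
    · refine commute_of_commute_mul3 H.group.1 d2 d0 d1 (memD ka) (cy02.symm.map π) (cy12.symm.map π)
        (cy01.map π) ny02.symm ny12.symm ny01 ?_
      rwa [mul_assoc, ((cy02.symm.map π).mul_right (cy12.symm.map π)).eq]
  refine ⟨[x₀, x₁, x₂, y₀, y₁, y₂], rfl, ?_, ?_, ?_, by simpa [mul_assoc] using hprod⟩
  · simp only [List.map_cons, List.map_nil, List.nodup_cons, List.mem_cons, List.not_mem_nil, or_false, not_or,
      List.nodup_nil, not_false_eq_true, and_true]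
    exact ⟨⟨nx01, nx02, (hdis x₀ (by simp) y₀ (by simp)).1, (hdis x₀ (by simp) y₁ (by simp)).1,
      (hdis x₀ (by simp) y₂ (by simp)).1⟩,
      ⟨nx12, (hdis x₁ (by simp) y₀ (by simp)).1, (hdis x₁ (by simp) y₁ (by simp)).1,
      (hdis x₁ (by simp) y₂ (by simp)).1⟩,
      ⟨(hdis x₂ (by simp) y₀ (by simp)).1, (hdis x₂ (by simp) y₁ (by simp)).1,
      (hdis x₂ (by simp) y₂ (by simp)).1⟩, ⟨ny01, ny02⟩, ny12⟩
  · simp only [List.mem_cons, List.not_mem_nil, or_false]
    rintro x (rfl | rfl | rfl | rfl | rfl | rfl) <;> assumption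
  · intro x hx y hy
    simp only [List.mem_cons, List.not_mem_nil, or_false] at hx hy
    have k00 := (hdis x₀ (by simp) y₀ (by simp)).2
    have k01 := (hdis x₀ (by simp) y₁ (by simp)).2
    have k02 := (hdis x₀ (by simp) y₂ (by simp)).2
    have k10 := (hdis x₁ (by simp) y₀ (by simp)).2
    have k11 := (hdis x₁ (by simp) y₁ (by simp)).2
    have k12 := (hdis x₁ (by simp) y₂ (by simp)).2
    have k20 := (hdis x₂ (by simp) y₀ (by simp)).2
    have k21 := (hdis x₂ (by simp) y₁ (by simp)).2
    have k22 := (hdis x₂ (by simp) y₂ (by simp)).2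
    rcases hx with rfl | rfl | rfl | rfl | rfl | rfl <;> rcases hy with rfl | rfl | rfl | rfl | rfl | rfl <;>
      first
        | exact Commute.refl _
        | assumption
        | exact Commute.map (by assumption) π
        | exact (Commute.map (by assumption) π).symm
        | (apply Commute.symm; assumption)

end Cover22

end CfsgLib.FischerTypes
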