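import Cfsg.Agent.FischerTypes.U62Semireg
import Cfsg.Agent.CoxeterSym.Basic
import Mathlib.LinearAlgebra.Determinant

/-!
# Four transvection points in a chain

The product `g` of the transvections has order dividing five, its fixed space is the orthogonal plane, and
what commutes with `g` and acts by a scalar on that plane forms a group of order dividing fifteen.
-/

set_option autoImplicit false

namespace CfsgLib.U62

open Matrix CfsgLib.RepBounds.Unit

variable {F : Type*} [Field F] [Fintype F] (C : ConjField F)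

local notation "V6" => (I6 → F)

/-- Four isotropic points, consecutive ones non-orthogonal, the others orthogonal. -/
structure IsChain4 (p : Fin 4 → V6) : Prop where
  iso : ∀ i, herm C (p i) (p i) = 0
  adj01 : herm C (p 0) (p 1) ≠ 0
  adj12 : herm C (p 1) (p 2) ≠ 0
  adj23 : herm C (p 2) (p 3) ≠ 0
  far02 : herm C (p 0) (p 2) = 0
  far03 : herm C (p 0) (p 3) = 0
  far13 : herm C (p 1) (p 3) = 0

variable {p : Fin 4 → I6 → F}

theorem IsChain4.swap_ne (hp : IsChain4 C p) :
    herm C (p 1) (p 0) ≠ 0 ∧ herm C (p 2) (p 1) ≠ 0 ∧ herm C (p 3) (p 2) ≠ 0 := by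
  refine ⟨fun h => hp.adj01 ?_, fun h => hp.adj12 ?_, fun h => hp.adj23 ?_⟩ <;> rw [← conj_herm, h, map_zero]

theorem IsChain4.swap_zero (hp : IsChain4 C p) :
    herm C (p 2) (p 0) = 0 ∧ herm C (p 3) (p 0) = 0 ∧ herm C (p 3) (p 1) = 0 := by
  refine ⟨?_, ?_, ?_⟩ <;> rw [← conj_herm]
  exacts [by rw [hp.far02, map_zero], by rw [hp.far03, map_zero], by rw [hp.far13, map_zero]]

/-- The span is non-degenerate. -/
theorem IsChain4.coeff_zero (hp : IsChain4 C p) (c : Fin 4 → F)
    (h : ∀ j, herm C (∑ i, c i • p i) (p j) = 0) : c = 0 := by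
  obtain ⟨a10, a21, a32⟩ := hp.swap_ne
  obtain ⟨z20, z30, z31⟩ := hp.swap_zero
  have e : ∀ j, c 0 * herm C (p 0) (p j) + c 1 * herm C (p 1) (p j) + c 2 * herm C (p 2) (p j) +
      c 3 * herm C (p 3) (p j) = 0 := fun j => by
    simpa [Fin.sum_univ_four, herm_add_left, herm_smul_left, add_assoc] using h j
  have h0 := e 0; have h1 := e 1; have h2 := e 2; have h3 := e 3
  simp only [hp.iso, hp.far02, hp.far03, hp.far13, z20, z30, z31, mul_zero, add_zero, zero_add] at h0 h1 h2 h3
  have c1 : c 1 = 0 := (mul_eq_zero.1 h0).resolve_right a10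
  have c2 : c 2 = 0 := (mul_eq_zero.1 h3).resolve_right hp.adj23
  rw [c1, zero_mul, zero_add] at h2
  rw [c2, zero_mul, add_zero] at h1
  have c3 : c 3 = 0 := (mul_eq_zero.1 h2).resolve_right a32
  have c0 : c 0 = 0 := (mul_eq_zero.1 h1).resolve_right hp.adj01
  funext i
  fin_cases i
  exacts [c0, c1, c2, c3]

theorem IsChain4.li (hp : IsChain4 C p) : LinearIndependent F p := by
  rw [Fintype.linearIndependent_iff]
  intro c hc i
  exact congrFun (hp.coeff_zero C c fun j => by rw [hc, herm_zero_left]) i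

/-- The vectors orthogonal to the four points. -/
noncomputable def orthSub (p : Fin 4 → V6) : Submodule F V6 :=
  LinearMap.ker ({ toFun := fun x i => herm C x (p i)
                   map_add' := fun x y => funext fun i => herm_add_left C x y _
                   map_smul' := fun a x => funext fun i => herm_smul_left C a x _ } : V6 →ₗ[F] (Fin 4 → F))

theorem mem_orthSub {x : V6} : x ∈ orthSub C p ↔ ∀ i, herm C x (p i) = 0 := by
  rw [orthSub, LinearMap.mem_ker]
  exact funext_iff

theorem IsChain4.split (hp : IsChain4 C p) :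
    IsCompl (orthSub C p) (Submodule.span F (Set.range p)) ∧ Module.finrank F (orthSub C p) = 2 := by
  have h4 : Module.finrank F (Submodule.span F (Set.range p)) = 4 := by
    rw [finrank_span_eq_card (hp.li C)]; rfl
  have hdisj : Disjoint (orthSub C p) (Submodule.span F (Set.range p)) := by
    rw [Submodule.disjoint_def]
    intro x hx hx'
    obtain ⟨c, rfl⟩ := Submodule.mem_span_range_iff_exists_fun F |>.1 hx'
    rw [hp.coeff_zero C c ((mem_orthSub C).1 hx)]
    simp
  have hle : 2 ≤ Module.finrank F (orthSub C p) := by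
    let L : V6 →ₗ[F] (Fin 4 → F) :=
      { toFun := fun x i => herm C x (p i)
        map_add' := fun x y => funext fun i => herm_add_left C x y _
        map_smul' := fun a x => funext fun i => herm_smul_left C a x _ }
    have h1 := L.finrank_range_add_finrank_ker
    have h2 : Module.finrank F (LinearMap.range L) ≤ 4 := (Submodule.finrank_le _).trans (by simp)
    show 2 ≤ Module.finrank F (LinearMap.ker L)
    simp at h1
    omega
  have h6 := Submodule.finrank_sup_add_finrank_inf_eq (orthSub C p) (Submodule.span F (Set.range p))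
  rw [hdisj.eq_bot, finrank_bot, add_zero, h4] at h6
  have h7 := Submodule.finrank_le (orthSub C p ⊔ Submodule.span F (Set.range p))
  simp at h7
  refine ⟨⟨hdisj, codisjoint_iff.2 (Submodule.eq_top_of_finrank_eq ?_)⟩, by omega⟩
  simp
  omega

variable (hC : C.q = 2)
include hC

/-- The orthogonal plane is spanned by two isotropic points and contains one more. -/
theorem IsChain4.exists_plane (hp : IsChain4 C p) : ∃ u v : V6, herm C u u = 0 ∧ herm C v v = 0 ∧
    herm C v u ≠ 0 ∧ u ∈ orthSub C p ∧ v ∈ orthSub C p ∧ u ≠ 0 ∧ v ≠ 0 ∧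
    ∀ w ∈ orthSub C p, ∃ a b : F, w = a • u + b • v := by
  obtain ⟨hc, h2⟩ := hp.split C
  have hnd : ∀ x ∈ orthSub C p, x ≠ 0 → ∃ y ∈ orthSub C p, herm C y x ≠ 0 := by
    intro x hx hx0
    by_contra hall
    push Not at hall
    obtain ⟨z, hz⟩ := exists_herm_eq C hx0 1
    obtain ⟨a, ha, b, hb, rfl⟩ := Submodule.mem_sup.1 (hc.sup_eq_top.symm ▸ Submodule.mem_top : z ∈ _)
    obtain ⟨c, rfl⟩ := Submodule.mem_span_range_iff_exists_fun F |>.1 hb
    have hb0 : herm C (∑ i, c i • p i) x = 0 := by
      have e : ∀ i, herm C (p i) x = 0 := fun i => by rw [← conj_herm, (mem_orthSub C).1 hx i, map_zero]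
      simp [Fin.sum_univ_four, herm_add_left, herm_smul_left, e]
    rw [herm_add_left, hall a ha, hb0, add_zero] at hz
    exact zero_ne_one hz
  obtain ⟨u, hu, hu0, huu⟩ : ∃ u ∈ orthSub C p, u ≠ 0 ∧ herm C u u = 0 := by
    obtain ⟨x, hx, hx0⟩ := (orthSub C p).exists_mem_ne_zero_of_ne_bot fun h0 => by
      rw [h0, finrank_bot] at h2; omega
    by_cases hxx : herm C x x = 0
    · exact ⟨x, hx, hx0, hxx⟩
    let φ : orthSub C p →ₗ[F] F :=
      { toFun := fun z => herm C z.1 x
        map_add' := fun a b => herm_add_left C _ _ x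
        map_smul' := fun a b => herm_smul_left C a _ x }
    have hk : LinearMap.ker φ ≠ ⊥ := fun h0 => by
      have h1 := φ.finrank_range_add_finrank_ker
      have h3 : Module.finrank F (LinearMap.range φ) ≤ 1 := (Submodule.finrank_le _).trans (by simp)
      rw [h0, finrank_bot, h2] at h1
      omega
    obtain ⟨y, hy, hy0⟩ := (LinearMap.ker φ).exists_mem_ne_zero_of_ne_bot hk
    have hyx : herm C y.1 x = 0 := hy
    by_cases hyy : herm C y.1 y.1 = 0
    · exact ⟨y, y.2, fun h0 => hy0 (Subtype.ext h0), hyy⟩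
    have one : ∀ z : V6, herm C z z ≠ 0 → herm C z z = 1 := fun z hz => eq_one_of_fixed C hC (conj_herm C z z) hz
    refine ⟨x + y.1, add_mem hx y.2, fun h0 => hxx ?_, ?_⟩
    · have := congrArg (fun z => herm C z x) h0
      simpa [herm_add_left, herm_zero_left, hyx] using this
    · simp only [herm_add_left, herm_add_right, hyx, show herm C x y.1 = 0 by rw [← conj_herm, hyx, map_zero],
        one x hxx, one _ hyy]
      linear_combination two_eq_zero C hC
  obtain ⟨y, hy, hyu⟩ := hnd u hu hu0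
  set t := herm C y y * tA C / herm C u y with ht
  have huy : herm C u y ≠ 0 := fun h0 => hyu (by rw [← conj_herm, h0, map_zero])
  have hvu : herm C (y + t • u) u ≠ 0 := by
    rw [herm_add_left, herm_smul_left, huu, mul_zero, add_zero]; exact hyu
  have hvv : herm C (y + t • u) (y + t • u) = 0 := by
    have e1 : t * herm C u y = herm C y y * tA C := by rw [ht, div_mul_cancel₀ _ huy]
    have e2 : C.σ t * herm C y u = herm C y y * C.σ (tA C) := by
      have h3 := congrArg C.σ e1
      rwa [map_mul, map_mul, conj_herm, conj_herm] at h3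
    simp only [herm_add_left, herm_add_right, herm_smul_left, herm_smul_right, huu]
    linear_combination e1 + e2 + herm C y y * tA_spec C + herm C y y * two_eq_zero C hC
  refine ⟨u, y + t • u, huu, hvv, hvu, hu, add_mem hy ((orthSub C p).smul_mem _ hu), hu0,
    fun h0 => hvu (by rw [h0, herm_zero_left]), fun w hw => ?_⟩
  have hli : LinearIndependent F ![u, y + t • u] := by
    rw [LinearIndependent.pair_iff' hu0]
    intro a ha
    exact hvu (by rw [← ha, herm_smul_left, huu, mul_zero])
  have hspan : Submodule.span F (Set.range ![u, y + t • u]) = orthSub C p := by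
    refine Submodule.eq_of_le_of_finrank_eq (Submodule.span_le.2 ?_) (by rw [finrank_span_eq_card hli, h2]; rfl)
    rintro _ ⟨i, rfl⟩
    fin_cases i
    exacts [hu, add_mem hy ((orthSub C p).smul_mem _ hu)]
  rw [← hspan, Matrix.range_cons, Matrix.range_cons, Matrix.range_empty, Set.union_empty,
    Set.singleton_union, Submodule.mem_span_pair] at hw
  obtain ⟨a, b, rfl⟩ := hw
  exact ⟨a, b, rfl⟩

/-- The braid relation of two transvections. -/
theorem tv_braid {a b : V6} (ha : herm C a a = 0) (hb : herm C b b = 0) (hab : herm C a b ≠ 0) :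
    tv C a * tv C b * tv C a = tv C b * tv C a * tv C b := by
  have hba : herm C b a ≠ 0 := fun h0 => hab (by rw [← conj_herm, h0, map_zero])
  have e1 := conj_tv C hC (tv C a) hb
  have e2 := conj_tv C hC (tv C b) ha
  rw [inv_eq_of_mul_eq_one_right (tv_mul_self C hC ha), app_tv C hC ha] at e1
  rw [inv_eq_of_mul_eq_one_right (tv_mul_self C hC hb), app_tv C hC hb] at e2
  rw [e1, e2]
  have hs : herm C b a = C.σ (herm C a b) := (conj_herm C a b).symm
  have h3 := norm_eq_one C hC hab
  rw [← hs] at h3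
  conv_rhs => rw [show a + herm C a b • b = herm C a b • (b + herm C b a • a) by
    rw [smul_add, smul_smul, h3, one_smul, add_comm]]
  rw [tv_smul C hC hab (by
    rw [← app_tv C hC ha, herm_app, hb])]

omit hC in
/-- The product of the four transvections. -/
noncomputable def chainProd (p : Fin 4 → V6) : suG C I6 :=
  tv C (p 0) * tv C (p 1) * tv C (p 2) * tv C (p 3)

theorem chainProd_pow_five (hp : IsChain4 C p) : chainProd C p ^ 5 = 1 := by
  let t : ℕ → suG C I6 := fun i => if h : i < 4 then tv C (p ⟨i, h⟩) else 1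
  have ht : CfsgLib.CoxeterSym.IsSymGens 4 t := by
    refine ⟨fun i hi => ?_, fun i hi => ?_, fun i j hij hj => ?_⟩
    · simp only [t, hi, dif_pos]; exact tv_mul_self C hC (hp.iso _)
    · have hi3 : i < 3 := by omega
      simp only [t, hi, show i < 4 by omega, dif_pos]
      refine tv_braid C hC (hp.iso _) (hp.iso _) ?_
      interval_cases i
      exacts [hp.adj01, hp.adj12, hp.adj23]
    · have hi2 : i < 2 := by omega
      have hj4 : j < 4 := hj
      simp only [t, hj, show i < 4 by omega, dif_pos]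
      refine (commute_tv C hC (hp.iso _) (hp.iso _) ?_).eq
      obtain ⟨z20, z30, z31⟩ := hp.swap_zero
      interval_cases j <;> interval_cases i <;> first | omega | exact z20 | exact z30 | exact z31
  obtain ⟨φ, hφ⟩ := CfsgLib.CoxeterSym.exists_hom ht
  have e : chainProd C p = φ (Equiv.swap (0 : Fin 5) 1 * Equiv.swap 1 2 * Equiv.swap 2 3 * Equiv.swap 3 4) := by
    have h0 := hφ 0; have h1 := hφ 1; have h2 := hφ 2; have h3 := hφ 3
    simp only [map_mul]
    exact (congrArg₂ (· * ·) (congrArg₂ (· * ·) (congrArg₂ (· * ·) h0 h1) h2) h3).symm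
  rw [e, ← map_pow, show (Equiv.swap (0 : Fin 5) 1 * Equiv.swap 1 2 * Equiv.swap 2 3 * Equiv.swap 3 4) ^ 5 = 1
    by decide, map_one]

theorem app_chainProd (hp : IsChain4 C p) (x : V6) :
    ∃ c : Fin 4 → F, app C (chainProd C p) x = x + ∑ i, c i • p i ∧ (c = 0 → ∀ i, herm C x (p i) = 0) := by
  set c3 := herm C x (p 3) with hc3
  set c2 := herm C (x + c3 • p 3) (p 2) with hc2
  set c1 := herm C (x + c3 • p 3 + c2 • p 2) (p 1) with hc1
  set c0 := herm C (x + c3 • p 3 + c2 • p 2 + c1 • p 1) (p 0) with hc0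
  refine ⟨![c0, c1, c2, c3], ?_, fun h0 => ?_⟩
  · rw [chainProd, app_mul, app_mul, app_mul, app_tv C hC (hp.iso 3), app_tv C hC (hp.iso 2),
      app_tv C hC (hp.iso 1), app_tv C hC (hp.iso 0), ← hc3, ← hc2, ← hc1, ← hc0]
    simp [Fin.sum_univ_four]
    abel
  · have a0 : c0 = 0 := congrFun h0 0
    have a1 : c1 = 0 := congrFun h0 1
    have a2 : c2 = 0 := congrFun h0 2
    have a3 : c3 = 0 := congrFun h0 3
    rw [hc0, a1, a2, a3] at a0
    rw [hc1, a2, a3] at a1
    rw [hc2, a3] at a2
    simp only [zero_smul, add_zero] at a0 a1 a2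
    intro i
    fin_cases i
    exacts [a0, a1, a2, hc3 ▸ a3]

theorem fixed_orth (hp : IsChain4 C p) {x : V6} (hx : app C (chainProd C p) x = x) (i : Fin 4) :
    herm C x (p i) = 0 := by
  obtain ⟨c, hc, hc'⟩ := app_chainProd C hC hp x
  rw [hx, left_eq_add] at hc
  exact hc' (hp.coeff_zero C c fun j => by rw [hc, herm_zero_left]) i

theorem chainProd_fix (hp : IsChain4 C p) {x : V6} (hx : x ∈ orthSub C p) :
    app C (chainProd C p) x = x := by
  rw [mem_orthSub] at hx
  rw [chainProd, app_mul, app_mul, app_mul, app_tv C hC (hp.iso 3), hx 3, zero_smul, add_zero,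
    app_tv C hC (hp.iso 2), hx 2, zero_smul, add_zero, app_tv C hC (hp.iso 1), hx 1, zero_smul, add_zero,
    app_tv C hC (hp.iso 0), hx 0, zero_smul, add_zero]

theorem eigen_orth (hp : IsChain4 C p) {x : V6} {a : F} (hx0 : x ≠ 0)
    (hx : app C (chainProd C p) x = a • x) (i : Fin 4) : herm C x (p i) = 0 := by
  have hn : ∀ n : ℕ, app C (chainProd C p ^ n) x = a ^ n • x := fun n => by
    induction n with
    | zero => rw [pow_zero, app_one, pow_zero, one_smul]
    | succ n ih => rw [pow_succ, app_mul, hx, app_smul, ih, smul_smul, pow_succ, mul_comm]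
  have h5 : a ^ 5 = 1 := smul_left_injective F hx0 (show a ^ 5 • x = (1 : F) • x by
    rw [← hn, chainProd_pow_five C hC hp, app_one, one_smul])
  have ha0 : a ≠ 0 := fun h => by rw [h, zero_pow (by norm_num)] at h5; exact zero_ne_one h5
  have h1 : a = 1 := by
    have h3 := U62.pow_three C hC ha0
    calc a = a * a ^ 5 := by rw [h5, mul_one]
      _ = a ^ 3 * a ^ 3 := by ring
      _ = 1 := by rw [h3, one_mul]
  exact fixed_orth C hC hp (by rw [hx, h1, one_smul]) i

omit hC in
/-- What commutes with the product and acts on the plane of `u`, `v` by a scalar. -/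
def planeStab (p : Fin 4 → V6) (u v : V6) : Subgroup (suG C I6) where
  carrier := {h | Commute h (chainProd C p) ∧ ∃ α : F, app C h u = α • u ∧ app C h v = α • v}
  one_mem' := ⟨Commute.one_left _, 1, by rw [app_one, one_smul], by rw [app_one, one_smul]⟩
  mul_mem' := by
    rintro a b ⟨ha, α, au, av⟩ ⟨hb, β, bu, bv⟩
    exact ⟨ha.mul_left hb, β * α, by rw [app_mul, bu, app_smul, au, smul_smul],
      by rw [app_mul, bv, app_smul, av, smul_smul]⟩
  inv_mem' := by
    rintro a ⟨ha, α, au, av⟩
    refine ⟨ha.inv_left, α⁻¹, ?_, ?_⟩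
    · by_cases h0 : α = 0
      · rw [h0, zero_smul] at au
        have : u = 0 := by rw [← app_inv_app C a u, au]; simp [app]
        simp [this, app]
      · conv_rhs => rw [← app_inv_app C a u, au, app_smul, smul_smul, inv_mul_cancel₀ h0, one_smul]
    · by_cases h0 : α = 0
      · rw [h0, zero_smul] at av
        have : v = 0 := by rw [← app_inv_app C a v, av]; simp [app]
        simp [this, app]
      · conv_rhs => rw [← app_inv_app C a v, av, app_smul, smul_smul, inv_mul_cancel₀ h0, one_smul]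

theorem card_planeStab (hp : IsChain4 C p) {u v : V6} (hu : u ∈ orthSub C p) (hv : v ∈ orthSub C p)
    (huv : ∀ w ∈ orthSub C p, ∃ a b : F, w = a • u + b • v) (hu0 : u ≠ 0) (hvu : herm C v u ≠ 0)
    (huu : herm C u u = 0) : Nat.card ↥(planeStab C p u v) ∣ 15 := by
  classical
  have : Fact (Nat.Prime 5) := ⟨by norm_num⟩
  have hF : Fintype.card F = 4 := by rw [C.card, hC]; rfl
  obtain ⟨hsplit, -⟩ := hp.split C
  obtain ⟨ω, hω0, hω1, hω⟩ := exists_omega C hC
  set g := chainProd C p
  have hgu := chainProd_fix C hC hp hu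
  have hgv := chainProd_fix C hC hp hv
  set P := Submodule.span F (Set.range p) with hP
  have hPo : ∀ x ∈ P, herm C x u = 0 ∧ herm C x v = 0 := by
    intro x hx
    obtain ⟨c, rfl⟩ := Submodule.mem_span_range_iff_exists_fun F |>.1 hx
    have e : ∀ {z}, z ∈ orthSub C p → ∀ i, herm C (p i) z = 0 := fun hz i => by
      rw [← conj_herm, (mem_orthSub C).1 hz i, map_zero]
    constructor <;> simp [Fin.sum_univ_four, herm_add_left, herm_smul_left, e hu, e hv]
  have hmemP : ∀ x, herm C x u = 0 → herm C x v = 0 → x ∈ P := by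
    intro x h1 h2
    obtain ⟨o, ho, s, hs, rfl⟩ := Submodule.mem_sup.1 (hsplit.sup_eq_top.symm ▸ Submodule.mem_top : x ∈ _)
    obtain ⟨a, b, rfl⟩ := huv o ho
    obtain ⟨s1, s2⟩ := hPo s hs
    rw [herm_add_left, herm_add_left, herm_smul_left, herm_smul_left, huu, s1, mul_zero, zero_add, add_zero]
      at h1
    have hb : b = 0 := (mul_eq_zero.1 h1).resolve_right hvu
    rw [hb, zero_smul, add_zero, herm_add_left, herm_smul_left, s2, add_zero] at h2
    have huv' : herm C u v ≠ 0 := fun h0 => hvu (by rw [← conj_herm, h0, map_zero])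
    rw [(mul_eq_zero.1 h2).resolve_right huv', hb]
    simpa using hs
  have hLP : ∀ h ∈ planeStab C p u v, ∀ x ∈ P, app C h x ∈ P := by
    intro h hh x hx
    obtain ⟨-, α, a1, a2⟩ := hh
    obtain ⟨x1, x2⟩ := hPo x hx
    have hα : α ≠ 0 := fun h0 => hu0 (by
      rw [← app_inv_app C h u, a1, h0, zero_smul]; simp [app])
    refine hmemP _ ?_ ?_
    · have h3 : herm C (app C h x) (app C h u) = 0 := by rw [herm_app, x1]
      rw [a1, herm_smul_right] at h3
      exact (mul_eq_zero.1 h3).resolve_left ((map_ne_zero C.σ).2 hα)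
    · have h3 : herm C (app C h x) (app C h v) = 0 := by rw [herm_app, x2]
      rw [a2, herm_smul_right] at h3
      exact (mul_eq_zero.1 h3).resolve_left ((map_ne_zero C.σ).2 hα)
  have hgL : g ∈ planeStab C p u v := ⟨Commute.refl g, 1, by rw [hgu, one_smul], by rw [hgv, one_smul]⟩
  have hgP := hLP g hgL
  have hfix0 : ∀ x ∈ P, app C g x = x → x = 0 := fun x hx he =>
    Submodule.disjoint_def.1 hsplit.1 x ((mem_orthSub C).2 (fixed_orth C hC hp he)) hx
  let A : F → (V6 →ₗ[F] V6) := fun w => lin C (g ^ 2) + w • lin C g + LinearMap.id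
  have hA : ∀ w x, A w x = app C (g ^ 2) x + w • app C g x + x := fun w x => rfl
  have hAcomm : ∀ w {h : suG C I6}, Commute h g → ∀ x, A w (app C h x) = app C h (A w x) := fun w h hc x => by
    simp only [hA, app_add, app_smul, ← app_mul, (hc.pow_right 2).eq, hc.eq]
  have hAP : ∀ w, ∀ x ∈ P, A w x ∈ P := fun w x hx => by
    rw [hA]
    refine add_mem (add_mem ?_ (P.smul_mem _ (hgP x hx))) hx
    rw [pow_two, app_mul]; exact hgP _ (hgP x hx)
  have h5 : g ^ 5 = 1 := chainProd_pow_five C hC hp
  have ap : ∀ (i j : ℕ) (x : V6), app C (g ^ i) (app C (g ^ j) x) = app C (g ^ (i + j)) x :=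
    fun i j x => by rw [pow_add, app_mul]
  have a5 : ∀ x : V6, app C (g ^ 5) x = x := fun x => by rw [h5, app_one]
  have g1 : app C g = app C (g ^ 1) := by rw [pow_one]
  have h2z := two_eq_zero C hC
  have hω3 := U62.pow_three C hC hω0
  have hzero : ∀ w w' : F, w + w' = 1 → w * w' = 1 → ∀ x ∈ P, A w (A w' x) = 0 := by
    intro w w' hs hm x hx
    have hsum : A w (A w' x) = app C (g ^ 4) x + app C (g ^ 3) x + app C (g ^ 2) x + app C g x + x := by
      rw [hA, hA, g1]
      simp only [app_add, app_smul, ap, Nat.reduceAdd]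
      funext i
      simp only [Pi.add_apply, Pi.smul_apply, smul_eq_mul]
      linear_combination (app C (g ^ 3) x i + app C (g ^ 1) x i) * hs + app C (g ^ 2) x i * hm +
        app C (g ^ 2) x i * h2z
    refine hfix0 _ (hAP _ _ (hAP _ _ hx)) ?_
    rw [hsum, g1]
    simp only [app_add, ap, Nat.reduceAdd, a5]
    abel
  set W1 := LinearMap.ker (A ω) ⊓ P with hW1
  set W2 := LinearMap.ker (A (ω ^ 2)) ⊓ P with hW2
  have hsum2 : ω + ω ^ 2 = 1 := by linear_combination hω - h2z
  have hgen : ∀ x ∈ P, x = A ω (app C (g ^ 4) x) + A (ω ^ 2) (app C (g ^ 4) x) := by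
    intro x hx
    rw [hA, hA, g1]
    simp only [ap, Nat.reduceAdd, a5]
    funext i
    simp only [Pi.add_apply, Pi.smul_apply, smul_eq_mul]
    linear_combination -(x i) * hsum2 - (app C (g ^ 6) x i + app C (g ^ 4) x i) * h2z
  have hg4 : ∀ x ∈ P, app C (g ^ 4) x ∈ P := fun x hx => by
    exact hLP _ (pow_mem hgL 4) x hx
  have hWsum : ∀ x ∈ P, ∃ a ∈ W1, ∃ b ∈ W2, x = a + b := fun x hx =>
    ⟨A (ω ^ 2) (app C (g ^ 4) x), ⟨hzero ω (ω ^ 2) hsum2 (by rw [← pow_succ']; exact hω3) _ (hg4 x hx),
      hAP _ _ (hg4 x hx)⟩,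
      A ω (app C (g ^ 4) x), ⟨hzero (ω ^ 2) ω (by rw [add_comm]; exact hsum2)
        (by rw [← pow_succ]; exact hω3) _ (hg4 x hx), hAP _ _ (hg4 x hx)⟩,
      by rw [add_comm]; exact hgen x hx⟩
  have hadj : ∀ w x y, C.σ w = w ^ 2 → herm C (A w x) y = herm C x (app C (g ^ 3) (A (w ^ 2) y)) := by
    intro w x y hw
    have e : ∀ i j : ℕ, i + j = 5 → herm C (app C (g ^ i) x) y = herm C x (app C (g ^ j) y) :=
      fun i j hij => by rw [← herm_app C (g ^ j), ap, add_comm j i, hij, a5]
    rw [hA, hA, g1]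
    simp only [app_add, app_smul, ap, herm_add_left, herm_add_right, herm_smul_left, herm_smul_right,
      Nat.reduceAdd, a5, map_pow, e 2 3 rfl, e 1 4 rfl]
    rw [hw, show (w ^ 2) ^ 2 = w by
      by_cases h0 : w = 0
      · rw [h0]; ring
      · rw [show (w ^ 2) ^ 2 = w * w ^ 3 by ring, U62.pow_three C hC h0, mul_one]]
    ring
  have hiso : ∀ w w' : F, w ^ 2 = w' → w' ^ 2 = w →
      (∀ x ∈ LinearMap.ker (A w) ⊓ P, ∃ z, x = A w' z) →
      ∀ x ∈ LinearMap.ker (A w) ⊓ P, ∀ y ∈ LinearMap.ker (A w) ⊓ P, herm C x y = 0 := by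
    intro w w' hw hw' hrep x hx y hy
    obtain ⟨z, rfl⟩ := hrep x hx
    rw [hadj w' z y (sigma_eq C hC _), hw', LinearMap.mem_ker.1 hy.1]
    simp [app, herm_zero_right]
  have hω4 : (ω ^ 2) ^ 2 = ω := by rw [show (ω ^ 2) ^ 2 = ω * ω ^ 3 by ring, hω3, mul_one]
  have i1 : ∀ x ∈ W1, ∀ y ∈ W1, herm C x y = 0 := hiso ω (ω ^ 2) rfl hω4 fun x hx =>
    ⟨app C (g ^ 4) x, by
      conv_lhs => rw [hgen x hx.2, hAcomm _ ((Commute.refl g).pow_left 4), LinearMap.mem_ker.1 hx.1]
      simp [app]⟩
  have i2 : ∀ x ∈ W2, ∀ y ∈ W2, herm C x y = 0 := hiso (ω ^ 2) ω hω4 rfl fun x hx =>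
    ⟨app C (g ^ 4) x, by
      conv_lhs => rw [hgen x hx.2, hAcomm (ω ^ 2) ((Commute.refl g).pow_left 4), LinearMap.mem_ker.1 hx.1]
      simp [app]⟩
  have hdisjW : ∀ x ∈ W1, x ∈ W2 → x = 0 := fun x h1 h2 => by
    rw [hgen x h1.2, hAcomm _ ((Commute.refl g).pow_left 4), hAcomm _ ((Commute.refl g).pow_left 4),
      LinearMap.mem_ker.1 h1.1, LinearMap.mem_ker.1 h2.1]
    simp [app]
  have hp0 : ∀ i, p i ∈ P := fun i => Submodule.subset_span ⟨i, rfl⟩
  have invW : ∀ w {h : suG C I6}, h ∈ planeStab C p u v → ∀ x ∈ LinearMap.ker (A w) ⊓ P,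
      app C h x ∈ LinearMap.ker (A w) ⊓ P := fun w h hh x hx =>
    ⟨LinearMap.mem_ker.2 (by rw [hAcomm w hh.1, LinearMap.mem_ker.1 hx.1]; simp [app]), hLP h hh x hx.2⟩
  have hmod : ∀ U : Submodule F V6, U ≤ P → (∀ x ∈ U, app C g x ∈ U) →
      Module.finrank F U = 0 ∨ Module.finrank F U = 2 ∨ Module.finrank F U = 4 := by
    intro U hU hinv
    have h1 := modEq_of_invariant C h5 U hinv fun x hx he => hfix0 x (hU hx) he
    have h3 : Module.finrank F U ≤ 4 := (Submodule.finrank_mono hU).trans
      (by rw [hP, finrank_span_eq_card (hp.li C)]; simp)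
    rw [hF, Nat.ModEq] at h1
    interval_cases Module.finrank F U <;> simp at h1 ⊢
  have hsumdim : Module.finrank F W1 + Module.finrank F W2 = 4 := by
    have h1 := Submodule.finrank_sup_add_finrank_inf_eq W1 W2
    have h2 : W1 ⊓ W2 = ⊥ := (Submodule.eq_bot_iff _).2 fun x hx => hdisjW x hx.1 hx.2
    have h3 : W1 ⊔ W2 = P := le_antisymm (sup_le inf_le_right inf_le_right) fun x hx => by
      obtain ⟨a, ha, b, hb, rfl⟩ := hWsum x hx
      exact Submodule.add_mem_sup ha hb
    rw [h2, finrank_bot, add_zero, h3, hP, finrank_span_eq_card (hp.li C)] at h1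
    simpa using h1.symm
  have hd1 : Module.finrank F W1 = 2 := by
    rcases hmod W1 inf_le_right (invW _ hgL) with h0 | h0 | h0
    · exfalso
      have hb := Submodule.finrank_eq_zero.1 h0
      have hW2P : ∀ x ∈ P, x ∈ W2 := fun x hx => by
        obtain ⟨a, ha, b, hb', rfl⟩ := hWsum x hx
        rwa [(Submodule.eq_bot_iff _).1 hb a ha, zero_add]
      exact hp.adj01 (i2 _ (hW2P _ (hp0 0)) _ (hW2P _ (hp0 1)))
    · exact h0
    · exfalso
      have hW1P : W1 = P := Submodule.eq_of_le_of_finrank_eq inf_le_right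
        (by rw [h0, hP, finrank_span_eq_card (hp.li C)]; rfl)
      exact hp.adj01 (i1 _ (hW1P.symm ▸ hp0 0) _ (hW1P.symm ▸ hp0 1))
  letI : MulAction ↥(planeStab C p u v) {w : V6 // w ∈ W1 ∧ w ≠ 0} :=
    { smul := fun h w => ⟨app C h.1 w.1, invW _ h.2 _ w.2.1, fun h0 => w.2.2 (by
        rw [← app_inv_app C h.1 w.1, h0]; exact (lin C _).map_zero)⟩
      one_smul := fun x => Subtype.ext (app_one C _)
      mul_smul := fun a b x => Subtype.ext (app_mul C _ _ _) }
  have hst : ∀ w : {w : V6 // w ∈ W1 ∧ w ≠ 0}, MulAction.stabilizer ↥(planeStab C p u v) w = ⊥ := by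
    intro w
    rw [Subgroup.eq_bot_iff_forall]
    intro h hh
    have hw : app C (h : suG C I6) w = w := congrArg Subtype.val hh
    set U := W1 ⊓ fixSub C (h : suG C I6) with hUdef
    have hU : U = W1 := by
      refine Submodule.eq_of_le_of_finrank_eq inf_le_left ?_
      have hle : Module.finrank F U ≤ 2 := hd1 ▸ Submodule.finrank_mono inf_le_left
      rcases hmod U (inf_le_left.trans inf_le_right) (fun x hx => ⟨invW _ hgL x hx.1,
        (app_mem_of_commute C h.2.1.symm).1 hx.2⟩) with h0 | h0 | h0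
      · exact absurd ((Submodule.eq_bot_iff _).1 (Submodule.finrank_eq_zero.1 h0) _
          ⟨w.2.1, (mem_fixSub C).2 hw⟩) w.2.2
      · rw [h0, hd1]
      · omega
    have hW1fix : ∀ x ∈ W1, app C (h : suG C I6) x = x := fun x hx =>
      (mem_fixSub C).1 (hU.symm ▸ hx : x ∈ U).2
    have hW2fix : ∀ y ∈ W2, app C (h : suG C I6) y = y := by
      intro y hy
      by_contra hne
      obtain ⟨z, hz⟩ := exists_herm_eq C (sub_ne_zero.2 hne) 1
      obtain ⟨o, ho, s, hs, rfl⟩ := Submodule.mem_sup.1 (hsplit.sup_eq_top.symm ▸ Submodule.mem_top : z ∈ _)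
      obtain ⟨a, ha, b, hb, rfl⟩ := hWsum s hs
      have hd := sub_mem (invW _ h.2 y hy) hy
      have h1 : herm C a (app C (h : suG C I6) y - y) = 0 := by
        rw [herm_sub_right]
        conv_lhs => arg 1; rw [← hW1fix a ha]
        rw [herm_app, sub_self]
      have h3 : herm C o (app C (h : suG C I6) y - y) = 0 := by
        obtain ⟨c, hc⟩ := Submodule.mem_span_range_iff_exists_fun F |>.1 hd.2
        rw [← hc]
        simp [Fin.sum_univ_four, herm_add_right, herm_smul_right, (mem_orthSub C).1 ho]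
      rw [herm_add_left, herm_add_left, h1, i2 b hb _ hd, h3, add_zero, add_zero] at hz
      exact zero_ne_one hz
    have hPfix : ∀ x ∈ P, app C (h : suG C I6) x = x := fun x hx => by
      obtain ⟨a, ha, b, hb, rfl⟩ := hWsum x hx
      rw [app_add, hW1fix a ha, hW2fix b hb]
    obtain ⟨-, α, hα1, hα2⟩ := h.2
    let b0 : Fin 2 ⊕ Fin 4 → V6 := Sum.elim ![u, v] p
    have hli : LinearIndependent F b0 := by
      rw [Fintype.linearIndependent_iff]
      intro c hc
      simp only [Fintype.sum_sum_type, b0, Sum.elim_inl, Sum.elim_inr, Fin.sum_univ_two,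
        Matrix.cons_val_zero, Matrix.cons_val_one] at hc
      have hs : ∑ i, c (Sum.inr i) • p i ∈ P := Submodule.sum_mem _ fun i _ => P.smul_mem _ (hp0 i)
      have hz1 : c (Sum.inl 0) • u + c (Sum.inl 1) • v = 0 :=
        Submodule.disjoint_def.1 hsplit.1 _
          (add_mem ((orthSub C p).smul_mem _ hu) ((orthSub C p).smul_mem _ hv))
          (by rw [eq_neg_of_add_eq_zero_left hc]; exact neg_mem hs)
      rw [hz1, zero_add] at hc
      have hb := Fintype.linearIndependent_iff.1 (hp.li C) (fun i => c (Sum.inr i)) hc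
      have h1 : c (Sum.inl 1) = 0 := by
        have := congrArg (fun z => herm C z u) hz1
        simpa [herm_add_left, herm_smul_left, herm_zero_left, huu, hvu] using this
      rw [h1, zero_smul, add_zero] at hz1
      have h0 := (smul_eq_zero.1 hz1).resolve_right hu0
      intro i
      rcases i with i | i
      · fin_cases i; exacts [h0, h1]
      · exact hb i
    let b := basisOfLinearIndependentOfCardEqFinrank hli (by simp)
    have hdet := LinearMap.det_toMatrix b (lin C (h : suG C I6))
    have hM : LinearMap.toMatrix b b (lin C (h : suG C I6)) = Matrix.diagonal (Sum.elim (fun _ => α) (fun _ => 1)) := by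
      have eb : ⇑b = b0 := coe_basisOfLinearIndependentOfCardEqFinrank _ _
      have img : ∀ j, lin C (h : suG C I6) (b j) = (Sum.elim (fun _ => α) (fun _ => 1) j : F) • b j := by
        intro j
        rw [eb]
        rcases j with j | j
        · fin_cases j <;> simp [b0, lin_apply, hα1, hα2]
        · simp [b0, lin_apply, hPfix _ (hp0 j)]
      ext i j
      rw [LinearMap.toMatrix_apply, img, map_smul, Module.Basis.repr_self, Matrix.diagonal_apply]
      by_cases hij : i = j
      · subst hij; simp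
      · simp [hij, Finsupp.single_apply, Ne.symm hij]
    rw [hM, Matrix.det_diagonal, show LinearMap.det (lin C (h : suG C I6)) = 1 by
      rw [show lin C (h : suG C I6) = Matrix.toLin' (h : suG C I6).1.1 from rfl, LinearMap.det_toLin']
      exact (h : suG C I6).1.2, Fintype.prod_sum_type] at hdet
    simp [Fin.prod_univ_two] at hdet
    have hα : α = 1 := hdet.elim id fun h1 => h1.trans (U62.neg_eq C hC 1)
    refine Subtype.ext (suG_ext C fun x => ?_)
    obtain ⟨o, ho, s, hs, rfl⟩ := Submodule.mem_sup.1 (hsplit.sup_eq_top.symm ▸ Submodule.mem_top : x ∈ _)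
    obtain ⟨a, c, rfl⟩ := huv o ho
    show app C (h : suG C I6) _ = app C 1 _
    rw [app_one, app_add, app_add, app_smul, app_smul, hα1, hα2, hPfix s hs, hα, one_smul, one_smul]
  have hcard : Nat.card {w : V6 // w ∈ W1 ∧ w ≠ 0} = 15 := by
    have h1 : Nat.card ↥W1 = 16 := by
      rw [Module.natCard_eq_pow_finrank (K := F), Nat.card_eq_fintype_card, hF, hd1]; rfl
    have h3 : ({w : V6 | w ∈ W1 ∧ w ≠ 0}) = (W1 : Set V6) \ {0} := by ext; simp
    show Nat.card ↥({w : V6 | w ∈ W1 ∧ w ≠ 0}) = 15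
    rw [Nat.card_coe_set_eq, h3, Set.ncard_sdiff_singleton_of_mem (zero_mem _), ← Nat.card_coe_set_eq]
    exact (congrArg (· - 1) h1).trans rfl
  rw [← hcard, Nat.card_congr (MulAction.selfEquivOrbitsQuotientProd hst), Nat.card_prod]
  exact dvd_mul_left _ _

end CfsgLib.U62
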