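import Cfsg.Agent.FischerTypes.M22PrimeLocal
import Cfsg.Agent.FischerTypes.U62Chain
import Cfsg.Agent.FischerTypes.M22Line
import Mathlib.GroupTheory.SpecificGroups.Alternating.Simple

/-!
# Elements of order five in type M(22)

A product `x` of a chain of four members commutes with the ten members commuting with the whole chain; these
generate a symmetric group of degree five.
-/

set_option autoImplicit false
set_option maxHeartbeats 1000000

namespace CfsgLib.FischerTypes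

open Cfsg CfsgLib.U62 CfsgLib.RepBounds.Unit

variable {G : Type*} [Group G] {D : Set G}

/-- Four members, consecutive ones non-commuting, the others commuting. -/
structure MemberChain (D : Set G) (a : Fin 4 → G) : Prop where
  mem : ∀ i, a i ∈ D
  nc01 : ¬ Commute (a 0) (a 1)
  nc12 : ¬ Commute (a 1) (a 2)
  nc23 : ¬ Commute (a 2) (a 3)
  c02 : Commute (a 0) (a 2)
  c03 : Commute (a 0) (a 3)
  c13 : Commute (a 1) (a 3)

/-- The product of a chain. -/
def five (a : Fin 4 → G) : G := a 0 * a 1 * a 2 * a 3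

theorem five_commute {a : Fin 4 → G} {z : G} (hz : ∀ i, Commute z (a i)) : Commute z (five a) :=
  (((hz 0).mul_right (hz 1)).mul_right (hz 2)).mul_right (hz 3)

/-- The five-cycle. -/
def cycFive : Equiv.Perm (Fin 5) := Equiv.swap 0 1 * Equiv.swap 1 2 * Equiv.swap 2 3 * Equiv.swap 3 4

theorem cycFive_facts : cycFive ^ 5 = 1 ∧ cycFive ≠ 1 ∧
    cycFive * Equiv.swap (0 : Fin 5) 1 ≠ Equiv.swap 0 1 * cycFive := by
  decide

section chain

variable (h : IsThreeTranspositionGroup D) {a : Fin 4 → G} (ha : MemberChain D a)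
include h ha

theorem MemberChain.exists_perm_hom : ∃ φ : Equiv.Perm (Fin 5) →* G, Function.Injective φ ∧
    (∀ i : Fin 4, φ (Equiv.swap i.castSucc i.succ) = a i) ∧ φ cycFive = five a ∧
    φ.range = Subgroup.closure (Set.range a) := by
  let t : ℕ → G := fun i => if hi : i < 4 then a ⟨i, hi⟩ else 1
  have ht : CfsgLib.CoxeterSym.IsSymGens 4 t := by
    refine ⟨fun i hi => ?_, fun i hi => ?_, fun i j hij hj => ?_⟩
    · simp only [t, hi, dif_pos]; exact mul_self h.1 (ha.mem _)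
    · have hi3 : i < 3 := by omega
      simp only [t, hi, show i < 4 by omega, dif_pos]
      refine braid h.1 (ha.mem _) (ha.mem _) ?_
      interval_cases i
      exacts [ha.nc01, ha.nc12, ha.nc23]
    · have hi2 : i < 2 := by omega
      have hj4 : j < 4 := hj
      simp only [t, hj, show i < 4 by omega, dif_pos]
      interval_cases j <;> interval_cases i <;> first | omega | exact ha.c02.eq | exact ha.c03.eq | exact ha.c13.eq
  obtain ⟨φ, hφ⟩ := CfsgLib.CoxeterSym.exists_hom ht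
  have hφa : ∀ i : Fin 4, φ (Equiv.swap i.castSucc i.succ) = a i := fun i =>
    (hφ i).trans (by simp only [t, i.isLt, dif_pos, Fin.eta])
  refine ⟨φ, ?_, hφa, ?_, ?_⟩
  · rw [← MonoidHom.ker_eq_bot_iff]
    by_contra hne
    have hle := Equiv.Perm.alternatingGroup_le_of_normal (N := φ.ker) (by simp)
      ((Subgroup.nontrivial_iff_ne_bot _).2 hne)
    have hm : Equiv.swap (Fin.castSucc (0 : Fin 4)) (0 : Fin 4).succ *
        Equiv.swap (Fin.castSucc (1 : Fin 4)) (1 : Fin 4).succ ∈ alternatingGroup (Fin 5) := by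
      rw [Equiv.Perm.mem_alternatingGroup]; decide
    have h1 := hle hm
    rw [MonoidHom.mem_ker, map_mul, hφa, hφa, mul_eq_one_iff_eq_inv, inv_eq h.1 (ha.mem 1)] at h1
    exact ha.nc01 (h1 ▸ Commute.refl _)
  · rw [five, cycFive, map_mul, map_mul, map_mul, ← hφa 0, ← hφa 1, ← hφa 2, ← hφa 3]
    rfl
  · rw [MonoidHom.range_eq_map, ← Equiv.Perm.mclosure_swap_castSucc_succ 4 |> fun e =>
      (show Subgroup.closure (Set.range fun i : Fin 4 => Equiv.swap i.castSucc i.succ) = ⊤ from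
        Subgroup.eq_top_iff' _ |>.2 fun x => by
          have hx : x ∈ Submonoid.closure (Set.range fun i : Fin 4 => Equiv.swap i.castSucc i.succ) := e ▸ trivial
          exact Submonoid.closure_le.2 Subgroup.subset_closure hx), MonoidHom.map_closure]
    congr 1
    rw [← Set.range_comp]
    exact congrArg Set.range (funext hφa)

theorem MemberChain.five_props : five a ^ 5 = 1 ∧ orderOf (five a) = 5 ∧ ¬ Commute (five a) (a 0) := by
  obtain ⟨φ, hinj, hφa, hc, -⟩ := ha.exists_perm_hom h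
  obtain ⟨c5, c1, c01⟩ := cycFive_facts
  have : Fact (Nat.Prime 5) := ⟨by norm_num⟩
  refine ⟨by rw [← hc, ← map_pow, c5, map_one], ?_, ?_⟩
  · rw [← hc, orderOf_injective φ hinj]
    exact orderOf_eq_prime c5 c1
  · intro hh
    apply c01
    refine hinj ?_
    rw [map_mul, map_mul, hc, show φ (Equiv.swap (0 : Fin 5) 1) = a 0 from hφa 0]
    exact hh.eq

end chain

variable [Finite G] (h : IsThreeTranspositionGroup D) (hp : IsPrimitiveUnderConj D) (h22 : IsOfTypeM22 G D)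

/-- Every member has a chain in its perp. -/
theorem exists_memberChain (h : IsThreeTranspositionGroup D) (h22 : IsOfTypeM22 G D) {e : G} (he : e ∈ D) :
    ∃ a : Fin 4 → G, MemberChain D a ∧ ∀ i, a i ∈ perp D e := by
  obtain ⟨M⟩ := exists_perpModel h h22 he
  let p : Fin 4 → (I6 → M.K) := ![vE M.C _, vF M.C _, vE M.C _ + inW (vE M.C (Fin 2)), inW (vF M.C (Fin 2))]
  have e1 := herm_vE_vE M.C (κ := Fin 2 ⊕ Fin 2)
  have e2 := herm_vF_vF M.C (κ := Fin 2 ⊕ Fin 2)
  have e3 := herm_vE_vE M.C (κ := Fin 2)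
  have e4 := herm_vF_vF M.C (κ := Fin 2)
  have iso : ∀ i, herm M.C (p i) (p i) = 0 := by
    intro i
    fin_cases i <;> simp [p, herm_add_left, herm_add_right, herm_inW, herm_vE_inW, herm_inW_vE, e1, e2, e3, e4]
  have hn : herm M.C (p 0) (p 1) = 1 ∧ herm M.C (p 1) (p 2) = 1 ∧ herm M.C (p 2) (p 3) = 1 ∧
      herm M.C (p 0) (p 2) = 0 ∧ herm M.C (p 0) (p 3) = 0 ∧ herm M.C (p 1) (p 3) = 0 := by
    refine ⟨?_, ?_, ?_, ?_, ?_, ?_⟩ <;>
      simp [p, herm_add_left, herm_add_right, herm_inW, herm_vE_inW, herm_vF_inW, herm_inW_vE, e1, e2, e3, e4,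
        herm_vE_vF, herm_vF_vE]
  obtain ⟨h01, h12, h23, h02, h03, h13⟩ := hn
  have p0 : ∀ i, p i ≠ 0 := fun i h0 => by
    fin_cases i <;> simp only [Fin.mk_zero, Fin.mk_one, Fin.zero_eta, Fin.reduceFinMk] at h0
    · rw [h0, herm_zero_left] at h01; exact zero_ne_one h01
    · rw [h0, herm_zero_left] at h12; exact zero_ne_one h12
    · rw [h0, herm_zero_left] at h23; exact zero_ne_one h23
    · rw [h0, herm_zero_right] at h23; exact zero_ne_one h23
  choose a ha hap using fun i => M.exists_mem (iso i) (p0 i)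
  have cm : ∀ i j, Commute (a i) (a j) ↔ herm M.C (p j) (p i) = 0 := fun i j =>
    M.commute_iff (ha i) (ha j) (iso i) (iso j) (p0 j) (hap i) (hap j)
  have sw : ∀ {x y : I6 → M.K}, herm M.C x y = 0 → herm M.C y x = 0 := fun hxy => by
    rw [← conj_herm, hxy, map_zero]
  refine ⟨a, ⟨fun i => (ha i).1, fun hc => ?_, fun hc => ?_, fun hc => ?_, ?_, ?_, ?_⟩, ha⟩
  · exact one_ne_zero (h01.symm.trans (sw ((cm 0 1).1 hc)))
  · exact one_ne_zero (h12.symm.trans (sw ((cm 1 2).1 hc)))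
  · exact one_ne_zero (h23.symm.trans (sw ((cm 2 3).1 hc)))
  · exact (cm 0 2).2 (sw h02)
  · exact (cm 0 3).2 (sw h03)
  · exact (cm 1 3).2 (sw h13)

include h hp h22

omit hp in
/-- The members commuting with a member `z` and with a chain in its perp: `z` and a line. -/
theorem exists_nbrs {a : Fin 4 → G} (ha : MemberChain D a) {z : G} (hz : z ∈ D)
    (hza : ∀ i, Commute z (a i)) :
    ∃ q q', q ∈ perp D z ∧ q' ∈ perp D z ∧ ¬ Commute q q' ∧ (∀ i, Commute q (a i)) ∧ (∀ i, Commute q' (a i)) ∧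
      ∀ w ∈ perp D z, Commute w (five a) → w = q ∨ w = q' ∨ w = q * q' * q := by
  have hap : ∀ i, a i ∈ perp D z := by
    intro i
    refine ⟨ha.mem i, fun he => ?_, hza i⟩
    fin_cases i <;> simp only [Fin.mk_zero, Fin.mk_one, Fin.zero_eta, Fin.reduceFinMk] at he
    exacts [ha.nc01 (he ▸ hza 1), ha.nc12 (he ▸ hza 2), ha.nc23 (he ▸ hza 3), ha.nc23 (he ▸ hza 2).symm]
  obtain ⟨M⟩ := exists_perpModel h h22 hz
  choose p p1 p2 p3 using fun i => M.exists_pt (hap i)
  have cm : ∀ i j, Commute (a i) (a j) ↔ herm M.C (p j) (p i) = 0 := fun i j =>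
    M.commute_iff (hap i) (hap j) (p1 i) (p1 j) (p2 j) (p3 i) (p3 j)
  have sw : ∀ {x y : I6 → M.K}, herm M.C x y = 0 → herm M.C y x = 0 := fun hxy => by
    rw [← conj_herm, hxy, map_zero]
  have hch : IsChain4 M.C p := ⟨p1, fun h0 => ha.nc01 ((cm 0 1).2 (sw h0)),
    fun h0 => ha.nc12 ((cm 1 2).2 (sw h0)), fun h0 => ha.nc23 ((cm 2 3).2 (sw h0)),
    sw ((cm 0 2).1 ha.c02), sw ((cm 0 3).1 ha.c03), sw ((cm 1 3).1 ha.c13)⟩
  obtain ⟨u, v, hu, hv, hvu, huo, hvo, hu0, hv0, hspan⟩ := hch.exists_plane M.C M.hq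
  obtain ⟨q, hq, hqu⟩ := M.exists_mem hu hu0
  obtain ⟨q', hq', hqv⟩ := M.exists_mem hv hv0
  have hqa : ∀ i, Commute q (a i) := fun i =>
    (M.commute_iff hq (hap i) hu (p1 i) (p2 i) hqu (p3 i)).2 (sw ((mem_orthSub M.C).1 huo i))
  have hq'a : ∀ i, Commute q' (a i) := fun i =>
    (M.commute_iff hq' (hap i) hv (p1 i) (p2 i) hqv (p3 i)).2 (sw ((mem_orthSub M.C).1 hvo i))
  refine ⟨q, q', hq, hq', fun hc => hvu ((M.commute_iff hq hq' hu hv hv0 hqu hqv).1 hc), hqa, hq'a,
    fun w hw hwf => ?_⟩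
  obtain ⟨r, hr, hr0, hwr⟩ := M.exists_pt hw
  have hmem : five a ∈ Subgroup.closure (perp D z) :=
    mul_mem (mul_mem (mul_mem (mem_perp_closure (hap 0)) (mem_perp_closure (hap 1))) (mem_perp_closure (hap 2)))
      (mem_perp_closure (hap 3))
  have hθ : M.θ (chainProd M.C p) =
      QuotientGroup.mk (⟨five a, hmem⟩ : ↥(Subgroup.closure (perp D z))) := by
    rw [chainProd, map_mul, map_mul, map_mul, ← p3, ← p3, ← p3, ← p3]
    rfl
  have hfix : ∃ c : M.K, app M.C (chainProd M.C p) r = c • r := by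
    have h1 : Commute (⟨w, mem_perp_closure hw⟩ : ↥(Subgroup.closure (perp D z))) ⟨five a, hmem⟩ :=
      Subtype.ext hwf.eq
    have h2 : M.θ (tv M.C (app M.C (chainProd M.C p) r)) = M.θ (tv M.C r) := by
      rw [← conj_tv M.C M.hq _ hr, map_mul, map_mul, map_inv, hθ, ← hwr]
      exact mul_inv_eq_iff_eq_mul.2 (h1.symm.map (QuotientGroup.mk' _)).eq
    obtain ⟨c, -, hc⟩ := eq_smul_of_map_eq M.C M.hq M.θ M.hker hr (by rw [herm_app, hr])
      (fun h0 => hr0 (by rw [← app_inv_app M.C (chainProd M.C p) r, h0]; simp [app])) h2.symm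
    exact ⟨c, hc⟩
  obtain ⟨c, hc⟩ := hfix
  obtain ⟨α, β, hαβ⟩ := hspan r ((mem_orthSub M.C).2 (eigen_orth M.C M.hq hch hr0 hc))
  by_cases hru : herm M.C r u = 0
  · left
    rw [hαβ, herm_add_left, herm_smul_left, herm_smul_left, hu, mul_zero, zero_add] at hru
    rw [(mul_eq_zero.1 hru).resolve_right hvu, zero_smul, add_zero] at hαβ
    exact (M.eq_of_smul hq hw hu hr0 hqu hwr hαβ).symm
  rcases eq_or_eq_tv_of_perp M.C M.hq hu hv hr hvu hru (fun s _ hsu hsv => by
      rw [hαβ, herm_add_right, herm_smul_right, herm_smul_right, hsu, hsv, mul_zero, mul_zero, add_zero]) with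
    ⟨b, hb⟩ | ⟨b, hb⟩
  · exact Or.inr (Or.inl (M.eq_of_smul hq' hw hv hr0 hqv hwr hb).symm)
  · refine Or.inr (Or.inr ?_)
    have hqq : q * q' * q⁻¹ ∈ perp D z := conj_mem_perp h hq.2.2.symm hq'
    have hbar : bar hqq = M.θ (tv M.C (app M.C (tv M.C u) v)) := by
      have e1 : bar hqq = bar hq * bar hq' * (bar hq)⁻¹ := rfl
      rw [e1, hqu, hqv, ← map_inv, ← map_mul, ← map_mul, conj_tv M.C M.hq _ hv]
    rw [← M.eq_of_smul hqq hw (by rw [herm_app, hv]) hr0 hbar hwr hb, inv_eq h.1 hq.1]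

omit hp in
theorem commute_chain_of_commute_five {a : Fin 4 → G} (ha : MemberChain D a) {z w : G} (hz : z ∈ D)
    (hza : ∀ i, Commute z (a i)) (hw : w ∈ D) (hzw : Commute z w) (hwf : Commute w (five a)) :
    ∀ i, Commute w (a i) := by
  by_cases hwz : w = z
  · exact hwz ▸ hza
  obtain ⟨q, q', -, -, -, hqa, hq'a, hline⟩ := exists_nbrs h h22 ha hz hza
  rcases hline w ⟨hw, hwz, hzw⟩ hwf with rfl | rfl | rfl
  exacts [hqa, hq'a, fun i => ((hqa i).mul_left (hq'a i)).mul_left (hqa i)]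

/-- The members commuting with the product commute with the chain; there are ten. -/
theorem five_fixed {a : Fin 4 → G} (ha : MemberChain D a) {e : G} (he : e ∈ D) (hea : ∀ i, Commute e (a i)) :
    {z : G | z ∈ D ∧ Commute z (five a)}.ncard = 10 ∧
      (∀ z ∈ D, Commute z (five a) → ∀ i, Commute z (a i)) ∧
      ∃ b : Fin 4 → G, MemberChain D b ∧ (∀ j i, Commute (b j) (a i)) ∧
        ∀ z ∈ D, Commute z (five a) → z ∈ Subgroup.closure (Set.range b) := by
  classical
  have : Fact (Nat.Prime 5) := ⟨by norm_num⟩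
  obtain ⟨hx5, hxo, -⟩ := ha.five_props h
  have hex : Commute e (five a) := five_commute hea
  obtain ⟨q₁, q₂, hq₁, hq₂, hq12, hq₁a, hq₂a, hQ⟩ := exists_nbrs h h22 ha he hea
  have hi : ∀ {x : G}, x ∈ D → x⁻¹ = x := fun hx => inv_eq h.1 hx
  have hcD : ∀ {u v : G}, u ∈ D → v ∈ D → u * v * u ∈ D := fun {u v} hu hv => by
    have := h.2.1 u v hv; rwa [hi hu] at this
  set q₃ := q₁ * q₂ * q₁ with hq3
  have hq₃a : ∀ i, Commute q₃ (a i) := fun i => ((hq₁a i).mul_left (hq₂a i)).mul_left (hq₁a i)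
  have hq₃ : q₃ ∈ perp D e := by
    have := conj_mem_perp h hq₁.2.2.symm hq₂
    rwa [hi hq₁.1] at this
  obtain ⟨hb1, hb2, hb3⟩ := conj_line h hq₁.1 hq₂.1 hq12
  -- the neighbours of `q₁`
  obtain ⟨u, u', hu, hu', huu', hua, hu'a, hU⟩ := exists_nbrs h h22 ha hq₁.1 hq₁a
  have hline : ∀ {w}, w = u ∨ w = u' ∨ w = u * u' * u → w ∈ perp D q₁ ∧ ∀ i, Commute w (a i) := by
    rintro w (rfl | rfl | rfl)
    · exact ⟨hu, hua⟩
    · exact ⟨hu', hu'a⟩
    · refine ⟨?_, fun i => ((hua i).mul_left (hu'a i)).mul_left (hua i)⟩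
      have := conj_mem_perp h hu.2.2.symm hu'
      rwa [hi hu.1] at this
  obtain ⟨hc1, hc2, hc3⟩ := conj_line h hu.1 hu'.1 huu'
  obtain ⟨z, hzl, hez⟩ : ∃ z, (z = u ∨ z = u' ∨ z = u * u' * u) ∧ ¬ Commute e z := by
    rcases hU e (perp_symm he hq₁) hex with rfl | rfl | rfl
    · exact ⟨u', Or.inr (Or.inl rfl), huu'⟩
    · exact ⟨u, Or.inl rfl, fun hc => huu' hc.symm⟩
    · refine ⟨u, Or.inl rfl, fun hc => huu' ?_⟩
      have h2 := (commute_conj_iff' u _ _).2 hc
      rw [hi hu.1, hc2, mul_self h.1 hu.1, one_mul] at h2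
      exact h2.symm
  obtain ⟨hzq, hza⟩ := hline hzl
  have hzD := hzq.1
  have hzx : Commute z (five a) := five_commute hza
  set S := {w : G | w ∈ D ∧ Commute w (five a)} with hS
  -- every member commuting with `five a` and not with `e` commutes with a neighbour of `e`
  have hkey : ∀ w ∈ S, ¬ Commute e w → ∃ q', (q' = q₁ ∨ q' = q₂ ∨ q' = q₃) ∧ w ∈ perp D q' ∧
      ∀ i, Commute w (a i) := by
    rintro w ⟨hw, hwx⟩ hew
    obtain ⟨g, g1, g2⟩ := exists_conj_noncommute h hp h22 he hzD hez he hw hew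
    set K := Subgroup.centralizer ({e, w} : Set G) with hK
    have mem : ∀ {k : G}, Commute k e → Commute k w → k ∈ K := fun k1 k2 => by
      rw [hK, Subgroup.mem_centralizer_iff]
      rintro s (rfl | rfl)
      exacts [k1.symm.eq, k2.symm.eq]
    have hxK : five a ∈ K := mem hex.symm hwx.symm
    have hgx : g * five a * g⁻¹ ∈ K := by
      refine mem ?_ ?_
      · rw [← g1, commute_conj_iff']; exact hex.symm
      · rw [← g2, commute_conj_iff']; exact hzx.symm
    have hKcard : Nat.card K = 5 * 1306368 := by rw [hK, card_centralizer_pair h hp h22 he hw hew]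
    obtain ⟨k, hk⟩ := (sylow_conj_count (p := 5) hKcard (by norm_num)
      (X := Subgroup.zpowers (⟨g * five a * g⁻¹, hgx⟩ : K))
      (by rw [Nat.card_zpowers, ← Subgroup.orderOf_coe]
          exact (orderOf_injective (MulAut.conj g).toMonoidHom (MulAut.conj g).injective _).trans hxo)).1
      (Subgroup.zpowers (⟨five a, hxK⟩ : K)) (by rw [Nat.card_zpowers, ← Subgroup.orderOf_coe]; exact hxo)
    rw [MonoidHom.map_zpowers] at hk
    set n := (k : G) * g with hn
    have hkK := Subgroup.mem_centralizer_iff.1 (k.2 : (k : G) ∈ Subgroup.centralizer ({e, w} : Set G))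
    have n1 : n * e * n⁻¹ = e := by
      rw [hn, show (k : G) * g * e * ((k : G) * g)⁻¹ = k * (g * e * g⁻¹) * (k : G)⁻¹ by group, g1,
        ← hkK e (by simp), mul_inv_cancel_right]
    have n2 : n * z * n⁻¹ = w := by
      rw [hn, show (k : G) * g * z * ((k : G) * g)⁻¹ = k * (g * z * g⁻¹) * (k : G)⁻¹ by group, g2,
        ← hkK w (by simp), mul_inv_cancel_right]
    have n3 : Commute (n * q₁ * n⁻¹) (five a) := by
      obtain ⟨i, hi'⟩ := (hk.symm ▸ Subgroup.mem_zpowers _ : (⟨five a, hxK⟩ : K) ∈ _)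
      have h1 := congrArg Subtype.val hi'
      push_cast at h1
      have h2 : five a = (n * five a * n⁻¹) ^ i := by
        refine h1.symm.trans ?_
        congr 1
        simp [hn, mul_assoc]
      rw [h2]
      exact ((commute_conj_iff' n _ _).2 (five_commute hq₁a)).zpow_right i
    have hq' : n * q₁ * n⁻¹ ∈ perp D e :=
      ⟨h.2.1 n _ hq₁.1, fun hh => hq₁.2.1 (mul_left_cancel (mul_right_cancel (hh.trans n1.symm))),
        by have := (commute_conj_iff' n e q₁).2 hq₁.2.2; rwa [n1] at this⟩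
    have hwq : w ∈ perp D (n * q₁ * n⁻¹) := by
      rw [← n2]
      exact ⟨h.2.1 n _ hzD, fun hh => hzq.2.1 (mul_left_cancel (mul_right_cancel hh)),
        (commute_conj_iff' n _ _).2 hzq.2.2⟩
    have hmem := hQ _ hq' n3
    refine ⟨_, hmem, hwq, ?_⟩
    refine commute_chain_of_commute_five h h22 ha hq'.1 ?_ hw hwq.2.2 hwx
    rcases hmem with e' | e' | e' <;> rw [e']
    exacts [hq₁a, hq₂a, hq₃a]
  have hall : ∀ w ∈ D, Commute w (five a) → ∀ i, Commute w (a i) := by
    intro w hw hwx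
    by_cases hew : Commute e w
    · exact commute_chain_of_commute_five h h22 ha he hea hw hew hwx
    · obtain ⟨-, -, -, hh⟩ := hkey w ⟨hw, hwx⟩ hew
      exact hh
  -- neighbours of each `q` other than `e`
  have hnb : ∀ q, q ∈ perp D e → (∀ i, Commute q (a i)) → ∃ t, t ⊆ S ∧ t.ncard ≤ 2 ∧
      ∀ w ∈ S, ¬ Commute e w → w ∈ perp D q → w ∈ t := by
    intro q hq hqa
    obtain ⟨v, v', hv, hv', -, hva, hv'a, hV⟩ := exists_nbrs h h22 ha hq.1 hqa
    refine ⟨({v, v', v * v' * v} : Set G) \ {e}, ?_, ?_, fun w hw hew hwq => ⟨?_, ?_⟩⟩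
    · rintro w ⟨rfl | rfl | rfl, -⟩
      exacts [⟨hv.1, five_commute hva⟩, ⟨hv'.1, five_commute hv'a⟩, ⟨hcD hv.1 hv'.1,
        five_commute fun i => ((hva i).mul_left (hv'a i)).mul_left (hva i)⟩]
    · have hmem : e ∈ ({v, v', v * v' * v} : Set G) := by simpa using hV e (perp_symm he hq) hex
      rw [Set.ncard_diff_singleton_of_mem hmem]
      have h1 : ({v, v', v * v' * v} : Set G).ncard ≤ 3 :=
        (Set.ncard_insert_le _ _).trans (Nat.add_le_add_right ((Set.ncard_insert_le _ _).trans (by simp)) 1)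
      omega
    · simpa using hV w hwq hw.2
    · exact fun hh => hew (by rw [Set.mem_singleton_iff.1 hh])
  obtain ⟨t₁, t1s, t1c, t1⟩ := hnb q₁ hq₁ hq₁a
  obtain ⟨t₂, t2s, t2c, t2⟩ := hnb q₂ hq₂ hq₂a
  obtain ⟨t₃, t3s, t3c, t3⟩ := hnb q₃ hq₃ hq₃a
  have hsub : S ⊆ insert e {q₁, q₂, q₃} ∪ (t₁ ∪ t₂ ∪ t₃) := by
    intro w hw
    by_cases hew : Commute e w
    · by_cases hwe : w = e
      · exact Or.inl (Or.inl hwe)
      · rcases hQ w ⟨hw.1, hwe, hew⟩ hw.2 with rfl | rfl | rfl <;> simp [hq3]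
    · obtain ⟨q', hq', hwq, -⟩ := hkey w hw hew
      rcases hq' with rfl | rfl | rfl
      exacts [Or.inr (Or.inl (Or.inl (t1 w hw hew hwq))), Or.inr (Or.inl (Or.inr (t2 w hw hew hwq))),
        Or.inr (Or.inr (t3 w hw hew hwq))]
  have hle : S.ncard ≤ 4 + (t₁ ∪ t₂ ∪ t₃).ncard := by
    refine (Set.ncard_le_ncard hsub (Set.toFinite _)).trans ((Set.ncard_union_le _ _).trans ?_)
    have h1 : (insert e ({q₁, q₂, q₃} : Set G)).ncard ≤ 4 :=
      (Set.ncard_insert_le _ _).trans (Nat.add_le_add_right ((Set.ncard_insert_le _ _).trans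
        (Nat.add_le_add_right ((Set.ncard_insert_le _ _).trans (by simp)) 1)) 1)
    omega
  have hdvd : 5 ∣ S.ncard := by
    letI : MulAction ↥(Subgroup.zpowers (five a)) ↥D :=
      { smul := fun k w => ⟨k.1 * w.1 * k.1⁻¹, h.2.1 k.1 w.1 w.2⟩
        one_smul := fun w => Subtype.ext (by show (1 : G) * w.1 * (1 : G)⁻¹ = w.1; simp)
        mul_smul := fun k l w => Subtype.ext (by
          show k.1 * l.1 * w.1 * (k.1 * l.1)⁻¹ = k.1 * (l.1 * w.1 * l.1⁻¹) * k.1⁻¹; group) }
    have hP : IsPGroup 5 ↥(Subgroup.zpowers (five a)) :=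
      IsPGroup.of_card (n := 1) (by rw [Nat.card_zpowers, hxo, pow_one])
    have h1 := hP.card_modEq_card_fixedPoints (α := ↥D)
    have hfix : Nat.card (MulAction.fixedPoints ↥(Subgroup.zpowers (five a)) ↥D) = S.ncard := by
      rw [← Nat.card_coe_set_eq S]
      refine Nat.card_congr
        { toFun := fun w => ⟨w.1.1, w.1.2, ?_⟩
          invFun := fun w => ⟨⟨w.1, w.2.1⟩, fun k => ?_⟩
          left_inv := fun _ => rfl
          right_inv := fun _ => rfl }
      · have h2 : five a * w.1.1 * (five a)⁻¹ = w.1.1 :=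
          congrArg Subtype.val (w.2 ⟨five a, Subgroup.mem_zpowers _⟩)
        exact (mul_inv_eq_iff_eq_mul.1 h2).symm
      · obtain ⟨k, i, rfl⟩ := k
        refine Subtype.ext ?_
        show five a ^ i * w.1 * (five a ^ i)⁻¹ = w.1
        rw [← (w.2.2.zpow_right i).eq, mul_inv_cancel_right]
    rw [hfix, Nat.card_coe_set_eq, ncard_D h hp h22] at h1
    exact Nat.dvd_of_mod_eq_zero h1.symm
  have hne_ze : z ≠ e := fun hh => hez (hh ▸ Commute.refl _)
  have heS : e ∈ S := ⟨he, hex⟩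
  have hq₁₂ : q₁ ≠ q₂ := fun hh => hq12 (hh ▸ Commute.refl _)
  have hq₁₃ : q₁ ≠ q₃ := fun hh => hq₁₂ (by
    have h2 : q₁ * q₁ * q₁ = q₂ := by
      calc q₁ * q₁ * q₁ = q₁ * q₃ * q₁ := by rw [← hh]
        _ = q₂ := hb2
    rw [← h2, mul_self h.1 hq₁.1, one_mul])
  have h6 : 5 < S.ncard := by
    have hq₂₃ : q₂ ≠ q₃ := fun hh => hq₁₂ (by
      calc q₁ = q₂ * q₃ * q₂ := hb3.symm
        _ = q₂ := by rw [← hh, mul_self h.1 hq₂.1, one_mul])
    have hez' : e * z * e ≠ e ∧ e * z * e ≠ z ∧ ¬ Commute e (e * z * e) := by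
      obtain ⟨hd1, hd2, hd3⟩ := conj_line h he hzD hez
      refine ⟨fun hh => hne_ze ?_, fun hh => hez ?_, fun hc => hez ?_⟩
      · rw [← hd2, hh, mul_self h.1 he, one_mul]
      · show e * z = z * e
        calc e * z = e * z * e * e := by rw [mul_assoc (e * z), mul_self h.1 he, mul_one]
          _ = z * e := by rw [hh]
      · have h2 := (commute_conj_iff' e _ _).2 hc
        rw [hi he, hd2, mul_self h.1 he, one_mul] at h2
        exact h2
    have hqne : ∀ q ∈ perp D e, z ≠ q ∧ e * z * e ≠ q := fun q hq =>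
      ⟨fun hh => hez (hh ▸ hq.2.2), fun hh => hez'.2.2 (hh ▸ hq.2.2)⟩
    have hsub' : (↑({e, q₁, q₂, q₃, z, e * z * e} : Finset G) : Set G) ⊆ S := by
      intro w hw
      simp at hw
      rcases hw with rfl | rfl | rfl | rfl | rfl | rfl
      exacts [heS, ⟨hq₁.1, five_commute hq₁a⟩, ⟨hq₂.1, five_commute hq₂a⟩, ⟨hq₃.1, five_commute hq₃a⟩,
        ⟨hzD, hzx⟩, ⟨hcD he hzD, five_commute fun i => ((hea i).mul_left (hza i)).mul_left (hea i)⟩]
    have h1 := Set.ncard_le_ncard hsub' (Set.toFinite _)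
    rw [Set.ncard_coe_finset, Finset.card_insert_of_notMem, Finset.card_insert_of_notMem,
      Finset.card_insert_of_notMem, Finset.card_insert_of_notMem, Finset.card_pair] at h1
    · omega
    · exact hez'.2.1.symm
    all_goals simp [hq₁₂, hq₁₃, hq₂₃, hq₁.2.1.symm, hq₂.2.1.symm, hq₃.2.1.symm, hne_ze.symm, hez'.1.symm,
      (hqne q₁ hq₁).1.symm, (hqne q₂ hq₂).1.symm, (hqne q₃ hq₃).1.symm, (hqne q₁ hq₁).2.symm,
      (hqne q₂ hq₂).2.symm, (hqne q₃ hq₃).2.symm]
  have htot : (t₁ ∪ t₂ ∪ t₃).ncard ≤ t₁.ncard + t₂.ncard + t₃.ncard := by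
    have := Set.ncard_union_le (t₁ ∪ t₂) t₃
    have := Set.ncard_union_le t₁ t₂
    omega
  have h10 : S.ncard = 10 := by omega
  refine ⟨h10, hall, ?_⟩
  -- `z` commutes with only one of the neighbours of `e`
  have hzq₂ : ¬ Commute z q₂ := by
    intro hc
    have hc1 : Commute z q₁ := hzq.2.2.symm
    have hc3 : Commute z q₃ := (hc1.mul_right hc).mul_right hc1
    have hzS : z ∈ S := ⟨hzD, hzx⟩
    have hzq₂' : z ∈ perp D q₂ := ⟨hzD, fun hh => hez (hh ▸ hq₂.2.2), hc.symm⟩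
    have hzq₃' : z ∈ perp D q₃ := ⟨hzD, fun hh => hez (hh ▸ hq₃.2.2), hc3.symm⟩
    have z1 := t1 z hzS hez hzq
    have h1 : (t₁ ∪ t₂ ∪ t₃).ncard ≤ 4 := by
      have e12 : (t₁ ∪ t₂).ncard ≤ 3 := by
        have h2 := Set.ncard_union_add_ncard_inter t₁ t₂
        have h3 : 0 < (t₁ ∩ t₂).ncard := (Set.ncard_pos (Set.toFinite _)).2 ⟨z, z1, t2 z hzS hez hzq₂'⟩
        omega
      have h2 := Set.ncard_union_add_ncard_inter (t₁ ∪ t₂) t₃
      have h3 : 0 < ((t₁ ∪ t₂) ∩ t₃).ncard := (Set.ncard_pos (Set.toFinite _)).2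
        ⟨z, Or.inl z1, t3 z hzS hez hzq₃'⟩
      omega
    omega
  refine ⟨![e, z, q₂, q₁], ⟨?_, hez, hzq₂, fun hc => hq12 hc.symm, hq₂.2.2, hq₁.2.2, hzq.2.2.symm⟩, ?_,
    fun w hw hwx => ?_⟩
  · intro i; fin_cases i
    exacts [he, hzD, hq₂.1, hq₁.1]
  · intro j; fin_cases j
    exacts [hea, hza, hq₂a, hq₁a]
  · set R := Subgroup.closure (Set.range ![e, z, q₂, q₁]) with hR
    have eR : e ∈ R := Subgroup.subset_closure ⟨0, rfl⟩
    have zR : z ∈ R := Subgroup.subset_closure ⟨1, rfl⟩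
    have q2R : q₂ ∈ R := Subgroup.subset_closure ⟨2, rfl⟩
    have q1R : q₁ ∈ R := Subgroup.subset_closure ⟨3, rfl⟩
    have q3R : q₃ ∈ R := mul_mem (mul_mem q1R q2R) q1R
    -- the neighbours of `q₁`
    have hQ1 : ∀ v ∈ S, ¬ Commute e v → v ∈ perp D q₁ → v ∈ R := by
      intro v hv hev hvq
      have hzS : z ∈ t₁ := t1 z ⟨hzD, hzx⟩ hez hzq
      have hz' : e * z * e ∈ t₁ := by
        obtain ⟨-, hd2, -⟩ := conj_line h he hzD hez
        refine t1 _ ⟨hcD he hzD, five_commute fun i => ((hea i).mul_left (hza i)).mul_left (hea i)⟩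
          (fun hc => hez ?_) ?_
        · have h2 := (commute_conj_iff' e _ _).2 hc
          rw [hi he, hd2, mul_self h.1 he, one_mul] at h2
          exact h2
        · have := conj_mem_perp h hq₁.2.2 hzq
          rwa [hi he] at this
      have hpair : ({z, e * z * e} : Set G) = t₁ := by
        refine Set.eq_of_subset_of_ncard_le (Set.insert_subset hzS (Set.singleton_subset_iff.2 hz')) ?_
        rw [Set.ncard_pair (fun hh => hez ?_)]
        · exact t1c
        · show e * z = z * e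
          calc e * z = e * z * e * e := by rw [mul_assoc (e * z), mul_self h.1 he, mul_one]
            _ = z * e := by rw [← hh]
      have := t1 v hv hev hvq
      rw [← hpair] at this
      rcases this with rfl | rfl
      exacts [zR, mul_mem (mul_mem eR zR) eR]
    have hconj : ∀ v, v ∈ S → ¬ Commute e v → ∀ s, s ∈ R → s ∈ D → Commute s e → Commute s (five a) →
        ∀ q, v ∈ perp D q → s * q * s = q₁ → v ∈ R := by
      intro v hv hev s hs hsD hse hsx q hvq hsq
      have hv' : s * v * s ∈ R := by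
        refine hQ1 _ ⟨hcD hsD hv.1, (hsx.mul_left hv.2).mul_left hsx⟩ (fun hc => hev ?_) ?_
        · have h2 := (commute_conj_iff' s _ _).2 hc
          rwa [hi hsD, show s * e * s = e by rw [hse.eq, mul_assoc, mul_self h.1 hsD, mul_one],
            show s * (s * v * s) * s = v by simp [mul_assoc, mul_self h.1 hsD, mul_self_cancel h.1 hsD]] at h2
        · rw [← hsq, show s * v * s = s * v * s⁻¹ by rw [hi hsD], show s * q * s = s * q * s⁻¹ by rw [hi hsD]]
          exact ⟨h.2.1 s v hv.1, fun hh => hvq.2.1 (mul_left_cancel (mul_right_cancel hh)),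
            (commute_conj_iff' s _ _).2 hvq.2.2⟩
      have := mul_mem (mul_mem hs hv') hs
      rwa [show s * (s * v * s) * s = v by simp [mul_assoc, mul_self h.1 hsD, mul_self_cancel h.1 hsD]] at this
    by_cases hew : Commute e w
    · by_cases hwe : w = e
      · exact hwe ▸ eR
      · rcases hQ w ⟨hw, hwe, hew⟩ hwx with rfl | rfl | rfl
        exacts [q1R, q2R, q3R]
    · obtain ⟨q', hq', hwq, -⟩ := hkey w ⟨hw, hwx⟩ hew
      rcases hq' with rfl | rfl | rfl
      · exact hQ1 w ⟨hw, hwx⟩ hew hwq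
      · refine hconj w ⟨hw, hwx⟩ hew q₃ q3R hq₃.1 hq₃.2.2.symm (five_commute hq₃a) q' hwq ?_
        calc q₃ * q' * q₃ = q' * q₁ * q' * q' * q₃ := by rw [hb1, hq3]
          _ = q₁ := by simp [hq3, mul_assoc, mul_self_cancel h.1 hq₁.1, mul_self_cancel h.1 hq₂.1]
      · exact hconj w ⟨hw, hwx⟩ hew q₂ q2R hq₂.1 hq₂.2.2.symm (five_commute hq₂a) q₃ hwq hb3

end CfsgLib.FischerTypes
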