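import Cfsg.Agent.FischerTypes.M22Line

/-!
# The centralizer of a line is transitive on lines in it

Two non-commuting members in the common perp of two others have with them a common neighbour, and the group
is transitive on such configurations.
-/

set_option autoImplicit false
set_option maxHeartbeats 2000000

namespace CfsgLib.FischerTypes

open Cfsg CfsgLib.U62 CfsgLib.RepBounds.Unit

variable {G : Type*} [Group G] {D : Set G}

/-- `SU(6,2)` is transitive on two orthogonal pairs of non-orthogonal isotropic points. -/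
theorem exists_map_two_pairs {F : Type*} [Field F] [Fintype F] (C : ConjField F) {u v p q : I6 → F}
    (hu : herm C u u = 0) (hv : herm C v v = 0) (hp : herm C p p = 0) (hq : herm C q q = 0)
    (hvu : herm C v u ≠ 0) (hqp : herm C q p ≠ 0) (hpu : herm C p u = 0) (hpv : herm C p v = 0)
    (hqu : herm C q u = 0) (hqv : herm C q v = 0) :
    ∃ (g : suG C I6) (b b' : F), b ≠ 0 ∧ b' ≠ 0 ∧ app C g u = vE C (Fin 2 ⊕ Fin 2) ∧
      app C g v = b • vF C (Fin 2 ⊕ Fin 2) ∧ app C g p = inW (vE C (Fin 2)) ∧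
      app C g q = b' • inW (vF C (Fin 2)) := by
  obtain ⟨g, b, hb, hgu, hgv⟩ := exists_map_nonorth C hu hv hvu
  have inblock : ∀ x, herm C x u = 0 → herm C x v = 0 → app C g x = inW ((app C g x) ∘ Sum.inr) := by
    intro x hxu hxv
    have e1 : herm C (app C g x) (vE C (Fin 2 ⊕ Fin 2)) = 0 := by rw [← hgu, herm_app, hxu]
    have e2 : herm C (app C g x) (vF C (Fin 2 ⊕ Fin 2)) = 0 := by
      have h1 : herm C (app C g x) (app C g v) = 0 := by rw [herm_app, hxv]
      rw [hgv, herm_smul_right] at h1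
      exact (mul_eq_zero.1 h1).resolve_left ((map_ne_zero C.σ).2 hb)
    conv_lhs => rw [decomp C (app C g x), e1, e2, zero_smul, zero_smul, zero_add, zero_add]
  set p' := (app C g p) ∘ Sum.inr with hp'
  set q' := (app C g q) ∘ Sum.inr with hq'
  have ep := inblock p hpu hpv
  have eq' := inblock q hqu hqv
  have hpp : herm C p' p' = 0 := by rw [← herm_inW C p' p', ← ep, herm_app, hp]
  have hqq : herm C q' q' = 0 := by rw [← herm_inW C q' q', ← eq', herm_app, hq]
  have hqp' : herm C q' p' ≠ 0 := by rw [← herm_inW C q' p', ← ep, ← eq', herm_app]; exact hqp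
  have hp0 : p' ≠ 0 := fun h0 => hqp' (by rw [h0, herm_zero_right])
  obtain ⟨t, -, ht⟩ := exists_to_vE C hpp hp0
  have hx : herm C (app C t q') (vE C (Fin 2)) ≠ 0 := by rw [← ht, herm_app]; exact hqp'
  obtain ⟨s, hs, hs'⟩ := CfsgLib.Forms4.exists_translate C (x := app C t q') (by rw [herm_app, hqq]) hx
  refine ⟨blockHom C _ (s⁻¹ * t) * g, b, herm C (app C t q') (vE C (Fin 2)), hb, hx, ?_, ?_, ?_, ?_⟩
  · rw [app_mul, hgu, app_blockHom]
    ext (i | i)
    · rfl
    · simp [vE, app, Function.comp_def, show (fun _ : Fin 2 ⊕ Fin 2 => (0 : F)) = 0 from rfl]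
  · rw [app_mul, hgv, app_smul, app_blockHom]
    congr 1
    ext (i | i)
    · rfl
    · simp [vF, app, Function.comp_def, show (fun _ : Fin 2 ⊕ Fin 2 => (0 : F)) = 0 from rfl]
  · rw [app_mul, ep, app_blockHom]
    simp only [inW, Sum.elim_comp_inl, Sum.elim_comp_inr]
    rw [app_mul, ht, show app C s⁻¹ (vE C (Fin 2)) = vE C (Fin 2) by conv_lhs => rw [← hs, app_inv_app]]
  · rw [app_mul, eq', app_blockHom]
    have e1 : app C (s⁻¹ * t) q' = herm C (app C t q') (vE C (Fin 2)) • vF C (Fin 2) := by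
      rw [app_mul]
      conv_lhs => rw [hs', app_smul, app_inv_app]
    simp only [inW, Sum.elim_comp_inl, Sum.elim_comp_inr]
    ext (i | i)
    · simp
    · simpa using congrFun e1 i

variable [Finite G] (h : IsThreeTranspositionGroup D) (hp : IsPrimitiveUnderConj D) (h22 : IsOfTypeM22 G D)

include h hp h22

/-- Two non-commuting members of the common perp of `a` and `d` have with these a common neighbour. -/
theorem common4_nonempty {a d x e : G} (ha : a ∈ D) (hd : d ∈ D) (hnc : ¬ Commute a d)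
    (hx : x ∈ perp D a ∩ perp D d) (he : e ∈ perp D a ∩ perp D d) (hxe : ¬ Commute x e) :
    ∃ y ∈ perp D a ∩ perp D d, y ∈ perp D x ∩ perp D e := by
  classical
  have := Fintype.ofFinite G
  by_contra hall
  push Not at hall
  set X : Finset G := (perp D a ∩ perp D d).toFinset with hXdef
  have hX : ∀ {z}, z ∈ X ↔ z ∈ perp D a ∧ z ∈ perp D d := fun {z} => Set.mem_toFinset
  have hmemD : ∀ {z}, z ∈ X → z ∈ D := fun hz => (hX.1 hz).1.1
  have hcardX : X.card = 126 := by rw [← Set.ncard_eq_toFinset_card']; exact ncard_common h hp h22 ha hd hnc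
  set N := X.filter (fun z => z ∈ perp D x) with hNdef
  set M0 := X.filter (fun z => ¬ Commute x z ∧ ∀ y ∈ N, ¬ Commute y z) with hMdef
  have hxX : x ∈ X := hX.2 hx
  have hdeg : ∀ {z}, z ∈ X → (X.filter fun w => w ∈ perp D z).card = 45 := by
    intro z hz
    rw [← ncard_common_perp h hp h22 ha hd hnc (hX.1 hz).1 (hX.1 hz).2, Set.ncard_eq_toFinset_card']
    congr 1
    ext w
    simp only [Finset.mem_filter, hX, Set.mem_toFinset, Set.mem_inter_iff]
  obtain ⟨y₀, hy₀⟩ : N.Nonempty := Finset.card_pos.1 (by rw [hdeg hxX]; norm_num)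
  obtain ⟨hy₀X, hy₀x⟩ := Finset.mem_filter.1 hy₀
  have heM : e ∈ M0 := Finset.mem_filter.2 ⟨hX.2 he, hxe, fun y hy hc => by
    obtain ⟨hyX, hyx⟩ := Finset.mem_filter.1 hy
    exact hall y (hX.1 hyX) ⟨hyx, hyX |> fun h0 => ⟨hmemD h0, fun hh => hxe (hh ▸ hyx.2.2), hc.symm⟩⟩⟩
  -- conjugation by `x` and by `N` preserves `M0`
  have hconj : ∀ {g}, g ∈ X → Commute g x → ∀ {z}, z ∈ M0 → g * z * g⁻¹ ∈ M0 := by
    intro g hg hgx z hz
    obtain ⟨hzX, hxz, hzN⟩ := Finset.mem_filter.1 hz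
    have hga : Commute g a := (hX.1 hg).1.2.2.symm
    have hgd : Commute g d := (hX.1 hg).2.2.2.symm
    have hgi : g⁻¹ = g := inv_eq h.1 (hmemD hg)
    refine Finset.mem_filter.2 ⟨hX.2 ⟨conj_mem_perp h hga (hX.1 hzX).1, conj_mem_perp h hgd (hX.1 hzX).2⟩,
      fun hc => hxz ?_, fun y hy hc => ?_⟩
    · rw [← commute_conj_iff' g, hgx.eq, mul_inv_cancel_right]
      exact hc
    · obtain ⟨hyX, hyx⟩ := Finset.mem_filter.1 hy
      have hy' : g⁻¹ * y * g ∈ N := Finset.mem_filter.2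
        ⟨hX.2 ⟨by simpa using conj_mem_perp h hga.inv_left (hX.1 hyX).1,
          by simpa using conj_mem_perp h hgd.inv_left (hX.1 hyX).2⟩,
          by simpa using conj_mem_perp h hgx.inv_left hyx⟩
      refine hzN _ hy' ?_
      rw [← commute_conj_iff' g, show g * (g⁻¹ * y * g) * g⁻¹ = y by group]
      exact hc
  have hcN : ∀ {y}, y ∈ N → Commute y x := fun hy => (Finset.mem_filter.1 hy).2.2.2.symm
  have hNX : ∀ {y}, y ∈ N → y ∈ X := fun hy => (Finset.mem_filter.1 hy).1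
  have hne : ∀ {y}, y ∈ N → ¬ Commute y e := fun hy => (Finset.mem_filter.1 heM).2.2 _ hy
  have hbr : ∀ {y}, y ∈ N → y * e * y⁻¹ = e * y * e := fun {y} hy => by
    rw [inv_eq h.1 (hmemD (hNX hy)), braid h.1 (hmemD (hNX hy)) he.1.1 (hne hy)]
  have hinj : ∀ {y z}, y ∈ N → z ∈ N → y * e * y⁻¹ = z * e * z⁻¹ → y = z := fun {y z} hy hz heq => by
    rw [hbr hy, hbr hz] at heq
    exact mul_left_cancel (mul_right_cancel heq)
  -- the images of `e`
  set A := N.image (fun y => y * e * y⁻¹) with hA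
  set Cn := (N.filter fun z => z ∈ perp D y₀) with hCn
  set U := Cn.image (fun z => y₀ * z * e * (y₀ * z)⁻¹) with hU
  have hAcard : A.card = 45 := by
    rw [hA, Finset.card_image_of_injOn fun y hy z hz heq => hinj hy hz heq]
    exact hdeg hxX
  have hUcard : U.card = Cn.card := by
    refine Finset.card_image_of_injOn fun z hz z' hz' heq => ?_
    simp only [_root_.mul_inv_rev] at heq
    refine hinj (Finset.mem_filter.1 hz).1 (Finset.mem_filter.1 hz').1 ?_
    have h1 := congrArg (fun w => y₀⁻¹ * w * y₀) heq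
    simpa [mul_assoc] using h1
  have hUc : ∀ u ∈ U, Commute u e := by
    intro u hu
    obtain ⟨z, hz, rfl⟩ := Finset.mem_image.1 hu
    obtain ⟨hzN, hzy⟩ := Finset.mem_filter.1 hz
    have h1 := commute_conj_pair h.1 (hmemD hy₀X) (hmemD (hNX hzN)) he.1.1 hzy.2.2 (fun hh => hne hy₀ hh)
      (fun hh => hne hzN hh)
    simpa [_root_.mul_inv_rev, inv_eq h.1 (hmemD hy₀X), inv_eq h.1 (hmemD (hNX hzN)), mul_assoc] using h1
  have hUe : e ∉ U := fun hu => by
    obtain ⟨z, hz, hze⟩ := Finset.mem_image.1 hu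
    obtain ⟨hzN, hzy⟩ := Finset.mem_filter.1 hz
    refine hzy.2.1 (hinj hy₀ hzN ?_).symm
    calc y₀ * e * y₀⁻¹ = y₀⁻¹ * e * y₀ := by
          rw [inv_eq h.1 (hmemD hy₀X)]
      _ = y₀⁻¹ * (y₀ * z * e * (y₀ * z)⁻¹) * y₀ := by rw [hze]
      _ = z * e * z⁻¹ := by group
  have hAe : ∀ u ∈ A, ¬ Commute u e := by
    intro u hu hc
    obtain ⟨y, hy, rfl⟩ := Finset.mem_image.1 hu
    rw [hbr hy] at hc
    have h1 := (commute_conj_iff' e _ _).2 hc
    rw [inv_eq h.1 he.1.1, show e * (e * y * e) * e = y by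
      simp [mul_assoc, mul_self h.1 he.1.1, mul_self_cancel h.1 he.1.1],
      show e * e * e = e by rw [mul_self h.1 he.1.1, one_mul]] at h1
    exact hne hy h1
  have hsub : insert e (A ∪ U) ⊆ M0 := by
    intro u hu
    rcases Finset.mem_insert.1 hu with rfl | hu
    · exact heM
    rcases Finset.mem_union.1 hu with hu | hu
    · obtain ⟨y, hy, rfl⟩ := Finset.mem_image.1 hu
      exact hconj (hNX hy) (hcN hy) heM
    · obtain ⟨z, hz, rfl⟩ := Finset.mem_image.1 hu
      obtain ⟨hzN, -⟩ := Finset.mem_filter.1 hz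
      have := hconj hy₀X (hcN hy₀) (hconj (hNX hzN) (hcN hzN) heM)
      simpa [mul_assoc, _root_.mul_inv_rev] using this
  have hlow : 46 + Cn.card ≤ M0.card := by
    refine le_trans (le_of_eq ?_) (Finset.card_le_card hsub)
    have hd1 : Disjoint A U := Finset.disjoint_left.2 fun u h1 h2 => hAe u h1 (hUc u h2)
    rw [Finset.card_insert_of_notMem, Finset.card_union_of_disjoint hd1, hAcard, hUcard]
    · omega
    · intro h1
      rcases Finset.mem_union.1 h1 with h1 | h1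
      · exact hAe e h1 (Commute.refl _)
      · exact hUe h1
  -- the neighbours of `y₀` outside
  set R := (X.filter fun w => w ∈ perp D y₀) \ (insert x N) with hR
  have hRcard : 44 ≤ R.card + Cn.card := by
    have h1 : R.card + ((X.filter fun w => w ∈ perp D y₀) ∩ insert x N).card = 45 := by
      rw [hR, ← hdeg hy₀X]
      exact Finset.card_sdiff_add_card_inter _ _
    have h2 : ((X.filter fun w => w ∈ perp D y₀) ∩ insert x N).card ≤ Cn.card + 1 := by
      refine le_trans (Finset.card_le_card ?_) (Finset.card_insert_le x Cn)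
      intro w hw
      obtain ⟨hw2, hw1⟩ := Finset.mem_inter.1 hw
      rcases Finset.mem_insert.1 hw1 with hwx | hw1
      · rw [hwx]; exact Finset.mem_insert_self _ _
      · refine Finset.mem_insert_of_mem ?_
        rw [Finset.mem_filter] at hw2
        rw [hCn, Finset.mem_filter]
        exact ⟨hw1, hw2.2⟩
    omega
  have hxN : x ∉ N := fun h0 => (Finset.mem_filter.1 h0).2.2.1 rfl
  have hMN : Disjoint (insert x N) M0 := by
    refine Finset.disjoint_left.2 fun w hw hw' => ?_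
    obtain ⟨-, hxw, -⟩ := Finset.mem_filter.1 hw'
    rcases Finset.mem_insert.1 hw with rfl | hw
    · exact hxw (Commute.refl _)
    · exact hxw (hcN hw).symm
  have hRd : Disjoint (insert x N ∪ M0) R := by
    refine Finset.disjoint_left.2 fun w hw hw' => ?_
    obtain ⟨hw1, hw2⟩ := Finset.mem_sdiff.1 hw'
    rcases Finset.mem_union.1 hw with hw | hw
    · exact hw2 hw
    · exact (Finset.mem_filter.1 hw).2.2 y₀ hy₀ (Finset.mem_filter.1 hw1).2.2.2
  have hup : (insert x N ∪ M0 ∪ R).card ≤ 126 := by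
    rw [← hcardX]
    refine Finset.card_le_card fun w hw => ?_
    rcases Finset.mem_union.1 hw with hw | hw
    · rcases Finset.mem_union.1 hw with hw | hw
      · rcases Finset.mem_insert.1 hw with rfl | hw
        · exact hxX
        · exact hNX hw
      · exact (Finset.mem_filter.1 hw).1
    · exact (Finset.mem_filter.1 (Finset.mem_sdiff.1 hw).1).1
  rw [Finset.card_union_of_disjoint hRd, Finset.card_union_of_disjoint hMN,
    Finset.card_insert_of_notMem hxN, hdeg hxX] at hup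
  omega

/-- `G` is transitive on two orthogonal non-commuting pairs. -/
theorem exists_conj_four {a d x e x' e' : G} (ha : a ∈ D) (hd : d ∈ D) (hnc : ¬ Commute a d)
    (hx : x ∈ perp D a ∩ perp D d) (he : e ∈ perp D a ∩ perp D d) (hxe : ¬ Commute x e)
    (hx' : x' ∈ perp D a ∩ perp D d) (he' : e' ∈ perp D a ∩ perp D d) (hxe' : ¬ Commute x' e') :
    ∃ g : G, g * a * g⁻¹ = a ∧ g * d * g⁻¹ = d ∧ g * x * g⁻¹ = x' ∧ g * e * g⁻¹ = e' := by
  obtain ⟨y, hy, hyx, hye⟩ := common4_nonempty h hp h22 ha hd hnc hx he hxe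
  obtain ⟨y', hy', hyx', hye'⟩ := common4_nonempty h hp h22 ha hd hnc hx' he' hxe'
  obtain ⟨k, hk⟩ := single_class h h22 hy.1.1 hy'.1.1
  have cj : ∀ {z : G}, z ∈ D → y ∈ perp D z → k * z * k⁻¹ ∈ perp D y' := fun {z} hz hyz =>
    hk ▸ ⟨h.2.1 k z hz, fun hh => hyz.2.1 (mul_left_cancel (mul_right_cancel hh)).symm,
      (commute_conj_iff' k _ _).2 hyz.2.2.symm⟩
  obtain ⟨M⟩ := exists_perpModel h h22 hy'.1.1
  have m1 := cj ha hy.1; have m2 := cj hd hy.2; have m3 := cj hx.1.1 hyx; have m4 := cj he.1.1 hye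
  have n1 := perp_symm ha hy'.1; have n2 := perp_symm hd hy'.2
  have n3 := perp_symm hx'.1.1 hyx'; have n4 := perp_symm he'.1.1 hye'
  obtain ⟨p1, q1, r1, w1⟩ := M.exists_pt m1
  obtain ⟨p2, q2, r2, w2⟩ := M.exists_pt m2
  obtain ⟨p3, q3, r3, w3⟩ := M.exists_pt m3
  obtain ⟨p4, q4, r4, w4⟩ := M.exists_pt m4
  obtain ⟨s1, t1, o1, z1⟩ := M.exists_pt n1
  obtain ⟨s2, t2, o2, z2⟩ := M.exists_pt n2
  obtain ⟨s3, t3, o3, z3⟩ := M.exists_pt n3
  obtain ⟨s4, t4, o4, z4⟩ := M.exists_pt n4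
  have cc : ∀ {u v : G}, Commute u v → Commute (k * u * k⁻¹) (k * v * k⁻¹) :=
    fun {u v} huv => (commute_conj_iff' k u v).2 huv
  have nn : ∀ {u v : G}, ¬ Commute u v → ¬ Commute (k * u * k⁻¹) (k * v * k⁻¹) :=
    fun {u v} huv hh => huv ((commute_conj_iff' k u v).1 hh)
  obtain ⟨A, α, α', hα, hα', A1, A2, A3, A4⟩ := exists_map_two_pairs M.C q1 q2 q3 q4
    (fun h0 => nn hnc ((M.commute_iff m1 m2 q1 q2 r2 w1 w2).2 h0))
    (fun h0 => nn hxe ((M.commute_iff m3 m4 q3 q4 r4 w3 w4).2 h0))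
    ((M.commute_iff m1 m3 q1 q3 r3 w1 w3).1 (cc hx.1.2.2))
    ((M.commute_iff m2 m3 q2 q3 r3 w2 w3).1 (cc hx.2.2.2))
    ((M.commute_iff m1 m4 q1 q4 r4 w1 w4).1 (cc he.1.2.2))
    ((M.commute_iff m2 m4 q2 q4 r4 w2 w4).1 (cc he.2.2.2))
  obtain ⟨B, β, β', hβ, hβ', B1, B2, B3, B4⟩ := exists_map_two_pairs M.C t1 t2 t3 t4
    (fun h0 => hnc ((M.commute_iff n1 n2 t1 t2 o2 z1 z2).2 h0))
    (fun h0 => hxe' ((M.commute_iff n3 n4 t3 t4 o4 z3 z4).2 h0))
    ((M.commute_iff n1 n3 t1 t3 o3 z1 z3).1 hx'.1.2.2)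
    ((M.commute_iff n2 n3 t2 t3 o3 z2 z3).1 hx'.2.2.2)
    ((M.commute_iff n1 n4 t1 t4 o4 z1 z4).1 he'.1.2.2)
    ((M.commute_iff n2 n4 t2 t4 o4 z2 z4).1 he'.2.2.2)
  obtain ⟨g, hg⟩ := QuotientGroup.mk_surjective (M.θ (B⁻¹ * A))
  have key : ∀ {z z' : G} (hz : z ∈ perp D y') (hz' : z' ∈ perp D y') {v v' : I6 → M.K},
      herm M.C v v = 0 → herm M.C v' v' = 0 → bar hz = M.θ (tv M.C v) → bar hz' = M.θ (tv M.C v') →
      (∃ t : M.K, t ≠ 0 ∧ app M.C (B⁻¹ * A) v = t • v') → (g : G) * z * (g : G)⁻¹ = z' := by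
    intro z z' hz hz' v v' hv hv' hzv hzv' ⟨t, ht, hmap⟩
    refine M.bar_inj (conj_mem_perp' M.group g.2 hz) hz' ?_
    have e1 : bar (conj_mem_perp' M.group g.2 hz) =
        (QuotientGroup.mk g : PerpQuot D y') * bar hz * (QuotientGroup.mk g : PerpQuot D y')⁻¹ := rfl
    rw [e1, hg, hzv, hzv', ← map_inv, ← map_mul, ← map_mul, conj_tv M.C M.hq _ hv, hmap,
      tv_smul M.C M.hq ht hv']
  have step : ∀ {v v' w : I6 → M.K} {s t : M.K}, t ≠ 0 → app M.C A v = s • w → app M.C B v' = t • w →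
      app M.C (B⁻¹ * A) v = (s * t⁻¹) • v' := fun {v v' w s t} ht h1 h2 => by
    rw [app_mul, h1, mul_smul, show w = t⁻¹ • app M.C B v' by rw [h2, inv_smul_smul₀ ht], app_smul, app_smul,
      app_inv_app]
  refine ⟨g * k, ?_, ?_, ?_, ?_⟩
  · have := key m1 n1 q1 t1 w1 z1 ⟨1 * 1⁻¹, by simp,
      step one_ne_zero (A1.trans (one_smul _ _).symm) (B1.trans (one_smul _ _).symm)⟩
    calc (g : G) * k * _ * ((g : G) * k)⁻¹ = (g : G) * (k * _ * k⁻¹) * (g : G)⁻¹ := by group
      _ = _ := this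
  · have := key m2 n2 q2 t2 w2 z2 ⟨α * β⁻¹, mul_ne_zero hα (inv_ne_zero hβ), step hβ A2 B2⟩
    calc (g : G) * k * _ * ((g : G) * k)⁻¹ = (g : G) * (k * _ * k⁻¹) * (g : G)⁻¹ := by group
      _ = _ := this
  · have := key m3 n3 q3 t3 w3 z3 ⟨1 * 1⁻¹, by simp,
      step one_ne_zero (A3.trans (one_smul _ _).symm) (B3.trans (one_smul _ _).symm)⟩
    calc (g : G) * k * _ * ((g : G) * k)⁻¹ = (g : G) * (k * _ * k⁻¹) * (g : G)⁻¹ := by group
      _ = _ := this
  · have := key m4 n4 q4 t4 w4 z4 ⟨α' * β'⁻¹, mul_ne_zero hα' (inv_ne_zero hβ'), step hβ' A4 B4⟩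
    calc (g : G) * k * _ * ((g : G) * k)⁻¹ = (g : G) * (k * _ * k⁻¹) * (g : G)⁻¹ := by group
      _ = _ := this

end CfsgLib.FischerTypes
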