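import Cfsg.Agent.FischerTypes.M22Involution
import Cfsg.Agent.FischerTypes.M22Triples

/-!
# Involutions lift to central double covers of type M(22)

The relation of length six makes lifts of commuting members commute, and the one of length seven makes the
lifts of members involutions.
-/

set_option autoImplicit false
set_option maxHeartbeats 400000

namespace CfsgLib.FischerTypes

open Cfsg CfsgLib.U62
open scoped commutatorElement

variable {P G : Type*} [Group P] [Group G] [Finite G] {D : Set G} (π : P →* G)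

/-- Moving an element past a product of elements with the same central commutator. -/
theorem mul_prod_of_commutator {x k : P} (hk : ∀ g : P, Commute k g) :
    ∀ {l : List P}, (∀ y ∈ l, ⁅x, y⁆ = k) → x * l.prod = k ^ l.length * (l.prod * x) := by
  intro l
  induction l with
  | nil => simp
  | cons a l ih =>
    intro hl
    have h1 : x * a = k * (a * x) := by
      rw [← hl a (by simp), commutatorElement_def]; group
    rw [List.prod_cons, List.length_cons, ← mul_assoc, h1, mul_assoc, mul_assoc,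
      ih (fun y hy => hl y (by simp [hy]))]
    simp only [mul_assoc, pow_succ']
    congr 1
    rw [← mul_assoc a (k ^ l.length), ((hk a).pow_left l.length).eq.symm, mul_assoc]

/-- The square of a product of commuting elements with the same square. -/
theorem prod_mul_self {k : P} (hk : ∀ g : P, Commute k g) :
    ∀ {l : List P}, (∀ y ∈ l, y * y = k) → (∀ x ∈ l, ∀ y ∈ l, Commute x y) → l.prod * l.prod = k ^ l.length := by
  intro l
  induction l with
  | nil => simp
  | cons a l ih =>
    intro hl hc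
    have hal : Commute a l.prod := Commute.list_prod_right l a fun y hy => hc a (by simp) y (by simp [hy])
    rw [List.prod_cons, List.length_cons, Commute.mul_mul_mul_comm hal.symm, hl a (by simp),
      ih (fun y hy => hl y (by simp [hy])) (fun x hx y hy => hc x (by simp [hx]) y (by simp [hy])), pow_succ']

variable (hπ : Function.Surjective π) (hker : ∀ z : P, π z = 1 → (∀ g : P, Commute z g) ∧ z * z = 1)
  (h : IsThreeTranspositionGroup D) (hp : IsPrimitiveUnderConj D) (h22 : IsOfTypeM22 G D)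

include hπ hker h hp h22

/-- Lifts of commuting members commute. -/
theorem commute_lifts {a b : G} (ha : a ∈ D) (hb : b ∈ perp D a) {x y : P} (hx : π x = a) (hy : π y = b) :
    Commute x y := by
  -- the commutator of lifts does not depend on them
  have inv : ∀ {x x' y y' : P}, π x = π x' → π y = π y' → ⁅x, y⁆ = ⁅x', y'⁆ := by
    intro x x' y y' h1 h2
    have hc1 := (hker (x'⁻¹ * x) (by rw [map_mul, map_inv, h1, inv_mul_cancel])).1
    have hc2 := (hker (y'⁻¹ * y) (by rw [map_mul, map_inv, h2, inv_mul_cancel])).1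
    obtain ⟨u, rfl⟩ : ∃ u, x = x' * u := ⟨x'⁻¹ * x, by group⟩
    obtain ⟨v, rfl⟩ : ∃ v, y = y' * v := ⟨y'⁻¹ * y, by group⟩
    simp only [inv_mul_cancel_left] at hc1 hc2
    rw [commutatorElement_def, commutatorElement_def]
    calc x' * u * (y' * v) * (x' * u)⁻¹ * (y' * v)⁻¹
        = x' * (u * (y' * v)) * (u⁻¹ * x'⁻¹) * (v⁻¹ * y'⁻¹) := by group
      _ = x' * ((y' * v) * u) * (u⁻¹ * x'⁻¹) * (v⁻¹ * y'⁻¹) := by rw [(hc1 _).eq]
      _ = x' * y' * (v * x'⁻¹) * (v⁻¹ * y'⁻¹) := by group
      _ = x' * y' * (x'⁻¹ * v) * (v⁻¹ * y'⁻¹) := by rw [(hc2 _).eq]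
      _ = _ := by group
  set k := ⁅x, y⁆ with hk
  have hkπ : π k = 1 := by
    rw [hk, map_commutatorElement, hx, hy]
    exact commutatorElement_eq_one_iff_mul_comm.2 hb.2.2.eq
  -- it is the same for all commuting pairs
  have hall : ∀ {a' b' : G}, a' ∈ D → b' ∈ perp D a' → ∀ {x' y' : P}, π x' = a' → π y' = b' → ⁅x', y'⁆ = k := by
    intro a' b' ha' hb' x' y' hx' hy'
    obtain ⟨f, hf⟩ : ∃ f, f ∈ perp D a ∩ perp D b := by
      obtain ⟨M⟩ := exists_perpModel h h22 ha
      exact Set.nonempty_of_ncard_ne_zero (by rw [M.ncard_perp_perp hb]; norm_num)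
    obtain ⟨f', hf'⟩ : ∃ f, f ∈ perp D a' ∩ perp D b' := by
      obtain ⟨M⟩ := exists_perpModel h h22 ha'
      exact Set.nonempty_of_ncard_ne_zero (by rw [M.ncard_perp_perp hb']; norm_num)
    obtain ⟨g, g1, g2, -⟩ := exists_conj_triple h h22 ha hb hf.1 hf.2 ha' hb' hf'.1 hf'.2
    obtain ⟨t, rfl⟩ := hπ g
    rw [inv (x' := t * x * t⁻¹) (y' := t * y * t⁻¹) (by rw [hx', map_mul, map_mul, map_inv, hx, g1])
      (by rw [hy', map_mul, map_mul, map_inv, hy, g2]), ← conjugate_commutatorElement, ← hk,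
      ((hker k hkπ).1 t).eq.symm, mul_inv_cancel_right]
  obtain ⟨f, hf⟩ : ∃ f, f ∈ perp D a ∩ perp D b := by
    obtain ⟨M⟩ := exists_perpModel h h22 ha
    exact Set.nonempty_of_ncard_ne_zero (by rw [M.ncard_perp_perp hb]; norm_num)
  obtain ⟨p, q, r, hnd, hD6, hc6, he, -⟩ := exists_six h hp h22 ha hb hf.1 (Ne.symm hf.2.2.1) hf.2.2.2
  have hsix := (isSix_of_triple h hnd hD6 hc6 he).2.2.2.2
  obtain ⟨L, hL⟩ := hπ.hasRightInverse
  set l : List P := [L b, L f, L p, L q, L r] with hl
  have hlk : ∀ u ∈ l, ⁅x, u⁆ = k := by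
    intro u hu
    obtain ⟨v, hv, rfl⟩ : ∃ v, v ∈ [b, f, p, q, r] ∧ u = L v := by
      simp [hl] at hu ⊢
      tauto
    refine hall ha ⟨hD6 v (List.mem_cons_of_mem _ hv), fun h0 => (List.nodup_cons.1 hnd).1 (h0 ▸ hv),
      hc6 a (by simp) v (List.mem_cons_of_mem _ hv)⟩ hx (hL v)
  have h1 := mul_prod_of_commutator (hker k hkπ).1 hlk
  have hw : π (x * l.prod) = 1 := by
    rw [map_mul, map_list_prod, hl, hx]
    simpa [hL b, hL f, hL p, hL q, hL r, mul_assoc] using hsix
  have h2 : l.prod * x = x * l.prod := by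
    rw [← mul_inv_cancel_right (l.prod * x) x⁻¹]
    have h3 := ((hker _ hw).1 x).eq
    calc l.prod * x * x⁻¹ * x⁻¹⁻¹ = x⁻¹ * ((x * l.prod) * x) := by group
      _ = x⁻¹ * (x * (x * l.prod)) := by rw [h3]
      _ = x * l.prod := by group
  rw [h2] at h1
  have hk1 : k ^ 5 = 1 := mul_eq_right.1 h1.symm
  have hk2 : k ^ 2 = 1 := by rw [pow_two]; exact (hker k hkπ).2
  rw [show (5 : ℕ) = 2 + 2 + 1 from rfl, pow_add, pow_add, hk2, pow_one, one_mul, one_mul] at hk1
  exact commutatorElement_eq_one_iff_mul_comm.1 hk1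

/-- Lifts of members are involutions. -/
theorem lift_member_mul_self {a : G} (ha : a ∈ D) {x : P} (hx : π x = a) : x * x = 1 := by
  have hxx : π (x * x) = 1 := by rw [map_mul, hx, mul_self h.1 ha]
  have hall : ∀ {b : G}, b ∈ D → ∀ {y : P}, π y = b → y * y = x * x := by
    intro b hb y hy
    obtain ⟨g, hg⟩ := single_class h h22 ha hb
    obtain ⟨t, rfl⟩ := hπ g
    have hu := hker ((t * x * t⁻¹)⁻¹ * y) (by
      rw [map_mul, map_inv, map_mul, map_mul, map_inv, hx, hg, hy, inv_mul_cancel])
    obtain ⟨u, rfl⟩ : ∃ u, y = t * x * t⁻¹ * u := ⟨(t * x * t⁻¹)⁻¹ * y, by group⟩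
    simp only [inv_mul_cancel_left] at hu
    calc t * x * t⁻¹ * u * (t * x * t⁻¹ * u) = t * x * t⁻¹ * (t * x * t⁻¹) * (u * u) := by
          rw [Commute.mul_mul_mul_comm (hu.1 _)]
      _ = t * (x * x) * t⁻¹ := by rw [hu.2, mul_one]; group
      _ = x * x := by rw [((hker _ hxx).1 t).eq.symm, mul_inv_cancel_right]
  obtain ⟨p, q, r, a', b', c', hp', hq', hr', ha', hb', hc', hpq, hpr, hqr, hab', hac', hbc', he⟩ :=
    exists_seven h hp h22 ha
  obtain ⟨L, hL⟩ := hπ.hasRightInverse
  have hxc : ∀ {v : G}, v ∈ perp D a → Commute x (L v) := fun hv =>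
    commute_lifts π hπ hker h hp h22 ha hv hx (hL _)
  have hlc : ∀ {u v : G}, u ∈ D → v ∈ perp D u → Commute (L u) (L v) := fun hu hv =>
    commute_lifts π hπ hker h hp h22 hu hv (hL _) (hL _)
  have c1 : Commute (L p) (L q) := hlc hp'.1 hpq
  have c2 : Commute (L p) (L r) := hlc hp'.1 hpr
  have c3 : Commute (L q) (L r) := hlc hq'.1 hqr
  have c4 : Commute (L a') (L b') := hlc ha'.1 hab'
  have c5 : Commute (L a') (L c') := hlc ha'.1 hac'
  have c6 : Commute (L b') (L c') := hlc hb'.1 hbc'
  have hA : (x * (L p * L q * L r)) * (x * (L p * L q * L r)) = (x * x) ^ 4 := by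
    have := prod_mul_self (hker _ hxx).1 (l := [x, L p, L q, L r]) (by
      simp [hall hp'.1 (hL p), hall hq'.1 (hL q), hall hr'.1 (hL r)]) (by
      simp only [List.mem_cons, List.not_mem_nil, or_false]
      rintro u (rfl | rfl | rfl | rfl) v (rfl | rfl | rfl | rfl) <;>
        first
          | exact Commute.refl _
          | assumption
          | exact Commute.symm (by assumption)
          | exact hxc (by assumption)
          | exact (hxc (by assumption)).symm)
    simpa [mul_assoc] using this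
  have hB : (L a' * L b' * L c') * (L a' * L b' * L c') = (x * x) ^ 3 := by
    have := prod_mul_self (hker _ hxx).1 (l := [L a', L b', L c']) (by
      simp [hall ha'.1 (hL a'), hall hb'.1 (hL b'), hall hc'.1 (hL c')]) (by
      simp only [List.mem_cons, List.not_mem_nil, or_false]
      rintro u (rfl | rfl | rfl) v (rfl | rfl | rfl) <;>
        first
          | exact Commute.refl _
          | assumption
          | exact Commute.symm (by assumption))
    simpa [mul_assoc] using this
  have hu := hker ((L a' * L b' * L c')⁻¹ * (x * (L p * L q * L r))) (by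
    simp only [map_mul, map_inv, hx, hL p, hL q, hL r, hL a', hL b', hL c']
    rw [he, inv_mul_cancel])
  obtain ⟨u, hu'⟩ : ∃ u, x * (L p * L q * L r) = L a' * L b' * L c' * u :=
    ⟨_, (mul_inv_cancel_left _ _).symm⟩
  rw [hu', inv_mul_cancel_left] at hu
  rw [hu', Commute.mul_mul_mul_comm (hu.1 _), hu.2, mul_one, hB] at hA
  rw [pow_succ _ 3] at hA
  exact mul_eq_left.1 hA.symm

/-- Every involution of the quotient lifts to an involution. -/
theorem exists_lift_mul_self {j : G} (hj : j * j = 1) : ∃ y : P, π y = j ∧ y * y = 1 := by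
  by_cases hj1 : j = 1
  · exact ⟨1, by rw [map_one, hj1], one_mul 1⟩
  obtain ⟨L, hL⟩ := hπ.hasRightInverse
  have s : ∀ {a : G}, a ∈ D → L a * L a = 1 := fun ha => lift_member_mul_self π hπ hker h hp h22 ha (hL _)
  have c : ∀ {u v : G}, u ∈ D → v ∈ perp D u → Commute (L u) (L v) := fun hu hv =>
    commute_lifts π hπ hker h hp h22 hu hv (hL _) (hL _)
  rcases involution_eq_prod h hp h22 hj hj1 with hjD | ⟨a, b, ha, hb, rfl⟩ |
    ⟨a, b, w, ha, hb, hw, hbw, rfl⟩
  · exact ⟨L j, hL j, s hjD⟩
  · exact ⟨L a * L b, by rw [map_mul, hL, hL],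
      by rw [Commute.mul_mul_mul_comm (c ha hb).symm, s ha, s hb.1, one_mul]⟩
  · refine ⟨L a * L b * L w, by rw [map_mul, map_mul, hL, hL, hL], ?_⟩
    rw [Commute.mul_mul_mul_comm ((c ha hw).mul_left (c hb.1 hbw)).symm,
      Commute.mul_mul_mul_comm (c ha hb).symm, s ha, s hb.1, s hw.1, one_mul, one_mul]

end CfsgLib.FischerTypes
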