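import Cfsg.Agent.FischerTypes.U62Chain

/-!
# The stabiliser of the line of `e` and its action on `e^⊥ / ⟨e⟩`

The action gives a map onto `SU(4,2)`; its kernel is the product of the centre with a group of order `2^9`
whose squares and commutators lie in the transvection group at `e`.
-/

set_option autoImplicit false

namespace CfsgLib.U62

open Matrix CfsgLib.RepBounds.Unit

variable {F : Type*} [Field F] [Fintype F] (C : ConjField F)

/-- Coordinates of the four-dimensional space. -/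
abbrev I4 := Fin 2 ⊕ Fin 2

local notation "ee" => vE C (Fin 2 ⊕ Fin 2)
local notation "ff" => vF C (Fin 2 ⊕ Fin 2)

/-- The factor by which `g` acts on `e`. -/
noncomputable def mu (g : suG C I6) : F := herm C (app C g ee) ff

/-- The stabiliser of the line of `e`. -/
noncomputable def stabLine : Subgroup (suG C I6) where
  carrier := {g | app C g ee = mu C g • ee}
  one_mem' := by
    show app C 1 ee = mu C 1 • ee
    rw [mu, app_one, herm_vE_vF, one_smul]
  mul_mem' {a b} ha hb := by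
    show app C (a * b) ee = mu C (a * b) • ee
    have h1 : app C (a * b) ee = (mu C b * mu C a) • ee := by
      rw [app_mul, hb, app_smul, ha, smul_smul]
    rw [mu, h1, herm_smul_left, herm_vE_vF, mul_one]
  inv_mem' {a} ha := by
    show app C a⁻¹ ee = mu C a⁻¹ • ee
    have h0 : mu C a ≠ 0 := fun h0 => CfsgLib.Forms4.vE_ne_zero C
      (show (ee : I6 → F) = 0 by rw [← app_inv_app C a ee, ha, h0, zero_smul]; simp [app])
    have h1 : app C a⁻¹ ee = (mu C a)⁻¹ • ee := by
      conv_rhs => rw [← app_inv_app C a ee, ha, app_smul, smul_smul, inv_mul_cancel₀ h0, one_smul]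
    rw [mu, h1, herm_smul_left, herm_vE_vF, mul_one]

theorem mem_stabLine {g : suG C I6} : g ∈ stabLine C ↔ app C g ee = mu C g • ee := Iff.rfl

theorem mem_stabLine_of_smul {g : suG C I6} {a : F} (h : app C g ee = a • ee) :
    g ∈ stabLine C ∧ mu C g = a := by
  have h1 : mu C g = a := by rw [mu, h, herm_smul_left, herm_vE_vF, mul_one]
  exact ⟨by rw [mem_stabLine, h1, h], h1⟩

theorem mu_mul {g k : suG C I6} (hg : g ∈ stabLine C) (hk : k ∈ stabLine C) :
    mu C (g * k) = mu C g * mu C k := by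
  refine (mem_stabLine_of_smul C ?_).2
  rw [app_mul, hk, app_smul, hg, smul_smul, mul_comm]

theorem mu_ne_zero {g : suG C I6} (hg : g ∈ stabLine C) : mu C g ≠ 0 := fun h0 =>
  CfsgLib.Forms4.vE_ne_zero C
    (show (ee : I6 → F) = 0 by rw [← app_inv_app C g ee, hg, h0, zero_smul]; simp [app])

/-- The image of a vector orthogonal to `e`. -/
theorem app_inW_eq {g : suG C I6} (hg : g ∈ stabLine C) (x : I4 → F) :
    app C g (inW x) =
      herm C (app C g (inW x)) ff • ee + inW (app C g (inW x) ∘ Sum.inr) := by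
  have h0 : herm C (app C g (inW x)) ee = 0 := by
    have h1 := herm_app C g (inW x) ee
    rw [hg, herm_smul_right, herm_inW_vE] at h1
    exact (mul_eq_zero.1 h1).resolve_left ((map_ne_zero C.σ).2 (mu_ne_zero C hg))
  conv_lhs => rw [decomp C (app C g (inW x)), h0, zero_smul, add_zero]

variable (hC : C.q = 2)
include hC

omit hC in
theorem ee_inr : (ee : I6 → F) ∘ Sum.inr = 0 := rfl

/-- A central element is a scalar. -/
theorem center_smul {z : suG C I6} (hz : z ∈ Subgroup.center (suG C I6)) :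
    ∃ a : F, a ≠ 0 ∧ ∀ x, app C z x = a • x := by
  have he0 : (ee : I6 → F) ≠ 0 := CfsgLib.Forms4.vE_ne_zero C
  have h1 := conj_tv C hC z (herm_vE_vE C (κ := I4))
  rw [← Subgroup.mem_center_iff.1 hz (tv C ee), mul_inv_cancel_right] at h1
  obtain ⟨a, ha⟩ := eq_smul_of_tv_eq C hC (herm_vE_vE C) (by rw [herm_app, herm_vE_vE])
    (fun h0 => he0 (by rw [← app_inv_app C z ee, h0]; simp [app])) h1
  have ha0 : a ≠ 0 := fun h0 => he0 (by
    rw [← app_inv_app C z ee, ha, h0, zero_smul]; simp [app])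
  obtain ⟨w, hw, hws⟩ := exists_scalar C hC ha0
  refine ⟨a, ha0, fun x => ?_⟩
  have h2 : w⁻¹ * z = 1 := center_eq_one C hC (mul_mem (inv_mem hw) hz) (herm_vE_vE C) he0
    (by rw [app_mul, ha, ← hws, app_inv_app])
  rw [← inv_mul_eq_one.1 h2, hws]

/-- An element of the line stabiliser is a scalar, a Heisenberg element and an element of `SU(4,2)`. -/
theorem exists_split {g : suG C I6} (hg : g ∈ stabLine C) :
    ∃ z ∈ Subgroup.center (suG C I6), (∀ x, app C z x = (mu C g)⁻¹ • x) ∧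
      ∃ (w : I4 → F) (c : F) (hc : c + C.σ c + herm C w w = 0) (g' : suG C I4),
        z * g = uniEl C w c hc * blockHom C I4 g' := by
  obtain ⟨z, hz, hzs⟩ := exists_scalar C hC (inv_ne_zero (mu_ne_zero C hg))
  refine ⟨z, hz, hzs, exists_eq_uniEl_mul C (z * g) ?_⟩
  rw [app_mul, hg, hzs, inv_smul_smul₀ (mu_ne_zero C hg)]

/-- The action on `e^⊥ / ⟨e⟩`. -/
theorem exists_block {g : suG C I6} (hg : g ∈ stabLine C) :
    ∃ g' : suG C I4, ∀ x, app C g (inW x) ∘ Sum.inr = mu C g • app C g' x := by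
  obtain ⟨z, -, hzs, w, c, hc, g', he⟩ := exists_split C hC hg
  refine ⟨g', fun x => ?_⟩
  have h1 := congrArg (fun k => app C k (inW x) ∘ Sum.inr) he
  simp only [app_mul, hzs, app_blockHom] at h1
  have e0 : Sum.elim ((inW x : I6 → F) ∘ Sum.inl) (app C g' ((inW x : I6 → F) ∘ Sum.inr)) =
      inW (app C g' x) := rfl
  rw [e0, app_uniEl, herm_inW_vE, herm_inW, zero_smul, add_zero] at h1
  have h2 : (mu C g)⁻¹ • (app C g (inW x) ∘ Sum.inr) = app C g' x := by
    refine Eq.trans ?_ (h1.trans ?_)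
    · rfl
    · funext i; simp [inW, vE]
  rw [← h2, smul_inv_smul₀ (mu_ne_zero C hg)]

/-- The map of the line stabiliser onto `SU(4,2)`. -/
noncomputable def blockPart : ↥(stabLine C) →* suG C I4 :=
  MonoidHom.mk' (fun g => (exists_block C hC g.2).choose) fun g k => by
    refine suG_ext C fun x => ?_
    have eg := (exists_block C hC g.2).choose_spec
    have ek := (exists_block C hC k.2).choose_spec
    have egk := (exists_block C hC (g * k).2).choose_spec x
    have h1 : app C (g.1 * k.1) (inW x) ∘ Sum.inr =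
        mu C (g.1 * k.1) • app C ((exists_block C hC g.2).choose * (exists_block C hC k.2).choose) x := by
      rw [app_mul, app_inW_eq C k.2 x, ek, app_add, app_smul, g.2, app_mul, mu_mul C g.2 k.2, inW_smul,
        app_smul, smul_smul]
      have e2 := eg (app C (exists_block C hC k.2).choose x)
      funext i
      have e3 := congrFun e2 i
      simp only [Function.comp_apply, Pi.smul_apply, smul_eq_mul] at e3
      simp only [Function.comp_apply, Pi.add_apply, Pi.smul_apply, smul_eq_mul]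
      rw [e3, show (ee : I6 → F) (Sum.inr i) = 0 from rfl]
      ring
    exact smul_right_injective _ (mu_ne_zero C (g * k).2) (egk.symm.trans h1)

theorem blockPart_spec (g : ↥(stabLine C)) (x : I4 → F) :
    app C g.1 (inW x) ∘ Sum.inr = mu C g.1 • app C (blockPart C hC g) x :=
  (exists_block C hC g.2).choose_spec x

theorem blockPart_eq (g : ↥(stabLine C)) (g' : suG C I4)
    (h : ∀ x, app C g.1 (inW x) ∘ Sum.inr = mu C g.1 • app C g' x) : blockPart C hC g = g' :=
  suG_ext C fun x => smul_right_injective _ (mu_ne_zero C g.2) ((blockPart_spec C hC g x).symm.trans (h x))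

theorem blockPart_surjective : Function.Surjective (blockPart C hC) := by
  intro g'
  have h1 : app C (blockHom C I4 g') ee = (1 : F) • ee := by
    rw [one_smul, app_blockHom]
    ext (i | i)
    · rfl
    · simp [vE, app, Function.comp_def, show (fun _ : Fin 2 ⊕ Fin 2 => (0 : F)) = 0 from rfl]
  refine ⟨⟨_, (mem_stabLine_of_smul C h1).1⟩, blockPart_eq C hC _ g' fun x => ?_⟩
  show app C (blockHom C I4 g') (inW x) ∘ Sum.inr = mu C (blockHom C I4 g') • _
  rw [(mem_stabLine_of_smul C h1).2, one_smul, app_blockHom]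
  rfl

theorem center_le_stabLine {z : suG C I6} (hz : z ∈ Subgroup.center (suG C I6)) : z ∈ stabLine C := by
  obtain ⟨a, -, ha⟩ := center_smul C hC hz
  exact (mem_stabLine_of_smul C (ha ee)).1

theorem blockPart_center {z : suG C I6} (hz : z ∈ Subgroup.center (suG C I6)) :
    blockPart C hC ⟨z, center_le_stabLine C hC hz⟩ = 1 := by
  obtain ⟨a, -, ha⟩ := center_smul C hC hz
  refine blockPart_eq C hC _ 1 fun x => ?_
  rw [app_one, ha, (mem_stabLine_of_smul C (ha ee)).2]
  rfl

theorem tv_mem_stabLine {p : I6 → F} (hp : herm C p p = 0) (hpe : herm C p ee = 0) :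
    tv C p ∈ stabLine C ∧ mu C (tv C p) = 1 := by
  refine mem_stabLine_of_smul C ?_
  rw [app_tv C hC hp, ← conj_herm, hpe, map_zero, zero_smul, add_zero, one_smul]

/-- The image of a transvection orthogonal to `e`. -/
theorem blockPart_tv {p : I6 → F} (hp : herm C p p = 0) (hpe : herm C p ee = 0) :
    blockPart C hC ⟨tv C p, (tv_mem_stabLine C hC hp hpe).1⟩ = tv C (p ∘ Sum.inr) := by
  have hd := decomp C p
  rw [hpe, zero_smul, add_zero] at hd
  set w := p ∘ Sum.inr
  have hww : herm C w w = 0 := by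
    rw [hd] at hp
    simpa [herm_add_left, herm_add_right, herm_smul_left, herm_smul_right, herm_vE_vE, herm_vE_inW,
      herm_inW_vE, herm_inW] using hp
  refine blockPart_eq C hC _ _ fun x => ?_
  show app C (tv C p) (inW x) ∘ Sum.inr = mu C (tv C p) • _
  rw [(tv_mem_stabLine C hC hp hpe).2, one_smul, app_tv C hC hp, app_tv C hC hww]
  have h1 : herm C (inW x) p = herm C x w := by
    rw [hd, herm_add_right, herm_smul_right, herm_inW_vE, herm_inW, mul_zero, zero_add]
  rw [h1]
  rfl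

omit hC in
theorem tv_ee_mem_stabLine (hC : C.q = 2) : tv C ee ∈ stabLine C :=
  (tv_mem_stabLine C hC (herm_vE_vE C) (herm_vE_vE C)).1

/-- The Heisenberg elements with `w = 0`. -/
theorem uniEl_zero_cases (d : F) (hd : d + C.σ d + herm C (0 : I4 → F) 0 = 0) :
    uniEl C (0 : I4 → F) d hd = 1 ∨ uniEl C (0 : I4 → F) d hd = tv C ee := by
  have hd' : d ∈ C.skew := by rw [herm_zero_left, add_zero] at hd; exact hd
  by_cases h0 : d = 0
  · left
    rw [uniEl_congr C hd (by simp [herm_zero_left]) rfl h0, uniEl_zero]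
  · right
    have hd1 : d = 1 := eq_one_of_fixed C hC (by rw [C.skew_eq hd', neg_eq C hC]) h0
    subst hd1
    exact (isTransv_central C hd').unique C (isTransv_tv C hC (herm_vE_vE C))

/-- The kernel consists of central multiples of Heisenberg elements. -/
theorem ker_blockPart {g : ↥(stabLine C)} (hg : blockPart C hC g = 1) :
    ∃ z ∈ Subgroup.center (suG C I6), ∃ (w : I4 → F) (c : F) (hc : c + C.σ c + herm C w w = 0),
      g.1 = z * uniEl C w c hc := by
  obtain ⟨z, hz, hzs, w, c, hc, g', he⟩ := exists_split C hC g.2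
  have hzm := center_le_stabLine C hC hz
  have hu : uniEl C w c hc ∈ stabLine C ∧ mu C (uniEl C w c hc) = 1 :=
    mem_stabLine_of_smul C (by rw [app_uniEl_vE, one_smul])
  have hb : blockHom C I4 g' ∈ stabLine C := by
    have h1 := (stabLine C).mul_mem ((stabLine C).inv_mem hu.1) ((stabLine C).mul_mem hzm g.2)
    rwa [he, inv_mul_cancel_left] at h1
  have hb1 : mu C (blockHom C I4 g') = 1 := by
    refine (mem_stabLine_of_smul C ?_).2
    rw [one_smul, app_blockHom]
    ext (i | i)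
    · rfl
    · simp [vE, app, Function.comp_def, show (fun _ : Fin 2 ⊕ Fin 2 => (0 : F)) = 0 from rfl]
  have e1 : blockPart C hC ⟨_, hb⟩ = g' := blockPart_eq C hC _ g' fun x => by
    rw [hb1, one_smul, app_blockHom]; rfl
  have e2 : blockPart C hC ⟨_, hu.1⟩ = 1 := blockPart_eq C hC _ 1 fun x => by
    show app C (uniEl C w c hc) (inW x) ∘ Sum.inr = mu C (uniEl C w c hc) • _
    rw [hu.2, one_smul, app_one, app_uniEl, herm_inW_vE, herm_inW, zero_smul, add_zero]
    funext i; simp [inW, vE]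
  have e3 := congrArg (blockPart C hC)
    (show (⟨z, hzm⟩ : ↥(stabLine C)) * g = ⟨_, hu.1⟩ * ⟨_, hb⟩ from Subtype.ext he)
  rw [map_mul, map_mul, blockPart_center C hC hz, hg, e1, e2, one_mul, one_mul] at e3
  subst e3
  rw [map_one, mul_one] at he
  exact ⟨z⁻¹, inv_mem hz, w, c, hc, by rw [← he, inv_mul_cancel_left]⟩

/-- Squares and commutators in the kernel. -/
theorem ker_blockPart_props {g k : ↥(stabLine C)} (hg : blockPart C hC g = 1)
    (hk : blockPart C hC k = 1) :
    (g.1 * k.1 * g.1⁻¹ * k.1⁻¹ = 1 ∨ g.1 * k.1 * g.1⁻¹ * k.1⁻¹ = tv C ee) ∧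
      ∃ z ∈ Subgroup.center (suG C I6), g.1 ^ 2 = z ∨ g.1 ^ 2 = z * tv C ee := by
  obtain ⟨z₁, hz₁, w₁, c₁, hc₁, e₁⟩ := ker_blockPart C hC hg
  obtain ⟨z₂, hz₂, w₂, c₂, hc₂, e₂⟩ := ker_blockPart C hC hk
  set u₁ := uniEl C w₁ c₁ hc₁ with hu₁
  set u₂ := uniEl C w₂ c₂ hc₂ with hu₂
  have hz1 : ∀ x, x * z₁ = z₁ * x := Subgroup.mem_center_iff.1 hz₁
  have hz2 : ∀ x, x * z₂ = z₂ * x := Subgroup.mem_center_iff.1 hz₂
  refine ⟨?_, z₁ * z₁, mul_mem hz₁ hz₁, ?_⟩
  · have e : g.1 * k.1 * g.1⁻¹ * k.1⁻¹ = u₁ * u₂ * u₁⁻¹ * u₂⁻¹ := by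
      rw [e₁, e₂]
      calc z₁ * u₁ * (z₂ * u₂) * (z₁ * u₁)⁻¹ * (z₂ * u₂)⁻¹
          = z₁ * (u₁ * z₂) * u₂ * u₁⁻¹ * z₁⁻¹ * u₂⁻¹ * z₂⁻¹ := by group
        _ = (z₁ * z₂) * (u₁ * u₂ * u₁⁻¹) * z₁⁻¹ * u₂⁻¹ * z₂⁻¹ := by rw [hz2]; group
        _ = (u₁ * u₂ * u₁⁻¹) * (z₁ * z₂) * z₁⁻¹ * u₂⁻¹ * z₂⁻¹ := by
            rw [Subgroup.mem_center_iff.1 (mul_mem hz₁ hz₂) (u₁ * u₂ * u₁⁻¹)]
        _ = (u₁ * u₂ * u₁⁻¹) * (z₂ * u₂⁻¹) * z₂⁻¹ := by rw [← hz1 z₂]; group
        _ = u₁ * u₂ * u₁⁻¹ * u₂⁻¹ := by rw [← hz2 u₂⁻¹]; group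
    rw [e]
    set d := (c₁ + c₂ - herm C w₂ w₁) - (c₂ + c₁ - herm C w₁ w₂) with hd
    have hdv : d + C.σ d + herm C (0 : I4 → F) 0 = 0 := by
      rw [herm_zero_left, add_zero, hd, map_sub, map_sub, map_sub, map_add, map_add, conj_herm, conj_herm]
      ring
    have h1 : u₁ * u₂ = uniEl C (0 : I4 → F) d hdv * (u₂ * u₁) := by
      rw [hu₁, hu₂, uniEl_mul, uniEl_mul, uniEl_mul]
      exact uniEl_congr C _ _ (by rw [zero_add, add_comm]) (by rw [herm_zero_right, hd]; ring)
    rw [h1, show uniEl C (0 : I4 → F) d hdv * (u₂ * u₁) * u₁⁻¹ * u₂⁻¹ = uniEl C (0 : I4 → F) d hdv by group]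
    exact uniEl_zero_cases C hC d hdv
  · have e : g.1 ^ 2 = z₁ * z₁ * (u₁ * u₁) := by
      rw [e₁, pow_two]
      calc z₁ * u₁ * (z₁ * u₁) = z₁ * (u₁ * z₁) * u₁ := by group
        _ = z₁ * z₁ * (u₁ * u₁) := by rw [hz1]; group
    have hv : (c₁ + c₁ - herm C w₁ w₁) + C.σ (c₁ + c₁ - herm C w₁ w₁) + herm C (0 : I4 → F) 0 = 0 := by
      rw [← vec_add_self C hC w₁]; exact uniEl_valid_mul C hc₁ hc₁
    have h1 : u₁ * u₁ = uniEl C (0 : I4 → F) (c₁ + c₁ - herm C w₁ w₁) hv := by
      rw [hu₁, uniEl_mul]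
      exact uniEl_congr C _ _ (vec_add_self C hC w₁) rfl
    rcases uniEl_zero_cases C hC _ hv with h0 | h0
    · left; rw [e, h1, h0, mul_one]
    · right; rw [e, h1, h0]

/-- A scalar of `SU(4,2)` is trivial. -/
theorem eq_one_of_smul {k : suG C I4} {a : F} (h : ∀ x, app C k x = a • x) : k = 1 := by
  have hM : k.1.1 = a • (1 : Matrix I4 I4 F) := Matrix.ext_iff_mulVec.2 fun x => by
    rw [Matrix.smul_mulVec, Matrix.one_mulVec]; exact h x
  have hdet := k.1.2
  rw [hM, Matrix.det_smul, Matrix.det_one, mul_one, show Fintype.card I4 = 3 + 1 by simp, pow_succ] at hdet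
  have ha : a ≠ 0 := fun h0 => by simp [h0] at hdet
  rw [U62.pow_three C hC ha, one_mul] at hdet
  exact suG_ext C fun x => by rw [h, hdet, one_smul, app_one]

/-- The centre of `SU(4,2)` is trivial. -/
theorem center_four : Subgroup.center (suG C I4) = ⊥ := by
  rw [Subgroup.eq_bot_iff_forall]
  intro k hk
  have he0 : (vE C (Fin 2) : I4 → F) ≠ 0 := CfsgLib.Forms4.vE_ne_zero C
  have h1 := conj_tv C hC k (herm_vE_vE C (κ := Fin 2))
  rw [← Subgroup.mem_center_iff.1 hk (tv C (vE C (Fin 2))), mul_inv_cancel_right] at h1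
  obtain ⟨a, ha⟩ := eq_smul_of_tv_eq C hC (herm_vE_vE C) (by rw [herm_app, herm_vE_vE])
    (fun h0 => he0 (by rw [← app_inv_app C k (vE C (Fin 2)), h0]; simp [app])) h1
  have : Nontrivial I4 := ⟨⟨Sum.inl 0, Sum.inl 1, by simp⟩⟩
  have key := eq_of_eq_on_isotropic C hC (Matrix.mulVecLin k.1.1)
    (a • (LinearMap.id : (I4 → F) →ₗ[F] (I4 → F))) fun v hv => by
      show app C k v = a • v
      by_cases hv0 : v = 0
      · rw [hv0, smul_zero]; simp [app]
      obtain ⟨t, -, ht⟩ := exists_to_vE C hv hv0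
      have e : v = app C t⁻¹ (vE C (Fin 2)) := by rw [← ht, app_inv_app]
      rw [e, ← app_mul, ← Subgroup.mem_center_iff.1 hk t⁻¹, app_mul, ha, app_smul]
  exact eq_one_of_smul C hC (a := a) fun x => LinearMap.congr_fun key x

/-- What commutes with the transvections of a chain of four points is trivial. -/
theorem eq_one_of_chain {w : Fin 4 → I4 → F} (hw : IsChain4 C fun i => inW (w i)) {y : suG C I4}
    (hy : ∀ i, Commute y (tv C (w i))) : y = 1 := by
  have hiso : ∀ i, herm C (w i) (w i) = 0 := fun i => by rw [← herm_inW C (w i), hw.iso i]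
  have hw0 : ∀ i, w i ≠ 0 := fun i h0 => by
    have hli := hw.li C
    exact hli.ne_zero i (show (inW (w i) : I6 → F) = 0 by rw [h0, inW_zero])
  have hev : ∀ i, ∃ a : F, a ≠ 0 ∧ app C y (w i) = a • w i := by
    intro i
    have hne : app C y (w i) ≠ 0 := fun h0 => hw0 i (by
      rw [← app_inv_app C y (w i), h0]; simp [app])
    have h1 := conj_tv C hC y (hiso i)
    rw [(hy i).eq, mul_inv_cancel_right] at h1
    obtain ⟨a, ha⟩ := eq_smul_of_tv_eq C hC (hiso i) (by rw [herm_app, hiso i]) hne h1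
    exact ⟨a, fun h0 => hne (by rw [ha, h0, zero_smul]), ha⟩
  choose a ha0 ha using hev
  have hadj : ∀ i j, herm C (w i) (w j) ≠ 0 → a i = a j := by
    intro i j hij
    have h1 := herm_app C y (w i) (w j)
    rw [ha, ha, herm_smul_left, herm_smul_right, ← mul_assoc] at h1
    have h2 : a i * C.σ (a j) = 1 := mul_right_cancel₀ hij (h1.trans (one_mul _).symm)
    calc a i = a i * (a j * C.σ (a j)) := by rw [norm_eq_one C hC (ha0 j), mul_one]
      _ = a i * C.σ (a j) * a j := by ring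
      _ = a j := by rw [h2, one_mul]
  have h01 := hadj 0 1 (by rw [← herm_inW C]; exact hw.adj01)
  have h12 := hadj 1 2 (by rw [← herm_inW C]; exact hw.adj12)
  have h23 := hadj 2 3 (by rw [← herm_inW C]; exact hw.adj23)
  have hall : ∀ i, a i = a 0 := by
    intro i
    fin_cases i
    exacts [rfl, h01.symm, (h01.trans h12).symm, (h01.trans (h12.trans h23)).symm]
  have hli : LinearIndependent F w := by
    rw [Fintype.linearIndependent_iff]
    intro c hc i
    refine Fintype.linearIndependent_iff.1 (hw.li C) c ?_ i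
    have e : (∑ i, c i • inW (w i) : I6 → F) = inW (∑ i, c i • w i) := by
      simp only [← inW_smul, Fin.sum_univ_four, ← inW_add]
    rw [e, hc, inW_zero]
  refine eq_one_of_smul C hC (a := a 0) fun x => ?_
  have key : (Matrix.mulVecLin y.1.1 : (I4 → F) →ₗ[F] (I4 → F)) = a 0 • LinearMap.id :=
    LinearMap.ext_on (hli.span_eq_top_of_card_eq_finrank (by simp)) (fun z hz => by
      obtain ⟨i, rfl⟩ := hz
      show app C y (w i) = a 0 • w i
      rw [ha i, hall i])
  exact LinearMap.congr_fun key x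

/-- `SU(4,2)` is `PSU(4,2)`. -/
theorem nonempty_equiv_psu : Nonempty (suG C I4 ≃* Cfsg.PSU 4 F 2) := by
  have hSU : suG C (Fin 4) = Cfsg.SU 4 F 2 := by rw [suG_fin_eq, hC]
  let e : suG C I4 ≃* Cfsg.SU 4 F 2 :=
    (reindexEquiv C (finSumFinEquiv : I4 ≃ Fin 4)).trans (MulEquiv.subgroupCongr hSU)
  have hbot : Subgroup.center (Cfsg.SU 4 F 2) = ⊥ := by
    rw [Subgroup.eq_bot_iff_forall]
    intro x hx
    have h1 : e.symm x ∈ Subgroup.center (suG C I4) := Subgroup.mem_center_iff.2 fun g =>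
      e.injective (by simpa using Subgroup.mem_center_iff.1 hx (e g))
    rw [center_four C hC, Subgroup.mem_bot] at h1
    simpa using congrArg e h1
  exact ⟨e.trans (((QuotientGroup.quotientMulEquivOfEq hbot).trans QuotientGroup.quotientBot).symm)⟩

end CfsgLib.U62
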