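import Cfsg.Agent.FischerTypes.M22FiveCent
import Cfsg.Agent.FischerTypes.U62Block
import Cfsg.Agent.S0280
import Cfsg.Agent.AutPSU.AutOrder
import Cfsg.Agent.RegularLinear.Field

/-!
# The centralizers of two commuting members and of their product in type M(22)
-/

set_option autoImplicit false
set_option maxHeartbeats 800000

namespace CfsgLib.FischerTypes

open Cfsg CfsgLib.U62 CfsgLib.RepBounds.Unit

section facts

variable {F : Type*} [Field F] [Fintype F] (C : ConjField F)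

theorem card_suG_four (hC : C.q = 2) : Nat.card (suG C I4) = 25920 := by
  obtain ⟨e⟩ := nonempty_equiv_psu C hC
  have h := Cfsg.Agent.S0280.result (F := F) (q := 2) (by rw [C.card, hC]) 4 (by norm_num)
  simp [Finset.prod_range_succ, Nat.even_iff] at h
  rw [Nat.card_congr e.toEquiv]
  omega

theorem simple_suG_four (hC : C.q = 2) : IsSimpleGroup (suG C I4) := by
  obtain ⟨e⟩ := nonempty_equiv_psu C hC
  have := CfsgLib.Forms4.isSimpleGroup_PSU (F := F) (q := 2) (by rw [C.card, hC]) 4 (by norm_num) (by simp)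
  have : Nontrivial (suG C I4) := e.toEquiv.nontrivial
  exact IsSimpleGroup.isSimpleGroup_of_surjective e.symm.toMonoidHom e.symm.surjective

theorem card_aut_suG_four (hC : C.q = 2) : Nat.card (MulAut (Cfsg.PSU 4 F 2)) = 51840 := by
  have : Fact (Nat.Prime 2) := ⟨Nat.prime_two⟩
  have : CharP F 2 := (CharP.charP_iff_prime_eq_zero Nat.prime_two).2 (by exact_mod_cast two_eq_zero C hC)
  have hF : Fintype.card F = 2 ^ 2 := by rw [C.card, hC]
  rw [CfsgLib.AutPSU.card_aut_psu hF (by norm_num) (by simp),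
    CfsgLib.RegLinear.card_ringAut (q := 2) (d := 2) (by rw [Nat.card_eq_fintype_card, hF])]
  obtain ⟨e⟩ := nonempty_equiv_psu C hC
  rw [← Nat.card_congr e.toEquiv, card_suG_four C hC]
  norm_num

end facts

variable {G : Type*} [Group G] {D : Set G}

namespace PerpModel

variable {d : G}

/-- A model in which a given member of `D_d` corresponds to `e`. -/
theorem exists_at [Finite G] (h : IsThreeTranspositionGroup D) (h22 : IsOfTypeM22 G D) {f : G} (hd : d ∈ D)
    (hf : f ∈ perp D d) : ∃ M : PerpModel D d, bar hf = M.θ (tv M.C (vE M.C (Fin 2 ⊕ Fin 2))) := by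
  obtain ⟨M⟩ := exists_perpModel h h22 hd
  obtain ⟨v, hv, hv0, hvf⟩ := M.exists_pt hf
  obtain ⟨a, ha⟩ := exists_map_eq M.C hv hv0
  have hsurj : Function.Surjective (M.θ.comp (MulAut.conj a⁻¹).toMonoidHom) :=
    M.surj.comp (MulAut.conj a⁻¹).surjective
  have hker : (M.θ.comp (MulAut.conj a⁻¹).toMonoidHom).ker = Subgroup.center (suG M.C I6) := by
    rw [← MonoidHom.comap_ker, M.hker]
    ext x
    simp only [Subgroup.mem_comap, MulEquiv.coe_toMonoidHom, MulAut.conj_apply, inv_inv]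
    refine ⟨fun hx => ?_, fun hx => ?_⟩
    · have h1 := Subgroup.mem_center_iff.1 hx a
      rw [show x = a * (a⁻¹ * x * a) * a⁻¹ by group, h1, mul_inv_cancel_right]
      exact hx
    · rwa [mul_assoc, ← Subgroup.mem_center_iff.1 hx a, inv_mul_cancel_left]
  have hmap : ∀ w, herm M.C w w = 0 → (M.θ.comp (MulAut.conj a⁻¹).toMonoidHom) (tv M.C w) =
      M.θ (tv M.C (app M.C a⁻¹ w)) := fun w hw => by
    show M.θ (a⁻¹ * tv M.C w * a⁻¹⁻¹) = _
    rw [conj_tv M.C M.hq _ hw]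
  refine ⟨{ K := M.K, C := M.C, hq := M.hq, θ := _, surj := hsurj, hker := hker, mem_img := fun p => ?_,
            group := M.group, noCentral := M.noCentral, noTwins := M.noTwins }, ?_⟩
  · rw [M.mem_img]
    constructor
    · rintro ⟨w, hw, hw0, rfl⟩
      refine ⟨app M.C a w, by rw [herm_app, hw], fun h0 => hw0 (by
        rw [← app_inv_app M.C a w, h0]; simp [app]), ?_⟩
      rw [hmap _ (by rw [herm_app, hw]), app_inv_app]
    · rintro ⟨w, hw, hw0, rfl⟩
      exact ⟨app M.C a⁻¹ w, by rw [herm_app, hw], fun h0 => hw0 (by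
        rw [← app_app_inv M.C a w, h0]; simp [app]), hmap w hw⟩
  · show bar hf = (M.θ.comp (MulAut.conj a⁻¹).toMonoidHom) (tv M.C _)
    rw [hmap _ (herm_vE_vE M.C), ← ha, app_inv_app, hvf]

variable (M : PerpModel D d)

include M in
/-- `⟨D_d⟩` is transitive on paths of length two between commuting ends. -/
theorem exists_conj_path {x y z x' y' z' : G} (hx : x ∈ perp D d) (hy : y ∈ perp D d) (hz : z ∈ perp D d)
    (hx' : x' ∈ perp D d) (hy' : y' ∈ perp D d) (hz' : z' ∈ perp D d)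
    (nxy : ¬ Commute x y) (nyz : ¬ Commute y z) (cxz : Commute x z) (hxz : x ≠ z)
    (nxy' : ¬ Commute x' y') (nyz' : ¬ Commute y' z') (cxz' : Commute x' z') (hxz' : x' ≠ z') :
    ∃ g ∈ Subgroup.closure (perp D d), g * x * g⁻¹ = x' ∧ g * y * g⁻¹ = y' ∧ g * z * g⁻¹ = z' := by
  set e₀ : I6 → M.K := vE M.C (Fin 2 ⊕ Fin 2)
  set f₀ : I6 → M.K := vF M.C (Fin 2 ⊕ Fin 2)
  set s₀ : I6 → M.K := e₀ + inW (vE M.C (Fin 2)) with hs₀
  have hs₀i : herm M.C s₀ s₀ = 0 := by
    simp [hs₀, e₀, herm_add_left, herm_add_right, herm_vE_vE, herm_vE_inW, herm_inW_vE, herm_inW]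
  have canon : ∀ {x y z : G} (hx : x ∈ perp D d) (hy : y ∈ perp D d) (hz : z ∈ perp D d),
      ¬ Commute x y → ¬ Commute y z → Commute x z → x ≠ z →
      ∃ k : suG M.C I6, M.θ k * bar hx * (M.θ k)⁻¹ = M.θ (tv M.C e₀) ∧
        M.θ k * bar hy * (M.θ k)⁻¹ = M.θ (tv M.C f₀) ∧ M.θ k * bar hz * (M.θ k)⁻¹ = M.θ (tv M.C s₀) := by
    intro x y z hx hy hz nxy nyz cxz hxz
    obtain ⟨u, hu, hu0, hxu⟩ := M.exists_pt hx
    obtain ⟨w, hw, hw0, hyw⟩ := M.exists_pt hy
    obtain ⟨v, hv, hv0, hzv⟩ := M.exists_pt hz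
    have hwu : herm M.C w u ≠ 0 := fun h0 => nxy ((M.commute_iff hx hy hu hw hw0 hxu hyw).2 h0)
    have hvw : herm M.C v w ≠ 0 := fun h0 => nyz ((M.commute_iff hy hz hw hv hv0 hyw hzv).2 h0)
    have hvu : herm M.C v u = 0 := (M.commute_iff hx hz hu hv hv0 hxu hzv).1 cxz
    obtain ⟨m, b, hb, hmu, hmw⟩ := exists_map_nonorth M.C hu hw hwu
    set v' := app M.C m v with hv'
    have hv'e : herm M.C v' e₀ = 0 := by
      show herm M.C v' (vE M.C (Fin 2 ⊕ Fin 2)) = 0
      rw [← hmu, hv', herm_app, hvu]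
    set α := herm M.C v' f₀ with hα
    have hα0 : α ≠ 0 := by
      intro h0
      apply hvw
      rw [← herm_app M.C m, hmw, herm_smul_right, ← hv', ← hα, h0, mul_zero]
    have hd' := decomp M.C v'
    rw [hv'e, zero_smul, add_zero, ← hα] at hd'
    set t₀ : I4 → M.K := α⁻¹ • (v' ∘ Sum.inr) with ht₀
    have ht0 : t₀ ≠ 0 := by
      intro h0
      rw [ht₀, smul_eq_zero] at h0
      rw [h0.resolve_left (inv_ne_zero hα0), inW_zero, add_zero] at hd'
      refine hxz (M.eq_of_smul hx hz hu hv0 hxu hzv (a := α) ?_)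
      rw [← app_inv_app M.C m v, ← hv', hd', app_smul, ← hmu, app_inv_app]
    have htt : herm M.C t₀ t₀ = 0 := by
      have h1 : herm M.C v' v' = 0 := by rw [hv', herm_app, hv]
      rw [hd'] at h1
      simp [herm_add_left, herm_add_right, herm_smul_left, herm_smul_right, herm_vE_vE, herm_vE_inW,
        herm_inW_vE, herm_inW] at h1
      rw [ht₀, herm_smul_left, herm_smul_right, h1, mul_zero, mul_zero]
    obtain ⟨t, -, ht⟩ := exists_to_vE M.C htt ht0
    set B := blockHom M.C I4 t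
    have hBe : app M.C B e₀ = e₀ := by
      rw [app_blockHom]
      ext (i | i)
      · rfl
      · simp [e₀, vE, app, Function.comp_def, show (fun _ : Fin 2 ⊕ Fin 2 => (0 : M.K)) = 0 from rfl]
    have hBf : app M.C B f₀ = f₀ := by
      rw [app_blockHom]
      ext (i | i)
      · rfl
      · simp [f₀, vF, app, Function.comp_def, show (fun _ : Fin 2 ⊕ Fin 2 => (0 : M.K)) = 0 from rfl]
    have hBW : app M.C B (inW t₀) = inW (vE M.C (Fin 2)) := by
      rw [app_blockHom, show (inW t₀ : I6 → M.K) ∘ Sum.inr = t₀ from rfl, ht]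
      rfl
    have cj : ∀ {p : G} (hp : p ∈ perp D d) {r r' : I6 → M.K} {c : M.K}, herm M.C r r = 0 →
        bar hp = M.θ (tv M.C r) → c ≠ 0 → herm M.C r' r' = 0 → app M.C (B * m) r = c • r' →
        M.θ (B * m) * bar hp * (M.θ (B * m))⁻¹ = M.θ (tv M.C r') := by
      intro p hp r r' c hr hpr hc hr' happ
      rw [hpr, ← map_inv, ← map_mul, ← map_mul, conj_tv M.C M.hq _ hr, happ, tv_smul M.C M.hq hc hr']
    refine ⟨B * m, cj hx hu hxu one_ne_zero (herm_vE_vE M.C) ?_, cj hy hw hyw hb (herm_vF_vF M.C) ?_,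
      cj hz hv hzv hα0 hs₀i ?_⟩
    · rw [app_mul, hmu, one_smul]; exact hBe
    · rw [app_mul, hmw, app_smul]; exact congrArg (b • ·) hBf
    · rw [app_mul, ← hv', hd']
      rw [show α • vE M.C (Fin 2 ⊕ Fin 2) + inW (v' ∘ Sum.inr) = α • (e₀ + inW t₀) by
        rw [smul_add, ← inW_smul, ht₀, smul_inv_smul₀ hα0], app_smul, app_add, hBe, hBW]
  obtain ⟨k, k1, k2, k3⟩ := canon hx hy hz nxy nyz cxz hxz
  obtain ⟨k', k1', k2', k3'⟩ := canon hx' hy' hz' nxy' nyz' cxz' hxz'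
  obtain ⟨g, hg⟩ := QuotientGroup.mk_surjective (M.θ (k'⁻¹ * k))
  have key : ∀ {p p' : G} (hp : p ∈ perp D d) (hp' : p' ∈ perp D d),
      M.θ k * bar hp * (M.θ k)⁻¹ = M.θ k' * bar hp' * (M.θ k')⁻¹ → (g : G) * p * (g : G)⁻¹ = p' := by
    intro p p' hp hp' he
    refine M.bar_inj (conj_mem_perp' M.group g.2 hp) hp' ?_
    have e1 : bar (conj_mem_perp' M.group g.2 hp) =
        (QuotientGroup.mk g : PerpQuot D d) * bar hp * (QuotientGroup.mk g : PerpQuot D d)⁻¹ := rfl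
    rw [e1, hg, map_mul, map_inv]
    calc (M.θ k')⁻¹ * M.θ k * bar hp * ((M.θ k')⁻¹ * M.θ k)⁻¹
        = (M.θ k')⁻¹ * (M.θ k * bar hp * (M.θ k)⁻¹) * M.θ k' := by group
      _ = bar hp' := by rw [he]; group
  exact ⟨g, g.2, key hx hx' (k1.trans k1'.symm), key hy hy' (k2.trans k2'.symm),
    key hz hz' (k3.trans k3'.symm)⟩

/-- The image of an element of the centralizer of a member and one of its neighbours. -/
theorem exists_rho [Finite G] (h : IsThreeTranspositionGroup D) (hp : IsPrimitiveUnderConj D)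
    (h22 : IsOfTypeM22 G D) (hd : d ∈ D) {f : G} (hf : f ∈ perp D d)
    (hfe : bar hf = M.θ (tv M.C (vE M.C (Fin 2 ⊕ Fin 2)))) :
    ∃ ρ : ↥(Subgroup.centralizer ({d, f} : Set G)) →* suG M.C I4, Function.Surjective ρ ∧
      ∀ (k : ↥(Subgroup.centralizer ({d, f} : Set G))) (hk : (k : G) ∈ Subgroup.closure (perp D d))
        (g : suG M.C I6), M.θ g = QuotientGroup.mk (⟨(k : G), hk⟩ : ↥(Subgroup.closure (perp D d))) →
        ∃ hg : g ∈ stabLine M.C, ρ k = blockPart M.C M.hq ⟨g, hg⟩ := by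
  classical
  set e₀ : I6 → M.K := vE M.C (Fin 2 ⊕ Fin 2)
  have he₀ : e₀ ≠ 0 := CfsgLib.Forms4.vE_ne_zero M.C
  have hCd := centralizer_eq h hp h22 hd
  set H := Subgroup.closure (perp D d)
  set K := Subgroup.centralizer ({d, f} : Set G)
  have hKH : K ≤ H := hCd ▸ Subgroup.centralizer_le (by simp)
  let π : ↥K →* PerpQuot D d := (QuotientGroup.mk' (Subgroup.center ↥H)).comp (Subgroup.inclusion hKH)
  have hstab : ∀ (k : ↥K) (g : suG M.C I6), M.θ g = π k → g ∈ stabLine M.C := by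
    intro k g hg
    have h1 : M.θ (tv M.C (app M.C g e₀)) = M.θ (tv M.C e₀) := by
      rw [← conj_tv M.C M.hq g (herm_vE_vE M.C), map_mul, map_mul, map_inv, hg, ← hfe]
      refine mul_inv_eq_iff_eq_mul.2 ?_
      show QuotientGroup.mk (Subgroup.inclusion hKH k * ⟨f, mem_perp_closure hf⟩ : ↥H) =
        QuotientGroup.mk ((⟨f, mem_perp_closure hf⟩ : ↥H) * Subgroup.inclusion hKH k)
      exact congrArg QuotientGroup.mk (Subtype.ext ((Subgroup.mem_centralizer_iff.1 k.2) f (by simp)).symm)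
    obtain ⟨a, -, ha⟩ := eq_smul_of_map_eq M.C M.hq M.θ M.hker (herm_vE_vE M.C)
      (by rw [herm_app]; exact herm_vE_vE M.C)
      (fun h0 => he₀ (by rw [← app_inv_app M.C g e₀, h0]; simp [app])) h1.symm
    exact (mem_stabLine_of_smul M.C ha).1
  have hwd : ∀ (g g' : ↥(stabLine M.C)), M.θ g.1 = M.θ g'.1 →
      blockPart M.C M.hq g = blockPart M.C M.hq g' := by
    intro g g' he
    have hz : g.1⁻¹ * g'.1 ∈ Subgroup.center (suG M.C I6) :=
      mem_center_of_map_eq_one M.C M.θ M.hker (by rw [map_mul, map_inv, he, inv_mul_cancel])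
    have h1 : blockPart M.C M.hq (g⁻¹ * g') = 1 := blockPart_center M.C M.hq hz
    rw [map_mul, map_inv, inv_mul_eq_one] at h1
    exact h1
  let lift : ↥K → ↥(stabLine M.C) := fun k => ⟨(M.surj (π k)).choose, hstab k _ (M.surj (π k)).choose_spec⟩
  have hlift : ∀ k, M.θ (lift k).1 = π k := fun k => (M.surj (π k)).choose_spec
  let ρ : ↥K →* suG M.C I4 := MonoidHom.mk' (fun k => blockPart M.C M.hq (lift k)) fun a b => by
    rw [← map_mul]
    refine hwd _ _ ?_
    rw [hlift, Subgroup.coe_mul, map_mul M.θ, hlift, hlift, map_mul]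
  refine ⟨ρ, fun y => ?_, fun k hk g hg => ⟨hstab k g hg, hwd (lift k) ⟨g, _⟩ ((hlift k).trans hg.symm)⟩⟩
  obtain ⟨g, rfl⟩ := blockPart_surjective M.C M.hq y
  obtain ⟨⟨k, hk⟩, hkg⟩ := QuotientGroup.mk_surjective (M.θ g.1)
  have hkK : k ∈ K := by
    have h1 : k * f * k⁻¹ = f := by
      refine M.bar_inj (conj_mem_perp' M.group hk hf) hf ?_
      have e1 : bar (conj_mem_perp' M.group hk hf) = (QuotientGroup.mk (⟨k, hk⟩ : ↥H) : PerpQuot D d) *
          bar hf * (QuotientGroup.mk (⟨k, hk⟩ : ↥H) : PerpQuot D d)⁻¹ := rfl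
      rw [e1, hkg, hfe, ← map_inv, ← map_mul, ← map_mul, conj_tv M.C M.hq _ (herm_vE_vE M.C), g.2,
        tv_smul M.C M.hq (mu_ne_zero M.C g.2) (herm_vE_vE M.C)]
    rw [Subgroup.mem_centralizer_iff]
    rintro w (rfl | rfl)
    · exact (Subgroup.mem_centralizer_singleton_iff.1 (hCd.symm ▸ hk)).symm
    · exact (mul_inv_eq_iff_eq_mul.1 h1).symm
  exact ⟨⟨k, hkK⟩, hwd _ _ ((hlift _).trans hkg)⟩

end PerpModel

variable [Finite G] (h : IsThreeTranspositionGroup D) (hp : IsPrimitiveUnderConj D) (h22 : IsOfTypeM22 G D)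

include h hp h22

/-- `G` is transitive on paths of length two between commuting ends. -/
theorem exists_conj_path {a b c a' b' c' : G} (ha : a ∈ D) (hb : b ∈ D) (hc : c ∈ D) (ha' : a' ∈ D)
    (hb' : b' ∈ D) (hc' : c' ∈ D) (nab : ¬ Commute a b) (nbc : ¬ Commute b c) (cac : Commute a c) (hac : a ≠ c)
    (nab' : ¬ Commute a' b') (nbc' : ¬ Commute b' c') (cac' : Commute a' c') (hac' : a' ≠ c') :
    ∃ g : G, g * a * g⁻¹ = a' ∧ g * b * g⁻¹ = b' ∧ g * c * g⁻¹ = c' := by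
  have common : ∀ {a b c : G}, a ∈ D → b ∈ D → c ∈ D → ¬ Commute a b → ¬ Commute b c → Commute a c → a ≠ c →
      ∃ q ∈ D, a ∈ perp D q ∧ b ∈ perp D q ∧ c ∈ perp D q := by
    intro a b c ha hb hc nab nbc cac hac
    have hca : c ∈ perp D a := ⟨hc, hac.symm, cac⟩
    obtain ⟨q, hq, hqc⟩ := exists_commute_common h hp h22 ha hb nab (common_nonempty h hp h22 ha hb nab) hca nbc
    exact ⟨q, hq.1.1, perp_symm ha hq.1, perp_symm hb hq.2, perp_symm hc hqc⟩
  obtain ⟨q, hq, qa, qb, qc⟩ := common ha hb hc nab nbc cac hac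
  obtain ⟨q', hq', qa', qb', qc'⟩ := common ha' hb' hc' nab' nbc' cac' hac'
  obtain ⟨g, hg⟩ := single_class h h22 hq hq'
  have cj : ∀ {z : G}, z ∈ perp D q → g * z * g⁻¹ ∈ perp D q' := fun {z} hz =>
    hg ▸ ⟨h.2.1 g z hz.1, fun he => hz.2.1 (mul_left_cancel (mul_right_cancel he)),
      (commute_conj_iff' g _ _).2 hz.2.2⟩
  obtain ⟨M⟩ := exists_perpModel h h22 hq'
  obtain ⟨k, -, k1, k2, k3⟩ := M.exists_conj_path (cj qa) (cj qb) (cj qc) qa' qb' qc'
    (fun hh => nab ((commute_conj_iff' g _ _).1 hh)) (fun hh => nbc ((commute_conj_iff' g _ _).1 hh))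
    ((commute_conj_iff' g _ _).2 cac) (fun he => hac (mul_left_cancel (mul_right_cancel he)))
    nab' nbc' cac' hac'
  exact ⟨k * g, by rw [← k1]; group, by rw [← k2]; group, by rw [← k3]; group⟩

/-- A chain commuting with a path of length two. -/
theorem exists_chain_path {a b c : G} (ha : a ∈ D) (hb : b ∈ D) (hc : c ∈ D) (nab : ¬ Commute a b)
    (nbc : ¬ Commute b c) (cac : Commute a c) (hac : a ≠ c) :
    ∃ w : Fin 4 → G, MemberChain D w ∧ ∀ i, Commute (w i) b ∧ w i ∈ perp D a ∧ w i ∈ perp D c := by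
  obtain ⟨d, hd⟩ : D.Nonempty := let ⟨x, hx, _⟩ := hp.2.1; ⟨x, hx⟩
  obtain ⟨w, hw, hwd⟩ := exists_memberChain h h22 hd
  obtain ⟨r, hr, hrw, -⟩ := five_centralizer h hp h22 hw hd hwd
  have n02 : r 0 ≠ r 2 := fun he => hr.nc23 (by rw [← he]; exact hr.c03)
  obtain ⟨g, g0, g1, g2⟩ := exists_conj_path h hp h22 (hr.mem 0) (hr.mem 1) (hr.mem 2) ha hb hc hr.nc01
    hr.nc12 hr.c02 n02 nab nbc cac hac
  have cm : ∀ i j, Commute (g * r j * g⁻¹) (g * w i * g⁻¹) := fun i j =>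
    (commute_conj_iff' g _ _).2 (hrw j i)
  refine ⟨fun i => g * w i * g⁻¹,
    ⟨fun i => h.2.1 g _ (hw.mem i), fun hh => hw.nc01 ((commute_conj_iff' g _ _).1 hh),
      fun hh => hw.nc12 ((commute_conj_iff' g _ _).1 hh), fun hh => hw.nc23 ((commute_conj_iff' g _ _).1 hh),
      (commute_conj_iff' g _ _).2 hw.c02, (commute_conj_iff' g _ _).2 hw.c03,
      (commute_conj_iff' g _ _).2 hw.c13⟩, fun i => ?_⟩
  have k0 := cm i 0
  have k1 := cm i 1
  have k2 := cm i 2
  rw [g0] at k0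
  rw [g1] at k1
  rw [g2] at k2
  exact ⟨k1.symm, ⟨h.2.1 g _ (hw.mem i), fun he => nab (he ▸ k1.symm), k0⟩,
    ⟨h.2.1 g _ (hw.mem i), fun he => nbc (he ▸ k1), k2⟩⟩

omit hp in
/-- The product of the conjugates of two commuting members by a member commuting with neither exchanges them. -/
theorem swap_elem {a b e : G} (ha : a ∈ D) (hb : b ∈ D) (he : e ∈ D) (hab : Commute a b)
    (nea : ¬ Commute e a) (neb : ¬ Commute e b) :
    e * (a * b) * e * a * (e * (a * b) * e)⁻¹ = b ∧ e * (a * b) * e * b * (e * (a * b) * e)⁻¹ = a := by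
  have key : ∀ {a b : G}, a ∈ D → b ∈ D → Commute a b → ¬ Commute e a → ¬ Commute e b →
      (e * a * e) * ((e * b * e) * a * (e * b * e)) * (e * a * e) = b := by
    intro a b ha hb hab nea neb
    have m : ∀ {u : G}, u ∈ D → ∀ t, u * (u * t) = t := fun hu t => mul_self_cancel h.1 hu t
    have r1 := braid h.1 he hb neb
    have r2 := braid h.1 he ha nea
    have aba : a * b * a = b := by rw [hab.eq, mul_assoc, mul_self h.1 ha, mul_one]
    have bab : b * a * b = a := by rw [← hab.eq, mul_assoc, mul_self h.1 hb, mul_one]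
    have ebeb : e * b * e * b * e = b := by
      rw [r1, show b * e * b * b * e = b * e * (b * b) * e by group, mul_self h.1 hb]
      simp [mul_assoc, mul_self h.1 he]
    calc (e * a * e) * ((e * b * e) * a * (e * b * e)) * (e * a * e)
        = (a * e * a) * ((b * e * b) * a * (b * e * b)) * (a * e * a) := by rw [r1, r2]
      _ = (a * e) * (a * b) * (e * (b * a * b) * e) * (b * a) * (e * a) := by group
      _ = (a * e) * (a * b) * (a * e * a) * (b * a) * (e * a) := by rw [bab, r2]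
      _ = a * e * (a * b * a) * e * (a * b * a) * (e * a) := by group
      _ = a * (e * b * e * b * e) * a := by rw [aba]; group
      _ = b := by rw [ebeb, aba]
  have hx : e * (a * b) * e = (e * a * e) * (e * b * e) := by
    rw [show e * a * e * (e * b * e) = e * a * (e * e) * b * e by group, mul_self h.1 he]; group
  have hxy : (e * a * e) * (e * b * e) = (e * b * e) * (e * a * e) := by
    have h1 := ((commute_conj_iff' e a b).2 hab).eq
    rwa [inv_eq h.1 he] at h1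
  have i1 : (e * a * e)⁻¹ = e * a * e := inv_eq h.1 (conj_mem h he ha)
  have i2 : (e * b * e)⁻¹ = e * b * e := inv_eq h.1 (conj_mem h he hb)
  constructor
  · rw [hx, _root_.mul_inv_rev, i1, i2]
    simpa [mul_assoc] using key ha hb hab nea neb
  · rw [hx, hxy, _root_.mul_inv_rev, i1, i2]
    simpa [mul_assoc] using key hb ha hab.symm neb nea

/-- The centralizer of two commuting members and that of their product. -/
theorem pair_centralizer {d₁ d₂ : G} (h₁ : d₁ ∈ D) (h₂ : d₂ ∈ perp D d₁) :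
    Subgroup.centralizer ({d₁, d₂} : Set G) ≤ Subgroup.centralizer ({d₁ * d₂} : Set G) ∧
    ((Subgroup.centralizer ({d₁, d₂} : Set G)).subgroupOf (Subgroup.centralizer ({d₁ * d₂} : Set G))).index = 2 ∧
    (Subgroup.center ↥(Subgroup.centralizer ({d₁, d₂} : Set G))).map
      (Subgroup.centralizer ({d₁, d₂} : Set G)).subtype = Subgroup.closure {d₁, d₂} ∧
    ∃ E : Subgroup G, Subgroup.closure {d₁, d₂} ≤ E ∧ E ≤ Subgroup.centralizer ({d₁ * d₂} : Set G) ∧
      (∀ c ∈ Subgroup.centralizer ({d₁ * d₂} : Set G), ∀ x ∈ E, c * x * c⁻¹ ∈ E) ∧ Nat.card E = 2 ^ 10 ∧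
      (∀ x ∈ E, ∀ y ∈ E, x * y * x⁻¹ * y⁻¹ ∈ Subgroup.closure {d₁, d₂} ∧ x ^ 2 ∈ Subgroup.closure {d₁, d₂}) ∧
      ∃ (_ : (E.subgroupOf (Subgroup.centralizer ({d₁ * d₂} : Set G))).Normal) (F : Type) (_ : Field F)
        (_ : Fintype F), Fintype.card F = 4 ∧
          Nonempty (↥(Subgroup.centralizer ({d₁ * d₂} : Set G)) ⧸
            E.subgroupOf (Subgroup.centralizer ({d₁ * d₂} : Set G)) ≃* MulAut (Cfsg.PSU 4 F 2)) := by
  classical
  have := Fintype.ofFinite G
  obtain ⟨M, hM2⟩ := PerpModel.exists_at h h22 h₁ h₂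
  have h2D : d₂ ∈ D := h₂.1
  have hcc : Commute d₁ d₂ := h₂.2.2
  have hne : d₁ ≠ d₂ := Ne.symm h₂.2.1
  set e₀ : I6 → M.K := vE M.C (Fin 2 ⊕ Fin 2)
  have hCd := centralizer_eq h hp h22 h₁
  set K := Subgroup.centralizer ({d₁, d₂} : Set G) with hK
  set C := Subgroup.centralizer ({d₁ * d₂} : Set G) with hC
  set V := Subgroup.closure ({d₁, d₂} : Set G) with hV
  set H := Subgroup.closure (perp D d₁) with hH
  have hmemK : ∀ {k : G}, k ∈ K ↔ Commute k d₁ ∧ Commute k d₂ := fun {k} => by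
    rw [hK, Subgroup.mem_centralizer_iff]
    refine ⟨fun hk => ⟨(hk _ (by simp)).symm, (hk _ (by simp)).symm⟩, ?_⟩
    rintro ⟨a, b⟩ w (rfl | rfl)
    exacts [a.symm.eq, b.symm.eq]
  have hmemC : ∀ {k : G}, k ∈ C ↔ Commute k (d₁ * d₂) := fun {k} => Subgroup.mem_centralizer_singleton_iff
  have hKC : K ≤ C := fun k hk => hmemC.2 ((hmemK.1 hk).1.mul_right (hmemK.1 hk).2)
  have hKH : K ≤ H := hCd ▸ Subgroup.centralizer_le (by simp)
  have hd₂H : d₂ ∈ H := mem_perp_closure h₂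
  have hd1V : d₁ ∈ V := Subgroup.subset_closure (by simp)
  have hd2V : d₂ ∈ V := Subgroup.subset_closure (by simp)
  have hVK : V ≤ K := by
    rw [hV, Subgroup.closure_le]
    rintro w (rfl | rfl)
    exacts [hmemK.2 ⟨Commute.refl _, hcc⟩, hmemK.2 ⟨hcc.symm, Commute.refl _⟩]
  -- elements with trivial or transvection image are in `V`
  have hone : ∀ {w : G} (hw : w ∈ H),
      (QuotientGroup.mk (⟨w, hw⟩ : ↥H) : PerpQuot D d₁) = 1 → w ∈ V := by
    intro w hw he
    rcases (center_closure_perp h hp h22 h₁ hw).1 (mem_center_closure_iff.1 ((QuotientGroup.eq_one_iff _).1 he))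
      with h0 | h0
    · rw [h0]; exact one_mem _
    · rw [h0]; exact hd1V
  have htwo : ∀ {w : G} (hw : w ∈ H),
      ((QuotientGroup.mk (⟨w, hw⟩ : ↥H) : PerpQuot D d₁) = 1 ∨
        (QuotientGroup.mk (⟨w, hw⟩ : ↥H) : PerpQuot D d₁) = bar h₂) → w ∈ V := by
    rintro w hw (he | he)
    · exact hone hw he
    · have h3 : w * d₂ ∈ V := by
        refine hone (mul_mem hw hd₂H) ?_
        show (QuotientGroup.mk ((⟨w, hw⟩ : ↥H) * ⟨d₂, hd₂H⟩) : PerpQuot D d₁) = 1
        rw [QuotientGroup.mk_mul, he]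
        show bar h₂ * bar h₂ = 1
        rw [hM2, ← map_mul, tv_mul_self M.C M.hq (herm_vE_vE M.C), map_one]
      have h4 := mul_mem h3 hd2V
      rwa [mul_assoc, mul_self h.1 h2D, mul_one] at h4
  obtain ⟨ρ, hρs, hρ⟩ := M.exists_rho h hp h22 h₁ h₂ hM2
  -- images of members commuting with both
  have hρpt : ∀ {z : G} (hz : z ∈ perp D d₁) (hzK : z ∈ K) {p : I6 → M.K}, herm M.C p p = 0 →
      bar hz = M.θ (tv M.C p) → ρ ⟨z, hzK⟩ = tv M.C (p ∘ Sum.inr) ∧
        ∀ hpe : herm M.C p e₀ = 0, p = herm M.C p (vF M.C (Fin 2 ⊕ Fin 2)) • e₀ + inW (p ∘ Sum.inr) := by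
    intro z hz hzK p hpp hzp
    refine ⟨?_, fun hpe => ?_⟩
    · obtain ⟨hg, he⟩ := hρ ⟨z, hzK⟩ (mem_perp_closure hz) (tv M.C p) hzp.symm
      have hpe : herm M.C p e₀ = 0 := by
        by_cases hp0 : p = 0
        · rw [hp0, herm_zero_left]
        exact (M.commute_iff h₂ hz (herm_vE_vE M.C) hpp hp0 hM2 hzp).1 (hmemK.1 hzK).2.symm
      exact he.trans (blockPart_tv M.C M.hq hpp hpe)
    · conv_lhs => rw [decomp M.C p, hpe, zero_smul, add_zero]
  set E : Subgroup G := ρ.ker.map K.subtype with hE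
  have hEK : E ≤ K := by rintro _ ⟨x, -, rfl⟩; exact x.2
  have hmemE : ∀ {x : G} (hx : x ∈ K), x ∈ E ↔ ρ ⟨x, hx⟩ = 1 := fun {x} hx =>
    ⟨fun ⟨y, hy, he⟩ => by rw [show (⟨x, hx⟩ : ↥K) = y from Subtype.ext he.symm]; exact hy,
      fun h0 => ⟨⟨x, hx⟩, h0, rfl⟩⟩
  have hVE : V ≤ E := by
    rw [hV, Subgroup.closure_le]
    rintro w (rfl | rfl)
    · have hwK : w ∈ K := hVK hd1V
      refine (hmemE hwK).2 ?_
      have hwc : (⟨w, hKH hwK⟩ : ↥H) ∈ Subgroup.center ↥H :=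
        mem_center_closure_iff.2 ((center_closure_perp h hp h22 h₁ (hKH hwK)).2 (Or.inr rfl))
      obtain ⟨_, he⟩ := hρ ⟨w, hwK⟩ (hKH hwK) 1 (by
        rw [map_one]; exact ((QuotientGroup.eq_one_iff _).2 hwc).symm)
      exact he.trans (map_one _)
    · have hwK : w ∈ K := hVK hd2V
      refine (hmemE hwK).2 ?_
      rw [(hρpt h₂ hwK (herm_vE_vE M.C) hM2).1, ee_inr M.C]
      refine suG_ext M.C fun x => ?_
      rw [app_tv M.C M.hq (herm_zero_left M.C 0), smul_zero, add_zero, app_one]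
  -- orders
  have hKcard : Nat.card K = 26542080 := card_centralizer_two h hp h22 h₁ h₂
  have hEcard : Nat.card E = 1024 := by
    have h1 : Nat.card K = Nat.card (suG M.C I4) * Nat.card ρ.ker := by
      rw [← Nat.card_congr (QuotientGroup.quotientKerEquivOfSurjective ρ hρs).toEquiv]
      exact Subgroup.card_eq_card_quotient_mul_card_subgroup _
    rw [hKcard, card_suG_four M.C M.hq] at h1
    rw [hE, Subgroup.card_map_of_injective K.subtype_injective]
    refine Nat.eq_of_mul_eq_mul_left (by norm_num : 0 < 25920) (h1.symm.trans ?_)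
    norm_num
  -- the centre of `K`
  have hcenter : (Subgroup.center ↥K).map K.subtype = V := by
    refine le_antisymm ?_ fun v hv => ?_
    · rintro _ ⟨z, hz, rfl⟩
      refine htwo (hKH z.2) (M.one_or_bar h₂ _ fun y hy hcy => ?_)
      have hyK : y ∈ K := hmemK.2 ⟨hy.2.2.symm, hcy.symm⟩
      show QuotientGroup.mk (Subgroup.inclusion hKH z * ⟨y, mem_perp_closure hy⟩ : ↥H) =
        QuotientGroup.mk ((⟨y, mem_perp_closure hy⟩ : ↥H) * Subgroup.inclusion hKH z)
      exact congrArg QuotientGroup.mk (Subtype.ext (congrArg Subtype.val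
        (Subgroup.mem_center_iff.1 hz ⟨y, hyK⟩) : y * (z : G) = (z : G) * y).symm)
    · refine ⟨⟨v, hVK hv⟩, Subgroup.mem_center_iff.2 fun k => Subtype.ext ?_, rfl⟩
      have hle : V ≤ Subgroup.centralizer ({(k : G)} : Set G) := by
        rw [hV, Subgroup.closure_le]
        rintro w (rfl | rfl)
        exacts [Subgroup.mem_centralizer_singleton_iff.2 (hmemK.1 k.2).1.symm.eq,
          Subgroup.mem_centralizer_singleton_iff.2 (hmemK.1 k.2).2.symm.eq]
      exact (Subgroup.mem_centralizer_singleton_iff.1 (hle hv)).symm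
  -- an element exchanging the two
  have hpu := pairUnique h.1 (noTwins_of_primitive h h22.1 hp)
  obtain ⟨c₀, hc₀1, hc₀2⟩ : ∃ c₀ : G, c₀ * d₁ * c₀⁻¹ = d₂ ∧ c₀ * d₂ * c₀⁻¹ = d₁ := by
    obtain ⟨g, hg⟩ := single_class h h22 h₁ h2D
    have hg2 : g * d₂ * g⁻¹ ∈ perp D d₂ := by
      have h3 : g * d₂ * g⁻¹ ∈ perp D (g * d₁ * g⁻¹) :=
        ⟨h.2.1 g _ h2D, fun he => h₂.2.1 (mul_left_cancel (mul_right_cancel he)),
          (commute_conj_iff' g _ _).2 hcc⟩
      rwa [hg] at h3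
    obtain ⟨M'⟩ := exists_perpModel h h22 h2D
    obtain ⟨k, hk, hk'⟩ := M'.exists_conj hg2 (perp_symm h₁ h₂)
    exact ⟨k * g, by rw [show k * g * d₁ * (k * g)⁻¹ = k * (g * d₁ * g⁻¹) * k⁻¹ by group, hg, conj_of_mem hk],
      by rw [← hk']; group⟩
  have hswapC : ∀ {c : G}, c * d₁ * c⁻¹ = d₂ → c * d₂ * c⁻¹ = d₁ → c ∈ C := by
    intro c e1 e2
    refine hmemC.2 ?_
    have h3 : c * (d₁ * d₂) * c⁻¹ = d₁ * d₂ := by
      rw [show c * (d₁ * d₂) * c⁻¹ = (c * d₁ * c⁻¹) * (c * d₂ * c⁻¹) by group, e1, e2, hcc.eq]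
    exact mul_inv_eq_iff_eq_mul.1 h3
  have hcases : ∀ c ∈ C, c ∈ K ∨ (c * d₁ * c⁻¹ = d₂ ∧ c * d₂ * c⁻¹ = d₁) := by
    intro c hc
    have h3 : (c * d₁ * c⁻¹) * (c * d₂ * c⁻¹) = d₁ * d₂ := by
      rw [show (c * d₁ * c⁻¹) * (c * d₂ * c⁻¹) = c * (d₁ * d₂) * c⁻¹ by group, (hmemC.1 hc).eq,
        mul_inv_cancel_right]
    rcases hpu _ (h.2.1 c _ h₁) _ (h.2.1 c _ h2D) _ h₁ _ h2D
      (fun he => hne (mul_left_cancel (mul_right_cancel he))) ((commute_conj_iff' c _ _).2 hcc) hne hcc h3 with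
      ⟨e1, e2⟩ | ⟨e1, e2⟩
    · exact Or.inl (hmemK.2 ⟨mul_inv_eq_iff_eq_mul.1 e1, mul_inv_eq_iff_eq_mul.1 e2⟩)
    · exact Or.inr ⟨e1, e2⟩
  have hnotK : ∀ {c : G}, c * d₁ * c⁻¹ = d₂ → c ∉ K := fun {c} e1 hc =>
    hne (by rw [← e1, (hmemK.1 hc).1.eq, mul_inv_cancel_right])
  have hc₀C : c₀ ∈ C := hswapC hc₀1 hc₀2
  have hc₀K : c₀ ∉ K := hnotK hc₀1
  have hidx : (K.subgroupOf C).index = 2 := by
    rw [Subgroup.index_eq_two_iff]
    refine ⟨⟨c₀, hc₀C⟩, fun b => ?_⟩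
    simp only [Subgroup.mem_subgroupOf, Subgroup.coe_mul]
    rcases hcases b.1 b.2 with hb | ⟨e1, e2⟩
    · exact Or.inr ⟨hb, fun hbc => hc₀K ((mul_mem_cancel_left hb).1 hbc)⟩
    · refine Or.inl ⟨hmemK.2 ⟨?_, ?_⟩, hnotK e1⟩
      · refine mul_inv_eq_iff_eq_mul.1 ?_
        rw [show (b : G) * c₀ * d₁ * ((b : G) * c₀)⁻¹ = b * (c₀ * d₁ * c₀⁻¹) * (b : G)⁻¹ by group, hc₀1, e2]
      · refine mul_inv_eq_iff_eq_mul.1 ?_
        rw [show (b : G) * c₀ * d₂ * ((b : G) * c₀)⁻¹ = b * (c₀ * d₂ * c₀⁻¹) * (b : G)⁻¹ by group, hc₀2, e1]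
  -- `K` and `E` are invariant under `C`
  have hKinv : ∀ c ∈ C, ∀ k ∈ K, c * k * c⁻¹ ∈ K := by
    intro c hc k hk
    obtain ⟨a, b⟩ := hmemK.1 hk
    rcases hcases c hc with hcK | ⟨e1, e2⟩
    · exact mul_mem (mul_mem hcK hk) (inv_mem hcK)
    · have a' := (commute_conj_iff' c _ _).2 a
      have b' := (commute_conj_iff' c _ _).2 b
      rw [e1] at a'
      rw [e2] at b'
      exact hmemK.2 ⟨b', a'⟩
  have := simple_suG_four M.C M.hq
  have hEinv : ∀ c ∈ C, ∀ x ∈ E, c * x * c⁻¹ ∈ E := by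
    intro c hc
    let φc : ↥ρ.ker →* ↥K :=
      { toFun := fun x => ⟨c * (x.1 : G) * c⁻¹, hKinv c hc _ x.1.2⟩
        map_one' := Subtype.ext (by simp)
        map_mul' := fun x y => Subtype.ext (by simp [mul_assoc]) }
    set N := (ρ.comp φc).range with hN
    have hnormal : N.Normal := by
      constructor
      rintro _ ⟨x, rfl⟩ y
      obtain ⟨k, rfl⟩ := hρs y
      have hkc : c⁻¹ * (k : G) * c ∈ K := by
        have := hKinv c⁻¹ (inv_mem hc) k k.2
        rwa [inv_inv] at this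
      refine ⟨⟨⟨_, hkc⟩ * x.1 * (⟨_, hkc⟩ : ↥K)⁻¹, ?_⟩, ?_⟩
      · exact ρ.normal_ker.conj_mem _ x.2 _
      · rw [MonoidHom.comp_apply, MonoidHom.comp_apply, ← map_inv, ← map_mul, ← map_mul]
        refine congrArg ρ (Subtype.ext ?_)
        show c * ((⟨_, hkc⟩ * x.1 * (⟨_, hkc⟩ : ↥K)⁻¹ : ↥K) : G) * c⁻¹ = (k : G) * (c * (x.1 : G) * c⁻¹) * (k : G)⁻¹
        push_cast
        group
    rcases hnormal.eq_bot_or_eq_top with h0 | h0
    · intro x hx
      obtain ⟨y, hy, rfl⟩ := hx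
      have h1 : ρ (φc ⟨y, hy⟩) = 1 := Subgroup.mem_bot.1 (h0 ▸ ⟨_, rfl⟩)
      exact (hmemE (hKinv c hc _ y.2)).2 h1
    · exfalso
      have h1 := Subgroup.card_range_dvd (ρ.comp φc)
      rw [← hN, h0, Subgroup.card_top, card_suG_four M.C M.hq,
        ← Subgroup.card_map_of_injective K.subtype_injective, ← hE, hEcard] at h1
      omega
  -- squares and commutators
  have hprops : ∀ x ∈ E, ∀ y ∈ E, x * y * x⁻¹ * y⁻¹ ∈ V ∧ x ^ 2 ∈ V := by
    intro x hx y hy
    have hxK := hEK hx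
    have hyK := hEK hy
    obtain ⟨g, hg⟩ := M.surj (QuotientGroup.mk (⟨x, hKH hxK⟩ : ↥H))
    obtain ⟨g', hg'⟩ := M.surj (QuotientGroup.mk (⟨y, hKH hyK⟩ : ↥H))
    obtain ⟨m, hm⟩ := hρ ⟨x, hxK⟩ _ g hg
    obtain ⟨m', hm'⟩ := hρ ⟨y, hyK⟩ _ g' hg'
    obtain ⟨c1, z, hz, c2⟩ := ker_blockPart_props M.C M.hq (g := ⟨g, m⟩) (k := ⟨g', m'⟩)
      (hm.symm.trans ((hmemE hxK).1 hx)) (hm'.symm.trans ((hmemE hyK).1 hy))
    rw [← M.hker, MonoidHom.mem_ker] at hz
    constructor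
    · refine htwo (mul_mem (mul_mem (mul_mem (hKH hxK) (hKH hyK)) (inv_mem (hKH hxK))) (inv_mem (hKH hyK))) ?_
      have e1 : (QuotientGroup.mk ((⟨x, hKH hxK⟩ : ↥H) * ⟨y, hKH hyK⟩ * (⟨x, hKH hxK⟩ : ↥H)⁻¹ *
          (⟨y, hKH hyK⟩ : ↥H)⁻¹) : PerpQuot D d₁) = M.θ (g * g' * g⁻¹ * g'⁻¹) := by
        simp only [QuotientGroup.mk_mul, QuotientGroup.mk_inv, map_mul, map_inv, hg, hg']
      rcases c1 with c | c
      · exact Or.inl (e1.trans (by rw [c, map_one]))
      · exact Or.inr (e1.trans (by rw [c, ← hM2]))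
    · refine htwo (pow_mem (hKH hxK) 2) ?_
      have e1 : (QuotientGroup.mk ((⟨x, hKH hxK⟩ : ↥H) ^ 2) : PerpQuot D d₁) = M.θ (g ^ 2) := by
        rw [QuotientGroup.mk_pow, map_pow, hg]
      rcases c2 with c | c
      · exact Or.inl (e1.trans (by rw [c, hz]))
      · exact Or.inr (e1.trans (by rw [c, map_mul, hz, one_mul, ← hM2]))
  -- the action on `K / E`
  let pre : suG M.C I4 → ↥K := fun y => (hρs y).choose
  have hpre : ∀ y, ρ (pre y) = y := fun y => (hρs y).choose_spec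
  let cj : ↥C → ↥K → ↥K := fun c k => ⟨(c : G) * k * (c : G)⁻¹, hKinv c c.2 k k.2⟩
  let act : ↥C → suG M.C I4 → suG M.C I4 := fun c y => ρ (cj c (pre y))
  have hact : ∀ c k, act c (ρ k) = ρ (cj c k) := by
    intro c k
    have h1 : ((pre (ρ k))⁻¹ * k : ↥K).1 ∈ E := (hmemE ((pre (ρ k))⁻¹ * k : ↥K).2).2 (by
      rw [Subtype.coe_eta, map_mul, map_inv, hpre, inv_mul_cancel])
    have h2 := hEinv c c.2 _ h1
    have h3 : ρ ((cj c (pre (ρ k)))⁻¹ * cj c k) = 1 := by
      refine ((hmemE ((cj c (pre (ρ k)))⁻¹ * cj c k : ↥K).2).1 ?_)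
      refine Eq.mp (congrArg (· ∈ E) ?_) h2
      simp only [cj]
      push_cast
      group
    rw [map_mul, map_inv, inv_mul_eq_one] at h3
    exact h3
  have hmul : ∀ c c' y, act (c * c') y = act c (act c' y) := by
    intro c c' y
    obtain ⟨k, rfl⟩ := hρs y
    rw [hact (c * c') k, hact c' k, hact c]
    exact congrArg ρ (Subtype.ext (by simp [cj, mul_assoc]))
  have hone' : ∀ y, act 1 y = y := fun y => by
    obtain ⟨k, rfl⟩ := hρs y
    rw [hact]
    exact congrArg ρ (Subtype.ext (by simp [cj]))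
  let ν : ↥C →* MulAut (suG M.C I4) :=
    MonoidHom.mk' (fun c => MulEquiv.mk' ⟨act c, act c⁻¹,
      fun y => by rw [← hmul, inv_mul_cancel, hone'], fun y => by rw [← hmul, mul_inv_cancel, hone']⟩
      (fun y y' => by
        obtain ⟨k, rfl⟩ := hρs y
        obtain ⟨k', rfl⟩ := hρs y'
        show act c (ρ k * ρ k') = act c (ρ k) * act c (ρ k')
        rw [← map_mul, hact, hact, hact, ← map_mul]
        exact congrArg ρ (Subtype.ext (by simp [cj, mul_assoc]))))
      fun c c' => MulEquiv.ext (hmul c c')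
  have hν : ∀ c k, ν c (ρ k) = ρ (cj c k) := hact
  have hνK : ∀ (k : ↥K) (y : suG M.C I4), ν ⟨k, hKC k.2⟩ y = ρ k * y * (ρ k)⁻¹ := by
    intro k y
    obtain ⟨l, rfl⟩ := hρs y
    rw [hν, ← map_inv, ← map_mul, ← map_mul]
    rfl
  -- nothing outside `K` acts trivially
  have houter : ∀ c : ↥C, ν c = 1 → (c : G) ∈ K := by
    intro c hc
    by_contra hcK
    set N : Set G := D \ (perp D d₁ ∪ perp D d₂) with hN
    have hNcard : N.ncard = 2304 := by
      obtain ⟨M₂⟩ := exists_perpModel h h22 h2D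
      have h3 := Set.ncard_union_add_ncard_inter (perp D d₁) (perp D d₂)
      rw [M.ncard_perp, M₂.ncard_perp, M.ncard_perp_perp h₂] at h3
      rw [hN, Set.ncard_sdiff (Set.union_subset (fun x hx => hx.1) (fun x hx => hx.1)), ncard_D h hp h22]
      omega
    have hNmem : ∀ {e}, e ∈ N → e ∈ D ∧ ¬ Commute e d₁ ∧ ¬ Commute e d₂ := by
      intro e he
      obtain ⟨heD, hen⟩ := he
      simp only [Set.mem_union, not_or] at hen
      refine ⟨heD, fun hh => ?_, fun hh => ?_⟩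
      · by_cases h0 : e = d₁
        · exact hen.2 (h0 ▸ perp_symm h₁ h₂)
        · exact hen.1 ⟨heD, h0, hh.symm⟩
      · by_cases h0 : e = d₂
        · exact hen.1 (h0 ▸ h₂)
        · exact hen.2 ⟨heD, h0, hh.symm⟩
    have hmap : ∀ e ∈ N, (c : G)⁻¹ * (e * (d₁ * d₂) * e) ∈ E := by
      intro e he
      obtain ⟨heD, ne1, ne2⟩ := hNmem he
      obtain ⟨s1, s2⟩ := swap_elem h h22 h₁ h2D heD hcc ne1 ne2
      set s := e * (d₁ * d₂) * e with hs
      have hsC : s ∈ C := hswapC s1 s2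
      have hkK : (c : G)⁻¹ * s ∈ K := by
        rcases hcases _ c.2 with h0 | ⟨c1, c2⟩
        · exact absurd h0 hcK
        refine hmemK.2 ⟨mul_inv_eq_iff_eq_mul.1 ?_, mul_inv_eq_iff_eq_mul.1 ?_⟩
        · rw [show (c : G)⁻¹ * s * d₁ * ((c : G)⁻¹ * s)⁻¹ = (c : G)⁻¹ * (s * d₁ * s⁻¹) * c by group, s1, ← c1]
          group
        · rw [show (c : G)⁻¹ * s * d₂ * ((c : G)⁻¹ * s)⁻¹ = (c : G)⁻¹ * (s * d₂ * s⁻¹) * c by group, s2, ← c2]
          group
      refine (hmemE hkK).2 ?_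
      set k : ↥K := ⟨_, hkK⟩ with hk
      have hνs : ∀ y, ν ⟨s, hsC⟩ y = ρ k * y * (ρ k)⁻¹ := by
        intro y
        rw [show (⟨s, hsC⟩ : ↥C) = c * ⟨(k : G), hKC k.2⟩ from Subtype.ext (by simp [hk]), map_mul, hc, one_mul,
          hνK]
      obtain ⟨w, hw, hwP⟩ := exists_chain_path h hp h22 h₁ heD h2D (fun hh => ne1 hh.symm) ne2 hcc hne
      choose p p1 p2 p3 using fun i => M.exists_pt (hwP i).2.1
      have hwK : ∀ i, w i ∈ K := fun i =>
        hmemK.2 ⟨(hwP i).2.1.2.2.symm, (hwP i).2.2.2.2.symm⟩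
      have hpe : ∀ i, herm M.C (p i) e₀ = 0 := fun i =>
        (M.commute_iff h₂ (hwP i).2.1 (herm_vE_vE M.C) (p1 i) (p2 i) hM2 (p3 i)).1 (hwP i).2.2.2.2
      have hpd : ∀ i, p i = herm M.C (p i) (vF M.C (Fin 2 ⊕ Fin 2)) • e₀ + inW (p i ∘ Sum.inr) := fun i =>
        (hρpt (hwP i).2.1 (hwK i) (p1 i) (p3 i)).2 (hpe i)
      have hip : ∀ i j, herm M.C (p i) (p j) = herm M.C (inW (p i ∘ Sum.inr) : I6 → M.K) (inW (p j ∘ Sum.inr)) := by
        intro i j
        conv_lhs => rw [hpd i, hpd j]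
        simp [e₀, herm_add_left, herm_add_right, herm_smul_left, herm_smul_right, herm_vE_vE, herm_vE_inW,
          herm_inW_vE]
      have cm : ∀ i j, Commute (w i) (w j) ↔ herm M.C (p j) (p i) = 0 := fun i j =>
        M.commute_iff (hwP i).2.1 (hwP j).2.1 (p1 i) (p1 j) (p2 j) (p3 i) (p3 j)
      have sw : ∀ {x y : I6 → M.K}, herm M.C x y = 0 → herm M.C y x = 0 := fun hxy => by
        rw [← conj_herm, hxy, map_zero]
      have hch : IsChain4 M.C (fun i => (inW (p i ∘ Sum.inr) : I6 → M.K)) :=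
        { iso := fun i => (hip i i).symm.trans (p1 i)
          adj01 := fun h0 => hw.nc01 ((cm 0 1).2 (sw ((hip 0 1).trans h0)))
          adj12 := fun h0 => hw.nc12 ((cm 1 2).2 (sw ((hip 1 2).trans h0)))
          adj23 := fun h0 => hw.nc23 ((cm 2 3).2 (sw ((hip 2 3).trans h0)))
          far02 := (hip 0 2).symm.trans (sw ((cm 0 2).1 hw.c02))
          far03 := (hip 0 3).symm.trans (sw ((cm 0 3).1 hw.c03))
          far13 := (hip 1 3).symm.trans (sw ((cm 1 3).1 hw.c13)) }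
      refine eq_one_of_chain M.C M.hq hch fun i => ?_
      rw [← (hρpt (hwP i).2.1 (hwK i) (p1 i) (p3 i)).1]
      refine mul_inv_eq_iff_eq_mul.1 ?_
      rw [← hνs, hν]
      refine congrArg ρ (Subtype.ext ?_)
      have hsw : Commute s (w i) := by
        have a1 : Commute (w i) (d₁ * d₂) := (hwP i).2.1.2.2.symm.mul_right (hwP i).2.2.2.2.symm
        exact (((hwP i).1.mul_right a1).mul_right (hwP i).1).symm
      show s * w i * s⁻¹ = w i
      rw [hsw.eq, mul_inv_cancel_right]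
    have h3 := Finset.card_le_mul_card_image (f := fun e => (c : G)⁻¹ * (e * (d₁ * d₂) * e)) N.toFinset 2
      (fun b hb => by
        obtain ⟨e, he, rfl⟩ := Finset.mem_image.1 hb
        rw [Set.mem_toFinset] at he
        refine le_trans (Finset.card_le_card (t := {e, d₁ * (e * d₂ * e) * d₁}) fun f hf => ?_) Finset.card_le_two
        rw [Finset.mem_filter, Set.mem_toFinset] at hf
        obtain ⟨hfN, hfe⟩ := hf
        obtain ⟨heD, ne1, ne2⟩ := hNmem he
        obtain ⟨hfD, nf1, nf2⟩ := hNmem hfN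
        have hprod : ∀ {u : G}, u ∈ D → u * (d₁ * d₂) * u = (u * d₁ * u) * (u * d₂ * u) := fun {u} hu => by
          rw [show u * d₁ * u * (u * d₂ * u) = u * d₁ * (u * u) * d₂ * u by group, mul_self h.1 hu]; group
        have hcp : ∀ {u : G}, u ∈ D → u * d₁ * u ≠ u * d₂ * u ∧ Commute (u * d₁ * u) (u * d₂ * u) := by
          intro u hu
          refine ⟨fun he' => hne (mul_left_cancel (mul_right_cancel he')), ?_⟩
          have h4 := (commute_conj_iff' u d₁ d₂).2 hcc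
          rwa [inv_eq h.1 hu] at h4
        have heq : (f * d₁ * f) * (f * d₂ * f) = (e * d₁ * e) * (e * d₂ * e) := by
          rw [← hprod hfD, ← hprod heD]; exact mul_left_cancel hfe
        have hrec : ∀ {x : G}, f * d₁ * f = x → f = d₁ * x * d₁ := by
          rintro x rfl
          rw [braid h.1 hfD h₁ nf1]
          simp [mul_assoc, mul_self h.1 h₁, mul_self_cancel h.1 h₁]
        simp only [Finset.mem_insert, Finset.mem_singleton]
        rcases hpu _ (conj_mem h hfD h₁) _ (conj_mem h hfD h2D) _ (conj_mem h heD h₁) _ (conj_mem h heD h2D)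
          (hcp hfD).1 (hcp hfD).2 (hcp heD).1 (hcp heD).2 heq with ⟨e1, -⟩ | ⟨e1, -⟩
        · left
          rw [hrec e1, braid h.1 heD h₁ ne1]
          simp [mul_assoc, mul_self h.1 h₁, mul_self_cancel h.1 h₁]
        · exact Or.inr (hrec e1))
    have h4 : (N.toFinset.image fun e => (c : G)⁻¹ * (e * (d₁ * d₂) * e)).card ≤ 1024 := by
      rw [← hEcard, ← Set.ncard_coe_finset, ← SetLike.coe_sort_coe, Nat.card_coe_set_eq]
      refine Set.ncard_le_ncard ?_ (Set.toFinite _)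
      intro x hx
      obtain ⟨e, he, rfl⟩ := Finset.mem_image.1 hx
      exact hmap e (Set.mem_toFinset.1 he)
    rw [← Set.ncard_eq_toFinset_card', hNcard] at h3
    omega
  have hker : ν.ker = E.subgroupOf C := by
    ext c
    rw [MonoidHom.mem_ker, Subgroup.mem_subgroupOf]
    constructor
    · intro hc
      have hcK := houter c hc
      have hz : ρ ⟨(c : G), hcK⟩ ∈ Subgroup.center (suG M.C I4) := by
        refine Subgroup.mem_center_iff.2 fun y => ?_
        have h1 := hνK ⟨(c : G), hcK⟩ y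
        rw [show (⟨((⟨(c : G), hcK⟩ : ↥K) : G), _⟩ : ↥C) = c from rfl, hc, MulAut.one_apply] at h1
        exact (mul_inv_eq_iff_eq_mul.1 h1.symm).symm
      rw [center_four M.C M.hq, Subgroup.mem_bot] at hz
      exact (hmemE hcK).2 hz
    · intro hc
      refine MulEquiv.ext fun y => ?_
      rw [show c = ⟨((⟨(c : G), hEK hc⟩ : ↥K) : G), hKC (hEK hc)⟩ from rfl, hνK, (hmemE (hEK hc)).1 hc,
        MulAut.one_apply]
      simp
  have hnormal : (E.subgroupOf C).Normal := hker ▸ ν.normal_ker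
  refine ⟨hKC, hidx, hcenter, E, hVE, hEK.trans hKC, hEinv, hEcard, hprops, hnormal, M.K, M.instField,
    M.instFintype, by rw [M.C.card, M.hq]; norm_num, ?_⟩
  obtain ⟨e⟩ := nonempty_equiv_psu M.C M.hq
  set ν' : ↥C →* MulAut (Cfsg.PSU 4 M.K 2) := (MulAut.congr e).toMonoidHom.comp ν with hν'
  have hker' : ν'.ker = E.subgroupOf C := by
    rw [← hker]
    ext c
    simp [hν', MonoidHom.mem_ker]
  have hCcard : Nat.card C = 53084160 := by
    have h1 := (K.subgroupOf C).card_mul_index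
    rw [hidx, Nat.card_congr (Subgroup.subgroupOfEquivOfLe hKC).toEquiv, hKcard] at h1
    omega
  have := CfsgLib.AutPSU.finite_mulAut (F := M.K) (n := 4) (q := 2)
  have hsurj : Function.Surjective ν' := by
    rw [← MonoidHom.range_eq_top]
    refine Subgroup.eq_top_of_card_eq _ ?_
    have h1 : Nat.card C = Nat.card ν'.range * Nat.card ν'.ker := by
      rw [← Nat.card_congr (QuotientGroup.quotientKerEquivRange ν').toEquiv]
      exact Subgroup.card_eq_card_quotient_mul_card_subgroup _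
    rw [hker', Nat.card_congr (Subgroup.subgroupOfEquivOfLe (hEK.trans hKC)).toEquiv, hEcard, hCcard] at h1
    rw [card_aut_suG_four M.C M.hq]
    omega
  exact ⟨(QuotientGroup.quotientMulEquivOfEq hker'.symm).trans (QuotientGroup.quotientKerEquivOfSurjective ν' hsurj)⟩

end CfsgLib.FischerTypes
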