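import Cfsg.Agent.FischerTypes.PSU62
import Cfsg.Agent.FischerTypes.U62Geometry

/-!
# `D_d` as the isotropic points of the unitary space in type M(22)
-/

set_option autoImplicit false
set_option maxHeartbeats 400000

namespace CfsgLib.FischerTypes

open Cfsg CfsgLib.RepBounds.Unit CfsgLib.U62
open scoped commutatorElement

variable {G : Type*} [Group G] {D : Set G}

/-- The image of a member of `D_d`. -/
abbrev bar {d x : G} (hx : x ∈ perp D d) : PerpQuot D d :=
  QuotientGroup.mk (⟨x, mem_perp_closure hx⟩ : ↥(Subgroup.closure (perp D d)))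

/-- A model of `⟨D_d⟩` modulo its centre: `SU(6,2)` modulo its centre, `D_d` corresponding to the transvections. -/
structure PerpModel (D : Set G) (d : G) where
  /-- the field of four elements -/
  K : Type
  [instField : Field K]
  [instFintype : Fintype K]
  /-- its involution -/
  C : ConjField K
  hq : C.q = 2
  /-- the map -/
  θ : suG C I6 →* PerpQuot D d
  surj : Function.Surjective θ
  hker : θ.ker = Subgroup.center (suG C I6)
  mem_img : ∀ p : PerpQuot D d, p ∈ img D d ↔ ∃ v, herm C v v = 0 ∧ v ≠ 0 ∧ p = θ (tv C v)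
  group : IsThreeTranspositionGroup D
  noCentral : NoCentralPerp D d
  noTwins : NoTwins (img D d)

attribute [instance] PerpModel.instField PerpModel.instFintype

theorem exists_perpModel [Finite G] (h : IsThreeTranspositionGroup D) (h22 : IsOfTypeM22 G D) {d : G}
    (hd : d ∈ D) : Nonempty (PerpModel D d) := by
  obtain ⟨d₁, hd₁, hN₁, -, -⟩ := nice_of_isOfTypeM22 psu62Facts h h22
  obtain ⟨-, d₀, hd₀, c, -, -, ⟨F, iF, iFt, hF, ⟨e₀⟩⟩, -⟩ := h22
  obtain ⟨g, hg⟩ := isConj_iff.mp (hN₁.single d₀ hd₀ d hd)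
  have hmap : (Subgroup.closure (perp D d₀)).map (MulAut.conj g).toMonoidHom =
      Subgroup.closure (perp D d) := by
    rw [MonoidHom.map_closure]
    congr 1
    ext y
    simp only [Set.mem_image, MulEquiv.coe_toMonoidHom, MulAut.conj_apply]
    constructor
    · rintro ⟨x, hx, rfl⟩
      refine ⟨h.2.1 g x hx.1, fun he => hx.2.1 ?_, ?_⟩
      · exact mul_left_cancel (mul_right_cancel (he.trans hg.symm))
      · rw [← hg, commute_conj_iff']; exact hx.2.2
    · intro hy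
      refine ⟨g⁻¹ * y * g, ⟨by simpa using h.2.1 g⁻¹ y hy.1, fun he => hy.2.1 ?_, ?_⟩, by group⟩
      · rw [← hg, ← he]; group
      · rw [← commute_conj_iff' g, hg, show g * (g⁻¹ * y * g) * g⁻¹ = y from by group]
        exact hy.2.2
  let ψ : ↥(Subgroup.closure (perp D d₀)) ≃* ↥(Subgroup.closure (perp D d)) :=
    (MulEquiv.subgroupMap (MulAut.conj g) _).trans (MulEquiv.subgroupCongr hmap)
  let ψ' : PerpQuot D d₀ ≃* PerpQuot D d := QuotientGroup.congr (Subgroup.center _) (Subgroup.center _) ψ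
    (by
      ext x
      simp only [Subgroup.mem_map, Subgroup.mem_center_iff]
      constructor
      · rintro ⟨y, hy, rfl⟩ k
        obtain ⟨k, rfl⟩ := ψ.surjective k
        exact (map_mul ψ k y).symm.trans ((congrArg ψ (hy k)).trans (map_mul ψ y k))
      · exact fun hx => ⟨ψ.symm x, fun k => ψ.injective (by simpa using hx (ψ k)), by simp⟩)
  let e : PerpQuot D d ≃* PSU 6 F 2 := ψ'.symm.trans e₀
  obtain ⟨hs, hdvd⟩ := @psu62Facts F iF iFt hF
  have := hs
  have : Nontrivial (PerpQuot D d) := e.toEquiv.nontrivial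
  have : IsSimpleGroup (PerpQuot D d) :=
    IsSimpleGroup.isSimpleGroup_of_surjective e.symm.toMonoidHom e.symm.surjective
  have hN : Nice (PerpQuot D d) (img D d) :=
    nice_of_simple (isThreeTranspositionGroup_img h d) (Nat.card_congr e.toEquiv ▸ hdvd)
  obtain ⟨C, hC, φ, hφ, hφk⟩ := exists_model F hF
  let θ : suG C I6 →* PerpQuot D d := e.symm.toMonoidHom.comp φ
  have hθ : Function.Surjective θ := e.symm.surjective.comp hφ
  have hker : θ.ker = Subgroup.center (suG C I6) := by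
    rw [← hφk]; ext x; simp [θ, MonoidHom.mem_ker]
  have hsub : ∀ p ∈ img D d, ∃ v, herm C v v = 0 ∧ v ≠ 0 ∧ p = θ (tv C v) := by
    intro p hp
    obtain ⟨k, rfl⟩ := hθ p
    have hp2 : θ k * θ k = 1 := mul_self hN.isGroup.1 hp
    obtain ⟨k', hk', hkk⟩ := exists_involution_lift C hC (g := k)
      (hker ▸ (show θ (k * k) = 1 by rw [map_mul, hp2]))
    rw [← hker, MonoidHom.mem_ker, map_mul, map_inv, inv_mul_eq_one] at hkk
    rw [hkk] at hp ⊢
    have hne : k' ≠ 1 := fun h1 => ne_one hN.isGroup.1 hp (by rw [h1, map_one])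
    obtain ⟨v, hv, hv0, rfl⟩ := exists_tv_of_threeTransposition C hC θ hker hk' hne fun m => by
      rw [map_mul, map_mul, map_mul, map_inv]
      exact hN.isGroup.1.2 _ hp _ (hN.isGroup.2.1 _ _ hp)
    exact ⟨v, hv, hv0, rfl⟩
  refine ⟨⟨F, C, hC, θ, hθ, hker, fun p => ⟨hsub p, ?_⟩, h,
    noCentralPerp_of_noTwins h hN₁.noTwins hN₁.single hd, hN.noTwins⟩⟩
  rintro ⟨v, hv, hv0, rfl⟩
  obtain ⟨p, hp⟩ : (img D d).Nonempty := by
    by_contra hne
    rw [Set.not_nonempty_iff_eq_empty] at hne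
    have h1 := hN.isGroup.2.2
    rw [hne, Subgroup.closure_empty] at h1
    exact bot_ne_top h1
  obtain ⟨u, hu, hu0, rfl⟩ := hsub p hp
  obtain ⟨a, ha⟩ := exists_map_eq C hu hu0
  obtain ⟨b, hb⟩ := exists_map_eq C hv hv0
  have hv' : v = app C (b⁻¹ * a) u := by rw [app_mul, ha, ← hb, app_inv_app]
  rw [hv', ← conj_tv C hC _ hu, map_mul, map_mul, map_inv]
  exact hN.isGroup.2.1 _ _ hp

namespace PerpModel

variable {d : G} (M : PerpModel D d)

theorem exists_pt {x : G} (hx : x ∈ perp D d) :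
    ∃ v, herm M.C v v = 0 ∧ v ≠ 0 ∧ bar hx = M.θ (tv M.C v) :=
  (M.mem_img _).1 (mk_mem_img M.noCentral hx)

theorem exists_mem {v : I6 → M.K} (hv : herm M.C v v = 0) (hv0 : v ≠ 0) :
    ∃ x, ∃ hx : x ∈ perp D d, bar hx = M.θ (tv M.C v) := by
  obtain ⟨⟨y, hy, he⟩, -⟩ := (M.mem_img _).2 ⟨v, hv, hv0, rfl⟩
  exact ⟨y, hy, he⟩

include M in
theorem bar_inj {x y : G} (hx : x ∈ perp D d) (hy : y ∈ perp D d) (he : bar hx = bar hy) : x = y :=
  congrArg Subtype.val (mk_inj M.group (x := ⟨x, mem_perp_closure hx⟩) (y := ⟨y, mem_perp_closure hy⟩)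
    hx hy (mk_ne_one M.noCentral hx) he)

theorem commute_iff {x y : G} (hx : x ∈ perp D d) (hy : y ∈ perp D d) {v w : I6 → M.K}
    (hv : herm M.C v v = 0) (hw : herm M.C w w = 0) (hw0 : w ≠ 0) (hvx : bar hx = M.θ (tv M.C v))
    (hwy : bar hy = M.θ (tv M.C w)) : Commute x y ↔ herm M.C w v = 0 := by
  rw [← commute_mk_iff M.group (x := ⟨x, mem_perp_closure hx⟩) (y := ⟨y, mem_perp_closure hy⟩) hx hy]
  show Commute (bar hx) (bar hy) ↔ _
  rw [hvx, hwy]
  exact ⟨fun h => orth_of_commute M.C M.hq M.θ M.hker hv hw hw0 h,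
    fun h => (commute_tv M.C M.hq hv hw h).map M.θ⟩

theorem eq_of_smul {x y : G} (hx : x ∈ perp D d) (hy : y ∈ perp D d) {v w : I6 → M.K}
    (hv : herm M.C v v = 0) (hw0 : w ≠ 0) (hvx : bar hx = M.θ (tv M.C v)) (hwy : bar hy = M.θ (tv M.C w))
    {a : M.K} (ha : w = a • v) : x = y :=
  M.bar_inj hx hy (by rw [hvx, hwy, ha, tv_smul M.C M.hq (fun h => hw0 (by rw [ha, h, zero_smul])) hv])

theorem not_smul_of_ne {x y : G} (hx : x ∈ perp D d) (hy : y ∈ perp D d) {v w : I6 → M.K}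
    (hv : herm M.C v v = 0) (hw0 : w ≠ 0) (hvx : bar hx = M.θ (tv M.C v)) (hwy : bar hy = M.θ (tv M.C w))
    (hne : x ≠ y) (a : M.K) : w ≠ a • v :=
  fun ha => hne (M.eq_of_smul hx hy hv hw0 hvx hwy ha)

include M in
/-- Two non-commuting members of `D_d` have a common commuting one. -/
theorem exists_common {x y : G} (hx : x ∈ perp D d) (hy : y ∈ perp D d) (hxy : ¬ Commute x y) :
    ∃ z ∈ perp D d, z ≠ x ∧ z ≠ y ∧ Commute z x ∧ Commute z y := by
  obtain ⟨v, hv, hv0, hvx⟩ := M.exists_pt hx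
  obtain ⟨w, hw, hw0, hwy⟩ := M.exists_pt hy
  obtain ⟨u, hu, hu0, huv, huw, hnv, hnw⟩ := exists_common_orth M.C hv hw hv0
    (fun h => hxy ((M.commute_iff hx hy hv hw hw0 hvx hwy).2 h))
  obtain ⟨z, hz, huz⟩ := M.exists_mem hu hu0
  refine ⟨z, hz, fun h => ?_, fun h => ?_, ?_, ?_⟩
  · subst h
    obtain ⟨a, -, ha⟩ := eq_smul_of_map_eq M.C M.hq M.θ M.hker hv hu hu0 (hvx.symm.trans huz)
    exact hnv a ha
  · subst h
    obtain ⟨a, -, ha⟩ := eq_smul_of_map_eq M.C M.hq M.θ M.hker hw hu hu0 (hwy.symm.trans huz)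
    exact hnw a ha
  · rw [M.commute_iff hz hx hu hv hv0 huz hvx, ← conj_herm, huv, map_zero]
  · rw [M.commute_iff hz hy hu hw hw0 huz hwy, ← conj_herm, huw, map_zero]

include M in
/-- An element whose image centralizes the images orthogonal to `x̄` has image `1` or `x̄`. -/
theorem one_or_bar {x : G} (hx : x ∈ perp D d) (p : PerpQuot D d)
    (h : ∀ y, ∀ hy : y ∈ perp D d, Commute x y → Commute p (bar hy)) : p = 1 ∨ p = bar hx := by
  obtain ⟨v, hv, hv0, hvx⟩ := M.exists_pt hx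
  obtain ⟨g, rfl⟩ := M.surj p
  obtain ⟨k, hk⟩ := exists_map_eq M.C hv hv0
  have hfix : ∀ r, herm M.C r r = 0 → r ≠ 0 → herm M.C r (vE M.C (Fin 2 ⊕ Fin 2)) = 0 →
      ∃ a : M.K, app M.C (k * g * k⁻¹) r = a • r := by
    intro r hr hr0 hre
    set s := app M.C k⁻¹ r with hs
    have hss : herm M.C s s = 0 := by rw [hs, herm_app, hr]
    have hs0 : s ≠ 0 := fun h0 => hr0 (by rw [← app_app_inv M.C k r, ← hs, h0]; simp [app])
    obtain ⟨y, hy, hsy⟩ := M.exists_mem hss hs0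
    have hc := h y hy ((M.commute_iff hx hy hv hss hs0 hvx hsy).2 (by rw [hs, herm_app_left, hk, hre]))
    rw [hsy] at hc
    have h1 : M.θ (tv M.C (app M.C g s)) = M.θ (tv M.C s) := by
      rw [← conj_tv M.C M.hq g hss, map_mul, map_mul, map_inv, hc.eq, mul_inv_cancel_right]
    obtain ⟨a, ha0, ha⟩ := eq_smul_of_map_eq M.C M.hq M.θ M.hker (by rw [herm_app, hss]) hss hs0 h1
    refine ⟨a⁻¹, ?_⟩
    have h2 : app M.C g s = a⁻¹ • s := by conv_rhs => rw [ha, inv_smul_smul₀ ha0]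
    rw [app_mul, app_mul, ← hs, h2, app_smul, hs, app_app_inv]
  rcases center_or_tv_of_fix_orth M.C M.hq hfix with h1 | h1 <;> rw [← M.hker, MonoidHom.mem_ker] at h1
  · left
    rwa [map_mul, map_mul, map_inv, conj_eq_one_iff] at h1
  · right
    rw [← hk, ← conj_tv M.C M.hq k hv,
      show k * g * k⁻¹ * (k * tv M.C v * k⁻¹) = k * (g * tv M.C v) * k⁻¹ by group, map_mul, map_mul, map_inv,
      conj_eq_one_iff, map_mul, mul_eq_one_iff_eq_inv, ← map_inv,
      inv_eq_of_mul_eq_one_right (tv_mul_self M.C M.hq hv)] at h1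
    rw [h1, hvx]

include M in
/-- The images of the members commuting with one of two commuting members generate. -/
theorem top_of_mem {x y : G} (hx : x ∈ perp D d) (hy : y ∈ perp D d) (hne : x ≠ y) (hxy : Commute x y)
    (S : Subgroup (PerpQuot D d))
    (h : ∀ z, ∀ hz : z ∈ perp D d, Commute z x ∨ Commute z y → bar hz ∈ S) : S = ⊤ := by
  obtain ⟨v, hv, hv0, hvx⟩ := M.exists_pt hx
  obtain ⟨w, hw, hw0, hwy⟩ := M.exists_pt hy
  refine top_of_tv_mem M.C M.hq M.θ M.surj S fun r hr hr0 => ?_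
  refine tv_mem_of_orth_pair M.C M.hq (S.comap M.θ) hv hw ((M.commute_iff hx hy hv hw hw0 hvx hwy).1 hxy)
    hv0 (M.not_smul_of_ne hx hy hv hw0 hvx hwy hne) ?_ hr hr0
  intro s hs hs0 hor
  obtain ⟨z, hz, hsz⟩ := M.exists_mem hs hs0
  show M.θ (tv M.C s) ∈ S
  rw [← hsz]
  refine h z hz (hor.imp (fun h0 => ?_) (fun h0 => ?_))
  · rw [M.commute_iff hz hx hs hv hv0 hsz hvx, ← conj_herm, h0, map_zero]
  · rw [M.commute_iff hz hy hs hw hw0 hsz hwy, ← conj_herm, h0, map_zero]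

/-- In a relation of length five the points lie in the plane of any two of them. -/
theorem mem_span_of_relation {x y o p p' : G} (hx : x ∈ perp D d) (hy : y ∈ perp D d) (ho : o ∈ perp D d)
    (hp : p ∈ perp D d) (hp' : p' ∈ perp D d) (hne : x ≠ y)
    {v q r s s' : I6 → M.K} (hv : herm M.C v v = 0) (hq : herm M.C q q = 0) (hr : herm M.C r r = 0)
    (hs : herm M.C s s = 0) (hs' : herm M.C s' s' = 0) (hq0 : q ≠ 0)
    (hr0 : r ≠ 0) (hs0 : s ≠ 0) (hs'0 : s' ≠ 0) (hvx : bar hx = M.θ (tv M.C v))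
    (hqy : bar hy = M.θ (tv M.C q)) (hro : bar ho = M.θ (tv M.C r)) (hsp : bar hp = M.θ (tv M.C s))
    (hs'p : bar hp' = M.θ (tv M.C s')) (nop : o ≠ p) (nop' : o ≠ p') (npp' : p ≠ p')
    (hcomm' : ∀ u ∈ [x, y, o, p, p'], ∀ w ∈ [x, y, o, p, p'], Commute u w)
    (hprod' : bar hx * bar hy * bar ho * bar hp * bar hp' = 1) : r ∈ Submodule.span M.K {v, q} := by
  obtain ⟨ω, hω0, hω1, hω⟩ := exists_omega M.C M.hq
  have hωω : ω ≠ ω ^ 2 := fun h => hω1 (by
    rw [pow_two] at h; exact mul_left_cancel₀ hω0 (by rw [mul_one]; exact h.symm))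
  have hxy : Commute x y := hcomm' x (by simp) y (by simp)
  have hqv : herm M.C q v = 0 := (M.commute_iff hx hy hv hq hq0 hvx hqy).1 hxy
  have ne_of : ∀ {r s : I6 → M.K} {p o : G} (hp : p ∈ perp D d) (ho : o ∈ perp D d), herm M.C r r = 0 →
      herm M.C s s = 0 → s ≠ 0 → bar hp = M.θ (tv M.C r) → bar ho = M.θ (tv M.C s) →
      (∀ t : M.K, s ≠ t • r) → p ≠ o := by
    intro r s p o hp ho hr hs hs0 hrp hso hrs h
    subst h
    obtain ⟨t, -, ht⟩ := eq_smul_of_map_eq M.C M.hq M.θ M.hker hr hs hs0 (hrp.symm.trans hso)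
    exact hrs t ht
  by_contra hr'
  have crs : herm M.C s r = 0 :=
    (M.commute_iff ho hp hr hs hs0 hro hsp).1 (hcomm' o (by simp) p (by simp))
  have crs' : herm M.C s' r = 0 :=
    (M.commute_iff ho hp' hr hs' hs'0 hro hs'p).1 (hcomm' o (by simp) p' (by simp))
  have css' : herm M.C s' s = 0 :=
    (M.commute_iff hp hp' hs hs' hs'0 hsp hs'p).1 (hcomm' p (by simp) p' (by simp))
  have crv : herm M.C r v = 0 := (M.commute_iff hx ho hv hr hr0 hvx hro).1 (hcomm' x (by simp) o (by simp))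
  have csv : herm M.C s v = 0 := (M.commute_iff hx hp hv hs hs0 hvx hsp).1 (hcomm' x (by simp) p (by simp))
  have cs'v : herm M.C s' v = 0 :=
    (M.commute_iff hx hp' hv hs' hs'0 hvx hs'p).1 (hcomm' x (by simp) p' (by simp))
  have crq : herm M.C r q = 0 := (M.commute_iff hy ho hq hr hr0 hqy hro).1 (hcomm' y (by simp) o (by simp))
  have csq : herm M.C s q = 0 := (M.commute_iff hy hp hq hs hs0 hqy hsp).1 (hcomm' y (by simp) p (by simp))
  have cs'q : herm M.C s' q = 0 :=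
    (M.commute_iff hy hp' hq hs' hs'0 hqy hs'p).1 (hcomm' y (by simp) p' (by simp))
  set P := tv M.C v * tv M.C q * tv M.C r * tv M.C s * tv M.C s' with hP
  have hPθ : M.θ P = 1 := by
    rw [hP, map_mul, map_mul, map_mul, map_mul, ← hvx, ← hqy, ← hro, ← hsp, ← hs'p]
    exact hprod'
  have hP2 : P * P = 1 := by
    have c1 : Commute (tv M.C v) (tv M.C q) := commute_tv M.C M.hq hv hq hqv
    have c2 : Commute (tv M.C v * tv M.C q) (tv M.C r) :=
      (commute_tv M.C M.hq hv hr crv).mul_left (commute_tv M.C M.hq hq hr crq)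
    have c3 : Commute (tv M.C v * tv M.C q * tv M.C r) (tv M.C s) :=
      ((commute_tv M.C M.hq hv hs csv).mul_left (commute_tv M.C M.hq hq hs csq)).mul_left
        (commute_tv M.C M.hq hr hs crs)
    have c4 : Commute (tv M.C v * tv M.C q * tv M.C r * tv M.C s) (tv M.C s') :=
      (((commute_tv M.C M.hq hv hs' cs'v).mul_left (commute_tv M.C M.hq hq hs' cs'q)).mul_left
        (commute_tv M.C M.hq hr hs' crs')).mul_left (commute_tv M.C M.hq hs hs' css')
    simp only [← pow_two] at *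
    rw [hP, c4.mul_pow, c3.mul_pow, c2.mul_pow, c1.mul_pow]
    simp [pow_two, tv_mul_self M.C M.hq, hv, hq, hr, hs, hs']
  have hP1 : P = 1 := by
    have h3 := center_pow_three M.C M.hq (mem_center_of_map_eq_one M.C M.θ M.hker hPθ)
    rwa [pow_succ, pow_two, hP2, one_mul] at h3
  obtain ⟨f, hfr, hf⟩ := Submodule.exists_dual_map_eq_bot_of_notMem hr' inferInstance
  classical
  set z : I6 → M.K := fun i => (f r)⁻¹ * f (Pi.single i 1) with hz
  set z' : I6 → M.K := fun i => M.C.σ (z i) with hz'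
  have hzf : ∀ w, herm M.C w z' = (f r)⁻¹ * f w := by
    intro w
    conv_rhs => rw [pi_eq_sum_univ' w, map_sum, Finset.mul_sum]
    refine Finset.sum_congr rfl fun i _ => ?_
    simp only [hz', hz, M.C.invol, map_smul, smul_eq_mul]
    ring
  have hf0 : ∀ w ∈ ({v, q} : Set (I6 → M.K)), f w = 0 := fun w hw => by
    have h0 : f w ∈ (Submodule.span M.K ({v, q} : Set (I6 → M.K))).map f :=
      Submodule.mem_map_of_mem (Submodule.subset_span hw)
    rwa [hf, Submodule.mem_bot] at h0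
  have hz'v : herm M.C z' v = 0 := by
    rw [← conj_herm, hzf, hf0 v (by simp), mul_zero, map_zero]
  have hz'q : herm M.C z' q = 0 := by
    rw [← conj_herm, hzf, hf0 q (by simp), mul_zero, map_zero]
  have hz'r : herm M.C z' r = 1 := by
    rw [← conj_herm, hzf, inv_mul_cancel₀ hfr, map_one]
  have hsr : herm M.C r s = 0 := by rw [← conj_herm, crs, map_zero]
  have hs'r : herm M.C r s' = 0 := by rw [← conj_herm, crs', map_zero]
  have h1 := congrArg (fun g => app M.C g z') hP1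
  simp only [hP, app_mul, app_one, app_tv M.C M.hq hv, app_tv M.C M.hq hq, app_tv M.C M.hq hr,
    app_tv M.C M.hq hs, app_tv M.C M.hq hs', herm_add_left, herm_smul_left, hz'v, hz'q, hz'r, crs, crs',
    css', csv, cs'v, csq, cs'q, crv, crq, mul_zero, add_zero, zero_smul, one_smul] at h1
  set α := herm M.C z' s' with hα
  set β := herm M.C z' s with hβ
  have hr_eq : r = α • s' + β • s := by
    have h2 : α • s' + β • s + r = 0 := by
      have : z' + (α • s' + β • s + r) = z' + 0 := by rw [add_zero]; simpa [add_assoc] using h1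
      exact add_left_cancel this
    have h3 := congrArg (· + r) h2
    simp only [zero_add, add_assoc, vec_add_self M.C M.hq, add_zero] at h3
    exact h3.symm
  have hβ0 : β ≠ 0 := fun h0 => nop' (M.eq_of_smul hp' ho hs' hr0 hs'p hro
    (by rw [hr_eq, h0, zero_smul, add_zero])).symm
  have hα0 : α ≠ 0 := fun h0 => nop (M.eq_of_smul hp ho hs hr0 hsp hro
    (by rw [hr_eq, h0, zero_smul, zero_add])).symm
  -- the other two points of the line through `r`, `s`, `s'`
  set S' := α • s' with hS'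
  set S := β • s with hS
  have hSS : herm M.C S S = 0 := by simp [hS, herm_smul_left, herm_smul_right, hs]
  have hS'S' : herm M.C S' S' = 0 := by simp [hS', herm_smul_left, herm_smul_right, hs']
  have hS'S : herm M.C S' S = 0 := by simp [hS', hS, herm_smul_left, herm_smul_right, css']
  have hline := tv_line M.C M.hq hS'S' hSS hS'S hω
  rw [hS', tv_smul M.C M.hq hα0 hs', ← hS', ← hr_eq,
    show tv M.C S = tv M.C s by rw [hS, tv_smul M.C M.hq hβ0 hs]] at hline
  set T₄ := S' + ω • S with hT₄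
  set T₅ := S' + ω ^ 2 • S with hT₅
  have hTT : ∀ t t' : M.K, herm M.C (S' + t • S) (S' + t' • S) = 0 := fun t t' => by
    simp [herm_add_left, herm_add_right, herm_smul_left, herm_smul_right, hSS, hS'S', hS'S,
      show herm M.C S S' = 0 by rw [← conj_herm, hS'S, map_zero]]
  have hS'0 : S' ≠ 0 := smul_ne_zero hα0 hs'0
  have hS0 : S ≠ 0 := smul_ne_zero hβ0 hs0
  have hnSS : ∀ t : M.K, S' ≠ t • S := fun t ht => by
    refine M.not_smul_of_ne hp hp' hs hs'0 hsp hs'p npp' (α⁻¹ * (t * β)) ?_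
    rw [mul_smul, mul_smul, ← hS, ← ht, hS', inv_smul_smul₀ hα0]
  have hT0 : ∀ t : M.K, S' + t • S ≠ 0 := fun t ht => hnSS (-t) (by
    rw [neg_smul]; exact eq_neg_of_add_eq_zero_left ht)
  have hT45 : ∀ t : M.K, T₅ ≠ t • T₄ := fun t ht => by
    have h' : (1 - t) • S' = (t * ω - ω ^ 2) • S := by
      rw [hT₅, hT₄, smul_add, smul_smul] at ht
      linear_combination (norm := module) ht
    by_cases h0 : 1 - t = 0
    · rw [h0, zero_smul] at h'
      rcases smul_eq_zero.1 h'.symm with h5 | h5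
      · rw [sub_eq_zero] at h0 h5
        rw [← h0, one_mul] at h5
        exact hωω h5
      · exact hS0 h5
    · exact hnSS ((1 - t)⁻¹ * (t * ω - ω ^ 2)) (by rw [mul_smul, ← h', inv_smul_smul₀ h0])
  have hvT : tv M.C v * tv M.C q = tv M.C T₄ * tv M.C T₅ := by
    have c23 : Commute (tv M.C r) (tv M.C s) := commute_tv M.C M.hq hr hs crs
    have hRSS : tv M.C r * tv M.C s * tv M.C s' = tv M.C T₄ * tv M.C T₅ := by
      rw [hline, c23.eq, show tv M.C s * tv M.C r * (tv M.C s * tv M.C r * tv M.C T₄ * tv M.C T₅) =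
        (tv M.C s * tv M.C r * (tv M.C s * tv M.C r)) * (tv M.C T₄ * tv M.C T₅) by group,
        Commute.mul_mul_mul_comm c23, tv_mul_self M.C M.hq hr, tv_mul_self M.C M.hq hs, one_mul, one_mul]
    have hT2 : (tv M.C T₄ * tv M.C T₅) * (tv M.C T₄ * tv M.C T₅) = 1 := by
      rw [Commute.mul_mul_mul_comm (commute_tv M.C M.hq (hTT _ _) (hTT _ _) (hTT _ _)) _ _,
        tv_mul_self M.C M.hq (hTT _ _), tv_mul_self M.C M.hq (hTT _ _), one_mul]
    rw [hP, show tv M.C v * tv M.C q * tv M.C r * tv M.C s * tv M.C s' =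
      (tv M.C v * tv M.C q) * (tv M.C r * tv M.C s * tv M.C s') by group, hRSS,
      mul_eq_one_iff_eq_inv, inv_eq_of_mul_eq_one_right hT2] at hP1
    exact hP1
  obtain ⟨x4, hx4, hT4x⟩ := M.exists_mem (hTT ω ω) (hT0 ω)
  obtain ⟨x5, hx5, hT5x⟩ := M.exists_mem (hTT _ _) (hT0 (ω ^ 2))
  have hne45 : x4 ≠ x5 := ne_of hx4 hx5 (hTT _ _) (hTT _ _) (hT0 _) hT4x hT5x hT45
  have hc45 : Commute x4 x5 := (M.commute_iff hx4 hx5 (hTT _ _) (hTT _ _) (hT0 _) hT4x hT5x).2 (hTT _ _)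
  have hpu := pairUnique (isThreeTranspositionGroup_img M.group d).1 M.noTwins (bar hx)
    (mk_mem_img M.noCentral hx) (bar hy) (mk_mem_img M.noCentral hy) (bar hx4)
    (mk_mem_img M.noCentral hx4) (bar hx5) (mk_mem_img M.noCentral hx5)
    (fun h => hne (M.bar_inj hx hy h)) ((commute_mk_iff M.group hx hy).2 hxy)
    (fun h => hne45 (M.bar_inj hx4 hx5 h)) ((commute_mk_iff M.group hx4 hx5).2 hc45)
    (by rw [hvx, hqy, hT4x, hT5x, ← map_mul, ← map_mul, hvT])
  have hspan : ∀ t : M.K, S' + t • S ∈ Submodule.span M.K ({v, q} : Set (I6 → M.K)) →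
      ∀ t' : M.K, t ≠ t' → S' + t' • S ∈ Submodule.span M.K ({v, q} : Set (I6 → M.K)) → False := by
    intro t ht t' htt ht'
    refine hr' ?_
    have hS1 : S ∈ Submodule.span M.K ({v, q} : Set (I6 → M.K)) := by
      have h := Submodule.smul_mem _ (t - t')⁻¹ (sub_mem ht ht')
      rwa [show S' + t • S - (S' + t' • S) = (t - t') • S by module,
        inv_smul_smul₀ (sub_ne_zero.2 htt)] at h
    have hS2 : S' ∈ Submodule.span M.K ({v, q} : Set (I6 → M.K)) := by
      have h := sub_mem ht (Submodule.smul_mem _ t hS1)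
      rwa [add_sub_cancel_right] at h
    exact hr_eq ▸ add_mem hS2 hS1
  have inspan : ∀ {o : G} (ho : o ∈ perp D d) {t : M.K}, (o = x ∨ o = y) →
      bar ho = M.θ (tv M.C (S' + t • S)) → S' + t • S ∈ Submodule.span M.K ({v, q} : Set (I6 → M.K)) := by
    rintro o ho t (rfl | rfl) h
    · obtain ⟨a, -, ha⟩ := eq_smul_of_map_eq M.C M.hq M.θ M.hker hv (hTT t t) (hT0 t) (hvx.symm.trans h)
      rw [ha]; exact Submodule.smul_mem _ _ (Submodule.subset_span (by simp))
    · obtain ⟨a, -, ha⟩ := eq_smul_of_map_eq M.C M.hq M.θ M.hker hq (hTT t t) (hT0 t) (hqy.symm.trans h)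
      rw [ha]; exact Submodule.smul_mem _ _ (Submodule.subset_span (by simp))
  rcases hpu with ⟨h4, h5⟩ | ⟨h4, h5⟩
  · exact hspan ω (inspan hx4 (Or.inl (M.bar_inj hx hx4 h4).symm) hT4x) (ω ^ 2) hωω
      (inspan hx5 (Or.inr (M.bar_inj hy hx5 h5).symm) hT5x)
  · exact hspan ω (inspan hx4 (Or.inr (M.bar_inj hy hx4 h5).symm) hT4x) (ω ^ 2) hωω
      (inspan hx5 (Or.inl (M.bar_inj hx hx5 h4).symm) hT5x)

/-- Uniqueness of the other three points of a line. -/
theorem mem_line {x y a b c : G} (hx : x ∈ perp D d) (hy : y ∈ perp D d) (ha : a ∈ perp D d)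
    (hb : b ∈ perp D d) (hc : c ∈ perp D d) (hne : x ≠ y) {v q : I6 → M.K} {ω : M.K}
    (hv : herm M.C v v = 0) (hq : herm M.C q q = 0) (hq0 : q ≠ 0)
    (hvx : bar hx = M.θ (tv M.C v)) (hqy : bar hy = M.θ (tv M.C q)) (hω : ω ^ 2 + ω + 1 = 0)
    (hLa : bar ha = M.θ (tv M.C (v + (1 : M.K) • q))) (hLb : bar hb = M.θ (tv M.C (v + ω • q)))
    (hLc : bar hc = M.θ (tv M.C (v + ω ^ 2 • q)))
    {a' b' c' : G} (ha' : a' ∈ perp D d) (hb' : b' ∈ perp D d) (hc' : c' ∈ perp D d)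
    (hnd : [x, y, a', b', c'].Nodup)
    (hcomm : ∀ u ∈ [x, y, a', b', c'], ∀ w ∈ [x, y, a', b', c'], Commute u w)
    (hprod : bar hx * bar hy * bar ha' * bar hb' * bar hc' = 1) : ∀ z ∈ [a', b', c'], z ∈ [a, b, c] := by
  have hxy : Commute x y := hcomm x (by simp) y (by simp)
  have hind := M.not_smul_of_ne hx hy hv hq0 hvx hqy hne
  have hqv : herm M.C q v = 0 := (M.commute_iff hx hy hv hq hq0 hvx hqy).1 hxy
  have hvq : herm M.C v q = 0 := by rw [← conj_herm, hqv, map_zero]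
  set L : M.K → (I6 → M.K) := fun t => v + t • q with hL
  have hLL : ∀ s t, herm M.C (L s) (L t) = 0 := fun s t => by
    simp [hL, herm_add_left, herm_add_right, herm_smul_left, herm_smul_right, hv, hq, hvq, hqv]
  obtain ⟨r₁, hr₁, hr₁0, hr₁a⟩ := M.exists_pt ha'
  obtain ⟨r₂, hr₂, hr₂0, hr₂b⟩ := M.exists_pt hb'
  obtain ⟨r₃, hr₃, hr₃0, hr₃c⟩ := M.exists_pt hc'
  simp only [List.nodup_cons, List.mem_cons, List.not_mem_nil, or_false, not_or, not_false_eq_true,
    List.nodup_nil, and_true] at hnd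
  obtain ⟨⟨-, nxa', nxb', nxc'⟩, ⟨nya', nyb', nyc'⟩, ⟨nab', nac'⟩, nbc'⟩ := hnd
  have key : ∀ r : I6 → M.K, r ∈ [r₁, r₂, r₃] → r ∈ Submodule.span M.K {v, q} := by
    have hC' : ∀ {u w : G}, u ∈ [x, y, a', b', c'] → w ∈ [x, y, a', b', c'] →
        ∀ (hu : u ∈ perp D d) (hw : w ∈ perp D d), Commute (bar hu) (bar hw) :=
      fun hu' hw' hu hw => (commute_mk_iff M.group hu hw).2 (hcomm _ hu' _ hw')
    have cAB := (hC' (u := a') (w := b') (by simp) (by simp) ha' hb').eq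
    have cAC := (hC' (u := a') (w := c') (by simp) (by simp) ha' hc').eq
    have cBC := (hC' (u := b') (w := c') (by simp) (by simp) hb' hc').eq
    intro r hr
    simp only [List.mem_cons, List.not_mem_nil, or_false] at hr
    rcases hr with rfl | rfl | rfl
    · exact M.mem_span_of_relation hx hy ha' hb' hc' hne hv hq hr₁ hr₂ hr₃ hq0 hr₁0 hr₂0 hr₃0 hvx hqy hr₁a hr₂b hr₃c nab' nac' nbc' hcomm hprod
    · refine M.mem_span_of_relation hx hy hb' ha' hc' hne hv hq hr₂ hr₁ hr₃ hq0 hr₂0 hr₁0 hr₃0 hvx hqy hr₂b hr₁a hr₃c (Ne.symm nab') nbc' nac'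
        (fun u hu w hw => hcomm u (by revert hu; simp; tauto) w (by revert hw; simp; tauto)) ?_
      rw [mul_assoc _ (bar hb') (bar ha'), ← cAB, ← mul_assoc]
      exact hprod
    · refine M.mem_span_of_relation hx hy hc' ha' hb' hne hv hq hr₃ hr₁ hr₂ hq0 hr₃0 hr₁0 hr₂0 hvx hqy hr₃c hr₁a hr₂b (Ne.symm nac') (Ne.symm nbc') nab'
        (fun u hu w hw => hcomm u (by revert hu; simp; tauto) w (by revert hw; simp; tauto)) ?_
      rw [mul_assoc _ (bar hc') (bar ha'), ← cAC, ← mul_assoc, mul_assoc _ (bar hc') (bar hb'), ← cBC,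
        ← mul_assoc]
      exact hprod
  intro z hz
  have fin : ∀ {o : G} (ho : o ∈ perp D d) {r : I6 → M.K}, herm M.C r r = 0 → r ≠ 0 →
      bar ho = M.θ (tv M.C r) → x ≠ o → y ≠ o → r ∈ Submodule.span M.K ({v, q} : Set (I6 → M.K)) →
      o ∈ [a, b, c] := by
    intro o ho r hr hr0 hro hxo hyo hspan
    obtain ⟨s, t, hst⟩ := Submodule.mem_span_pair.1 hspan
    have hs0 : s ≠ 0 := fun h0 => hyo (M.eq_of_smul hy ho hq hr0 hqy hro (a := t)
      (by rw [← hst, h0, zero_smul, zero_add]))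
    have ht0 : t ≠ 0 := fun h0 => hxo (M.eq_of_smul hx ho hv hr0 hvx hro (a := s)
      (by rw [← hst, h0, zero_smul, add_zero]))
    have hrL : r = s • L (t / s) := by
      rw [← hst, hL, smul_add, smul_smul, mul_div_cancel₀ t hs0]
    have hu0 : t / s ≠ 0 := div_ne_zero ht0 hs0
    generalize t / s = u at hrL hu0
    have hro' : bar ho = M.θ (tv M.C (L u)) := by rw [hro, hrL, tv_smul M.C M.hq hs0 (hLL _ _)]
    have h3 : (u - 1) * ((u - ω) * (u - ω ^ 2)) = 0 := by
      linear_combination U62.pow_three M.C M.hq hu0 +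
        (-u ^ 2 + u * ω) * hω + (1 - ω) * hω
    rcases mul_eq_zero.1 h3 with h0 | h0
    · rw [sub_eq_zero.1 h0] at hro'
      simp [M.bar_inj ho ha (hro'.trans hLa.symm)]
    rcases mul_eq_zero.1 h0 with h1 | h1
    · rw [sub_eq_zero.1 h1] at hro'
      simp [M.bar_inj ho hb (hro'.trans hLb.symm)]
    · rw [sub_eq_zero.1 h1] at hro'
      simp [M.bar_inj ho hc (hro'.trans hLc.symm)]
  simp only [List.mem_cons, List.not_mem_nil, or_false] at hz
  rcases hz with rfl | rfl | rfl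
  · exact fin ha' hr₁ hr₁0 hr₁a nxa' nya' (key r₁ (by simp))
  · exact fin hb' hr₂ hr₂0 hr₂b nxb' nyb' (key r₂ (by simp))
  · exact fin hc' hr₃ hr₃0 hr₃c nxc' nyc' (key r₃ (by simp))


include M in
/-- Two commuting members of `D_d` lie with exactly three others in a relation of length five in the quotient. -/
theorem exists_line {x y : G} (hx : x ∈ perp D d) (hy : y ∈ perp D d) (hne : x ≠ y) (hxy : Commute x y) :
    ∃ a b c, ∃ ha : a ∈ perp D d, ∃ hb : b ∈ perp D d, ∃ hc : c ∈ perp D d,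
      [x, y, a, b, c].Nodup ∧ (∀ u ∈ [x, y, a, b, c], ∀ v ∈ [x, y, a, b, c], Commute u v) ∧
      bar hx * bar hy * bar ha * bar hb * bar hc = 1 ∧
      ∀ a' b' c', ∀ ha' : a' ∈ perp D d, ∀ hb' : b' ∈ perp D d, ∀ hc' : c' ∈ perp D d,
        [x, y, a', b', c'].Nodup → (∀ u ∈ [x, y, a', b', c'], ∀ v ∈ [x, y, a', b', c'], Commute u v) →
        bar hx * bar hy * bar ha' * bar hb' * bar hc' = 1 → ∀ z ∈ [a', b', c'], z ∈ [a, b, c] := by
  obtain ⟨v, hv, hv0, hvx⟩ := M.exists_pt hx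
  obtain ⟨q, hq, hq0, hqy⟩ := M.exists_pt hy
  have hind := M.not_smul_of_ne hx hy hv hq0 hvx hqy hne
  have hqv : herm M.C q v = 0 := (M.commute_iff hx hy hv hq hq0 hvx hqy).1 hxy
  have hvq : herm M.C v q = 0 := by rw [← conj_herm, hqv, map_zero]
  obtain ⟨ω, hω0, hω1, hω⟩ := exists_omega M.C M.hq
  set L : M.K → (I6 → M.K) := fun t => v + t • q with hL
  have hLL : ∀ s t, herm M.C (L s) (L t) = 0 := fun s t => by
    simp [hL, herm_add_left, herm_add_right, herm_smul_left, herm_smul_right, hv, hq, hvq, hqv]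
  have hLv : ∀ t, herm M.C (L t) v = 0 := fun t => by simp [hL, herm_add_left, herm_smul_left, hv, hqv]
  have hLq : ∀ t, herm M.C (L t) q = 0 := fun t => by simp [hL, herm_add_left, herm_smul_left, hq, hvq]
  have hLinj : ∀ s t a, L t = a • L s → t = s := fun s t a h => by
    have h' : (1 - a) • v = (a * s - t) • q := by
      simp only [hL, smul_add, smul_smul] at h
      linear_combination (norm := module) h
    by_cases h1 : a * s - t = 0
    · rw [h1, zero_smul, smul_eq_zero] at h'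
      rcases h' with h2 | h2
      · rw [sub_eq_zero] at h1 h2
        rw [← h1, ← h2, one_mul]
      · exact absurd h2 hv0
    · exact absurd (show q = ((a * s - t)⁻¹ * (1 - a)) • v by rw [mul_smul, h', inv_smul_smul₀ h1])
        (hind _)
  have hL0 : ∀ t, t ≠ 0 → L t ≠ 0 := fun t ht h => by
    refine hind (-t⁻¹) ?_
    have h1 : t • q = -v := eq_neg_of_add_eq_zero_right h
    rw [neg_smul, ← smul_neg, ← h1, inv_smul_smul₀ ht]
  have hLne_v : ∀ t, t ≠ 0 → ∀ a, L t ≠ a • v := fun t ht a h => ht (hLinj 0 t a (by simpa [hL] using h))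
  have hLne_q : ∀ t a, L t ≠ a • q := fun t a h => by
    have : v = (a - t) • q := by simp only [hL] at h; rw [sub_smul, ← h]; abel
    by_cases h1 : a - t = 0
    · exact hv0 (by rw [this, h1, zero_smul])
    · exact hind (a - t)⁻¹ (by rw [this, inv_smul_smul₀ h1])
  obtain ⟨a, ha, hLa⟩ := M.exists_mem (hLL 1 1) (hL0 1 one_ne_zero)
  obtain ⟨b, hb, hLb⟩ := M.exists_mem (hLL ω ω) (hL0 ω hω0)
  obtain ⟨c, hc, hLc⟩ := M.exists_mem (hLL _ _) (hL0 (ω ^ 2) (pow_ne_zero 2 hω0))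
  have hω2 : ω ^ 2 ≠ 1 := fun h => hω1 (by
    have h3 := U62.pow_three M.C M.hq hω0
    rwa [pow_succ, h, one_mul] at h3)
  have hωω : ω ≠ ω ^ 2 := fun h => hω1 (by
    rw [pow_two] at h; exact mul_left_cancel₀ hω0 (by rw [mul_one]; exact h.symm))
  have ne_of : ∀ {r s : I6 → M.K} {p o : G} (hp : p ∈ perp D d) (ho : o ∈ perp D d), herm M.C r r = 0 →
      herm M.C s s = 0 → s ≠ 0 → bar hp = M.θ (tv M.C r) → bar ho = M.θ (tv M.C s) →
      (∀ t : M.K, s ≠ t • r) → p ≠ o := by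
    intro r s p o hp ho hr hs hs0 hrp hso hrs h
    subst h
    obtain ⟨t, -, ht⟩ := eq_smul_of_map_eq M.C M.hq M.θ M.hker hr hs hs0 (hrp.symm.trans hso)
    exact hrs t ht
  have nxa : ∀ {t : M.K} {p : G} (hp : p ∈ perp D d), t ≠ 0 → bar hp = M.θ (tv M.C (L t)) → x ≠ p ∧ y ≠ p :=
    fun {t p} hp ht htp => ⟨ne_of hx hp hv (hLL t t) (hL0 t ht) hvx htp (hLne_v t ht),
      ne_of hy hp hq (hLL t t) (hL0 t ht) hqy htp (hLne_q t)⟩
  have nLL : ∀ {s t : M.K} {p o : G} (hp : p ∈ perp D d) (ho : o ∈ perp D d), s ≠ t → t ≠ 0 →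
      bar hp = M.θ (tv M.C (L s)) → bar ho = M.θ (tv M.C (L t)) → p ≠ o :=
    fun {s t p o} hp ho hst ht hsp hto => ne_of hp ho (hLL s s) (hLL t t) (hL0 t ht) hsp hto
      fun a h => hst (hLinj s t a h).symm
  have hcm : ∀ {p o : G} {r s : I6 → M.K} (hp : p ∈ perp D d) (ho : o ∈ perp D d), herm M.C r r = 0 →
      herm M.C s s = 0 → s ≠ 0 → bar hp = M.θ (tv M.C r) → bar ho = M.θ (tv M.C s) →
      herm M.C s r = 0 → Commute p o :=
    fun hp ho hr hs hs0 hrp hso h => (M.commute_iff hp ho hr hs hs0 hrp hso).2 h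
  have cab := hcm ha hb (hLL _ _) (hLL _ _) (hL0 _ hω0) hLa hLb (hLL _ _)
  have cac := hcm ha hc (hLL _ _) (hLL _ _) (hL0 _ (pow_ne_zero 2 hω0)) hLa hLc (hLL _ _)
  have cbc := hcm hb hc (hLL _ _) (hLL _ _) (hL0 _ (pow_ne_zero 2 hω0)) hLb hLc (hLL _ _)
  have cxa := hcm hx ha hv (hLL _ _) (hL0 _ one_ne_zero) hvx hLa (hLv _)
  have cxb := hcm hx hb hv (hLL _ _) (hL0 _ hω0) hvx hLb (hLv _)
  have cxc := hcm hx hc hv (hLL _ _) (hL0 _ (pow_ne_zero 2 hω0)) hvx hLc (hLv _)
  have cya := hcm hy ha hq (hLL _ _) (hL0 _ one_ne_zero) hqy hLa (hLq _)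
  have cyb := hcm hy hb hq (hLL _ _) (hL0 _ hω0) hqy hLb (hLq _)
  have cyc := hcm hy hc hq (hLL _ _) (hL0 _ (pow_ne_zero 2 hω0)) hqy hLc (hLq _)
  refine ⟨a, b, c, ha, hb, hc, ?_, ?_, ?_, ?_⟩
  · have n1 := nxa ha one_ne_zero hLa
    have n2 := nxa hb hω0 hLb
    have n3 := nxa hc (pow_ne_zero 2 hω0) hLc
    have n4 := nLL ha hb hω1.symm hω0 hLa hLb
    have n5 := nLL ha hc hω2.symm (pow_ne_zero 2 hω0) hLa hLc
    have n6 := nLL hb hc hωω (pow_ne_zero 2 hω0) hLb hLc
    simp [hne, n1.1, n1.2, n2.1, n2.2, n3.1, n3.2, n4, n5, n6]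
  · simp only [List.mem_cons, List.not_mem_nil, or_false]
    rintro u (rfl | rfl | rfl | rfl | rfl) w (rfl | rfl | rfl | rfl | rfl) <;>
      first
        | exact Commute.refl _
        | assumption
        | exact Commute.symm (by assumption)
  · rw [hvx, hqy, hLa, hLb, hLc, ← map_mul, ← map_mul, ← map_mul, ← map_mul]
    have h1 := tv_line M.C M.hq hv hq hvq hω
    simp only [hL, one_smul]
    rw [show tv M.C v * tv M.C q * tv M.C (v + q) * tv M.C (v + ω • q) * tv M.C (v + ω ^ 2 • q) =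
      tv M.C v * (tv M.C q * tv M.C (v + q) * tv M.C (v + ω • q) * tv M.C (v + ω ^ 2 • q)) by group,
      ← h1, tv_mul_self M.C M.hq hv, map_one]
  exact fun a' b' c' ha' hb' hc' => M.mem_line hx hy ha hb hc hne hv hq hq0 hvx hqy hω hLa hLb hLc ha' hb' hc'

end PerpModel

end CfsgLib.FischerTypes
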