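import Cfsg.Agent.FischerTypes.U62Stab

/-!
# Elements of prime order in `SU(6,2)`

Invariant subspaces without fixed vectors, the centralizer of an element of order eleven, and lifts through
central kernels.
-/

set_option autoImplicit false

namespace CfsgLib.U62

open Matrix CfsgLib.RepBounds.Unit

theorem exists_lift_prime {S Q : Type*} [Group S] [Group Q] (θ : S →* Q) (hs : Function.Surjective θ)
    (hker : ∀ z ∈ θ.ker, z ^ 3 = 1) {x : Q} {p : ℕ} (hx : x ^ p = 1) (hp : Nat.Coprime 3 p) :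
    ∃ g : S, θ g = x ∧ g ^ p = 1 := by
  obtain ⟨g, rfl⟩ := hs x
  have h1 : (g ^ p) ^ 3 = 1 := hker _ (by rw [MonoidHom.mem_ker, map_pow, hx])
  obtain ⟨m, hm, -⟩ : ∃ m, 3 * m ≡ 1 [MOD p] ∧ True := by
    rcases Nat.lt_or_ge p 2 with hp2 | hp2
    · interval_cases p
      · simp at hp
      · exact ⟨0, Nat.modEq_one, trivial⟩
    · obtain ⟨m, hm⟩ := Nat.exists_mul_mod_eq_one_of_coprime hp hp2
      exact ⟨m, by rw [Nat.ModEq, hm.2, Nat.one_mod_eq_one.2 (by omega)], trivial⟩
  refine ⟨(g ^ 3) ^ m, ?_, ?_⟩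
  · rw [map_pow, map_pow, ← pow_mul, pow_eq_pow_iff_modEq.2 (hm.of_dvd (orderOf_dvd_of_pow_eq_one hx)), pow_one]
  · rw [← pow_mul, ← pow_mul, show 3 * (m * p) = p * 3 * m by ring, pow_mul, pow_mul, h1, one_pow]

theorem commute_of_map_commute {S Q : Type*} [Group S] [Group Q] (θ : S →* Q)
    (hc : θ.ker ≤ Subgroup.center S) (hker : ∀ z ∈ θ.ker, z ^ 3 = 1) {g h : S} {p : ℕ} (hg : g ^ p = 1)
    (hp : Nat.Coprime 3 p) (hgh : Commute (θ h) (θ g)) : Commute h g := by
  set z := h * g * h⁻¹ * g⁻¹ with hz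
  have hzk : z ∈ θ.ker := by
    rw [MonoidHom.mem_ker, hz, map_mul, map_mul, map_mul, hgh.eq, map_inv, map_inv, mul_inv_cancel_right,
      mul_inv_cancel]
  have e1 : h * g * h⁻¹ = z * g := by rw [hz, inv_mul_cancel_right]
  have hzg : Commute z g := (Subgroup.mem_center_iff.1 (hc hzk) g).symm
  have h1 : z ^ p = 1 := by
    have := congrArg (· ^ p) e1
    simpa [conj_pow, hzg.mul_pow, hg] using this.symm
  have h2 : z = 1 := orderOf_eq_one_iff.1 (Nat.eq_one_of_dvd_coprimes hp (orderOf_dvd_of_pow_eq_one (hker _ hzk))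
    (orderOf_dvd_of_pow_eq_one h1))
  rw [h2, one_mul, mul_inv_eq_iff_eq_mul] at e1
  exact e1

variable {F : Type*} [Field F] [Fintype F] (C : ConjField F)

local notation "V6" => (I6 → F)

/-- The linear map of an element. -/
noncomputable def lin (g : suG C I6) : V6 →ₗ[F] V6 := Matrix.mulVecLin g.1.1

theorem lin_apply (g : suG C I6) (x : V6) : lin C g x = app C g x := rfl

/-- The vectors fixed by `g`. -/
noncomputable def fixSub (g : suG C I6) : Submodule F V6 := LinearMap.ker (lin C g - LinearMap.id)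

/-- The image of `g - 1`. -/
noncomputable def moveSub (g : suG C I6) : Submodule F V6 := LinearMap.range (lin C g - LinearMap.id)

theorem mem_fixSub {g : suG C I6} {x : V6} : x ∈ fixSub C g ↔ app C g x = x := by
  simp [fixSub, lin_apply, sub_eq_zero]

theorem app_pow_fixed {g : suG C I6} {x : V6} (hx : app C g x = x) (i : ℕ) : app C (g ^ i) x = x := by
  induction i with
  | zero => rw [pow_zero, app_one]
  | succ i ih => rw [pow_succ, app_mul, hx, ih]

/-- `g` and anything commuting with it preserve both spaces. -/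
theorem app_mem_of_commute {g h : suG C I6} (hgh : Commute h g) {x : V6} :
    (x ∈ fixSub C g → app C h x ∈ fixSub C g) ∧ (x ∈ moveSub C g → app C h x ∈ moveSub C g) := by
  refine ⟨fun hx => ?_, ?_⟩
  · rw [mem_fixSub] at hx ⊢
    rw [← app_mul, ← hgh.eq, app_mul, hx]
  · rintro ⟨y, rfl⟩
    refine ⟨app C h y, ?_⟩
    simp only [LinearMap.sub_apply, LinearMap.id_apply, lin_apply]
    rw [← app_mul, ← hgh.eq, app_mul]
    exact ((lin C h).map_sub (app C g y) y).symm

/-- With odd period there is a complement to the fixed space. -/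
theorem isCompl_fix_move {g : suG C I6} {p : ℕ} (hg : g ^ p = 1) (hp : (p : F) = 1) :
    IsCompl (fixSub C g) (moveSub C g) := by
  have hsum : ∀ x, ∑ i ∈ Finset.range p, app C (g ^ i) (app C g x - x) = 0 := fun x => by
    have e : ∀ i, app C (g ^ i) (app C g x - x) = app C (g ^ (i + 1)) x - app C (g ^ i) x := fun i => by
      rw [pow_succ, app_mul]
      exact (lin C (g ^ i)).map_sub _ _
    simp only [e]
    rw [Finset.sum_range_sub (fun i => app C (g ^ i) x), hg, pow_zero, sub_self]
  have hdisj : Disjoint (fixSub C g) (moveSub C g) := by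
    rw [Submodule.disjoint_def]
    rintro x hx ⟨y, rfl⟩
    rw [mem_fixSub] at hx
    have h1 := hsum y
    simp only [LinearMap.sub_apply, LinearMap.id_apply, lin_apply] at hx ⊢
    rw [Finset.sum_congr rfl fun i _ => app_pow_fixed C hx i, Finset.sum_const, Finset.card_range,
      ← Nat.cast_smul_eq_nsmul F, hp, one_smul] at h1
    exact h1
  refine ⟨hdisj, ?_⟩
  rw [codisjoint_iff]
  refine Submodule.eq_top_of_finrank_eq ?_
  have h1 := Submodule.finrank_sup_add_finrank_inf_eq (fixSub C g) (moveSub C g)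
  rw [hdisj.eq_bot, finrank_bot, add_zero] at h1
  rw [h1, add_comm]
  exact LinearMap.finrank_range_add_finrank_ker _

/-- An invariant subspace without fixed vectors. -/
theorem modEq_of_invariant {g : suG C I6} {p : ℕ} [hp : Fact p.Prime] (hg : g ^ p = 1) (U : Submodule F V6)
    (hU : ∀ x ∈ U, app C g x ∈ U) (hfree : ∀ x ∈ U, app C g x = x → x = 0) :
    Fintype.card F ^ Module.finrank F U ≡ 1 [MOD p] := by
  classical
  have hpow : ∀ i : ℕ, ∀ x ∈ U, app C (g ^ i) x ∈ U := by
    intro i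
    induction i with
    | zero => intro x hx; rwa [pow_zero, app_one]
    | succ i ih => intro x hx; rw [pow_succ, app_mul]; exact ih _ (hU x hx)
  have hz : ∀ h : ↥(Subgroup.zpowers g), ∃ i : ℕ, g ^ i = h := fun h => by
    obtain ⟨i, hi⟩ := ((isOfFinOrder_iff_pow_eq_one.2 ⟨p, hp.out.pos, hg⟩ : IsOfFinOrder g).mem_powers_iff_mem_zpowers).2 h.2
    exact ⟨i, hi⟩
  letI : MulAction ↥(Subgroup.zpowers g) ↥U :=
    { smul := fun h x => ⟨app C h.1 x.1, by obtain ⟨i, hi⟩ := hz h; rw [← hi]; exact hpow i _ x.2⟩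
      one_smul := fun x => Subtype.ext (app_one C _)
      mul_smul := fun a b x => Subtype.ext (app_mul C _ _ _) }
  have hP : IsPGroup p ↥(Subgroup.zpowers g) := fun h => ⟨1, Subtype.ext (by
    obtain ⟨i, hi⟩ := hz h
    push_cast
    rw [← hi, pow_one, ← pow_mul, mul_comm, pow_mul, hg, one_pow])⟩
  have h1 := hP.card_modEq_card_fixedPoints (α := ↥U)
  have hfix : Nat.card (MulAction.fixedPoints ↥(Subgroup.zpowers g) ↥U) = 1 := by
    rw [Nat.card_eq_one_iff_unique]
    refine ⟨⟨fun a b => Subtype.ext ?_⟩, ⟨⟨0, fun h => Subtype.ext ((lin C h.1).map_zero)⟩⟩⟩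
    have z : ∀ a : MulAction.fixedPoints ↥(Subgroup.zpowers g) ↥U, a.1 = 0 := fun a =>
      Subtype.ext (hfree _ a.1.2 (congrArg Subtype.val (a.2 ⟨g, Subgroup.mem_zpowers g⟩)))
    rw [z a, z b]
  rw [hfix, Module.natCard_eq_pow_finrank (K := F), Nat.card_eq_fintype_card] at h1
  exact h1

/-- A scalar of order three. -/
theorem exists_scalar_three (hC : C.q = 2) :
    ∃ z : suG C I6, z ∈ Subgroup.center (suG C I6) ∧ orderOf z = 3 := by
  obtain ⟨ω, hω0, hω1, -⟩ := exists_omega C hC
  obtain ⟨z, hz, hzx⟩ := exists_scalar C hC hω0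
  refine ⟨z, hz, orderOf_eq_prime (center_pow_three C hC hz) fun h1 => hω1 ?_⟩
  have h2 := congrFun (hzx (fun _ => 1)) (Sum.inl 0)
  rw [h1, app_one] at h2
  simpa using h2.symm

/-- The centralizer of an element of order eleven. -/
theorem card_centralizer_eleven (hC : C.q = 2) {g : suG C I6} (hg : g ^ 11 = 1) (hg1 : g ≠ 1) :
    Nat.card ↥(Subgroup.centralizer ({g} : Set (suG C I6))) ∣ 1023 := by
  classical
  have : Fact (Nat.Prime 11) := ⟨by norm_num⟩
  have hF : Fintype.card F = 4 := by rw [C.card, hC]; rfl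
  have h2 := two_eq_zero C hC
  have hcomp := isCompl_fix_move C hg (by push_cast; linear_combination 5 * h2)
  have hdim : ∀ U : Submodule F V6, U ≤ moveSub C g → (∀ x ∈ U, app C g x ∈ U) → U ≠ ⊥ →
      Module.finrank F U = 5 := by
    intro U hU hinv hne
    have h1 := modEq_of_invariant C hg U hinv fun x hx he =>
      Submodule.disjoint_def.1 hcomp.1 x ((mem_fixSub C).2 he) (hU hx)
    rw [hF, Nat.ModEq] at h1
    have h3 : Module.finrank F U ≤ 6 := (Submodule.finrank_le U).trans (by simp)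
    have h4 : Module.finrank F U ≠ 0 := fun h0 => hne (Submodule.finrank_eq_zero.1 h0)
    interval_cases hn : Module.finrank F U <;> simp at h1 h4 ⊢
  have hW : moveSub C g ≠ ⊥ := fun h0 => hg1 (suG_ext C fun x => by
    have h1 : (lin C g - LinearMap.id : V6 →ₗ[F] V6) x = 0 :=
      (Submodule.eq_bot_iff _).1 h0 _ ⟨x, rfl⟩
    simpa [lin_apply, sub_eq_zero, app_one] using h1)
  have hWinv : ∀ {h : suG C I6}, Commute h g → ∀ x ∈ moveSub C g, app C h x ∈ moveSub C g :=
    fun hc x hx => (app_mem_of_commute C hc).2 hx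
  have hW5 := hdim _ le_rfl (hWinv (Commute.refl g)) hW
  have hF1 : Module.finrank F (fixSub C g) = 1 := by
    have := Submodule.finrank_add_eq_of_isCompl hcomp
    simp at this
    omega
  obtain ⟨u, hu0, hu⟩ := finrank_eq_one_iff'.1 hF1
  set Cg := Subgroup.centralizer ({g} : Set (suG C I6)) with hCg
  have hcomm : ∀ h : ↥Cg, Commute (h : suG C I6) g := fun h => Subgroup.mem_centralizer_singleton_iff.1 h.2
  letI : MulAction ↥Cg {w : V6 // w ∈ moveSub C g ∧ w ≠ 0} :=
    { smul := fun h w => ⟨app C h.1 w.1, hWinv (hcomm h) _ w.2.1, fun h0 => w.2.2 (by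
        rw [← app_inv_app C h.1 w.1, h0]; exact (lin C _).map_zero)⟩
      one_smul := fun x => Subtype.ext (app_one C _)
      mul_smul := fun a b x => Subtype.ext (app_mul C _ _ _) }
  have hfree : ∀ w : {w : V6 // w ∈ moveSub C g ∧ w ≠ 0}, MulAction.stabilizer ↥Cg w = ⊥ := by
    intro w
    rw [Subgroup.eq_bot_iff_forall]
    intro h hh
    have hw : app C (h : suG C I6) w = w := congrArg Subtype.val hh
    set U := moveSub C g ⊓ fixSub C (h : suG C I6) with hUdef
    have hU : Module.finrank F U = 5 := hdim U inf_le_left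
      (fun x hx => ⟨hWinv (Commute.refl g) x hx.1, (app_mem_of_commute C (hcomm h).symm).1 hx.2⟩)
      fun h0 => w.2.2 ((Submodule.eq_bot_iff _).1 h0 _ ⟨w.2.1, (mem_fixSub C).2 hw⟩)
    have hUW : U = moveSub C g := Submodule.eq_of_le_of_finrank_eq inf_le_left (by rw [hU, hW5])
    have hWfix : ∀ x ∈ moveSub C g, app C (h : suG C I6) x = x := fun x hx =>
      (mem_fixSub C).1 (hUW ▸ hx : x ∈ U).2
    obtain ⟨c, hc⟩ := hu ⟨app C (h : suG C I6) u, (app_mem_of_commute C (hcomm h)).1 u.2⟩
    have hc' : app C (h : suG C I6) (u : V6) = c • (u : V6) := (congrArg Subtype.val hc).symm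
    have hdiff : ∀ x, ∃ a : F, app C (h : suG C I6) x = x + a • (u : V6) := by
      intro x
      obtain ⟨y, hy, z, hz, rfl⟩ := Submodule.mem_sup.1 (hcomp.sup_eq_top.symm ▸ Submodule.mem_top : x ∈ _)
      obtain ⟨a, ha⟩ := hu ⟨y, hy⟩
      have ha' : a • (u : V6) = y := congrArg Subtype.val ha
      refine ⟨a * (c - 1), ?_⟩
      rw [app_add, hWfix z hz, ← ha', app_smul, hc', smul_smul, mul_sub, mul_one, sub_smul]
      abel
    choose f hf using hdiff
    have hmat : (h : suG C I6).1.1 = 1 + Matrix.replicateCol Unit (u : V6) *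
        Matrix.replicateRow Unit (fun j => f (Pi.single j 1)) := by
      ext i j
      have := congrFun (hf (Pi.single j 1)) i
      simp [app] at this
      simp [Matrix.mul_apply, this, Matrix.one_apply, Pi.single_apply, mul_comm]
    have hdet := (h : suG C I6).1.2
    rw [hmat, Matrix.det_one_add_replicateCol_mul_replicateRow, add_eq_left] at hdet
    refine Subtype.ext (suG_ext C fun x => ?_)
    have hmu : app C (h : suG C I6) (u : V6) = u := by
      show (h : suG C I6).1.1 *ᵥ (u : V6) = u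
      rw [hmat, Matrix.add_mulVec, Matrix.one_mulVec, ← Matrix.mulVec_mulVec, add_eq_left]
      ext i
      simp [Matrix.mulVec, dotProduct] at hdet ⊢
      simp [hdet]
    obtain ⟨y, hy, z, hz, rfl⟩ := Submodule.mem_sup.1 (hcomp.sup_eq_top.symm ▸ Submodule.mem_top : x ∈ _)
    obtain ⟨a, ha⟩ := hu ⟨y, hy⟩
    show app C (h : suG C I6) (y + z) = app C 1 (y + z)
    rw [app_one, app_add, hWfix z hz, show y = a • (u : V6) from (congrArg Subtype.val ha).symm, app_smul, hmu]
  have hcard : Nat.card {w : V6 // w ∈ moveSub C g ∧ w ≠ 0} = 1023 := by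
    have h1 : Nat.card ↥(moveSub C g) = 1024 := by
      rw [Module.natCard_eq_pow_finrank (K := F), Nat.card_eq_fintype_card, hF, hW5]; rfl
    have h3 : ({w : V6 | w ∈ moveSub C g ∧ w ≠ 0}) = (moveSub C g : Set V6) \ {0} := by ext; simp
    show Nat.card ↥({w : V6 | w ∈ moveSub C g ∧ w ≠ 0}) = 1023
    rw [Nat.card_coe_set_eq, h3, Set.ncard_diff_singleton_of_mem (zero_mem _), ← Nat.card_coe_set_eq]
    exact (congrArg (· - 1) h1).trans rfl
  rw [← hcard, Nat.card_congr (MulAction.selfEquivOrbitsQuotientProd hfree), Nat.card_prod]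
  exact dvd_mul_left _ _

end CfsgLib.U62
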