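import Cfsg.Agent.FischerTypes.M22Mu
import Cfsg.Agent.FischerTypes.U62Semireg

/-!
# Prime-order subgroups in type M(22)

Sylow counting in `G` and lifts of elements of the centralizer of a member to `SU(6,2)`.
-/

set_option autoImplicit false

namespace CfsgLib.FischerTypes

open Cfsg CfsgLib.U62 CfsgLib.RepBounds.Unit

section sylow

variable {G : Type*} [Group G] [Finite G] {p : ℕ} [Fact p.Prime] {X : Subgroup G}

theorem sylow_conj_count {M : ℕ} (hG : Nat.card G = p * M) (hM : ¬ p ∣ M) (hX : Nat.card X = p) :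
    (∀ Y : Subgroup G, Nat.card Y = p → ∃ g : G, X.map (MulAut.conj g).toMonoidHom = Y) ∧
      (Subgroup.normalizer (X : Set G)).index % p = 1 := by
  have hp : p.Prime := Fact.out
  have hM0 : M ≠ 0 := fun h => hM (h ▸ dvd_zero p)
  have hf : p ^ (Nat.card G).factorization p = p := by
    rw [hG, Nat.factorization_mul hp.ne_zero hM0, Finsupp.add_apply, hp.factorization_self,
      Nat.factorization_eq_zero_of_not_dvd hM, add_zero, pow_one]
  refine ⟨fun Y hY => ?_, ?_⟩
  · obtain ⟨g, hg⟩ := MulAction.exists_smul_eq G (Sylow.ofCard X (hX.trans hf.symm))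
      (Sylow.ofCard Y (hY.trans hf.symm))
    exact ⟨g, congrArg (fun P : Sylow p G => (P : Subgroup G)) hg⟩
  · have h1 := card_sylow_modEq_one p G
    rw [(Sylow.ofCard X (hX.trans hf.symm)).card_eq_index_normalizer, Nat.ModEq,
      Nat.one_mod_eq_one.2 hp.ne_one] at h1
    exact h1

theorem card_normalizer_eq (hX : Nat.card X = p) :
    ∃ e, e ∣ p - 1 ∧ Nat.card ↥(Subgroup.normalizer (X : Set G)) =
      Nat.card ↥(Subgroup.centralizer (X : Set G)) * e := by
  have : IsCyclic ↥X := isCyclic_of_prime_card hX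
  refine ⟨Nat.card (Subgroup.normalizerMonoidHom X).range, ?_, ?_⟩
  · refine (Subgroup.card_subgroup_dvd_card _).trans (dvd_of_eq ?_)
    rw [IsCyclic.card_mulAut, hX, Nat.totient_prime Fact.out]
  · have hle : Subgroup.centralizer (X : Set G) ≤ Subgroup.normalizer (X : Set G) :=
      Subgroup.centralizer_le_normalizer _
    rw [← Nat.card_congr (QuotientGroup.quotientKerEquivRange (Subgroup.normalizerMonoidHom X)).toEquiv,
      Subgroup.card_eq_card_quotient_mul_card_subgroup (Subgroup.normalizerMonoidHom X).ker, mul_comm]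
    congr 1
    rw [Subgroup.normalizerMonoidHom_ker]
    exact Nat.card_congr (Subgroup.subgroupOfEquivOfLe hle).toEquiv

end sylow

variable {G : Type*} [Group G] [Finite G] {D : Set G}
variable (h : IsThreeTranspositionGroup D) (hp : IsPrimitiveUnderConj D) (h22 : IsOfTypeM22 G D)

include h hp h22

theorem card_centralizer_two {d e : G} (hd : d ∈ D) (he : e ∈ perp D d) :
    Nat.card ↥(Subgroup.centralizer ({d, e} : Set G)) = 26542080 := by
  obtain ⟨M⟩ := exists_perpModel h h22 hd
  have hCd := centralizer_eq h hp h22 hd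
  have h1 := card_eq_ncard_mul_card (H := Subgroup.centralizer ({d} : Set G))
    (K := Subgroup.centralizer ({d, e} : Set G)) (Subgroup.centralizer_le (by simp)) (fun g => g * e * g⁻¹)
    (S := perp D d) (fun g hg => conj_mem_perp h (Subgroup.mem_centralizer_singleton_iff.1 hg) he)
    (fun z hz => by
      obtain ⟨g, hg, hge⟩ := M.exists_conj he hz
      exact ⟨g, hCd ▸ hg, hge⟩)
    (fun g hg k hk => by
      rw [conj_eq_conj_iff, Subgroup.mem_centralizer_iff]
      refine ⟨fun hc => ?_, fun hc => (hc e (by simp)).symm⟩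
      rintro w (rfl | rfl)
      · exact ((Subgroup.mem_centralizer_singleton_iff.1
          (mul_mem (inv_mem hg) hk : g⁻¹ * k ∈ Subgroup.centralizer ({w} : Set G)))).symm
      · exact hc.symm)
  rw [card_centralizer h hp h22 hd, M.ncard_perp] at h1
  omega

/-- An element of odd prime order of `C(d)` comes from one of `SU(6,2)`. -/
theorem exists_lift_card {d x : G} (hd : d ∈ D) (hx : x ∈ Subgroup.centralizer ({d} : Set G)) {p : ℕ}
    [hpp : Fact p.Prime] (hxp : orderOf x = p) (h2 : p ≠ 2) (h3 : p ≠ 3) (M : PerpModel D d) :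
    ∃ g : suG M.C I6, g ^ p = 1 ∧ g ≠ 1 ∧
      Nat.card ↥(Subgroup.centralizer ({x, d} : Set G)) * 3 ∣
        2 * Nat.card ↥(Subgroup.centralizer ({g} : Set (suG M.C I6))) ∧
      (M.θ g = QuotientGroup.mk (⟨x, centralizer_eq h hp h22 hd ▸ hx⟩ : ↥(Subgroup.closure (perp D d))) ∧
      ∀ z : G, ∀ hz : z ∈ perp D d, Commute z x → ∀ v : I6 → M.K, herm M.C v v = 0 → v ≠ 0 →
        bar hz = M.θ (tv M.C v) → ∃ c : M.K, app M.C g v = c • v) := by
  classical
  have hHeq := centralizer_eq h hp h22 hd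
  set H := Subgroup.closure (perp D d) with hH
  set x₁ : ↥H := ⟨x, hHeq ▸ hx⟩ with hx₁
  have hcop : Nat.Coprime 3 p := (Nat.coprime_primes Nat.prime_three hpp.out).2 (Ne.symm h3)
  have hxp1 : x₁ ^ p = 1 := Subtype.ext (by simp [hx₁, ← hxp, pow_orderOf_eq_one])
  set π := QuotientGroup.mk' (Subgroup.center ↥H) with hπ
  have hker : ∀ z ∈ M.θ.ker, z ^ 3 = 1 := fun z hz => center_pow_three M.C M.hq (M.hker ▸ hz)
  obtain ⟨g, hgx, hgp⟩ := exists_lift_prime M.θ M.surj hker (x := π x₁) (p := p)
    (by rw [← map_pow, hxp1, map_one]) hcop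
  have hmemZ : ∀ z : ↥H, z ∈ Subgroup.center ↥H → (z : G) = 1 ∨ (z : G) = d := fun z hz =>
    (center_closure_perp h hp h22 hd z.2).1 (mem_center_closure_iff.1 hz)
  have hg1 : g ≠ 1 := by
    intro h1
    rw [h1, map_one, eq_comm] at hgx
    have hz : x₁ ∈ Subgroup.center ↥H := (QuotientGroup.eq_one_iff _).1 hgx
    rcases hmemZ x₁ hz with h0 | h0
    · exact hpp.out.ne_one (by rw [← hxp, show x = 1 from h0, orderOf_one])
    · exact h2 (by rw [← hxp, show x = d from h0, h.1.1 d hd])
  refine ⟨g, hgp, hg1, ?_, ?_⟩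
  · set Cx := Subgroup.centralizer ({x₁} : Set ↥H) with hCx
    have hsurj : Function.Surjective π := QuotientGroup.mk_surjective
    have hidx : (Cx.map π).index = Cx.index := Subgroup.index_map_eq Cx hsurj (by
      rw [hπ, QuotientGroup.ker_mk']; exact Subgroup.center_le_centralizer _)
    have hQ : Nat.card ↥H = Nat.card (PerpQuot D d) * Nat.card (Subgroup.center ↥H) :=
      Subgroup.card_eq_card_quotient_mul_card_subgroup _
    have hZ : Nat.card (Subgroup.center ↥H) ∣ 2 := by
      have hinj : Function.Injective fun z : Subgroup.center ↥H => ((z : ↥H) : G) := fun a b hab =>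
        Subtype.ext (Subtype.ext hab)
      have h1 : Nat.card (Subgroup.center ↥H) ≤ 2 := by
        refine le_trans (Nat.card_le_card_of_injective
          (fun z : Subgroup.center ↥H => (⟨((z : ↥H) : G), by
            simpa using hmemZ z.1 z.2⟩ : ↥({1, d} : Set G))) fun a b hab => hinj (by simpa using hab)) ?_
        rw [Nat.card_coe_set_eq]
        exact (Set.ncard_insert_le _ _).trans (by simp)
      have h0 : 0 < Nat.card (Subgroup.center ↥H) := Nat.card_pos
      interval_cases Nat.card (Subgroup.center ↥H) <;> norm_num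
    have hCxcard : Nat.card ↥Cx = Nat.card ↥(Cx.map π) * Nat.card (Subgroup.center ↥H) := by
      have e1 := Cx.card_mul_index
      have e2 := (Cx.map π).card_mul_index
      rw [hidx] at e2
      refine Nat.eq_of_mul_eq_mul_right (Nat.pos_of_ne_zero Subgroup.index_ne_zero_of_finite : 0 < Cx.index) ?_
      rw [e1, hQ, ← e2]; ring
    set Cg := Subgroup.centralizer ({g} : Set (suG M.C I6)) with hCg
    have hle : Cx.map π ≤ Cg.map M.θ := by
      rintro _ ⟨y, hy, rfl⟩
      obtain ⟨k, hk⟩ := M.surj (π y)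
      refine ⟨k, Subgroup.mem_centralizer_singleton_iff.2 ?_, hk⟩
      refine commute_of_map_commute M.θ (le_of_eq M.hker) hker hgp hcop ?_
      rw [hk, hgx]
      exact (show Commute y x₁ from Subgroup.mem_centralizer_singleton_iff.1 hy).map π
    have hCgcard : Nat.card ↥Cg = Nat.card ↥(Cg.map M.θ) * Nat.card M.θ.ker := by
      have hidx' : (Cg.map M.θ).index = Cg.index :=
        Subgroup.index_map_eq Cg M.surj (M.hker ▸ Subgroup.center_le_centralizer _)
      have e1 := Cg.card_mul_index
      have e2 := (Cg.map M.θ).card_mul_index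
      rw [hidx'] at e2
      have e3 : Nat.card (suG M.C I6) = Nat.card (PerpQuot D d) * Nat.card M.θ.ker := by
        rw [← Nat.card_congr (QuotientGroup.quotientKerEquivOfSurjective M.θ M.surj).toEquiv]
        exact Subgroup.card_eq_card_quotient_mul_card_subgroup _
      refine Nat.eq_of_mul_eq_mul_right (Nat.pos_of_ne_zero Subgroup.index_ne_zero_of_finite : 0 < Cg.index) ?_
      rw [e1, e3, ← e2]; ring
    have h3k : 3 ∣ Nat.card M.θ.ker := by
      obtain ⟨z, hz, hz3⟩ := exists_scalar_three M.C M.hq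
      rw [← hz3, ← Subgroup.orderOf_mk z (M.hker.symm ▸ hz : z ∈ M.θ.ker)]
      exact orderOf_dvd_natCard _
    have hCxG : Cx.map H.subtype = Subgroup.centralizer ({x, d} : Set G) := by
      ext y
      rw [Subgroup.mem_map, Subgroup.mem_centralizer_iff]
      constructor
      · rintro ⟨y₁, hy, rfl⟩ w (rfl | rfl)
        · exact (congrArg Subtype.val (Subgroup.mem_centralizer_singleton_iff.1 hy)).symm
        · exact (Subgroup.mem_centralizer_singleton_iff.1 (hHeq.symm ▸ y₁.2)).symm
      · intro hy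
        have hyH : y ∈ H := hHeq ▸ Subgroup.mem_centralizer_singleton_iff.2 (hy d (by simp)).symm
        exact ⟨⟨y, hyH⟩, Subgroup.mem_centralizer_singleton_iff.2 (Subtype.ext (hy x (by simp)).symm), rfl⟩
    rw [← hCxG, Subgroup.card_map_of_injective H.subtype_injective, hCxcard, hCgcard, mul_assoc,
      mul_comm 2, mul_assoc]
    exact mul_dvd_mul (Subgroup.card_dvd_of_le hle) (by
      rw [mul_comm (Nat.card M.θ.ker)]; exact mul_dvd_mul hZ h3k)
  · refine ⟨hgx, ?_⟩
    intro z hz hzx v hv hv0 hzv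
    have h1 : Commute (⟨z, mem_perp_closure hz⟩ : ↥H) x₁ := Subtype.ext hzx.eq
    have h2 : M.θ (tv M.C (app M.C g v)) = M.θ (tv M.C v) := by
      rw [← conj_tv M.C M.hq g hv, map_mul, map_mul, map_inv, hgx, ← hzv]
      exact mul_inv_eq_iff_eq_mul.2 (h1.symm.map π).eq
    obtain ⟨a, -, ha⟩ := eq_smul_of_map_eq M.C M.hq M.θ M.hker hv (by rw [herm_app, hv])
      (fun h0 => hv0 (by rw [← app_inv_app M.C g v, h0]; simp [app])) h2.symm
    exact ⟨a, ha⟩

/-- An element of order eleven fixes exactly one member, and has centralizer of order twenty-two. -/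
theorem eleven_local {x : G} (hx : orderOf x = 11) :
    ∃ d ∈ D, Commute d x ∧ (∀ e ∈ D, Commute e x → e = d) ∧
      Nat.card ↥(Subgroup.centralizer ({x} : Set G)) = 22 := by
  have : Fact (Nat.Prime 11) := ⟨by norm_num⟩
  obtain ⟨d₁, hd₁⟩ : D.Nonempty := let ⟨a, ha, _⟩ := hp.2.1; ⟨a, ha⟩
  obtain ⟨y, hy⟩ := exists_prime_orderOf_dvd_card' (G := ↥(Subgroup.centralizer ({d₁} : Set G))) 11
    (by rw [card_centralizer h hp h22 hd₁]; norm_num)
  rw [← Subgroup.orderOf_coe] at hy
  obtain ⟨g, hg⟩ := (sylow_conj_count (p := 11) (M := 5869250150400) (by rw [card_group h hp h22])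
    (by norm_num) ((Nat.card_zpowers (y : G)).trans hy)).1 (Subgroup.zpowers x) ((Nat.card_zpowers x).trans hx)
  rw [MonoidHom.map_zpowers] at hg
  set d := g * d₁ * g⁻¹ with hdd
  have hd : d ∈ D := h.2.1 g d₁ hd₁
  have hdx : Commute d x := by
    obtain ⟨i, hi⟩ := hg.symm ▸ Subgroup.mem_zpowers x
    have h1 : Commute d (g * (y : G) * g⁻¹) :=
      (commute_conj_iff' g d₁ (y : G)).2 (Subgroup.mem_centralizer_singleton_iff.1 y.2).symm
    rw [← hi]
    exact h1.zpow_right i
  have huniq : ∀ e ∈ D, Commute e x → e = d := by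
    intro e he hex
    by_contra hne
    have hmem : x ∈ Subgroup.centralizer ({d, e} : Set G) := by
      rw [Subgroup.mem_centralizer_iff]
      rintro w (rfl | rfl)
      exacts [hdx.eq, hex.eq]
    have hdvd : 11 ∣ Nat.card ↥(Subgroup.centralizer ({d, e} : Set G)) :=
      hx ▸ Subgroup.orderOf_mk x hmem ▸ orderOf_dvd_natCard _
    by_cases hc : Commute d e
    · rw [card_centralizer_two h hp h22 hd ⟨he, hne, hc⟩] at hdvd; norm_num at hdvd
    · rw [card_centralizer_pair h hp h22 hd he hc] at hdvd; norm_num at hdvd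
  refine ⟨d, hd, hdx, huniq, ?_⟩
  have hxd : Subgroup.centralizer ({x} : Set G) = Subgroup.centralizer ({x, d} : Set G) := by
    refine le_antisymm (fun k hk => ?_) (Subgroup.centralizer_le (by simp))
    rw [Subgroup.mem_centralizer_singleton_iff] at hk
    rw [Subgroup.mem_centralizer_iff]
    rintro w (rfl | rfl)
    · exact hk.symm
    · have h1 := huniq (k * d * k⁻¹) (h.2.1 k d hd) (by
        have := (commute_conj_iff' k d x).2 hdx
        rwa [show k * x * k⁻¹ = x by rw [hk, mul_inv_cancel_right]] at this)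
      exact (mul_inv_eq_iff_eq_mul.1 h1).symm
  obtain ⟨M⟩ := exists_perpModel h h22 hd
  obtain ⟨s, hs, hs1, hdvd, -⟩ := exists_lift_card h hp h22 hd
    (Subgroup.mem_centralizer_singleton_iff.2 hdx.symm.eq) hx (by norm_num) (by norm_num) M
  have h1 := hdvd.trans (Nat.mul_dvd_mul_left 2 (card_centralizer_eleven M.C M.hq hs hs1))
  rw [hxd]
  have hC : Nat.card ↥(Subgroup.centralizer ({x, d} : Set G)) ∣ 18393661440 :=
    card_centralizer h hp h22 hd ▸ Subgroup.card_dvd_of_le (Subgroup.centralizer_le (by simp))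
  set n := Nat.card ↥(Subgroup.centralizer ({x, d} : Set G))
  have hlow : 22 ∣ n := by
    have m1 : ∀ z : G, Commute z x → Commute z d → z ∈ Subgroup.centralizer ({x, d} : Set G) := fun z a b => by
      rw [Subgroup.mem_centralizer_iff]
      rintro w (rfl | rfl)
      exacts [a.symm.eq, b.symm.eq]
    have a1 : 11 ∣ n := hx ▸ Subgroup.orderOf_mk x (m1 x (Commute.refl x) hdx.symm) ▸ orderOf_dvd_natCard _
    have a2 : 2 ∣ n := h.1.1 d hd ▸ Subgroup.orderOf_mk d (m1 d hdx (Commute.refl d)) ▸ orderOf_dvd_natCard _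
    exact (Nat.Coprime.mul_dvd_of_dvd_of_dvd (by norm_num : Nat.Coprime 2 11) a2 a1)
  have h2 : n ∣ 682 := (Nat.mul_dvd_mul_iff_right (by norm_num : 0 < 3)).1 (h1.trans (by norm_num))
  have h3 : n ∣ 22 := (Nat.dvd_gcd h2 hC).trans (by norm_num)
  exact Nat.dvd_antisymm h3 hlow

end CfsgLib.FischerTypes
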