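import Cfsg.Agent.FischerTypes.U62Semireg

/-!
# Elements of order seven in `SU(6,2)`

Such an element without fixed isotropic vectors splits the space in two totally isotropic planes, and its
centralizer has order dividing twenty-one.
-/

set_option autoImplicit false
set_option maxHeartbeats 1600000

namespace CfsgLib.U62

open Matrix CfsgLib.RepBounds.Unit

variable {F : Type*} [Field F] [Fintype F] (C : ConjField F)

local notation "V6" => (I6 → F)

/-- `g³ + g + 1`. -/
noncomputable def pOne (g : suG C I6) : V6 →ₗ[F] V6 := lin C (g ^ 3) + lin C g + LinearMap.id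

/-- `g³ + g² + 1`. -/
noncomputable def pTwo (g : suG C I6) : V6 →ₗ[F] V6 := lin C (g ^ 3) + lin C (g ^ 2) + LinearMap.id

theorem pOne_apply (g : suG C I6) (v : V6) : pOne C g v = app C (g ^ 3) v + app C g v + v := rfl

theorem pTwo_apply (g : suG C I6) (v : V6) : pTwo C g v = app C (g ^ 3) v + app C (g ^ 2) v + v := rfl

theorem pOne_comm {g h : suG C I6} (hc : Commute h g) (v : V6) :
    pOne C g (app C h v) = app C h (pOne C g v) := by
  simp only [pOne_apply, app_add, ← app_mul, (hc.pow_right 3).eq, hc.eq]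

theorem pTwo_comm {g h : suG C I6} (hc : Commute h g) (v : V6) :
    pTwo C g (app C h v) = app C h (pTwo C g v) := by
  simp only [pTwo_apply, app_add, ← app_mul, (hc.pow_right 3).eq, (hc.pow_right 2).eq]

variable (hC : C.q = 2)
include hC

/-- A subspace of dimension at least three contains an isotropic vector. -/
theorem exists_isotropic_mem (U : Submodule F V6) (hU : 3 ≤ Module.finrank F U) :
    ∃ v ∈ U, v ≠ 0 ∧ herm C v v = 0 := by
  have hne : U ≠ ⊥ := fun h0 => by rw [h0, finrank_bot] at hU; omega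
  obtain ⟨u, hu, hu0⟩ := U.exists_mem_ne_zero_of_ne_bot hne
  by_cases huu : herm C u u = 0
  · exact ⟨u, hu, hu0, huu⟩
  let φ : U →ₗ[F] F :=
    { toFun := fun x => herm C x.1 u
      map_add' := fun x y => herm_add_left C _ _ u
      map_smul' := fun a x => herm_smul_left C a _ u }
  have hk : LinearMap.ker φ ≠ ⊥ := fun h0 => by
    have h1 := φ.finrank_range_add_finrank_ker
    have h2 : Module.finrank F (LinearMap.range φ) ≤ 1 := (Submodule.finrank_le _).trans (by simp)
    rw [h0, finrank_bot] at h1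
    omega
  obtain ⟨v, hv, hv0⟩ := (LinearMap.ker φ).exists_mem_ne_zero_of_ne_bot hk
  have hvu : herm C v.1 u = 0 := hv
  by_cases hvv : herm C v.1 v.1 = 0
  · exact ⟨v, v.2, fun h0 => hv0 (Subtype.ext h0), hvv⟩
  refine ⟨u + v.1, add_mem hu v.2, fun h0 => ?_, ?_⟩
  · have := congrArg (fun x => herm C x u) h0
    simp [herm_add_left, herm_zero_left, hvu, huu] at this
  · have one : ∀ x : V6, herm C x x ≠ 0 → herm C x x = 1 := fun x hx => by
      have h1 : C.σ (herm C x x) = herm C x x := conj_herm C x x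
      have h2 := norm_eq_one C hC hx
      have h3 := U62.pow_three C hC hx
      rw [h1] at h2
      calc herm C x x = herm C x x * (herm C x x * herm C x x) := by rw [h2, mul_one]
        _ = herm C x x ^ 3 := by ring
        _ = 1 := h3
    simp only [herm_add_left, herm_add_right, hvu, show herm C u v.1 = 0 by rw [← conj_herm, hvu, map_zero],
      one u huu, one _ hvv]
    linear_combination two_eq_zero C hC

variable {g : suG C I6} (hg : g ^ 7 = 1) (hg1 : g ≠ 1)
  (hfree : ∀ v, herm C v v = 0 → app C g v = v → v = 0)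
include hg hg1 hfree

theorem seven_no_fixed {v : V6} (hv : app C g v = v) : v = 0 := by
  have : Fact (Nat.Prime 7) := ⟨by norm_num⟩
  have hF : Fintype.card F = 4 := by rw [C.card, hC]; rfl
  have h2 := two_eq_zero C hC
  have hcomp := isCompl_fix_move C hg (by push_cast; linear_combination 3 * h2)
  have hW : moveSub C g ≠ ⊥ := fun h0 => hg1 (suG_ext C fun x => by
    have h1 : (lin C g - LinearMap.id : V6 →ₗ[F] V6) x = 0 :=
      (Submodule.eq_bot_iff _).1 h0 _ ⟨x, rfl⟩
    simpa [lin_apply, sub_eq_zero, app_one] using h1)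
  have h1 := modEq_of_invariant C hg (moveSub C g) (fun x hx => (app_mem_of_commute C (Commute.refl g)).2 hx)
    fun x hx he => Submodule.disjoint_def.1 hcomp.1 x ((mem_fixSub C).2 he) hx
  have h3 : Module.finrank F (moveSub C g) ≠ 0 := fun h0 => hW (Submodule.finrank_eq_zero.1 h0)
  have h5 := Submodule.finrank_add_eq_of_isCompl hcomp
  simp at h5
  rw [hF, Nat.ModEq] at h1
  by_contra hv0
  have h4 : Module.finrank F (fixSub C g) ≠ 0 := fun h0 =>
    hv0 ((Submodule.eq_bot_iff _).1 (Submodule.finrank_eq_zero.1 h0) v ((mem_fixSub C).2 hv))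
  have h6 : Module.finrank F (moveSub C g) ≤ 5 := by omega
  have h7 : 3 ≤ Module.finrank F (fixSub C g) := by
    interval_cases hn : Module.finrank F (moveSub C g) <;> simp at h1 h3 ⊢ <;> omega
  obtain ⟨w, hw, hw0, hww⟩ := exists_isotropic_mem C hC _ h7
  exact hw0 (hfree w hww ((mem_fixSub C).1 hw))

/-- The two planes. -/
theorem seven_split :
    (∀ v, ∃ a ∈ LinearMap.ker (pOne C g), ∃ b ∈ LinearMap.ker (pTwo C g), v = a + b) ∧
      (∀ v ∈ LinearMap.ker (pOne C g), v ∈ LinearMap.ker (pTwo C g) → v = 0) ∧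
      (∀ v ∈ LinearMap.ker (pOne C g), ∀ w ∈ LinearMap.ker (pOne C g), herm C v w = 0) ∧
      (∀ v ∈ LinearMap.ker (pTwo C g), ∀ w ∈ LinearMap.ker (pTwo C g), herm C v w = 0) := by
  have h2 := two_eq_zero C hC
  have hneg : ∀ x : V6, x + x = 0 := fun x => funext fun i => by
    simp only [Pi.add_apply, Pi.zero_apply]; linear_combination x i * h2
  have ap : ∀ (i j : ℕ) (v : V6), app C (g ^ i) (app C (g ^ j) v) = app C (g ^ (i + j)) v :=
    fun i j v => by rw [pow_add, app_mul]
  have a7 : ∀ v : V6, app C (g ^ 7) v = v := fun v => by rw [hg, app_one]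
  have hzero : ∀ v, pOne C g (pTwo C g v) = 0 := by
    intro v
    refine seven_no_fixed C hC hg hg1 hfree ?_
    rw [← pow_one g]
    simp only [pOne_apply, pTwo_apply, app_add, pow_one]
    rw [show app C g = app C (g ^ 1) by rw [pow_one]]
    simp only [ap, Nat.reduceAdd, a7]
    funext i
    simp only [Pi.add_apply]
    linear_combination (app C (g ^ 4) v i - app C (g ^ 3) v i) * h2
  have hzero' : ∀ v, pTwo C g (pOne C g v) = 0 := by
    intro v
    rw [← hzero v]
    simp only [pOne_apply, pTwo_apply, app_add]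
    rw [show app C g = app C (g ^ 1) by rw [pow_one]]
    simp only [ap, Nat.reduceAdd]
    abel
  have bez : ∀ v, pOne C g (app C g v) + pTwo C g (app C g v + v) = v := by
    intro v
    simp only [pOne_apply, pTwo_apply, app_add]
    rw [show app C g = app C (g ^ 1) by rw [pow_one]]
    simp only [ap, Nat.reduceAdd]
    funext i
    simp only [Pi.add_apply]
    linear_combination (app C (g ^ 4) v i + app C (g ^ 2) v i + app C (g ^ 1) v i + app C (g ^ 3) v i) * h2
  have adj1 : ∀ v w, herm C (pOne C g v) w = herm C v (app C (g ^ 4) (pTwo C g w)) := by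
    intro v w
    have e : ∀ i j : ℕ, i + j = 7 → herm C (app C (g ^ i) v) w = herm C v (app C (g ^ j) w) := fun i j hij => by
      rw [← herm_app C (g ^ j), ap, add_comm j i, hij, a7]
    simp only [pOne_apply, pTwo_apply, app_add, ap, herm_add_left, herm_add_right, Nat.reduceAdd, a7]
    rw [show app C g = app C (g ^ 1) by rw [pow_one], e 3 4 rfl, e 1 6 rfl]
    ring
  have adj2 : ∀ v w, herm C (pTwo C g v) w = herm C v (app C (g ^ 4) (pOne C g w)) := by
    intro v w
    have e : ∀ i j : ℕ, i + j = 7 → herm C (app C (g ^ i) v) w = herm C v (app C (g ^ j) w) := fun i j hij => by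
      rw [← herm_app C (g ^ j), ap, add_comm j i, hij, a7]
    simp only [pOne_apply, pTwo_apply, app_add, ap, herm_add_left, herm_add_right, Nat.reduceAdd, a7]
    rw [show app C g = app C (g ^ 1) by rw [pow_one], e 3 4 rfl, e 2 5 rfl]
    simp only [ap, Nat.reduceAdd]
    ring
  refine ⟨fun v => ⟨pTwo C g (app C g v + v), hzero _, pOne C g (app C g v), hzero' _, ?_⟩, ?_, ?_, ?_⟩
  · rw [add_comm]; exact (bez v).symm
  · intro v h1 h3
    rw [← bez v, map_add, pOne_comm C (Commute.refl g), pTwo_comm C (Commute.refl g),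
      LinearMap.mem_ker.1 h1, LinearMap.mem_ker.1 h3]
    simp [app]
  · intro v hv w hw
    obtain ⟨x, rfl⟩ : ∃ x, v = pTwo C g x := ⟨app C g v + v, by
      conv_lhs => rw [← bez v, pOne_comm C (Commute.refl g), LinearMap.mem_ker.1 hv]
      simp [app]⟩
    rw [adj2, LinearMap.mem_ker.1 hw]
    simp [app, herm_zero_right]
  · intro v hv w hw
    obtain ⟨x, rfl⟩ : ∃ x, v = pOne C g x := ⟨app C g v, by
      conv_lhs => rw [← bez v, map_add, pTwo_comm C (Commute.refl g), LinearMap.mem_ker.1 hv]
      simp [app]⟩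
    rw [adj1, LinearMap.mem_ker.1 hw]
    simp [app, herm_zero_right]

theorem seven_dim : Module.finrank F (LinearMap.ker (pOne C g)) = 3 ∧
    Module.finrank F (LinearMap.ker (pTwo C g)) = 3 := by
  obtain ⟨hsum, hdisj, i1, i2⟩ := seven_split C hC hg hg1 hfree
  have : Fact (Nat.Prime 7) := ⟨by norm_num⟩
  have hF : Fintype.card F = 4 := by rw [C.card, hC]; rfl
  set W1 := LinearMap.ker (pOne C g)
  set W2 := LinearMap.ker (pTwo C g)
  have m1 := modEq_of_invariant C hg W1 (fun x hx => by
    rw [LinearMap.mem_ker, pOne_comm C (Commute.refl g), LinearMap.mem_ker.1 hx]; simp [app])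
    fun x _ he => seven_no_fixed C hC hg hg1 hfree he
  have m2 := modEq_of_invariant C hg W2 (fun x hx => by
    rw [LinearMap.mem_ker, pTwo_comm C (Commute.refl g), LinearMap.mem_ker.1 hx]; simp [app])
    fun x _ he => seven_no_fixed C hC hg hg1 hfree he
  have hc : IsCompl W1 W2 := ⟨Submodule.disjoint_def.2 hdisj, codisjoint_iff.2 (eq_top_iff.2 fun v _ => by
    obtain ⟨a, ha, b, hb, rfl⟩ := hsum v
    exact Submodule.add_mem_sup ha hb)⟩
  have h6 := Submodule.finrank_add_eq_of_isCompl hc
  simp at h6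
  have hnb : ∀ W W' : Submodule F V6, IsCompl W W' → (∀ v ∈ W', ∀ w ∈ W', herm C v w = 0) → W ≠ ⊥ := by
    intro W W' hWW hiso h0
    have htop : W' = ⊤ := by simpa [h0] using hWW.sup_eq_top
    obtain ⟨y, hy⟩ := exists_herm_eq C (u := (fun _ => 1 : V6))
      (fun h1 => by simpa using congrFun h1 (Sum.inl 0)) 1
    exact one_ne_zero (hy.symm.trans (hiso y (htop ▸ trivial) _ (htop ▸ trivial)))
  have n1 : Module.finrank F W1 ≠ 0 := fun h0 => hnb W1 W2 hc i2 (Submodule.finrank_eq_zero.1 h0)
  have n2 : Module.finrank F W2 ≠ 0 := fun h0 => hnb W2 W1 hc.symm i1 (Submodule.finrank_eq_zero.1 h0)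
  rw [hF, Nat.ModEq] at m1 m2
  have l1 : Module.finrank F W1 ≤ 5 := by omega
  have e1 : Module.finrank F W1 = 3 := by
    interval_cases hn : Module.finrank F W1 <;> simp at m1 n1 ⊢
  exact ⟨e1, by omega⟩

/-- An element commuting with `g` is determined by its value on one vector of either plane. -/
theorem seven_free {h : suG C I6} (hc : Commute h g) {w : V6}
    (hw : w ∈ LinearMap.ker (pOne C g) ∨ w ∈ LinearMap.ker (pTwo C g)) (hw0 : w ≠ 0)
    (hfix : app C h w = w) : h = 1 := by
  obtain ⟨hsum, hdisj, i1, i2⟩ := seven_split C hC hg hg1 hfree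
  obtain ⟨d1, d2⟩ := seven_dim C hC hg hg1 hfree
  have : Fact (Nat.Prime 7) := ⟨by norm_num⟩
  have hF : Fintype.card F = 4 := by rw [C.card, hC]; rfl
  have key : ∀ W W' : Submodule F V6, (∀ x ∈ W, app C g x ∈ W) → Module.finrank F W = 3 →
      (∀ x ∈ W', app C h x ∈ W') → (∀ v ∈ W', ∀ v' ∈ W', herm C v v' = 0) →
      (∀ v, ∃ a ∈ W, ∃ b ∈ W', v = a + b) → w ∈ W → h = 1 := by
    intro W W' hinv hdim hinv' hiso hs hwW
    set U := W ⊓ fixSub C h
    have hU : Module.finrank F U = 3 := by
      have h1 := modEq_of_invariant C hg U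
        (fun x hx => ⟨hinv x hx.1, (app_mem_of_commute C hc.symm).1 hx.2⟩)
        fun x _ he => seven_no_fixed C hC hg hg1 hfree he
      rw [hF, Nat.ModEq] at h1
      have h3 : Module.finrank F U ≠ 0 := fun h0 => hw0
        ((Submodule.eq_bot_iff _).1 (Submodule.finrank_eq_zero.1 h0) w ⟨hwW, (mem_fixSub C).2 hfix⟩)
      have h4 : Module.finrank F U ≤ 3 := hdim ▸ Submodule.finrank_mono inf_le_left
      interval_cases hn : Module.finrank F U <;> simp at h1 h3 ⊢
    have hUW : U = W := Submodule.eq_of_le_of_finrank_eq inf_le_left (by rw [hU, hdim])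
    have hWfix : ∀ x ∈ W, app C h x = x := fun x hx => (mem_fixSub C).1 (hUW ▸ hx : x ∈ U).2
    have hW'fix : ∀ y ∈ W', app C h y = y := by
      intro y hy
      by_contra hne
      obtain ⟨z, hz⟩ := exists_herm_eq C (sub_ne_zero.2 hne) 1
      obtain ⟨a, ha, b, hb, rfl⟩ := hs z
      have hab : herm C a (app C h y - y) = 0 := by
        rw [herm_sub_right]
        conv_lhs => arg 1; rw [← hWfix a ha]
        rw [herm_app, sub_self]
      rw [herm_add_left, hab, hiso b hb _ (sub_mem (hinv' y hy) hy), add_zero] at hz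
      exact zero_ne_one hz
    refine suG_ext C fun x => ?_
    obtain ⟨a, ha, b, hb, rfl⟩ := hs x
    rw [app_add, hWfix a ha, hW'fix b hb, app_one]
  have inv1 : ∀ {k : suG C I6}, Commute k g → ∀ x ∈ LinearMap.ker (pOne C g),
      app C k x ∈ LinearMap.ker (pOne C g) := fun hk x hx => by
    rw [LinearMap.mem_ker, pOne_comm C hk, LinearMap.mem_ker.1 hx]; simp [app]
  have inv2 : ∀ {k : suG C I6}, Commute k g → ∀ x ∈ LinearMap.ker (pTwo C g),
      app C k x ∈ LinearMap.ker (pTwo C g) := fun hk x hx => by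
    rw [LinearMap.mem_ker, pTwo_comm C hk, LinearMap.mem_ker.1 hx]; simp [app]
  rcases hw with hw | hw
  · exact key _ _ (inv1 (Commute.refl g)) d1 (inv2 hc) i2 hsum hw
  · exact key _ _ (inv2 (Commute.refl g)) d2 (inv1 hc) i1 (fun v => by
      obtain ⟨a, ha, b, hb, he⟩ := hsum v
      exact ⟨b, hb, a, ha, he.trans (add_comm a b)⟩) hw

/-- The centralizer of an element of order seven. -/
theorem card_centralizer_seven :
    Nat.card ↥(Subgroup.centralizer ({g} : Set (suG C I6))) ∣ 21 := by
  classical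
  obtain ⟨hsum, hdisj, i1, i2⟩ := seven_split C hC hg hg1 hfree
  obtain ⟨d1, d2⟩ := seven_dim C hC hg hg1 hfree
  have hF : Fintype.card F = 4 := by rw [C.card, hC]; rfl
  set W1 := LinearMap.ker (pOne C g) with hW1
  set W2 := LinearMap.ker (pTwo C g) with hW2
  have inv1 : ∀ {k : suG C I6}, Commute k g → ∀ x ∈ W1, app C k x ∈ W1 := fun hk x hx => by
    rw [hW1, LinearMap.mem_ker, pOne_comm C hk, LinearMap.mem_ker.1 hx]; simp [app]
  have inv2 : ∀ {k : suG C I6}, Commute k g → ∀ x ∈ W2, app C k x ∈ W2 := fun hk x hx => by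
    rw [hW2, LinearMap.mem_ker, pTwo_comm C hk, LinearMap.mem_ker.1 hx]; simp [app]
  set Cg := Subgroup.centralizer ({g} : Set (suG C I6)) with hCg
  have hcomm : ∀ h : ↥Cg, Commute (h : suG C I6) g := fun h => Subgroup.mem_centralizer_singleton_iff.1 h.2
  letI : MulAction ↥Cg {w : V6 // w ∈ W1 ∧ w ≠ 0} :=
    { smul := fun h w => ⟨app C h.1 w.1, inv1 (hcomm h) _ w.2.1, fun h0 => w.2.2 (by
        rw [← app_inv_app C h.1 w.1, h0]; exact (lin C _).map_zero)⟩
      one_smul := fun x => Subtype.ext (app_one C _)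
      mul_smul := fun a b x => Subtype.ext (app_mul C _ _ _) }
  have hst : ∀ w : {w : V6 // w ∈ W1 ∧ w ≠ 0}, MulAction.stabilizer ↥Cg w = ⊥ := fun w => by
    rw [Subgroup.eq_bot_iff_forall]
    intro h hh
    exact Subtype.ext (seven_free C hC hg hg1 hfree (hcomm h) (Or.inl w.2.1) w.2.2
      (congrArg Subtype.val hh))
  have hcard : Nat.card {w : V6 // w ∈ W1 ∧ w ≠ 0} = 63 := by
    have h1 : Nat.card ↥W1 = 64 := by
      rw [Module.natCard_eq_pow_finrank (K := F), Nat.card_eq_fintype_card, hF, d1]; rfl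
    have h3 : ({w : V6 | w ∈ W1 ∧ w ≠ 0}) = (W1 : Set V6) \ {0} := by ext; simp
    show Nat.card ↥({w : V6 | w ∈ W1 ∧ w ≠ 0}) = 63
    rw [Nat.card_coe_set_eq, h3, Set.ncard_sdiff_singleton_of_mem (zero_mem _), ← Nat.card_coe_set_eq]
    exact (congrArg (· - 1) h1).trans rfl
  have h63 : Nat.card ↥Cg ∣ 63 := by
    rw [← hcard, Nat.card_congr (MulAction.selfEquivOrbitsQuotientProd hst), Nat.card_prod]
    exact dvd_mul_left _ _
  have h9 : ¬ 9 ∣ Nat.card ↥Cg := by
    intro hdvd
    have : Fact (Nat.Prime 3) := ⟨Nat.prime_three⟩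
    obtain ⟨P, hP⟩ := Sylow.exists_subgroup_card_pow_prime 3 (n := 2) (G := ↥Cg) hdvd
    -- the scalars in `Cg` are at most three
    have hscal : ∀ h : ↥Cg, (h : suG C I6) ^ 3 = 1 → ∃ c : F, c ≠ 0 ∧ ∀ x, app C (h : suG C I6) x = c • x := by
      intro h h3
      obtain ⟨ω, hω0, hω1, hω⟩ := exists_omega C hC
      have hω3 := U62.pow_three C hC hω0
      obtain ⟨w, hw, hw0⟩ := W1.exists_mem_ne_zero_of_ne_bot fun h0 => by rw [h0, finrank_bot] at d1; omega
      set a1 := app C (h : suG C I6) w with ha1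
      set a2 := app C (h : suG C I6) a1 with ha2
      have ha3 : app C (h : suG C I6) a2 = w := by
        rw [ha2, ha1, ← app_mul, ← app_mul, ← pow_three', h3, app_one]
      obtain ⟨v, hv, hv0, c, hc0, hcv⟩ : ∃ v ∈ W1, v ≠ 0 ∧ ∃ c : F, c ≠ 0 ∧
          app C (h : suG C I6) v = c • v := by
        have mem : ∀ p q r : F, p • w + q • a1 + r • a2 ∈ W1 := fun p q r => by
          have m1 := inv1 (hcomm h) w hw
          exact add_mem (add_mem (W1.smul_mem p hw) (W1.smul_mem q m1))
            (W1.smul_mem r (inv1 (hcomm h) _ m1))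
        by_cases h0 : w + a1 + a2 = 0
        · by_cases h1 : w + ω • a1 + ω ^ 2 • a2 = 0
          · refine ⟨(1 : F) • w + ω ^ 2 • a1 + ω • a2, mem _ _ _, fun h2 => hw0 ?_, ω, hω0, ?_⟩
            · have : (3 : F) • w = 0 := by
                have e := congrArg₂ (· + ·) (congrArg₂ (· + ·) h0 h1) h2
                simp only [add_zero] at e
                linear_combination (norm := module) e - hω • (a1 + a2)
              rwa [show (3 : F) = 1 by linear_combination two_eq_zero C hC, one_smul] at this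
            · simp only [app_add, app_smul, ha3, ← ha1, ← ha2]
              linear_combination (norm := module) -hω3 • a1
          · refine ⟨(1 : F) • w + ω • a1 + ω ^ 2 • a2, mem _ _ _, by rwa [one_smul], ω ^ 2, pow_ne_zero 2 hω0, ?_⟩
            simp only [app_add, app_smul, ha3, ← ha1, ← ha2]
            linear_combination (norm := module) -hω3 • a1 - (hω3 * ω) • a2
        · refine ⟨(1 : F) • w + (1 : F) • a1 + (1 : F) • a2, mem _ _ _, by simpa using h0, 1, one_ne_zero, ?_⟩
          simp only [app_add, app_smul, ha3, ← ha1, ← ha2]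
          module
      obtain ⟨z, hzc, hz⟩ := exists_scalar C hC (inv_ne_zero hc0)
      have hzg : Commute (z * (h : suG C I6)) g :=
        Commute.mul_left (Subgroup.mem_center_iff.1 hzc g).symm (hcomm h)
      have h1 := seven_free C hC hg hg1 hfree hzg (Or.inl hv) hv0
        (by rw [app_mul, hcv, hz, smul_smul, inv_mul_cancel₀ hc0, one_smul])
      refine ⟨c, hc0, fun x => ?_⟩
      have h4 := congrArg (fun k => app C k x) h1
      simp only [app_mul, hz, app_one] at h4
      conv_rhs => rw [← h4, smul_smul, mul_inv_cancel₀ hc0, one_smul]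
    obtain ⟨h, hhP, hh3⟩ : ∃ h ∈ P, ((h : ↥Cg) : suG C I6) ^ 3 ≠ 1 := by
      by_contra hall
      push Not at hall
      choose c hc0 hc using fun h : ↥P => hscal h.1 (hall _ h.2)
      have hinj : Function.Injective fun h : ↥P => (⟨c h, hc0 h⟩ : {x : F // x ≠ 0}) := fun a b hab => by
        refine Subtype.ext (Subtype.ext (suG_ext C fun x => ?_))
        rw [hc a, hc b, show c a = c b from congrArg Subtype.val hab]
      have h1 := Nat.card_le_card_of_injective _ hinj
      rw [hP, Nat.card_eq_fintype_card, Fintype.card_subtype_compl, Fintype.card_subtype_eq, hF] at h1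
      norm_num at h1
    have h9' : ((h : ↥Cg) : suG C I6) ^ 9 = 1 := by
      have h1 : (⟨h, hhP⟩ : ↥P) ^ Nat.card P = 1 := pow_card_eq_one'
      rw [hP] at h1
      simpa using congrArg (fun k : ↥P => ((k : ↥Cg) : suG C I6)) h1
    obtain ⟨μ, hμ0, hμ⟩ := hscal (h ^ 3) (by push_cast; rw [← pow_mul]; exact h9')
    push_cast at hμ
    have hμ1 : μ ≠ 1 := fun h1 => hh3 (suG_ext C fun x => by rw [hμ, h1, one_smul, app_one])
    set k := ((h : ↥Cg) : suG C I6)
    have hk : Commute k g := hcomm h
    have hμ3 := U62.pow_three C hC hμ0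
    have li : ∀ w : V6, w ≠ 0 → ∀ p q r : F, p • w + q • app C k w + r • app C k (app C k w) = 0 →
        p = 0 ∧ q = 0 ∧ r = 0 := by
      intro w hw0 p q r hrel
      have e3 : app C k (app C k (app C k w)) = μ • w := by
        rw [← app_mul, ← app_mul, ← pow_three', hμ]
      have hq2 : ∀ a : F, app C k w ≠ a • w := by
        intro a ha
        have e : app C k (app C k (app C k w)) = a ^ 3 • w := by
          rw [ha, app_smul, ha, smul_smul, app_smul, ha, smul_smul]; congr 1; ring
        have h1 : a ^ 3 = μ := smul_left_injective F hw0 (e.symm.trans e3)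
        by_cases ha0 : a = 0
        · exact hμ0 (by rw [← h1, ha0, zero_pow three_ne_zero])
        · exact hμ1 (h1.symm.trans (U62.pow_three C hC ha0))
      have hr : r = 0 := by
        by_contra hr0
        set α := -(r⁻¹ * p) with hα
        set β := -(r⁻¹ * q) with hβ
        have e2 : app C k (app C k w) = α • w + β • app C k w := by
          have := congrArg (fun x => r⁻¹ • x) hrel
          simp only [smul_add, smul_zero, smul_smul, inv_mul_cancel₀ hr0, one_smul] at this
          linear_combination (norm := (simp only [hα, hβ]; module)) this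
        have e : app C k (app C k (app C k w)) = (α * β) • w + (α + β ^ 2) • app C k w := by
          rw [e2, app_add, app_smul, app_smul, e2]; module
        rw [e3] at e
        by_cases hab : α + β ^ 2 = 0
        · rw [hab, zero_smul, add_zero] at e
          have h1 : μ = α * β := smul_left_injective F hw0 e
          by_cases hb : β = 0
          · exact hμ0 (by rw [h1, hb, mul_zero])
          · exact hμ1 (by
              linear_combination h1 + β * hab - U62.pow_three C hC hb - two_eq_zero C hC)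
        · refine hq2 ((α + β ^ 2)⁻¹ * (μ - α * β)) ?_
          rw [mul_smul, sub_smul, e, add_sub_cancel_left, inv_smul_smul₀ hab]
      rw [hr, zero_smul, add_zero] at hrel
      have hq0 : q = 0 := by
        by_contra hq0
        refine hq2 (-(q⁻¹ * p)) ?_
        have := congrArg (fun x => q⁻¹ • x) hrel
        simp only [smul_add, smul_zero, smul_smul, inv_mul_cancel₀ hq0, one_smul] at this
        linear_combination (norm := module) this
      rw [hq0, zero_smul, add_zero] at hrel
      exact ⟨(smul_eq_zero.1 hrel).resolve_right hw0, hq0, hr⟩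
    obtain ⟨u, hu, hu0⟩ := W1.exists_mem_ne_zero_of_ne_bot fun h0 => by rw [h0, finrank_bot] at d1; omega
    obtain ⟨v, hv, hv0⟩ := W2.exists_mem_ne_zero_of_ne_bot fun h0 => by rw [h0, finrank_bot] at d2; omega
    let b0 : Fin 3 ⊕ Fin 3 → V6 :=
      Sum.elim ![u, app C k u, app C k (app C k u)] ![v, app C k v, app C k (app C k v)]
    have hli : LinearIndependent F b0 := by
      rw [Fintype.linearIndependent_iff]
      intro c hc
      simp only [Fintype.sum_sum_type, b0, Sum.elim_inl, Sum.elim_inr, Fin.sum_univ_three,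
        Matrix.cons_val_zero, Matrix.cons_val_one, Matrix.cons_val] at hc
      have s1 : c (Sum.inl 0) • u + c (Sum.inl 1) • app C k u + c (Sum.inl 2) • app C k (app C k u) ∈ W1 :=
        add_mem (add_mem (W1.smul_mem _ hu) (W1.smul_mem _ (inv1 hk _ hu)))
          (W1.smul_mem _ (inv1 hk _ (inv1 hk _ hu)))
      have s2 : c (Sum.inr 0) • v + c (Sum.inr 1) • app C k v + c (Sum.inr 2) • app C k (app C k v) ∈ W2 :=
        add_mem (add_mem (W2.smul_mem _ hv) (W2.smul_mem _ (inv2 hk _ hv)))
          (W2.smul_mem _ (inv2 hk _ (inv2 hk _ hv)))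
      have z1 := hdisj _ s1 (by rw [eq_neg_of_add_eq_zero_left hc]; exact neg_mem s2)
      rw [z1, zero_add] at hc
      obtain ⟨a1, a2, a3⟩ := li u hu0 _ _ _ z1
      obtain ⟨b1, b2, b3⟩ := li v hv0 _ _ _ hc
      intro i
      rcases i with i | i <;> fin_cases i <;> assumption
    let b := basisOfLinearIndependentOfCardEqFinrank hli (by simp)
    have hdet := LinearMap.det_toMatrix b (lin C k)
    have hM : LinearMap.toMatrix b b (lin C k) = Matrix.fromBlocks
        !![0, 0, μ; 1, 0, 0; 0, 1, 0] 0 0 !![0, 0, μ; 1, 0, 0; 0, 1, 0] := by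
      have eb : ⇑b = b0 := coe_basisOfLinearIndependentOfCardEqFinrank _ _
      have e3 : ∀ w : V6, app C k (app C k (app C k w)) = μ • w := fun w => by
        rw [← app_mul, ← app_mul, ← pow_three', hμ]
      have img : ∀ j, lin C k (b j) = match j with
          | Sum.inl 0 => b (Sum.inl 1) | Sum.inl 1 => b (Sum.inl 2) | Sum.inl 2 => μ • b (Sum.inl 0)
          | Sum.inr 0 => b (Sum.inr 1) | Sum.inr 1 => b (Sum.inr 2) | Sum.inr 2 => μ • b (Sum.inr 0) := by
        intro j
        rw [eb]
        rcases j with j | j <;> fin_cases j <;> simp [b0, lin_apply, e3]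
      ext i j
      rw [LinearMap.toMatrix_apply, img]
      rcases i with i | i <;> rcases j with j | j <;> fin_cases i <;> fin_cases j <;> simp
    rw [hM, Matrix.det_fromBlocks_zero₂₁, Matrix.det_fin_three, show LinearMap.det (lin C k) = 1 by
      rw [show lin C k = Matrix.toLin' k.1.1 from rfl, LinearMap.det_toLin']; exact k.1.2] at hdet
    simp at hdet
    exact hμ1 (by
      calc μ = μ * (μ * μ) := by rw [hdet, mul_one]
        _ = μ ^ 3 := by ring
        _ = 1 := hμ3)
  have key : ∀ n < 64, n ∣ 63 → ¬ 9 ∣ n → n ∣ 21 := by decide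
  exact key _ (Nat.lt_succ_of_le (Nat.le_of_dvd (by norm_num) h63)) h63 h9

end CfsgLib.U62
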