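import Cfsg.Agent.FischerTypes.M22PrimeLocal
import Cfsg.Agent.FischerTypes.U62Seven
import Cfsg.Agent.FischerTypes.M22Line

/-!
# Elements of order seven in type M(22)

Such an element commutes with exactly the three members of a line and has centralizer of order forty-two.
-/

set_option autoImplicit false
set_option maxHeartbeats 800000

namespace CfsgLib.FischerTypes

open Cfsg CfsgLib.U62 CfsgLib.RepBounds.Unit

variable {G : Type*} [Group G] [Finite G] {D : Set G}
variable (h : IsThreeTranspositionGroup D) (hp : IsPrimitiveUnderConj D) (h22 : IsOfTypeM22 G D)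

include h hp h22

theorem seven_not_pair {x d e : G} (hx : orderOf x = 7) (hd : d ∈ D) (he : e ∈ perp D d)
    (hdx : Commute d x) (hex : Commute e x) : False := by
  have hmem : x ∈ Subgroup.centralizer ({d, e} : Set G) := by
    rw [Subgroup.mem_centralizer_iff]
    rintro w (rfl | rfl)
    exacts [hdx.eq, hex.eq]
  have hdvd : 7 ∣ Nat.card ↥(Subgroup.centralizer ({d, e} : Set G)) :=
    hx ▸ Subgroup.orderOf_mk x hmem ▸ orderOf_dvd_natCard _
  rw [card_centralizer_two h hp h22 hd he] at hdvd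
  norm_num at hdvd

theorem card_centralizer_seven_member {x d : G} (hx : orderOf x = 7) (hd : d ∈ D) (hdx : Commute d x) :
    Nat.card ↥(Subgroup.centralizer ({x, d} : Set G)) = 14 := by
  have : Fact (Nat.Prime 7) := ⟨by norm_num⟩
  obtain ⟨M⟩ := exists_perpModel h h22 hd
  have hcent : x ∈ Subgroup.centralizer ({d} : Set G) := Subgroup.mem_centralizer_singleton_iff.2 hdx.symm.eq
  obtain ⟨g, hg, hg1, hdvd, hfix⟩ := exists_lift_card h hp h22 hd hcent hx (by norm_num) (by norm_num) M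
  have hfree : ∀ v, herm M.C v v = 0 → app M.C g v = v → v = 0 := by
    intro v hv hgv
    by_contra hv0
    obtain ⟨z, hz, hzv⟩ := M.exists_mem hv hv0
    refine seven_not_pair h hp h22 hx hd hz hdx ?_
    -- `x` conjugates `z` to the member at `g v = v`
    have hxH : x ∈ Subgroup.closure (perp D d) := centralizer_eq h hp h22 hd ▸ hcent
    have hzx : x * z * x⁻¹ ∈ perp D d := conj_mem_perp' h hxH hz
    obtain ⟨k, hk⟩ := QuotientGroup.mk_surjective (M.θ g)
    have hkz : (k : G) * z * (k : G)⁻¹ = z := by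
      refine M.bar_inj (conj_mem_perp' h k.2 hz) hz ?_
      have e1 : bar (conj_mem_perp' h k.2 hz) =
          (QuotientGroup.mk k : PerpQuot D d) * bar hz * (QuotientGroup.mk k : PerpQuot D d)⁻¹ := rfl
      rw [e1, hk, hzv, ← map_inv, ← map_mul, ← map_mul, conj_tv M.C M.hq _ hv, hgv]
    have hgx : M.θ g = QuotientGroup.mk (⟨x, hxH⟩ : ↥(Subgroup.closure (perp D d))) := hfix.1
    rw [hgx] at hk
    have hz2 : k⁻¹ * ⟨x, hxH⟩ ∈ Subgroup.center ↥(Subgroup.closure (perp D d)) := QuotientGroup.eq.1 hk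
    rcases (center_closure_perp h hp h22 hd (k⁻¹ * ⟨x, hxH⟩ :).2).1 (mem_center_closure_iff.1 hz2) with h0 | h0
    · have hkx : (k : G) = x := by
        push_cast at h0
        exact inv_mul_eq_one.1 h0
      rw [hkx] at hkz
      exact (mul_inv_eq_iff_eq_mul.1 hkz).symm
    · have hkx : (k : G) = x * d := by
        push_cast at h0
        rw [inv_mul_eq_iff_eq_mul] at h0
        rw [h0, mul_assoc, mul_self h.1 hd, mul_one]
      have hzd : d * z * d⁻¹ = z := by rw [hz.2.2.eq, mul_inv_cancel_right]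
      rw [hkx, show x * d * z * (x * d)⁻¹ = x * (d * z * d⁻¹) * x⁻¹ by group, hzd] at hkz
      exact (mul_inv_eq_iff_eq_mul.1 hkz).symm
  have h1 := hdvd.trans (Nat.mul_dvd_mul_left 2 (card_centralizer_seven M.C M.hq hg hg1 hfree))
  set n := Nat.card ↥(Subgroup.centralizer ({x, d} : Set G))
  have h2 : n ∣ 14 := (Nat.mul_dvd_mul_iff_right (by norm_num : 0 < 3)).1 (h1.trans (by norm_num))
  have m1 : ∀ z : G, Commute z x → Commute z d → z ∈ Subgroup.centralizer ({x, d} : Set G) := fun z a b => by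
    rw [Subgroup.mem_centralizer_iff]
    rintro w (rfl | rfl)
    exacts [a.symm.eq, b.symm.eq]
  have a1 : 7 ∣ n := hx ▸ Subgroup.orderOf_mk x (m1 x (Commute.refl x) hdx.symm) ▸ orderOf_dvd_natCard _
  have a2 : 2 ∣ n := h.1.1 d hd ▸ Subgroup.orderOf_mk d (m1 d hdx (Commute.refl d)) ▸ orderOf_dvd_natCard _
  exact Nat.dvd_antisymm h2 (Nat.Coprime.mul_dvd_of_dvd_of_dvd (by norm_num : Nat.Coprime 2 7) a2 a1)

theorem seven_local {x : G} (hx : orderOf x = 7) :
    ∃ d e, d ∈ D ∧ e ∈ D ∧ ¬ Commute d e ∧ Commute d x ∧ Commute e x ∧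
      (∀ z ∈ D, Commute z x → z = d ∨ z = e ∨ z = d * e * d) ∧
      Nat.card ↥(Subgroup.centralizer ({x} : Set G)) = 42 := by
  classical
  have : Fact (Nat.Prime 7) := ⟨by norm_num⟩
  obtain ⟨d₁, hd₁⟩ : D.Nonempty := let ⟨a, ha, _⟩ := hp.2.1; ⟨a, ha⟩
  obtain ⟨y, hy⟩ := exists_prime_orderOf_dvd_card' (G := ↥(Subgroup.centralizer ({d₁} : Set G))) 7
    (by rw [card_centralizer h hp h22 hd₁]; norm_num)
  rw [← Subgroup.orderOf_coe] at hy
  obtain ⟨g, hg⟩ := (sylow_conj_count (p := 7) (M := 9223107379200) (by rw [card_group h hp h22])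
    (by norm_num) ((Nat.card_zpowers (y : G)).trans hy)).1 (Subgroup.zpowers x) ((Nat.card_zpowers x).trans hx)
  rw [MonoidHom.map_zpowers] at hg
  set d := g * d₁ * g⁻¹ with hdd
  have hd : d ∈ D := h.2.1 g d₁ hd₁
  have hdx : Commute d x := by
    obtain ⟨i, hi⟩ := hg.symm ▸ Subgroup.mem_zpowers x
    have h1 : Commute d (g * (y : G) * g⁻¹) :=
      (commute_conj_iff' g d₁ (y : G)).2 (Subgroup.mem_centralizer_singleton_iff.1 y.2).symm
    rw [← hi]
    exact h1.zpow_right i
  have hne_nc : ∀ {a b : G}, a ∈ D → b ∈ D → a ≠ b → Commute a x → Commute b x → ¬ Commute a b :=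
    fun ha hb hne hax hbx hab => seven_not_pair h hp h22 hx ha ⟨hb, Ne.symm hne, hab⟩ hax hbx
  set F := {z : G | z ∈ D ∧ Commute z x} with hF
  have hdF : d ∈ F := ⟨hd, hdx⟩
  have hconjF : ∀ {a b : G}, a ∈ F → b ∈ F → a * b * a ∈ F := fun {a b} ha hb => by
    refine ⟨?_, (ha.2.mul_left hb.2).mul_left ha.2⟩
    have := h.2.1 a b hb.1
    rwa [inv_eq h.1 ha.1] at this
  -- the centralizer of `x` is transitive
  set Cx := Subgroup.centralizer ({x} : Set G) with hCx
  have hmemC : ∀ {k : G}, k ∈ Cx ↔ Commute k x := fun {k} => Subgroup.mem_centralizer_singleton_iff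
  have htrans : ∀ z ∈ F, ∃ k ∈ Cx, k * d * k⁻¹ = z := by
    intro z hz
    by_cases hzd : z = d
    · exact ⟨1, one_mem _, by simp [hzd]⟩
    have hnc := hne_nc hd hz.1 (Ne.symm hzd) hdx hz.2
    refine ⟨d * z, hmemC.2 (hdx.mul_left hz.2), ?_⟩
    have hb := braid h.1 hd hz.1 hnc
    rw [_root_.mul_inv_rev, inv_eq h.1 hz.1, inv_eq h.1 hd]
    calc d * z * d * (z * d) = d * (z * d * z) * d := by simp [mul_assoc]
      _ = z := by rw [← hb]; simp [mul_assoc, mul_self h.1 hd, mul_self_cancel h.1 hd]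
  have hcardC : Nat.card ↥Cx = F.ncard * 14 := by
    rw [← card_centralizer_seven_member h hp h22 hx hd hdx]
    refine card_eq_ncard_mul_card (Subgroup.centralizer_le (by simp)) (fun k => k * d * k⁻¹)
      (fun k hk => ⟨h.2.1 k d hd, ?_⟩) htrans fun k hk l hl => ?_
    · have h1 := (commute_conj_iff' k d x).2 hdx
      rwa [show k * x * k⁻¹ = x by rw [(hmemC.1 hk).eq, mul_inv_cancel_right]] at h1
    · rw [conj_eq_conj_iff, Subgroup.mem_centralizer_iff]
      refine ⟨fun hc => ?_, fun hc => (hc d (by simp)).symm⟩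
      rintro w (rfl | rfl)
      · exact (Subgroup.mem_centralizer_singleton_iff.1 (mul_mem (inv_mem hk) hl)).symm
      · exact hc.symm
  -- products of two members of `F`
  have hordx : ∀ i : ℤ, (x ^ i) ^ 7 = 1 := fun i => by
    rw [← zpow_natCast, ← zpow_mul, mul_comm, zpow_mul, zpow_natCast,
      show x ^ 7 = 1 from hx ▸ pow_orderOf_eq_one x, one_zpow]
  have hord3 : ∀ {a b : G}, a ∈ F → b ∈ F → (a * b) ^ 3 = 1 := fun {a b} ha hb => by
    by_cases hab : a = b
    · rw [hab, mul_self h.1 hb.1, one_pow]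
    · exact (h.1.2 a ha.1 b hb.1).resolve_left fun h2 => hne_nc ha.1 hb.1 hab ha.2 hb.2 (by
        show a * b = b * a
        rw [sq, mul_eq_one_iff_eq_inv, _root_.mul_inv_rev, inv_eq h.1 ha.1, inv_eq h.1 hb.1] at h2
        exact h2)
  have hkill : ∀ (a b : G) (i : ℤ), Commute a x → b ^ 3 = 1 → a ^ 3 = 1 → b = a * x ^ i → b = a := by
    intro a b i hax hb ha he
    have h1 : (x ^ i) ^ 3 = 1 := by rw [he, (hax.zpow_right i).mul_pow, ha, one_mul] at hb; exact hb
    have h2 : x ^ i = 1 := orderOf_eq_one_iff.1 (Nat.eq_one_of_dvd_coprimes (by norm_num : Nat.Coprime 3 7)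
      (orderOf_dvd_of_pow_eq_one h1) (orderOf_dvd_of_pow_eq_one (hordx i)))
    rw [he, h2, mul_one]
  set T := {k : G | ∃ e ∈ F, ∃ i : ℤ, k = d * e * x ^ i} with hT
  set U := {k : G | ∃ e ∈ F, ∃ i : ℤ, k = e * x ^ i} with hU
  have hcover : ∀ k ∈ Cx, k ∈ T ∨ k ∈ U := by
    have hdis : Disjoint T U := Set.disjoint_left.2 fun k ⟨e, he, i, hk⟩ ⟨e', he', j, hk'⟩ => by
      have h2 : e' = d * e * x ^ (i - j) := by
        rw [zpow_sub, ← mul_assoc, ← hk, hk', mul_inv_cancel_right]
      have h3 : Commute (d * e) (x ^ (i - j)) := (hdx.mul_left he.2).zpow_right _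
      have h4 := congrArg (· ^ 21) h2
      rw [show (21 : ℕ) = 3 * 7 from rfl, h3.mul_pow, pow_mul (d * e), hord3 hdF he, one_pow, one_mul,
        mul_comm 3 7, pow_mul (x ^ (i - j)), hordx, one_pow, pow_mul,
        show e' ^ 7 = e' by rw [pow_succ, pow_mul e' 2 3, sq, mul_self h.1 he'.1, one_pow, one_mul],
        show e' ^ 3 = e' by rw [pow_succ, sq, mul_self h.1 he'.1, one_mul]] at h4
      exact ne_one h.1 he'.1 h4
    have hinj : ∀ (f : G → G), (∀ e ∈ F, Commute (f e) x) → (∀ e ∈ F, ∀ e' ∈ F, ∀ i : ℤ,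
        f e' = f e * x ^ i → e = e') → {k : G | ∃ e ∈ F, ∃ i : ℤ, k = f e * x ^ i}.ncard = F.ncard * 7 := by
      intro f hf hfi
      have e1 : {k : G | ∃ e ∈ F, ∃ i : ℤ, k = f e * x ^ i} =
          (fun q : G × G => f q.1 * q.2) '' (F ×ˢ (Subgroup.zpowers x : Set G)) := by
        ext k
        constructor
        · rintro ⟨e, he, i, rfl⟩
          exact ⟨(e, x ^ i), ⟨he, ⟨i, rfl⟩⟩, rfl⟩
        · rintro ⟨⟨e, z⟩, ⟨he, i, rfl⟩, rfl⟩
          exact ⟨e, he, i, rfl⟩
      rw [e1, Set.InjOn.ncard_image ?_, Set.ncard_prod, ← Nat.card_coe_set_eq (Subgroup.zpowers x : Set G)]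
      · congr 1
        exact (Nat.card_zpowers x).trans hx
      · rintro ⟨e, _⟩ ⟨he, i, rfl⟩ ⟨e', _⟩ ⟨he', j, rfl⟩ heq
        simp only at heq
        have hee : e = e' := hfi e he e' he' (i - j) (by
          rw [zpow_sub, ← mul_assoc, heq, mul_inv_cancel_right])
        subst hee
        exact Prod.ext rfl (mul_left_cancel heq)
    have hTcard : T.ncard = F.ncard * 7 := hinj (fun e => d * e) (fun e he => hdx.mul_left he.2)
      fun e he e' he' i hee => by
        have h1 := hkill (d * e) (d * e') i (hdx.mul_left he.2) (hord3 hdF he') (hord3 hdF he) hee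
        exact (mul_left_cancel h1).symm
    have hUcard : U.ncard = F.ncard * 7 := hinj (fun e => e) (fun e he => he.2) fun e he e' he' i hee => by
      have hi : x ^ i = e * e' := by
        rw [hee, ← mul_assoc, mul_self h.1 he.1, one_mul]
      have h1 := hkill 1 (e * e') i (Commute.one_left x) (hord3 he he') (one_pow 3) (by rw [one_mul, hi])
      rw [mul_eq_one_iff_eq_inv, inv_eq h.1 he'.1] at h1
      exact h1
    have hsub : T ∪ U ⊆ (Cx : Set G) := by
      rintro k (⟨e, he, i, rfl⟩ | ⟨e, he, i, rfl⟩)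
      · exact hmemC.2 ((hdx.mul_left he.2).mul_left ((Commute.refl x).zpow_left i))
      · exact hmemC.2 (he.2.mul_left ((Commute.refl x).zpow_left i))
    have heq : T ∪ U = (Cx : Set G) := Set.eq_of_subset_of_ncard_le hsub (by
      rw [Set.ncard_union_eq hdis, hTcard, hUcard, ← Nat.card_coe_set_eq]
      show Nat.card ↥Cx ≤ _
      omega)
    exact fun k hk => heq.symm.subset hk
  have hprod : ∀ a ∈ F, ∀ b ∈ F, ∃ e ∈ F, a * b = d * e := by
    intro a ha b hb
    rcases hcover (a * b) (hmemC.2 (ha.2.mul_left hb.2)) with ⟨e, he, i, hk⟩ | ⟨e, he, i, hk⟩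
    · exact ⟨e, he, hkill (d * e) (a * b) i (hdx.mul_left he.2) (hord3 hdF he |> fun _ => hord3 ha hb)
        (hord3 hdF he) hk⟩
    · exfalso
      have h3 := congrArg (· ^ 21) hk
      rw [(he.2.zpow_right i).mul_pow, show (21 : ℕ) = 3 * 7 from rfl, pow_mul (a * b), hord3 ha hb, one_pow,
        mul_comm 3 7, pow_mul (x ^ i), hordx, one_pow, mul_one, pow_mul,
        show e ^ 7 = e by rw [pow_succ, pow_mul e 2 3, sq, mul_self h.1 he.1, one_pow, one_mul],
        show e ^ 3 = e by rw [pow_succ, sq, mul_self h.1 he.1, one_mul]] at h3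
      exact ne_one h.1 he.1 h3.symm
  -- the size of `F`
  have hmod : F.ncard % 7 = 3 := by
    letI : MulAction ↥(Subgroup.zpowers x) ↥D :=
      { smul := fun k z => ⟨k.1 * z.1 * k.1⁻¹, h.2.1 k.1 z.1 z.2⟩
        one_smul := fun z => Subtype.ext (by show (1 : G) * z.1 * (1 : G)⁻¹ = z.1; simp)
        mul_smul := fun k l z => Subtype.ext (by
          show k.1 * l.1 * z.1 * (k.1 * l.1)⁻¹ = k.1 * (l.1 * z.1 * l.1⁻¹) * k.1⁻¹; group) }
    have hP : IsPGroup 7 ↥(Subgroup.zpowers x) := IsPGroup.of_card (n := 1) (by rw [Nat.card_zpowers, hx, pow_one])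
    have h1 := hP.card_modEq_card_fixedPoints (α := ↥D)
    have hfix : Nat.card (MulAction.fixedPoints ↥(Subgroup.zpowers x) ↥D) = F.ncard := by
      rw [← Nat.card_coe_set_eq F]
      refine Nat.card_congr
        { toFun := fun z => ⟨z.1.1, z.1.2, ?_⟩
          invFun := fun z => ⟨⟨z.1, z.2.1⟩, fun k => ?_⟩
          left_inv := fun _ => rfl
          right_inv := fun _ => rfl }
      · have h2 : x * z.1.1 * x⁻¹ = z.1.1 := congrArg Subtype.val (z.2 ⟨x, Subgroup.mem_zpowers x⟩)
        exact (mul_inv_eq_iff_eq_mul.1 h2).symm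
      · obtain ⟨k, i, rfl⟩ := k
        refine Subtype.ext ?_
        show x ^ i * z.1 * (x ^ i)⁻¹ = z.1
        rw [← (z.2.2.zpow_right i).eq, mul_inv_cancel_right]
    rw [hfix, Nat.card_coe_set_eq, ncard_D h hp h22] at h1
    exact h1.symm.trans rfl
  obtain ⟨e, heF, hne⟩ : ∃ e ∈ F, e ≠ d := by
    by_contra hall
    push Not at hall
    rw [show F = {d} from Set.eq_singleton_iff_unique_mem.2 ⟨hdF, hall⟩, Set.ncard_singleton] at hmod
    norm_num at hmod
  have hnc : ¬ Commute d e := hne_nc hd heF.1 (Ne.symm hne) hdx heF.2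
  have hline : ∀ z ∈ D, Commute z x → z = d ∨ z = e ∨ z = d * e * d := by
    intro f hf hfx
    refine mem_line_of_invert h hp h22 hd heF.1 hf hnc ?_
    -- with `k = d f` and `s = k (d e)`, all of the form `d *`
    obtain ⟨e', he', hs⟩ := hprod (d * (f * d)) (by simpa [mul_assoc] using hconjF hdF ⟨hf, hfx⟩) e heF
    have hdd := mul_self h.1 hd
    have hs' : d * f * (d * e) = d * e' := by rw [← hs]; simp [mul_assoc]
    have hinv : d * (d * e') * d = (d * e')⁻¹ := by
      rw [_root_.mul_inv_rev, inv_eq h.1 he'.1, inv_eq h.1 hd]; simp [← mul_assoc, hdd]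
    calc f * (d * e) * f = d * (d * f * (d * e)) * d * (d * f) := by
          simp [mul_assoc, mul_self_cancel h.1 hd]
      _ = (d * f * (d * e))⁻¹ * (d * f) := by rw [hs', hinv]
      _ = e * d := by
          rw [_root_.mul_inv_rev, inv_mul_cancel_right, _root_.mul_inv_rev, inv_eq h.1 heF.1, inv_eq h.1 hd]
  have hde : d * e * d ∈ F := hconjF hdF heF
  have hFcard : F.ncard = 3 := by
    have h1 : F ⊆ {d, e, d * e * d} := fun z hz => by simpa using hline z hz.1 hz.2
    have h2 := (Set.ncard_le_ncard h1 (Set.toFinite _)).trans ((Set.ncard_insert_le _ _).trans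
      (Nat.add_le_add_right (Set.ncard_insert_le _ _) 1))
    rw [Set.ncard_singleton] at h2
    omega
  exact ⟨d, e, hd, heF.1, hnc, hdx, heF.2, hline, by rw [hcardC, hFcard]⟩

end CfsgLib.FischerTypes
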