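import Cfsg.Agent.FischerTypes.M22Perp

/-!
# The relation of length six in type M(22)

Three pairwise commuting members lie with exactly three others in a relation `d e f a b c = 1`.
-/

set_option autoImplicit false
set_option maxHeartbeats 400000

namespace CfsgLib.FischerTypes

open Cfsg CfsgLib.U62

variable {G : Type*} [Group G] {D : Set G}

/-- `w` centralizes `x` and every member of `D` commuting with `x`. -/
def Good (D : Set G) (w x : G) : Prop := x ∈ D ∧ Commute w x ∧ ∀ y ∈ perp D x, Commute w y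

theorem perp_symm {x y : G} (hx : x ∈ D) (hy : y ∈ perp D x) : x ∈ perp D y :=
  ⟨hx, fun h => hy.2.1 h.symm, hy.2.2.symm⟩

/-- If `w` centralizes a set generating the quotient at `b`, it centralizes `D_b`. -/
theorem PerpModel.commute_of_top (h : IsThreeTranspositionGroup D) {w b : G} (M : PerpModel D b)
    (hwb : Commute w b)
    (htop : (((Subgroup.centralizer ({w} : Set G)).comap (Subgroup.closure (perp D b)).subtype).map
      (QuotientGroup.mk' (Subgroup.center ↥(Subgroup.closure (perp D b))))) = ⊤)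
    {z : G} (hz : z ∈ perp D b) : Commute w z := by
  have hwperp : ∀ z ∈ perp D b, w * z * w⁻¹ ∈ perp D b := fun z hz => conj_mem_perp h hwb hz
  obtain ⟨u, hu, huz⟩ : bar hz ∈ ((Subgroup.centralizer ({w} : Set G)).comap
    (Subgroup.closure (perp D b)).subtype).map (QuotientGroup.mk' _) := htop ▸ Subgroup.mem_top _
  have hu' : (u : G) * w = w * u := Subgroup.mem_centralizer_singleton_iff.1 hu
  have hc : u⁻¹ * ⟨z, mem_perp_closure hz⟩ ∈ Subgroup.center ↥(Subgroup.closure (perp D b)) :=
    QuotientGroup.eq.mp huz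
  -- `w` normalizes the centre
  have hwc : ∀ y ∈ perp D b, Commute (w * ((u : G)⁻¹ * z) * w⁻¹) y := by
    intro y hy
    have hy' : w⁻¹ * y * w ∈ perp D b := by
      simpa using conj_mem_perp h hwb.inv_left hy
    have h1 : Commute ((u : G)⁻¹ * z) (w⁻¹ * y * w) := mem_center_closure_iff.mp hc _ hy'
    have h2 := (commute_conj_iff' w _ _).2 h1
    rwa [show w * (w⁻¹ * y * w) * w⁻¹ = y by group] at h2
  have hzz : w * z * w⁻¹ = (u : G) * (w * ((u : G)⁻¹ * z) * w⁻¹) := by
    rw [← mul_assoc, ← mul_assoc, hu']; group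
  have hH1 : w * ((u : G)⁻¹ * z) * w⁻¹ ∈ Subgroup.closure (perp D b) := by
    rw [show w * ((u : G)⁻¹ * z) * w⁻¹ = (u : G)⁻¹ * (w * z * w⁻¹) by rw [hzz]; group]
    exact mul_mem (inv_mem u.2) (mem_perp_closure (hwperp z hz))
  have he : bar (hwperp z hz) = bar hz := by
    have e1 : (⟨w * z * w⁻¹, mem_perp_closure (hwperp z hz)⟩ : ↥(Subgroup.closure (perp D b))) =
      u * ⟨_, hH1⟩ := Subtype.ext hzz
    have e2 : (QuotientGroup.mk (⟨_, hH1⟩ : ↥(Subgroup.closure (perp D b))) : PerpQuot D b) = 1 :=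
      (QuotientGroup.eq_one_iff _).2 (mem_center_closure_iff.2 hwc)
    refine ((congrArg QuotientGroup.mk e1).trans ?_).trans huz
    rw [QuotientGroup.mk_mul, e2, mul_one]
    rfl
  exact mul_inv_eq_iff_eq_mul.1 (M.bar_inj (hwperp z hz) hz he)

theorem good_of_triangle (h : IsThreeTranspositionGroup D) {w x y b : G} (hx : Good D w x) (hy : Good D w y)
    (hne : x ≠ y) (hxy : Commute x y) (hb : b ∈ D) (hxb : x ∈ perp D b) (hyb : y ∈ perp D b)
    (M : PerpModel D b) : Good D w b := by
  have hwb : Commute w b := hx.2.2 b (perp_symm hb hxb)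
  refine ⟨hb, hwb, fun z hz => ?_⟩
  set S : Subgroup (PerpQuot D b) :=
    ((Subgroup.centralizer ({w} : Set G)).comap (Subgroup.closure (perp D b)).subtype).map
      (QuotientGroup.mk' _) with hS
  have htop : S = ⊤ := by
    refine M.top_of_mem hxb hyb hne hxy S fun u hu hcom => ?_
    refine ⟨⟨u, mem_perp_closure hu⟩, Subgroup.mem_centralizer_singleton_iff.2 ?_, rfl⟩
    show u * w = w * u
    rcases hcom with hc | hc
    · by_cases he : u = x
      · rw [he]; exact hx.2.1.eq.symm
      · exact (hx.2.2 u ⟨hu.1, he, hc.symm⟩).eq.symm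
    · by_cases he : u = y
      · rw [he]; exact hy.2.1.eq.symm
      · exact (hy.2.2 u ⟨hu.1, he, hc.symm⟩).eq.symm
  exact M.commute_of_top h hwb (hS ▸ htop) hz

theorem good_perp (h : IsThreeTranspositionGroup D) (hM : ∀ a ∈ D, Nonempty (PerpModel D a)) {w x y : G}
    (hx : Good D w x) (hy : Good D w y) (hyx : y ∈ perp D x) {z : G} (hz : z ∈ perp D x) : Good D w z := by
  obtain ⟨M⟩ := hM x hx.1
  have step : ∀ {y z : G}, Good D w y → y ∈ perp D x → z ∈ perp D x → y ≠ z → Commute y z → Good D w z := by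
    intro y z hy hyx hz hne hc
    obtain ⟨Mz⟩ := hM z hz.1
    exact good_of_triangle h hx hy (Ne.symm hyx.2.1) hyx.2.2 hz.1 (perp_symm hx.1 hz)
      ⟨hy.1, hne, hc.symm⟩ Mz
  by_cases he : y = z
  · exact he ▸ hy
  by_cases hc : Commute y z
  · exact step hy hyx hz he hc
  obtain ⟨c, hc1, hcy, hcz, ccy, ccz⟩ := M.exists_common hyx hz hc
  exact step (step hy hyx hc1 (Ne.symm hcy) ccy.symm) hc1 hz hcz ccz

/-- In a primitive group an element good at two commuting members is central. -/
theorem mem_center_of_good (h : IsThreeTranspositionGroup D) (hp : IsPrimitiveUnderConj D)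
    (hM : ∀ a ∈ D, Nonempty (PerpModel D a)) {w d e : G} (hd : Good D w d) (he : Good D w e)
    (hed : e ∈ perp D d) : w ∈ Subgroup.center G := by
  set R : G → G → Prop := fun u v => u ∈ D ∧ v ∈ perp D u with hR
  have hRs : ∀ u v, R u v → R v u := fun u v hr => ⟨hr.2.1, perp_symm hr.1 hr.2⟩
  have hRc : ∀ (g : G) (u v : G), R u v → R (g * u * g⁻¹) (g * v * g⁻¹) := fun g u v hr =>
    ⟨h.2.1 g u hr.1, h.2.1 g v hr.2.1,
      fun he' => hr.2.2.1 (mul_left_cancel (mul_right_cancel he')), (commute_conj_iff' g _ _).2 hr.2.2.2⟩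
  set B : Set G := {a | Relation.ReflTransGen R d a} with hB
  have hsym : ∀ {a b}, Relation.ReflTransGen R a b → Relation.ReflTransGen R b a := by
    intro a b hab
    induction hab with
    | refl => exact .refl
    | tail _ hr ih => exact .head (hRs _ _ hr) ih
  have hgood : ∀ a ∈ B, Good D w a ∧ ∃ b ∈ perp D a, Good D w b := by
    intro a ha
    induction ha with
    | refl => exact ⟨hd, e, hed, he⟩
    | @tail b c _ hr ih =>
      obtain ⟨hb, b', hb', hgb'⟩ := ih
      exact ⟨good_perp h hM hb hgb' hb' hr.2, b, perp_symm hr.1 hr.2, hb⟩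
  have hBD : B ⊆ D := fun a ha => (hgood a ha).1.1
  have hblock : ∀ g : G, (fun x => g * x * g⁻¹) '' B = B ∨ Disjoint ((fun x => g * x * g⁻¹) '' B) B := by
    intro g
    by_cases hd' : ∃ a ∈ B, g * a * g⁻¹ ∈ B
    · left
      obtain ⟨a, ha, hga⟩ := hd'
      have hlift : ∀ {a b}, Relation.ReflTransGen R a b → ∀ k : G,
          Relation.ReflTransGen R (k * a * k⁻¹) (k * b * k⁻¹) := by
        intro a b hab k
        induction hab with
        | refl => exact .refl
        | tail _ hr ih => exact ih.tail (hRc k _ _ hr)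
      have hgd : Relation.ReflTransGen R d (g * d * g⁻¹) := hga.trans (hlift (hsym ha) g)
      ext z
      constructor
      · rintro ⟨b, hb, rfl⟩
        exact hgd.trans (hlift hb g)
      · intro hz
        refine ⟨g⁻¹ * z * g, ?_, by group⟩
        have h1 := hlift ((hsym hgd).trans hz) g⁻¹
        rw [show g⁻¹ * (g * d * g⁻¹) * g⁻¹⁻¹ = d by group, inv_inv] at h1
        exact h1
    · right
      push Not at hd'
      exact Set.disjoint_left.2 (by rintro _ ⟨a, ha, rfl⟩; exact hd' a ha)
  rcases hp.2.2 B hBD hblock with hB1 | hB1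
  · exact absurd (hB1 (Relation.ReflTransGen.single ⟨hd.1, hed⟩) Relation.ReflTransGen.refl) hed.2.1
  · exact mem_center_of_forall h fun x hx => (hgood x (hB1 ▸ hx)).1.2.1

/-- Three pairwise commuting members lie with exactly three others in a relation of length six. -/
theorem exists_six [Finite G] (h : IsThreeTranspositionGroup D) (hp : IsPrimitiveUnderConj D)
    (h22 : IsOfTypeM22 G D) {d e f : G} (hd : d ∈ D) (he : e ∈ perp D d) (hf : f ∈ perp D d) (hef : e ≠ f)
    (cef : Commute e f) :
    ∃ a b c, [d, e, f, a, b, c].Nodup ∧ (∀ u ∈ [d, e, f, a, b, c], u ∈ D) ∧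
      (∀ u ∈ [d, e, f, a, b, c], ∀ v ∈ [d, e, f, a, b, c], Commute u v) ∧ d * e * f = a * b * c ∧
      ∀ a' b' c', [d, e, f, a', b', c'].Nodup → (∀ u ∈ [a', b', c'], u ∈ D) →
        (∀ u ∈ [d, e, f, a', b', c'], ∀ v ∈ [d, e, f, a', b', c'], Commute u v) →
        d * e * f = a' * b' * c' → ∀ z ∈ [a', b', c'], z ∈ [a, b, c] := by
  have hM : ∀ a ∈ D, Nonempty (PerpModel D a) := fun a ha => exists_perpModel h h22 ha
  obtain ⟨M⟩ := hM d hd
  obtain ⟨a, b, c, ha, hb, hc, hnd, hcomm, hrel, huniq⟩ := M.exists_line he hf hef cef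
  have hdall : ∀ u ∈ [e, f, a, b, c], u ∈ perp D d := by
    simp only [List.mem_cons, List.not_mem_nil, or_false]
    rintro u (rfl | rfl | rfl | rfl | rfl) <;> assumption
  have hnd6 : [d, e, f, a, b, c].Nodup := List.nodup_cons.2 ⟨fun hm => (hdall d hm).2.1 rfl, hnd⟩
  have hD6 : ∀ u ∈ [d, e, f, a, b, c], u ∈ D := by
    intro u hu
    rcases List.mem_cons.1 hu with hu' | hu
    · exact hu' ▸ hd
    · exact (hdall u hu).1
  have hc6 : ∀ u ∈ [d, e, f, a, b, c], ∀ v ∈ [d, e, f, a, b, c], Commute u v := by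
    intro u hu v hv
    rcases List.mem_cons.1 hu with hu0 | hu1
    · rcases List.mem_cons.1 hv with hv0 | hv1
      · rw [hu0, hv0]
      · rw [hu0]; exact (hdall v hv1).2.2
    · rcases List.mem_cons.1 hv with hv0 | hv1
      · rw [hv0]; exact (hdall u hu1).2.2.symm
      · exact hcomm u hu1 v hv1
  have cf := fun (u v : G) (hu : u ∈ [d, e, f, a, b, c]) (hv : v ∈ [d, e, f, a, b, c]) => hc6 u hu v hv
  set P := f * a * b * c with hP
  set w := e * P * d with hw
  -- `w` is good at `d`
  have hz : ∀ y ∈ perp D d, Commute (e * P) y := by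
    intro y hy
    have h1 : (⟨e, mem_perp_closure he⟩ * ⟨f, mem_perp_closure hf⟩ * ⟨a, mem_perp_closure ha⟩ *
        ⟨b, mem_perp_closure hb⟩ * ⟨c, mem_perp_closure hc⟩ : ↥(Subgroup.closure (perp D d))) ∈
        Subgroup.center ↥(Subgroup.closure (perp D d)) := by
      rw [← QuotientGroup.eq_one_iff]
      simp only [QuotientGroup.mk_mul]
      exact hrel
    have h2 := mem_center_closure_iff.mp h1 y hy
    simpa [hP, mul_assoc] using h2
  have hwd : Commute w d :=
    Commute.mul_left ((cf e d (by simp) (by simp)).mul_left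
      ((((cf f d (by simp) (by simp)).mul_left (cf a d (by simp) (by simp))).mul_left
        (cf b d (by simp) (by simp))).mul_left (cf c d (by simp) (by simp)))) (Commute.refl d)
  have hgd : Good D w d := ⟨hd, hwd, fun y hy => (hz y hy).mul_left hy.2.2⟩
  -- `w` is good at `e`
  obtain ⟨Me⟩ := hM e he.1
  have hed : ∀ u ∈ [f, a, b, c, d], u ∈ perp D e := by
    intro u hu
    refine ⟨hD6 u (by revert hu; simp; tauto), fun hh => ?_, cf e u (by simp) (by revert hu; simp; tauto)⟩
    subst hh
    revert hu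
    have h1 := (List.nodup_cons.1 hnd).1
    simp only [List.mem_cons, List.not_mem_nil, or_false, not_or] at h1 ⊢
    rintro (h0 | h0 | h0 | h0 | h0)
    · exact h1.1 h0
    · exact h1.2.1 h0
    · exact h1.2.2.1 h0
    · exact h1.2.2.2 h0
    · exact he.2.1 h0
  have hf' := hed f (by simp)
  have ha' := hed a (by simp)
  have hb' := hed b (by simp)
  have hc' := hed c (by simp)
  have hd' := hed d (by simp)
  set p := bar hf' * bar ha' * bar hb' * bar hc' * bar hd' with hpdef
  have hw' : ∀ y ∈ perp D e, Commute d y ∨ y = d → Commute (P * d) y := by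
    intro y hy hdy
    have hwy : Commute w y := by
      rcases eq_or_ne y d with h0 | h0
      · rw [h0]; exact hwd
      · exact hgd.2.2 y ⟨hy.1, h0, hdy.resolve_right h0⟩
    have h1 : P * d = e * w := by
      rw [hw, mul_assoc e P d, mul_self_cancel h.1 he.1]
    rw [h1]
    exact hy.2.2.mul_left hwy
  have hpcomm : ∀ y, ∀ hy : y ∈ perp D e, Commute d y → Commute p (bar hy) := by
    intro y hy hdy
    have h1 := hw' y hy (Or.inl hdy)
    show _ = _
    simp only [hpdef, bar, ← QuotientGroup.mk_mul]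
    congr 1
    exact Subtype.ext (by simpa [hP, mul_assoc] using h1.eq)
  have hp1 : p = 1 := by
    rcases Me.one_or_bar hd' p hpcomm with h0 | h0
    · exact h0
    exfalso
    have h4 : bar hf' * bar ha' * bar hb' * bar hc' = 1 := mul_eq_right.1 h0
    refine noRel_four (isThreeTranspositionGroup_img h e).1 Me.noTwins
      [bar hf', bar ha', bar hb', bar hc'] ?_ rfl ?_ ?_ (by simpa [mul_assoc] using h4)
    · have inj : ∀ {u v : G} (hu : u ∈ perp D e) (hv : v ∈ perp D e), u ≠ v → bar hu ≠ bar hv :=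
        fun hu hv hne he' => hne (Me.bar_inj hu hv he')
      simp only [List.nodup_cons, List.mem_cons, List.not_mem_nil, or_false, not_or, not_false_eq_true,
        List.nodup_nil, and_true] at hnd ⊢
      exact ⟨⟨inj _ _ hnd.2.1.1, inj _ _ hnd.2.1.2.1, inj _ _ hnd.2.1.2.2⟩,
        ⟨inj _ _ hnd.2.2.1.1, inj _ _ hnd.2.2.1.2⟩, inj _ _ hnd.2.2.2⟩
    · simp only [List.mem_cons, List.not_mem_nil, or_false]
      rintro u (rfl | rfl | rfl | rfl) <;> exact mk_mem_img Me.noCentral (by assumption)
    · simp only [List.mem_cons, List.not_mem_nil, or_false]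
      rintro u (rfl | rfl | rfl | rfl) v (rfl | rfl | rfl | rfl) <;>
        exact (commute_mk_iff h (by assumption) (by assumption)).2 (cf _ _ (by simp) (by simp))
  have hge : Good D w e := by
    have hPd : ∀ y ∈ perp D e, Commute (P * d) y := by
      intro y hy
      have h1 : (⟨f, mem_perp_closure hf'⟩ * ⟨a, mem_perp_closure ha'⟩ * ⟨b, mem_perp_closure hb'⟩ *
          ⟨c, mem_perp_closure hc'⟩ * ⟨d, mem_perp_closure hd'⟩ : ↥(Subgroup.closure (perp D e))) ∈
          Subgroup.center ↥(Subgroup.closure (perp D e)) := by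
        rw [← QuotientGroup.eq_one_iff]
        simp only [QuotientGroup.mk_mul]
        exact hp1
      have h2 := mem_center_closure_iff.mp h1 y hy
      simpa [hP, mul_assoc] using h2
    refine ⟨he.1, hgd.2.2 e he, fun y hy => ?_⟩
    rw [hw, mul_assoc]
    exact hy.2.2.mul_left (hPd y hy)
  have hw1 : w = 1 := by
    have := mem_center_of_good h hp hM hgd hge he
    rwa [h22.1, Subgroup.mem_bot] at this
  -- turn `w = 1` into the equation
  have heq : ∀ {a b c : G}, a ∈ D → b ∈ D → c ∈ D → Commute a b → Commute a c → Commute b c →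
      (d * e * f = a * b * c ↔ d * e * f * a * b * c = 1) := by
    intro a b c ha hb hc cab cac cbc
    have h1 : (a * b * c)⁻¹ = a * b * c := by
      rw [_root_.mul_inv_rev, _root_.mul_inv_rev, inv_eq h.1 ha, inv_eq h.1 hb, inv_eq h.1 hc,
        (cab.symm).eq, ← mul_assoc, (cac.symm).eq, mul_assoc, cbc.symm.eq, ← mul_assoc]
    rw [show d * e * f * a * b * c = d * e * f * (a * b * c) by group, mul_eq_one_iff_eq_inv, h1]
  refine ⟨a, b, c, hnd6, hD6, hc6, ?_, ?_⟩
  · rw [heq ha.1 hb.1 hc.1 (cf a b (by simp) (by simp)) (cf a c (by simp) (by simp))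
      (cf b c (by simp) (by simp)), show d * e * f * a * b * c = d * (e * P) by simp [hP, mul_assoc],
      (show Commute (e * P) d from
        (cf e d (by simp) (by simp)).mul_left ((((cf f d (by simp) (by simp)).mul_left
          (cf a d (by simp) (by simp))).mul_left (cf b d (by simp) (by simp))).mul_left
          (cf c d (by simp) (by simp)))).eq.symm]
    exact hw1
  intro a' b' c' hnd' hD' hcomm' hprod'
  have cf' := fun (u v : G) (hu : u ∈ [d, e, f, a', b', c']) (hv : v ∈ [d, e, f, a', b', c']) =>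
    hcomm' u hu v hv
  have hperp : ∀ u ∈ [a', b', c'], u ∈ perp D d := fun u hu =>
    ⟨hD' u hu, fun he' => (List.nodup_cons.1 hnd').1 (by subst he'; revert hu; simp; tauto),
      cf' d u (by simp) (by revert hu; simp; tauto)⟩
  have hA := hperp a' (by simp)
  have hB' := hperp b' (by simp)
  have hC := hperp c' (by simp)
  refine huniq a' b' c' hA hB' hC (List.nodup_cons.1 hnd').2
    (fun u hu v hv => hcomm' u (List.mem_cons_of_mem _ hu) v (List.mem_cons_of_mem _ hv)) ?_
  rw [heq hA.1 hB'.1 hC.1 (cf' a' b' (by simp) (by simp)) (cf' a' c' (by simp) (by simp))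
    (cf' b' c' (by simp) (by simp))] at hprod'
  simp only [bar, ← QuotientGroup.mk_mul]
  refine (QuotientGroup.eq_one_iff _).2 (mem_center_closure_iff.2 fun y hy => ?_)
  have h2 : e * f * a' * b' * c' = d := by
    have h3 : d * (e * f * a' * b' * c') = 1 := by simpa [mul_assoc] using hprod'
    rw [mul_eq_one_iff_inv_eq, inv_eq h.1 hd] at h3
    exact h3.symm
  simpa [h2] using hy.2.2

end CfsgLib.FischerTypes
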