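import Cfsg.Agent.FischerTypes.M22Clique
import Cfsg.Agent.PLocal.Replacement
import Cfsg.Agent.PLocal.Thompson
import Cfsg.Agent.S0599

/-!
# The Thompson subgroup of a Sylow 2-subgroup in type M(22)

The members in a Sylow 2-subgroup form a maximal commuting set `M`.  An elementary abelian group acting
quadratically on `⟨M⟩` moves the members in pairs, none moves a single pair, and so it is no offender.
-/

set_option autoImplicit false
set_option linter.style.haveILetI false
set_option maxHeartbeats 400000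

namespace CfsgLib.FischerTypes

open Cfsg CfsgLib.U62 CfsgLib.RepBounds.Unit
open scoped commutatorElement

variable {G : Type*} [Group G] [Finite G] {D : Set G}
  (h : IsThreeTranspositionGroup D) (hp : IsPrimitiveUnderConj D) (h22 : IsOfTypeM22 G D)

include h hp h22

omit hp h22 in
theorem isElementaryAbelian_clique {M : Set G} (hM : IsMaxClique D M) :
    IsElementaryAbelian 2 (Subgroup.closure M) := by
  refine ⟨Subgroup.isMulCommutative_closure fun a ha b hb => (hM.comm a ha b hb).eq, fun a ha => ?_⟩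
  haveI : IsMulCommutative ↥(Subgroup.closure M) :=
    Subgroup.isMulCommutative_closure fun a ha b hb => (hM.comm a ha b hb).eq
  induction ha using Subgroup.closure_induction with
  | mem x hx => rw [pow_two]; exact mul_self h.1 (hM.sub hx)
  | one => exact one_pow 2
  | mul a b ha hb iha ihb =>
    have hc : Commute a b := congrArg Subtype.val (mul_comm' (⟨a, ha⟩ : ↥(Subgroup.closure M)) ⟨b, hb⟩)
    rw [hc.mul_pow, iha, ihb, one_mul]
  | inv a ha iha => rw [inv_pow, iha, inv_one]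

/-- An involution commuting with all of `M` lies in `⟨M⟩`. -/
theorem mem_closure_of_commute_clique {M : Set G} (hM : IsMaxClique D M) {g : G} (hg : g * g = 1)
    (hgM : ∀ m ∈ M, Commute g m) : g ∈ Subgroup.closure M := by
  obtain ⟨m, hm⟩ : M.Nonempty := by
    obtain ⟨d, hd, -⟩ := hp.2.1
    by_contra hne
    exact hne ⟨d, hM.max d hd fun m hm => absurd ⟨m, hm⟩ hne⟩
  have hmD := hM.sub hm
  have hgm : g ∈ Subgroup.closure (perp D m) := by
    obtain ⟨Pm⟩ := exists_perpModel h h22 hmD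
    rw [← centralizer_eq h hp h22 hmD]
    exact Subgroup.mem_centralizer_singleton_iff.2 (hgM m hm).eq
  obtain ⟨P⟩ := exists_perpModel h h22 hmD
  obtain ⟨W, -, hiso, hiff⟩ := P.exists_plane hM hm
  set J : ↥(Subgroup.closure (perp D m)) := ⟨g, hgm⟩ with hJ
  obtain ⟨k, hk⟩ := P.surj (QuotientGroup.mk J)
  obtain ⟨k', hk', hkk⟩ := exists_involution_lift P.C P.hq (g := k) (P.hker ▸ (show P.θ (k * k) = 1 by
    rw [map_mul, hk, ← QuotientGroup.mk_mul, show J * J = 1 from Subtype.ext hg]; rfl))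
  rw [← P.hker, MonoidHom.mem_ker, map_mul, map_inv, inv_mul_eq_one] at hkk
  rw [hkk] at hk
  have hmk : ∀ m' : ↥(Subgroup.closure (perp D m)), (QuotientGroup.mk m' : PerpQuot D m) = QuotientGroup.mk J →
      (m' : G) ∈ Subgroup.closure M → g ∈ Subgroup.closure M := by
    intro m' hm' hmem
    have h1 : m'⁻¹ * J ∈ Subgroup.center ↥(Subgroup.closure (perp D m)) := QuotientGroup.eq.1 hm'
    rcases (center_closure_perp h hp h22 hmD (m'⁻¹ * J).2).1 (mem_center_closure_iff.1 h1) with h0 | h0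
    · rwa [show g = (m' : G) from (inv_mul_eq_one.1 h0).symm]
    · rw [show g = (m' : G) * m from inv_mul_eq_iff_eq_mul.1 h0]
      exact mul_mem hmem (Subgroup.subset_closure hm)
  -- the points of the plane are fixed
  have hfix : ∀ x ∈ M, x ≠ m → ∀ v, herm P.C v v = 0 → v ≠ 0 → ∀ hx : x ∈ perp D m,
      bar hx = P.θ (tv P.C v) → app P.C k' v = v := by
    intro x hxM hxm v hv hv0 hx hxv
    have hc : P.θ (k' * tv P.C v * k'⁻¹) = P.θ (tv P.C v) := by
      rw [map_mul, map_mul, map_inv, hk, ← hxv]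
      show QuotientGroup.mk (J * ⟨x, mem_perp_closure hx⟩ * J⁻¹) = QuotientGroup.mk _
      exact congrArg QuotientGroup.mk (Subtype.ext (by
        show g * x * g⁻¹ = x
        rw [(hgM x hxM).eq, mul_inv_cancel_right]))
    rw [conj_tv P.C P.hq _ hv] at hc
    have hvv : herm P.C (app P.C k' v) (app P.C k' v) = 0 := by rw [herm_app, hv]
    have h0 : app P.C k' v ≠ 0 := fun h0 => hv0 (by
      rw [← app_one P.C v, ← hk', app_mul, h0]; exact (Matrix.mulVec_zero _))
    obtain ⟨a, ha, hae⟩ := eq_smul_of_map_eq P.C P.hq P.θ P.hker hv hvv h0 hc.symm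
    have h2 : app P.C k' (app P.C k' v) = v := by rw [← app_mul, hk', app_one]
    rw [hae, app_smul, hae, smul_smul] at h2
    have ha2 : a * a = 1 := smul_left_injective P.K hv0 (h2.trans (one_smul _ v).symm)
    have ha3 := U62.pow_three P.C P.hq ha
    rw [pow_succ, pow_two, ha2, one_mul] at ha3
    rw [hae, ha3, one_smul]
  have hfixW : ∀ v ∈ W, app P.C k' v = v := by
    intro v hv
    by_cases hv0 : v = 0
    · rw [hv0]; exact Matrix.mulVec_zero _
    obtain ⟨x, hx, hxv⟩ := P.exists_mem (hiso v hv v hv) hv0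
    have hxM := (hiff x hx v (hiso v hv v hv) hv0 hxv).2 hv
    exact hfix x hxM (fun h0 => hx.2.1 h0) v (hiso v hv v hv) hv0 hx hxv
  -- a point of the involution is in the plane
  have hpt : ∀ {u : I6 → P.K}, herm P.C u u = 0 → u ≠ 0 → (∀ w ∈ W, herm P.C w u = 0) →
      ∃ x, ∃ hx : x ∈ perp D m, bar hx = P.θ (tv P.C u) ∧ x ∈ M := by
    intro u hu hu0 hperp
    obtain ⟨x, hx, hxu⟩ := P.exists_mem hu hu0
    refine ⟨x, hx, hxu, hM.max x hx.1 fun y hy => ?_⟩
    by_cases hym : y = m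
    · rw [hym]; exact hx.2.2.symm
    have hyp := hM.mem_perp hm hy (Ne.symm hym)
    obtain ⟨w, hw, hw0, hyw⟩ := P.exists_pt hyp
    refine (P.commute_iff hx hyp hu hw hw0 hxu hyw).2 ?_
    exact hperp w ((hiff y hyp w hw hw0 hyw).1 hy)
  rcases involution_cases P.C P.hq hk' with rfl | ⟨v, hv, hv0, rfl⟩ | ⟨v, w, hv, hw, hwv, hv0, hns, rfl⟩ |
    ⟨v, hv, hli, rfl⟩
  · exact hmk 1 (by rw [← hk, map_one]; rfl) (one_mem _)
  · obtain ⟨x, hx, hxv, hxM⟩ := hpt hv hv0 fun u hu => by
      have h1 := hfixW u hu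
      rw [app_tv P.C P.hq hv, add_eq_left] at h1
      exact (smul_eq_zero.1 h1).resolve_right hv0
    exact hmk ⟨x, mem_perp_closure hx⟩ (by rw [← hk, ← hxv]) (Subgroup.subset_closure hxM)
  · have hw0 : w ≠ 0 := fun h0 => hns 0 (by rw [h0, zero_smul])
    have hor : ∀ u ∈ W, herm P.C u v = 0 ∧ herm P.C u w = 0 := by
      intro u hu
      have h1 := hfixW u hu
      rw [app_mul, app_tv P.C P.hq hw, app_tv P.C P.hq hv, herm_add_left, herm_smul_left, hwv, mul_zero,
        add_zero, add_assoc, add_eq_left] at h1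
      have hb : herm P.C u w = 0 := by
        by_contra hb
        refine hns (-((herm P.C u w)⁻¹ * herm P.C u v)) ?_
        have e : herm P.C u w • w = -(herm P.C u v • v) := eq_neg_of_add_eq_zero_left h1
        rw [neg_smul, mul_smul, ← smul_neg, ← e, inv_smul_smul₀ hb]
      rw [hb, zero_smul, zero_add] at h1
      exact ⟨(smul_eq_zero.1 h1).resolve_right hv0, hb⟩
    obtain ⟨x, hx, hxv, hxM⟩ := hpt hv hv0 fun u hu => (hor u hu).1
    obtain ⟨y, hy, hyw, hyM⟩ := hpt hw hw0 fun u hu => (hor u hu).2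
    exact hmk (⟨x, mem_perp_closure hx⟩ * ⟨y, mem_perp_closure hy⟩)
      (by rw [← hk, map_mul, ← hxv, ← hyw]; rfl)
      (mul_mem (Subgroup.subset_closure hxM) (Subgroup.subset_closure hyM))
  · have hor : ∀ u ∈ W, ∀ i, herm P.C u (v i) = 0 := by
      intro u hu
      have h1 := hfixW u hu
      simp only [app_mul, app_tv P.C P.hq (hv _ _), herm_add_left, herm_smul_left, hv, mul_zero, add_zero] at h1
      have h2 : ∑ i, herm P.C u (v i) • v i = 0 := by
        rw [Fin.sum_univ_three]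
        linear_combination (norm := module) h1
      exact Fintype.linearIndependent_iff.1 hli _ h2
    obtain ⟨x, hx, hxv, hxM⟩ := hpt (hv 0 0) (hli.ne_zero 0) fun u hu => hor u hu 0
    obtain ⟨y, hy, hyw, hyM⟩ := hpt (hv 1 1) (hli.ne_zero 1) fun u hu => hor u hu 1
    obtain ⟨z, hz, hzw, hzM⟩ := hpt (hv 2 2) (hli.ne_zero 2) fun u hu => hor u hu 2
    exact hmk (⟨x, mem_perp_closure hx⟩ * ⟨y, mem_perp_closure hy⟩ * ⟨z, mem_perp_closure hz⟩)
      (by rw [← hk, map_mul, map_mul, ← hxv, ← hyw, ← hzw]; rfl)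
      (mul_mem (mul_mem (Subgroup.subset_closure hxM) (Subgroup.subset_closure hyM))
        (Subgroup.subset_closure hzM))

/-- A member of `M` is the product of five others avoiding a given one. -/
theorem exists_six_avoid {M : Set G} (hM : IsMaxClique D M) {m m' : G} (hm : m ∈ M) (hm' : m' ∈ M)
    (hne : m ≠ m') : ∃ n o a b c : G, (∀ x ∈ [n, o, a, b, c], x ∈ M ∧ x ≠ m ∧ x ≠ m') ∧
      m * n * o = a * b * c := by
  have hmD := hM.sub hm
  obtain ⟨P⟩ := exists_perpModel h h22 hmD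
  obtain ⟨W, hW, hiso, hiff⟩ := P.exists_plane hM hm
  have hp' := hM.mem_perp hm hm' hne
  obtain ⟨v', hv', hv'0, hm'v⟩ := P.exists_pt hp'
  have pick : ∀ X : Submodule P.K (I6 → P.K), Module.finrank P.K X < 3 →
      ∃ x ∈ M, ∃ hx : x ∈ perp D m, ∃ v, herm P.C v v = 0 ∧ v ≠ 0 ∧ bar hx = P.θ (tv P.C v) ∧ v ∈ W ∧
        v ∉ X := by
    intro X hX
    obtain ⟨v, hvW, hvX⟩ : ∃ v ∈ W, v ∉ X := by
      by_contra hall
      push Not at hall
      exact absurd (Submodule.finrank_mono hall) (by omega)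
    have hv0 : v ≠ 0 := fun h0 => hvX (h0 ▸ X.zero_mem)
    obtain ⟨x, hx, hxv⟩ := P.exists_mem (hiso v hvW v hvW) hv0
    exact ⟨x, (hiff x hx v (hiso v hvW v hvW) hv0 hxv).2 hvW, hx, v, hiso v hvW v hvW, hv0, hxv, hvW, hvX⟩
  classical
  obtain ⟨n, hn, hnp, vn, hvn, hvn0, hnv, hnW, hnX⟩ := pick (P.K ∙ v') (by
    rw [finrank_span_singleton hv'0]; norm_num)
  obtain ⟨o, ho, hop, vo, hvo, hvo0, hov, hoW, hoX⟩ := pick (Submodule.span P.K {v', vn}) (by
    refine lt_of_le_of_lt (finrank_span_le_card ({v', vn} : Set _)) ?_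
    simp only [Set.toFinset_insert, Set.toFinset_singleton]
    exact lt_of_le_of_lt Finset.card_le_two (by norm_num))
  have nn' : n ≠ m' := fun h0 => by
    subst h0
    obtain ⟨a, -, ha⟩ := eq_smul_of_map_eq P.C P.hq P.θ P.hker hv' hvn hvn0 (hm'v.symm.trans hnv)
    exact hnX (ha ▸ Submodule.smul_mem _ a (Submodule.mem_span_singleton_self v'))
  have no' : o ≠ m' := fun h0 => by
    subst h0
    obtain ⟨a, -, ha⟩ := eq_smul_of_map_eq P.C P.hq P.θ P.hker hv' hvo hvo0 (hm'v.symm.trans hov)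
    exact hoX (ha ▸ Submodule.smul_mem _ a (Submodule.subset_span (Or.inl rfl)))
  have nno : n ≠ o := fun h0 => by
    subst h0
    obtain ⟨a, -, ha⟩ := eq_smul_of_map_eq P.C P.hq P.θ P.hker hvn hvo hvo0 (hnv.symm.trans hov)
    exact hoX (ha ▸ Submodule.smul_mem _ a (Submodule.subset_span (Or.inr rfl)))
  obtain ⟨a, b, c, hnd, hD', hcm, he, -⟩ := exists_six h hp h22 hmD hnp hop nno (hM.comm n hn o ho)
  simp only [List.nodup_cons, List.mem_cons, List.not_mem_nil, or_false, not_or, not_false_eq_true,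
    List.nodup_nil, and_true] at hnd
  obtain ⟨⟨-, -, nma, nmb, nmc⟩, ⟨-, nna, nnb, nnc⟩, ⟨noa, nob, noc⟩, ⟨nab, nac⟩, nbc⟩ := hnd
  have hap : a ∈ perp D m := ⟨hD' a (by simp), Ne.symm nma, hcm m (by simp) a (by simp)⟩
  have hbp : b ∈ perp D m := ⟨hD' b (by simp), Ne.symm nmb, hcm m (by simp) b (by simp)⟩
  have hcp : c ∈ perp D m := ⟨hD' c (by simp), Ne.symm nmc, hcm m (by simp) c (by simp)⟩
  have hprod : bar hnp * bar hop * bar hap * bar hbp * bar hcp = 1 := by
    show QuotientGroup.mk _ = _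
    rw [QuotientGroup.eq_one_iff]
    have e0 : n * o * a * b * c = m := by
      have h1 : m * (m * n * o) = n * o := by simp [mul_assoc, mul_self_cancel h.1 hmD]
      have h2 : Commute m (a * b * c) := (hap.2.2.mul_right hbp.2.2).mul_right hcp.2.2
      calc n * o * a * b * c = m * (m * n * o) * (a * b * c) := by rw [h1]; simp [mul_assoc]
        _ = m * ((a * b * c) * (a * b * c)) := by rw [he, mul_assoc]
        _ = m := by
          have cab : Commute a b := hcm a (by simp) b (by simp)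
          have cac : Commute a c := hcm a (by simp) c (by simp)
          have cbc : Commute b c := hcm b (by simp) c (by simp)
          rw [← pow_two, ((cac.mul_left cbc)).mul_pow, cab.mul_pow, pow_two, pow_two, pow_two,
            mul_self h.1 hap.1, mul_self h.1 hbp.1, mul_self h.1 hcp.1, one_mul, one_mul, mul_one]
    refine mem_center_closure_iff.2 fun y hy => ?_
    show Commute (n * o * a * b * c) y
    rw [e0]
    exact hy.2.2
  obtain ⟨va, hva, hva0, hav⟩ := P.exists_pt hap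
  obtain ⟨vb, hvb, hvb0, hbv⟩ := P.exists_pt hbp
  obtain ⟨vc, hvc, hvc0, hcv⟩ := P.exists_pt hcp
  have hc5 : ∀ u ∈ [n, o, a, b, c], ∀ w ∈ [n, o, a, b, c], Commute u w := fun u hu w hw =>
    hcm u (List.mem_cons_of_mem _ hu) w (List.mem_cons_of_mem _ hw)
  have sA := P.mem_span_of_relation hnp hop hap hbp hcp nno hvn hvo hva hvb hvc hvo0 hva0 hvb0 hvc0 hnv hov hav
    hbv hcv nab nac nbc hc5 hprod
  have cAB : Commute (bar hap) (bar hbp) := (commute_mk_iff P.group hap hbp).2 (hcm a (by simp) b (by simp))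
  have cAC : Commute (bar hap) (bar hcp) := (commute_mk_iff P.group hap hcp).2 (hcm a (by simp) c (by simp))
  have cBC : Commute (bar hbp) (bar hcp) := (commute_mk_iff P.group hbp hcp).2 (hcm b (by simp) c (by simp))
  have sB := P.mem_span_of_relation hnp hop hbp hap hcp nno hvn hvo hvb hva hvc hvo0 hvb0 hva0 hvc0 hnv hov hbv
    hav hcv (Ne.symm nab) nbc nac (fun u hu w hw => hc5 u (by revert hu; simp; tauto) w (by revert hw; simp; tauto))
    (by rw [mul_assoc _ (bar hbp) (bar hap), ← cAB.eq, ← mul_assoc]; exact hprod)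
  have sC := P.mem_span_of_relation hnp hop hcp hap hbp nno hvn hvo hvc hva hvb hvo0 hvc0 hva0 hvb0 hnv hov hcv
    hav hbv (Ne.symm nac) (Ne.symm nbc) nab
    (fun u hu w hw => hc5 u (by revert hu; simp; tauto) w (by revert hw; simp; tauto))
    (by rw [mul_assoc _ (bar hcp) (bar hap), ← cAC.eq, ← mul_assoc, mul_assoc _ (bar hcp) (bar hbp), ← cBC.eq,
      ← mul_assoc]; exact hprod)
  have hspan : Submodule.span P.K ({vn, vo} : Set (I6 → P.K)) ≤ W :=
    Submodule.span_le.2 (Set.insert_subset hnW (Set.singleton_subset_iff.2 hoW))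
  have hout : v' ∉ Submodule.span P.K ({vn, vo} : Set (I6 → P.K)) := by
    intro h0
    obtain ⟨s, t, hst⟩ := Submodule.mem_span_pair.1 h0
    rcases eq_or_ne t 0 with rfl | ht
    · rw [zero_smul, add_zero] at hst
      have hs : s ≠ 0 := fun h0 => hv'0 (by rw [← hst, h0, zero_smul])
      refine hnX ?_
      rw [show vn = s⁻¹ • v' by rw [← hst, inv_smul_smul₀ hs]]
      exact Submodule.smul_mem _ _ (Submodule.mem_span_singleton_self v')
    · refine hoX (Submodule.mem_span_pair.2 ⟨t⁻¹, -(t⁻¹ * s), ?_⟩)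
      rw [← hst, smul_add, smul_smul, smul_smul, inv_mul_cancel₀ ht, one_smul, neg_smul]
      abel
  have fin : ∀ {x : G} (hx : x ∈ perp D m) {v : I6 → P.K}, herm P.C v v = 0 → v ≠ 0 → bar hx = P.θ (tv P.C v) →
      v ∈ Submodule.span P.K ({vn, vo} : Set (I6 → P.K)) → x ∈ M ∧ x ≠ m ∧ x ≠ m' := by
    intro x hx v hv hv0 hxv hs
    refine ⟨(hiff x hx v hv hv0 hxv).2 (hspan hs), hx.2.1, fun h0 => hout ?_⟩
    subst h0
    obtain ⟨a, -, ha⟩ := eq_smul_of_map_eq P.C P.hq P.θ P.hker hv hv' hv'0 (hxv.symm.trans hm'v)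
    exact ha ▸ Submodule.smul_mem _ a hs
  refine ⟨n, o, a, b, c, ?_, he⟩
  intro x hx
  simp only [List.mem_cons, List.not_mem_nil, or_false] at hx
  rcases hx with rfl | rfl | rfl | rfl | rfl
  exacts [⟨hn, hnp.2.1, nn'⟩, ⟨ho, hop.2.1, no'⟩, fin hap hva hva0 hav sA, fin hbp hvb hvb0 hbv sB,
    fin hcp hvc hvc0 hcv sC]

/-- A quadratically acting elementary abelian group is no offender on `⟨M⟩`. -/
theorem not_offender {M : Set G} (hM : IsMaxClique D M) (B : Subgroup G)
    (hBM : ∀ b ∈ B, ∀ m ∈ M, b * m * b⁻¹ ∈ M) (hB2 : ∀ b ∈ B, b * b = 1)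
    (hquad : ∀ e ∈ Subgroup.closure M, ∀ b ∈ B, ∀ k ∈ B, Commute k ⁅e, b⁆)
    (hmove : ∃ b ∈ B, ∃ m ∈ M, b * m * b⁻¹ ≠ m) :
    Nat.card B * Nat.card ↥(Subgroup.closure M ⊓ Subgroup.centralizer (B : Set G)) <
      Nat.card ↥(B ⊓ Subgroup.centralizer (Subgroup.closure M : Set G)) * Nat.card ↥(Subgroup.closure M) := by
  classical
  have := Fintype.ofFinite G
  set E := Subgroup.closure M with hE
  have hEa := isElementaryAbelian_clique h hM
  have hEc : ∀ {x y : G}, x ∈ E → y ∈ E → x * y = y * x := fun hx hy =>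
    CfsgLib.PLocal.comm_of_isMulCommutative hEa.1 hx hy
  have hE2 : ∀ {x : G}, x ∈ E → x * x = 1 := fun hx => by rw [← pow_two]; exact hEa.2 _ hx
  have hpu := pairUnique h.1 (noTwins_of_primitive h h22.1 hp)
  have hinv : ∀ {b : G}, b ∈ B → b⁻¹ = b := fun hb => inv_eq_of_mul_eq_one_right (hB2 _ hb)
  have hcommd : ∀ {m b : G}, m ∈ M → ⁅m, b⁆ = m * (b * m * b⁻¹) := fun {m b} hm => by
    rw [commutatorElement_def, inv_eq h.1 (hM.sub hm)]; group
  -- moved members form orbits of length two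
  have horb : ∀ {b k m : G}, b ∈ B → k ∈ B → m ∈ M → b * m * b⁻¹ ≠ m →
      k * m * k⁻¹ = m ∨ k * m * k⁻¹ = b * m * b⁻¹ := by
    intro b k m hb hk hm hne
    have hm' := hBM b hb m hm
    have h1 := hquad m (Subgroup.subset_closure hm) b hb k hk
    rw [hcommd hm] at h1
    have h2 : k * m * k⁻¹ * (k * (b * m * b⁻¹) * k⁻¹) = m * (b * m * b⁻¹) := by
      rw [show k * m * k⁻¹ * (k * (b * m * b⁻¹) * k⁻¹) = k * (m * (b * m * b⁻¹)) * k⁻¹ by group, h1.eq,
        mul_inv_cancel_right]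
    rcases hpu _ (h.2.1 k m (hM.sub hm)) _ (h.2.1 k _ (hM.sub hm')) m (hM.sub hm) _ (hM.sub hm')
      (fun h0 => hne (mul_left_cancel (mul_right_cancel h0)).symm)
      ((commute_conj_iff' k _ _).2 (hM.comm m hm _ hm')) hne.symm (hM.comm m hm _ hm') h2 with ⟨e, -⟩ | ⟨e, -⟩
    exacts [Or.inl e, Or.inr e]
  -- no element moves a single pair
  have htwo : ∀ {b m : G}, b ∈ B → m ∈ M → b * m * b⁻¹ ≠ m →
      ∃ m₁ ∈ M, m₁ ≠ m ∧ m₁ ≠ b * m * b⁻¹ ∧ b * m₁ * b⁻¹ ≠ m₁ := by
    intro b m hb hm hne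
    by_contra hall
    push Not at hall
    obtain ⟨n, o, a, b', c, hmem, he⟩ := exists_six_avoid h hp h22 hM hm (hBM b hb m hm) hne.symm
    have hfix : ∀ x ∈ [n, o, a, b', c], b * x * b⁻¹ = x := fun x hx =>
      hall x (hmem x hx).1 (hmem x hx).2.1 (hmem x hx).2.2
    have h1 := congrArg (fun x => b * x * b⁻¹) he
    rw [show b * (m * n * o) * b⁻¹ = b * m * b⁻¹ * (b * n * b⁻¹) * (b * o * b⁻¹) by group,
      show b * (a * b' * c) * b⁻¹ = b * a * b⁻¹ * (b * b' * b⁻¹) * (b * c * b⁻¹) by group,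
      hfix n (by simp), hfix o (by simp), hfix a (by simp), hfix b' (by simp), hfix c (by simp), ← he] at h1
    exact hne (mul_right_cancel (mul_right_cancel h1))
  -- a minimal set detecting the action
  set Dk := B ⊓ Subgroup.centralizer (E : Set G) with hDk
  have hDmem : ∀ {k : G}, k ∈ B → (∀ m ∈ M, k * m * k⁻¹ = m) → k ∈ Dk := fun {k} hk hfix => by
    refine ⟨hk, Subgroup.mem_centralizer_iff.2 fun x hx => ?_⟩
    induction hx using Subgroup.closure_induction with
    | mem x hx => exact (mul_inv_eq_iff_eq_mul.1 (hfix x hx)).symm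
    | one => simp
    | mul x y _ _ ihx ihy => exact (Commute.mul_left ihx ihy)
    | inv x _ ihx => exact Commute.inv_left ihx
  let Good : Finset G → Prop := fun S => ∀ k ∈ B, (∀ m ∈ S, k * m * k⁻¹ = m) → k ∈ Dk
  obtain ⟨S, hS, hSmin⟩ := Finset.exists_min_image (M.toFinset.powerset.filter Good) Finset.card
    ⟨M.toFinset, Finset.mem_filter.2 ⟨Finset.mem_powerset.2 subset_rfl,
      fun k hk hfix => hDmem hk fun m hm => hfix m (Set.mem_toFinset.2 hm)⟩⟩
  rw [Finset.mem_filter, Finset.mem_powerset] at hS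
  obtain ⟨hSM, hSgood⟩ := hS
  have hSM' : ∀ m ∈ S, m ∈ M := fun m hm => Set.mem_toFinset.1 (hSM hm)
  have hdual : ∀ i ∈ S, ∃ k ∈ B, k * i * k⁻¹ ≠ i ∧ ∀ j ∈ S, j ≠ i → k * j * k⁻¹ = j := by
    intro i hi
    by_contra hall
    push Not at hall
    have hgood : Good (S.erase i) := by
      intro k hk hfix
      refine hSgood k hk fun j hj => ?_
      by_cases hji : j = i
      · subst hji
        by_contra hne
        obtain ⟨l, hl, hli, hne'⟩ := hall k hk hne
        exact hne' (hfix l (Finset.mem_erase.2 ⟨hli, hl⟩))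
      · exact hfix j (Finset.mem_erase.2 ⟨hji, hj⟩)
    have h1 := hSmin (S.erase i) (Finset.mem_filter.2 ⟨Finset.mem_powerset.2
      ((Finset.erase_subset _ _).trans hSM), hgood⟩)
    exact absurd (Finset.card_erase_lt_of_mem hi) (by omega)
  choose bf hbfB hbfne hbfix using hdual
  obtain ⟨i₀, hi₀⟩ : S.Nonempty := by
    rw [Finset.nonempty_iff_ne_empty]
    intro h0
    obtain ⟨b, hb, m, hm, hne⟩ := hmove
    have h1 := hSgood b hb (by simp [h0])
    exact hne (by rw [← (Subgroup.mem_centralizer_iff.1 h1.2 m (Subgroup.subset_closure hm)),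
      mul_inv_cancel_right])
  -- the group side
  have hcardB : Nat.card B ≤ Nat.card ↥Dk * 2 ^ S.card := by
    set Bs := (B : Set G).toFinset with hBs
    let sig : G → Finset G := fun k => S.filter fun m => k * m * k⁻¹ ≠ m
    have hfib : ∀ T ∈ Bs.image sig, (Bs.filter fun k => sig k = T).card ≤ Nat.card ↥Dk := by
      intro T hT
      obtain ⟨k₁, hk₁, rfl⟩ := Finset.mem_image.1 hT
      rw [hBs, Set.mem_toFinset] at hk₁
      rw [show Nat.card ↥Dk = (Dk : Set G).toFinset.card by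
        rw [← Set.ncard_eq_toFinset_card', ← Nat.card_coe_set_eq]; rfl]
      refine Finset.card_le_card_of_injOn (fun k => k₁⁻¹ * k) ?_ ((mul_right_injective _).injOn)
      intro k hk
      simp only [Finset.coe_filter, Set.mem_setOf_eq, hBs, Set.mem_toFinset] at hk
      simp only [Set.coe_toFinset]
      obtain ⟨hkB, hsig⟩ := hk
      refine hSgood _ (B.mul_mem (B.inv_mem hk₁) hkB) fun m hm => ?_
      have hm' := hSM' m hm
      have hiff : k * m * k⁻¹ ≠ m ↔ k₁ * m * k₁⁻¹ ≠ m := by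
        have := Finset.ext_iff.1 hsig m
        simpa [sig, hm] using this
      have heq : k * m * k⁻¹ = k₁ * m * k₁⁻¹ := by
        by_cases h1 : k₁ * m * k₁⁻¹ = m
        · rw [h1]; exact not_not.1 fun h2 => (hiff.1 h2) h1
        · exact (horb hk₁ hkB hm' h1).resolve_left (hiff.2 h1)
      rw [show k₁⁻¹ * k * m * (k₁⁻¹ * k)⁻¹ = k₁⁻¹ * (k * m * k⁻¹) * k₁ by group, heq]
      group
    have h1 := Finset.card_le_mul_card_image Bs _ hfib
    have h2 : (Bs.image sig).card ≤ 2 ^ S.card := by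
      rw [← Finset.card_powerset]
      refine Finset.card_le_card fun T hT => ?_
      obtain ⟨k, -, rfl⟩ := Finset.mem_image.1 hT
      exact Finset.mem_powerset.2 (Finset.filter_subset _ _)
    calc Nat.card B = Bs.card := by rw [hBs, ← Set.ncard_eq_toFinset_card', ← Nat.card_coe_set_eq]; rfl
      _ ≤ Nat.card ↥Dk * (Bs.image sig).card := h1
      _ ≤ _ := Nat.mul_le_mul_left _ h2
  -- the side of `⟨M⟩`
  let bf' : G → G := fun i => if hi : i ∈ S then bf i hi else 1
  have hbf' : ∀ {i : G} (hi : i ∈ S), bf' i = bf i hi := fun hi => dif_pos hi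
  let C : Finset G → Subgroup G := fun T => E ⊓ Subgroup.centralizer (bf' '' (T : Set G))
  have hCmem : ∀ {T : Finset G} {x : G}, x ∈ C T ↔ x ∈ E ∧ ∀ i ∈ T, Commute (bf' i) x := by
    intro T x
    simp only [C, Subgroup.mem_inf, Subgroup.mem_centralizer_iff, Set.forall_mem_image, Finset.mem_coe]
    exact Iff.rfl
  have hstep : ∀ (K L : Subgroup G) {x : G}, K ≤ L → x ∈ L → x ∉ K → 2 * Nat.card K ≤ Nat.card L := by
    intro K L x hKL hxL hxK
    rw [← CfsgLib.PLocal.card_mul_relIndex hKL, mul_comm]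
    refine Nat.mul_le_mul_left _ ?_
    have h0 : K.relIndex L ≠ 0 := Subgroup.index_ne_zero_of_finite
    have h1 : K.relIndex L ≠ 1 := fun h1 => hxK (Subgroup.relIndex_eq_one.1 h1 hxL)
    omega
  have hnc : ∀ {b m : G}, b ∈ B → b * m * b⁻¹ ≠ m → ¬ Commute b m := fun _ hne hc =>
    hne (by rw [hc.eq, mul_inv_cancel_right])
  have hfirst : 4 * Nat.card ↥(C {i₀}) ≤ Nat.card E := by
    have hm := hSM' i₀ hi₀
    have hb := hbfB i₀ hi₀
    have hne := hbfne i₀ hi₀
    obtain ⟨m₁, hm₁, n1, n2, hne₁⟩ := htwo hb hm hne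
    set b := bf i₀ hi₀ with hbdef
    have hK : ∀ {x : G}, x ∈ C {i₀} ↔ x ∈ E ∧ Commute b x := by
      intro x; rw [hCmem]; simp [hbf' hi₀, ← hbdef]
    have hmE := Subgroup.subset_closure hm
    have hm₁E := Subgroup.subset_closure hm₁
    let L : Subgroup G :=
      { carrier := {x | x ∈ E ∧ (x ∈ C {i₀} ∨ i₀ * x ∈ C {i₀})}
        one_mem' := ⟨one_mem _, Or.inl (one_mem _)⟩
        mul_mem' := by
          rintro x y ⟨hx, hx'⟩ ⟨hy, hy'⟩
          refine ⟨mul_mem hx hy, ?_⟩
          rcases hx' with hx' | hx' <;> rcases hy' with hy' | hy'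
          · exact Or.inl (mul_mem hx' hy')
          · refine Or.inr ?_
            rw [show i₀ * (x * y) = x * (i₀ * y) by rw [← mul_assoc, hEc hmE hx, mul_assoc]]
            exact mul_mem hx' hy'
          · exact Or.inr (by rw [← mul_assoc]; exact mul_mem hx' hy')
          · refine Or.inl ?_
            rw [show x * y = i₀ * x * (i₀ * y) by
              rw [hEc hmE hx, mul_assoc x, ← mul_assoc i₀ i₀, hE2 hmE, one_mul]]
            exact mul_mem hx' hy'
        inv_mem' := by
          rintro x ⟨hx, hx'⟩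
          rw [inv_eq_of_mul_eq_one_right (hE2 hx)]
          exact ⟨hx, hx'⟩ }
    have h1 : 2 * Nat.card ↥(C {i₀}) ≤ Nat.card L := by
      refine hstep _ _ (x := i₀) (fun x hx => ⟨(hK.1 hx).1, Or.inl hx⟩)
        ⟨hmE, Or.inr (by rw [hE2 hmE]; exact one_mem _)⟩ fun h0 => hnc hb hne (hK.1 h0).2
    have h2 : 2 * Nat.card L ≤ Nat.card E := by
      refine hstep _ _ (x := m₁) (fun x hx => hx.1) hm₁E ?_
      rintro ⟨-, h0 | h0⟩
      · exact hnc hb hne₁ (hK.1 h0).2
      · have h3 : b * i₀ * b⁻¹ * (b * m₁ * b⁻¹) = i₀ * m₁ := by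
          rw [show b * i₀ * b⁻¹ * (b * m₁ * b⁻¹) = b * (i₀ * m₁) * b⁻¹ by group, (hK.1 h0).2.eq,
            mul_inv_cancel_right]
        have hbm := hBM b hb i₀ hm
        have hbm₁ := hBM b hb m₁ hm₁
        rcases hpu _ (hM.sub hbm) _ (hM.sub hbm₁) i₀ (hM.sub hm) m₁ (hM.sub hm₁)
          (fun h0 => n1 (mul_left_cancel (mul_right_cancel h0)).symm) (hM.comm _ hbm _ hbm₁) n1.symm
          (hM.comm _ hm _ hm₁) h3 with ⟨e, -⟩ | ⟨e, -⟩
        exacts [hne e, n2 e.symm]
    omega
  have hchain : ∀ T ⊆ S.erase i₀, 2 ^ (T.card + 2) * Nat.card ↥(C (insert i₀ T)) ≤ Nat.card E := by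
    intro T hT
    induction T using Finset.induction with
    | empty => simpa using hfirst
    | @insert i T hiT ih =>
      have hi := hT (Finset.mem_insert_self i T)
      obtain ⟨hi0, hiS⟩ := Finset.mem_erase.1 hi
      have ih' := ih ((Finset.subset_insert i T).trans hT)
      have h1 : 2 * Nat.card ↥(C (insert i₀ (insert i T))) ≤ Nat.card ↥(C (insert i₀ T)) := by
        refine hstep _ _ (x := i) ?_ ?_ ?_
        · intro x hx
          obtain ⟨hxE, hx⟩ := hCmem.1 hx
          refine hCmem.2 ⟨hxE, fun j hj => hx j ?_⟩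
          rw [Finset.mem_insert] at hj ⊢
          rcases hj with hj | hj
          exacts [Or.inl hj, Or.inr (Finset.mem_insert_of_mem hj)]
        · refine hCmem.2 ⟨Subgroup.subset_closure (hSM' i hiS), fun j hj => ?_⟩
          have hjS : j ∈ S := by
            rcases Finset.mem_insert.1 hj with rfl | hj
            exacts [hi₀, (Finset.mem_erase.1 (hT (Finset.mem_insert_of_mem hj))).2]
          have hji : i ≠ j := by
            rintro rfl
            rcases Finset.mem_insert.1 hj with h0 | h0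
            exacts [hi0 h0, hiT h0]
          rw [hbf' hjS]
          exact mul_inv_eq_iff_eq_mul.1 (hbfix j hjS i hiS hji)
        · intro h0
          have h1 := (hCmem.1 h0).2 i (by simp)
          rw [hbf' hiS] at h1
          exact hnc (hbfB i hiS) (hbfne i hiS) h1
      rw [Finset.card_insert_of_notMem hiT, show T.card + 1 + 2 = (T.card + 2) + 1 from rfl, pow_succ, mul_assoc]
      exact (Nat.mul_le_mul_left _ h1).trans ih'
  have hfinal := hchain (S.erase i₀) subset_rfl
  rw [Finset.insert_erase hi₀, Finset.card_erase_of_mem hi₀] at hfinal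
  have hScard : 1 ≤ S.card := Finset.card_pos.2 ⟨i₀, hi₀⟩
  rw [show S.card - 1 + 2 = S.card + 1 by omega] at hfinal
  have hCle : Nat.card ↥(E ⊓ Subgroup.centralizer (B : Set G)) ≤ Nat.card ↥(C S) := by
    refine Subgroup.card_le_of_le fun x hx => hCmem.2 ⟨hx.1, fun i hi => ?_⟩
    rw [hbf' hi]
    exact Subgroup.mem_centralizer_iff.1 hx.2 _ (hbfB i hi)
  have hpos : 0 < Nat.card ↥Dk * Nat.card ↥(E ⊓ Subgroup.centralizer (B : Set G)) :=
    Nat.mul_pos Nat.card_pos Nat.card_pos
  calc Nat.card B * Nat.card ↥(E ⊓ Subgroup.centralizer (B : Set G))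
      ≤ Nat.card ↥Dk * 2 ^ S.card * Nat.card ↥(E ⊓ Subgroup.centralizer (B : Set G)) :=
        Nat.mul_le_mul_right _ hcardB
    _ < Nat.card ↥Dk * (2 ^ (S.card + 1) * Nat.card ↥(E ⊓ Subgroup.centralizer (B : Set G))) := by
        rw [pow_succ]
        calc Nat.card ↥Dk * 2 ^ S.card * Nat.card ↥(E ⊓ Subgroup.centralizer (B : Set G))
            = 2 ^ S.card * (Nat.card ↥Dk * Nat.card ↥(E ⊓ Subgroup.centralizer (B : Set G))) := by ring
          _ < 2 ^ S.card * 2 * (Nat.card ↥Dk * Nat.card ↥(E ⊓ Subgroup.centralizer (B : Set G))) :=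
              Nat.mul_lt_mul_of_pos_right (by have := Nat.two_pow_pos S.card; omega) hpos
          _ = _ := by ring
    _ ≤ Nat.card ↥Dk * Nat.card E :=
        Nat.mul_le_mul_left _ ((Nat.mul_le_mul_left _ hCle).trans hfinal)

/-- The members of a Sylow 2-subgroup generate its Thompson subgroup. -/
theorem closure_inter_eq_thompson (T : Sylow 2 G) :
    Subgroup.closure {x : G | x ∈ D ∧ x ∈ (T : Subgroup G)} = thompsonSubgroupOf 2 (T : Subgroup G) := by
  classical
  set M := {x : G | x ∈ D ∧ x ∈ (T : Subgroup G)} with hMdef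
  -- `M` is a maximal commuting set
  have hM : IsMaxClique D M := by
    have hcomm : ∀ a ∈ M, ∀ b ∈ M, Commute a b := by
      intro a ha b hb
      by_contra hab
      have h3 : (a * b) ^ 3 = 1 := by
        rcases h.1.2 a ha.1 b hb.1 with h2 | h3
        · exfalso
          refine hab ?_
          have h4 : a * b * (a * b) = 1 := by rw [← pow_two]; exact h2
          show a * b = b * a
          rw [eq_inv_of_mul_eq_one_left h4, _root_.mul_inv_rev, inv_eq h.1 ha.1, inv_eq h.1 hb.1]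
        · exact h3
      obtain ⟨k, hk⟩ := T.2 ⟨a * b, mul_mem ha.2 hb.2⟩
      have hk' : (a * b) ^ (2 ^ k) = 1 := congrArg Subtype.val hk
      have h1 : a * b = 1 := orderOf_eq_one_iff.1 (Nat.eq_one_of_dvd_coprimes
        (Nat.Coprime.pow_left k (by decide : Nat.Coprime 2 3)) (orderOf_dvd_of_pow_eq_one hk')
        (orderOf_dvd_of_pow_eq_one h3))
      rw [mul_eq_one_iff_eq_inv, inv_eq h.1 hb.1] at h1
      exact hab (h1 ▸ Commute.refl b)
    -- some maximal commuting set lies in a Sylow subgroup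
    let 𝒮 : Set (Set G) := {S | S ⊆ D ∧ ∀ a ∈ S, ∀ b ∈ S, Commute a b}
    obtain ⟨M₀, hM₀, hmax⟩ := Set.exists_max_image 𝒮 Set.ncard (Set.toFinite _)
      ⟨∅, Set.empty_subset _, fun a ha => ha.elim⟩
    have hM₀' : IsMaxClique D M₀ := by
      refine ⟨hM₀.1, hM₀.2, fun y hy hc => ?_⟩
      by_contra hyM
      have h1 := hmax (insert y M₀) ⟨Set.insert_subset hy hM₀.1, by
        rintro a (rfl | ha) b (rfl | hb)
        exacts [Commute.refl _, hc b hb, (hc a ha).symm, hM₀.2 a ha b hb]⟩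
      rw [Set.ncard_insert_of_notMem hyM] at h1
      omega
    have hpg : IsPGroup 2 ↥(Subgroup.closure M₀) := fun x =>
      ⟨1, Subtype.ext (by
        rw [SubmonoidClass.coe_pow, pow_one]
        exact (isElementaryAbelian_clique h hM₀').2 _ x.2)⟩
    obtain ⟨T₀, hT₀⟩ := hpg.exists_le_sylow
    obtain ⟨g, hg⟩ := MulAction.exists_smul_eq G T₀ T
    have hsub : (fun x => g * x * g⁻¹) '' M₀ ⊆ M := by
      rintro _ ⟨x, hx, rfl⟩
      refine ⟨h.2.1 g x (hM₀.1 hx), ?_⟩
      rw [← hg, Sylow.coe_subgroup_smul]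
      exact ⟨x, hT₀ (Subgroup.subset_closure hx), rfl⟩
    refine ⟨fun x hx => hx.1, hcomm, fun y hy hc => ?_⟩
    have h1 : g⁻¹ * y * g ∈ M₀ := by
      refine hM₀'.max _ (by simpa using h.2.1 g⁻¹ y hy) fun m hm => ?_
      rw [← commute_conj_iff' g, show g * (g⁻¹ * y * g) * g⁻¹ = y by group]
      exact hc _ (hsub ⟨m, hm, rfl⟩)
    have h2 := hsub ⟨_, h1, rfl⟩
    simp only [show g * (g⁻¹ * y * g) * g⁻¹ = y by group] at h2
    exact h2
  set E := Subgroup.closure M with hE
  have hEa := isElementaryAbelian_clique h hM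
  have hET : E ≤ (T : Subgroup G) := (Subgroup.closure_le _).2 fun x hx => hx.2
  have hTM : ∀ t ∈ (T : Subgroup G), ∀ m ∈ M, t * m * t⁻¹ ∈ M := fun t ht m hm =>
    ⟨h.2.1 t m hm.1, mul_mem (mul_mem ht hm.2) (inv_mem ht)⟩
  have hnorm : (T : Subgroup G) ≤ Subgroup.normalizer (E : Set G) := by
    intro t ht
    refine Subgroup.mem_normalizer_fintype fun x hx => ?_
    have : (E.map (MulAut.conj t).toMonoidHom) ≤ E := by
      rw [hE, MonoidHom.map_closure, Subgroup.closure_le]
      rintro _ ⟨m, hm, rfl⟩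
      exact Subgroup.subset_closure (hTM t ht m hm)
    exact this ⟨x, hx, rfl⟩
  -- the maximal elementary abelian subgroups equal `E`
  have key : ∀ A : Subgroup G, A ≤ (T : Subgroup G) → IsElementaryAbelian 2 A → Nat.card E ≤ Nat.card A →
      (∀ X : Subgroup G, X ≤ (T : Subgroup G) → IsElementaryAbelian 2 X → Nat.card X ≤ Nat.card A) → A = E := by
    intro A hAT hA hcard hmaxA
    by_cases hmove : ∀ a ∈ A, ∀ m ∈ M, a * m * a⁻¹ = m
    · refine Subgroup.eq_of_le_of_card_ge (fun a ha => ?_) hcard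
      exact mem_closure_of_commute_clique h hp h22 hM (by rw [← pow_two]; exact hA.2 a ha)
        fun m hm => mul_inv_eq_iff_eq_mul.1 (hmove a ha m hm)
    exfalso
    have hAN : A ≤ Subgroup.normalizer (E : Set G) := hAT.trans hnorm
    haveI : Fact (Nat.Prime 2) := ⟨Nat.prime_two⟩
    have hoff : IsBestOffenderOn 2 E A := by
      refine ⟨fun B hBA => ?_, ?_, fun a ha => ?_⟩
      · set CA := E ⊓ Subgroup.centralizer (A : Set G)
        set CB := E ⊓ Subgroup.centralizer (B : Set G)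
        have h1 : CB ≤ Subgroup.centralizer (B : Set G) := inf_le_right
        have hsup : IsElementaryAbelian 2 (CB ⊔ B) :=
          CfsgLib.PLocal.isElementaryAbelian_sup (CfsgLib.PLocal.isElementaryAbelian_of_le hEa inf_le_left)
            (CfsgLib.PLocal.isElementaryAbelian_of_le hA hBA) h1
        have h2 := CfsgLib.PLocal.card_sup_mul_card_inf (h1.trans (Subgroup.centralizer_le_normalizer _))
        have h3 : CB ⊓ B ≤ CA := fun x hx =>
          ⟨hx.1.1, Subgroup.le_centralizer_iff_isMulCommutative.mpr hA.1 (hBA hx.2)⟩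
        rw [mul_comm, ← h2]
        exact Nat.mul_le_mul (hmaxA _ (sup_le (inf_le_left.trans hET) (hBA.trans hAT)) hsup)
          (Subgroup.card_le_of_le h3)
      · rw [Subgroup.commutator_self_eq_bot_iff.mpr hA.1]; exact bot_le
      · rw [hA.2 a ha]; exact one_mem _
    obtain ⟨hoffB, -, hne⟩ := Cfsg.Agent.S0599.result E A hEa hAN hoff E le_rfl
    set B := A ⊓ Subgroup.centralizer ((⁅E, A⁆ : Subgroup G) : Set G) with hB
    have hEA : ⁅E, A⁆ ≠ ⊥ := by
      intro h0
      refine hmove fun a ha m hm => ?_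
      have h1 := Subgroup.mem_centralizer_iff.1 (Subgroup.commutator_eq_bot_iff_le_centralizer.1 h0
        (Subgroup.subset_closure hm)) a ha
      rw [h1, mul_inv_cancel_right]
    have hBmove : ∃ b ∈ B, ∃ m ∈ M, b * m * b⁻¹ ≠ m := by
      by_contra hall
      push Not at hall
      refine hne hEA (Subgroup.commutator_eq_bot_iff_le_centralizer.2 ?_)
      rw [Subgroup.closure_le]
      intro m hm
      exact Subgroup.mem_centralizer_iff.2 fun b hb => mul_inv_eq_iff_eq_mul.1 (hall b hb m hm)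
    have h1 := hoffB.1 (B ⊓ Subgroup.centralizer (E : Set G)) inf_le_left
    have h2 : E ⊓ Subgroup.centralizer ((B ⊓ Subgroup.centralizer (E : Set G) : Subgroup G) : Set G) = E :=
      inf_eq_left.2 (Subgroup.le_centralizer_iff.1 inf_le_right)
    rw [h2] at h1
    exact absurd h1 (not_le.2 (not_offender h hp h22 hM B (fun b hb => hTM b (hAT hb.1))
      (fun b hb => by rw [← pow_two]; exact hA.2 b hb.1)
      (fun e he b hb k hk => (Subgroup.mem_centralizer_iff.1 hk.2 _
        (Subgroup.commutator_mem_commutator he hb.1)).symm) hBmove))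
  unfold thompsonSubgroupOf thompsonSubgroup
  obtain ⟨A₀, hA₀, hA₀max⟩ := Set.exists_max_image
    {A : Subgroup G | A ≤ (T : Subgroup G) ∧ IsElementaryAbelian 2 A} (fun A => Nat.card A) (Set.toFinite _)
    ⟨E, hET, hEa⟩
  have hA₀E : A₀ = E := key A₀ hA₀.1 hA₀.2 (hA₀max E ⟨hET, hEa⟩) fun X hX hX' => hA₀max X ⟨hX, hX'⟩
  have hset : Subgroup.map (T : Subgroup G).subtype '' maxElementaryAbelianSubgroups 2 ↥(T : Subgroup G) = {E} := by
    rw [CfsgLib.PLocal.image_map_maxEA]
    ext A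
    constructor
    · rintro ⟨hA1, hA2, hA3⟩
      exact key A hA1 hA2 (hA3 E hET hEa) hA3
    · rintro rfl
      exact ⟨hET, hEa, fun X hX hX' => hA₀E ▸ hA₀max X ⟨hX, hX'⟩⟩
  rw [(Subgroup.gc_map_comap (T : Subgroup G).subtype).l_sSup, ← sSup_image, hset, sSup_singleton]

end CfsgLib.FischerTypes
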