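import Cfsg.Agent.FischerTypes.M23Five

/-!
# The transpositions of seven points
-/

set_option autoImplicit false
set_option maxHeartbeats 1000000

namespace CfsgLib.FischerTypes

/-- The twenty-one pairs from seven points. -/
def pairTwentyOne : Fin 21 → Fin 7 × Fin 7 :=
  ![(0, 1), (0, 2), (0, 3), (0, 4), (0, 5), (0, 6), (1, 2), (1, 3), (1, 4), (1, 5), (1, 6), (2, 3), (2, 4), (2, 5),
    (2, 6), (3, 4), (3, 5), (3, 6), (4, 5), (4, 6), (5, 6)]

/-- The transposition of such a pair. -/
def swapTwentyOne (k : Fin 21) : Equiv.Perm (Fin 7) := Equiv.swap (pairTwentyOne k).1 (pairTwentyOne k).2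

/-- Whether two pairs are equal or disjoint. -/
def comTwentyOne (k l : Fin 21) : Bool :=
  decide (k = l) || (decide ((pairTwentyOne k).1 ≠ (pairTwentyOne l).1) &&
    decide ((pairTwentyOne k).1 ≠ (pairTwentyOne l).2) && decide ((pairTwentyOne k).2 ≠ (pairTwentyOne l).1) &&
    decide ((pairTwentyOne k).2 ≠ (pairTwentyOne l).2))

theorem pairTwentyOne_ne : ∀ k, (pairTwentyOne k).1 ≠ (pairTwentyOne k).2 := by decide +kernel

theorem swapTwentyOne_injective : Function.Injective swapTwentyOne := by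
  intro a b h
  revert a b
  decide +kernel

theorem swapTwentyOne_surj : ∀ a b : Fin 7, a ≠ b → ∃ k, swapTwentyOne k = Equiv.swap a b := by
  decide +kernel

theorem swapTwentyOne_commute : ∀ k l,
    swapTwentyOne k * swapTwentyOne l = swapTwentyOne l * swapTwentyOne k ↔ comTwentyOne k l = true := by
  decide +kernel

theorem swapTwentyOne_common : ∀ k l, comTwentyOne k l = false → ∃ m, m ≠ k ∧ m ≠ l ∧
    comTwentyOne m k = true ∧ comTwentyOne m l = true := by
  decide +kernel

theorem swapTwentyOne_noncommuting : ∀ k,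
    (Finset.univ.filter fun l : Fin 21 => comTwentyOne k l = false).card = 10 := by
  decide +kernel

theorem swapTwentyOne_six : ∀ k l, comTwentyOne k l = false →
    (Finset.univ.filter fun m : Fin 21 => comTwentyOne m k = true ∧ comTwentyOne m l = true).card = 6 := by
  decide +kernel

/-- The pairs disjoint from two given ones. -/
def offTwo (x y : Fin 21) : List (Fin 21) :=
  (List.finRange 21).filter fun u =>
    decide (u ≠ x) && decide (u ≠ y) && comTwentyOne u x && comTwentyOne u y

theorem mem_offTwo {x y u : Fin 21} :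
    u ∈ offTwo x y ↔ u ≠ x ∧ u ≠ y ∧ comTwentyOne u x = true ∧ comTwentyOne u y = true := by
  simp [offTwo, and_assoc]

theorem swapTwentyOne_cover : ∀ x y, x ≠ y → comTwentyOne x y = true →
    ∀ u ∈ offTwo x y, ∀ u' ∈ offTwo x y, comTwentyOne u u' = false →
    ∀ u'' ∈ offTwo x y, comTwentyOne u u'' = false → comTwentyOne u' u'' = false →
    ∀ v ∈ offTwo x y, v = u ∨ v = u' ∨ v = u'' := by
  set_option synthInstance.maxSize 4000 in decide +kernel

theorem swapTwentyOne_last : ∀ x y, x ≠ y → comTwentyOne x y = true →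
    ∀ u ∈ offTwo x y, ∀ u' ∈ offTwo x y, comTwentyOne u u' = false →
    ∀ t, t ≠ x → comTwentyOne t x && comTwentyOne t u && comTwentyOne t u' = true → t = y := by
  set_option synthInstance.maxSize 4000 in decide +kernel

/-- The five points other than the last two. -/
def upFive (a : Fin 5) : Fin 7 := Fin.castLE (by norm_num) a

theorem upFive_conj : ∀ k l, Equiv.swap (upFive (pairTen k).1) (upFive (pairTen k).2) *
      Equiv.swap (upFive (pairTen l).1) (upFive (pairTen l).2) *
      Equiv.swap (upFive (pairTen k).1) (upFive (pairTen k).2) =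
    Equiv.swap (upFive (pairTen (conjTen k l)).1) (upFive (pairTen (conjTen k l)).2) := by
  decide +kernel

theorem upFive_range : ∀ i j : Fin 7, i ≠ j → Equiv.swap i j ≠ Equiv.swap 5 6 →
    Equiv.swap i j * Equiv.swap 5 6 = Equiv.swap 5 6 * Equiv.swap i j →
    ∃ k : Fin 10, Equiv.swap i j = Equiv.swap (upFive (pairTen k).1) (upFive (pairTen k).2) := by
  decide +kernel

theorem upFive_injective : Function.Injective fun k : Fin 10 =>
    Equiv.swap (upFive (pairTen k).1) (upFive (pairTen k).2) := by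
  intro a b h
  revert a b
  decide +kernel

theorem upFive_ne : ∀ k : Fin 10, upFive (pairTen k).1 ≠ upFive (pairTen k).2 ∧
    Equiv.swap (upFive (pairTen k).1) (upFive (pairTen k).2) ≠ Equiv.swap 5 6 ∧
    Equiv.swap (upFive (pairTen k).1) (upFive (pairTen k).2) * Equiv.swap 5 6 =
      Equiv.swap 5 6 * Equiv.swap (upFive (pairTen k).1) (upFive (pairTen k).2) := by
  decide +kernel

theorem upFive_avoid : ∀ (i₀ : Fin 5) (a b : Fin 5), a ≠ b → ∃ k : Fin 10,
    Equiv.swap (upFive (pairTen k).1) (upFive (pairTen k).2) =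
      Equiv.swap (Equiv.swap 4 (upFive i₀) (upFive a)) (Equiv.swap 4 (upFive i₀) (upFive b)) ∧
    ((pairTen k).1 ≠ i₀ ∧ (pairTen k).2 ≠ i₀ ↔ a ≠ 4 ∧ b ≠ 4) := by
  decide +kernel

theorem swapSeven_off01 : ∀ i j : Fin 7, i ≠ j → Equiv.swap i j ≠ Equiv.swap 0 1 →
    Equiv.swap i j * Equiv.swap 0 1 = Equiv.swap 0 1 * Equiv.swap i j →
    (i, j) ∈ ([(2, 3), (3, 2), (5, 6), (6, 5), (4, 5), (5, 4), (4, 6), (6, 4),
      (2, 4), (4, 2), (3, 4), (4, 3), (2, 5), (5, 2), (2, 6), (6, 2), (3, 5), (5, 3), (3, 6), (6, 3)] :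
        List (Fin 7 × Fin 7)) := by
  decide +kernel

end CfsgLib.FischerTypes
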