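import Cfsg.Agent.FischerTypes.M23PrimeLocal
import Cfsg.Agent.FischerTypes.M22FiveClass
import Mathlib.GroupTheory.Perm.Centralizer

/-!
# Elements of order five in type M(23)
-/

set_option autoImplicit false
set_option linter.style.haveILetI false
set_option maxHeartbeats 1000000

namespace CfsgLib.FischerTypes

open Cfsg

/-- The ten pairs from five points. -/
def pairTen : Fin 10 → Fin 5 × Fin 5 :=
  ![(0, 1), (0, 2), (0, 3), (0, 4), (1, 2), (1, 3), (1, 4), (2, 3), (2, 4), (3, 4)]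

/-- The transposition of such a pair. -/
def swapTen (k : Fin 10) : Equiv.Perm (Fin 5) := Equiv.swap (pairTen k).1 (pairTen k).2

theorem swapTen_injective : Function.Injective swapTen := by
  intro a b h
  revert a b
  decide +kernel

theorem swapTen_surj : ∀ a b : Fin 5, a ≠ b → ∃ k, swapTen k = Equiv.swap a b := by
  decide +kernel

theorem swapTen_nbrs : ∀ k, (Finset.univ.filter fun l : Fin 10 =>
    l ≠ k ∧ swapTen l * swapTen k = swapTen k * swapTen l).card = 3 := by
  decide +kernel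

/-- The pair obtained by conjugating one transposition by another. -/
def conjTen (k l : Fin 10) : Fin 10 :=
  (((List.finRange 10).find? fun m =>
    let a := swapTen k (pairTen l).1
    let b := swapTen k (pairTen l).2
    decide (pairTen m = (a, b)) || decide (pairTen m = (b, a))).getD 0)

theorem swapTen_conj : ∀ k l, swapTen k * swapTen l * swapTen k = swapTen (conjTen k l) := by
  decide +kernel

/-- The table of `conjTen`. -/
def conjTenTab (k l : Fin 10) : Fin 10 :=
  Fin.ofNat 10 (([0, 4, 5, 6, 1, 2, 3, 7, 8, 9, 4, 1, 7, 8, 0, 5, 6, 2, 3, 9, 5, 7, 2, 9, 4,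
      0, 6, 1, 8, 3, 6, 8, 9, 3, 4, 5, 0, 7, 1, 2, 1, 0, 2, 3, 4, 7, 8, 5, 6, 9,
      2, 1, 0, 3, 7, 5, 9, 4, 8, 6, 3, 1, 2, 0, 8, 9, 6, 7, 4, 5, 0, 2, 1, 3, 5,
      4, 6, 7, 9, 8, 0, 3, 2, 1, 6, 5, 4, 9, 8, 7, 0, 1, 3, 2, 4, 6, 5, 8, 7, 9] : List ℕ).getD
    (10 * k.val + l.val) 0)

theorem conjTen_eq_tab : ∀ k l, conjTen k l = conjTenTab k l := by
  decide +kernel

/-- The check on the indicator list of a set of transpositions. -/
def sixChk (l : List Bool) : Bool :=
  !Nat.beq ((l.map fun b => bif b then 1 else 0).sum) 6 ||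
    !((List.finRange 10).all fun k => !(l.getD k.val false) ||
      (List.finRange 10).all fun m => !(l.getD m.val false) || l.getD (conjTenTab k m).val false) ||
    (List.finRange 5).any fun i => (List.finRange 10).all fun k =>
      l.getD k.val false == (decide ((pairTen k).1 ≠ i) && decide ((pairTen k).2 ≠ i))

theorem sixChk_all : ∀ b0 b1 b2 b3 b4 b5 b6 b7 b8 b9 : Bool, sixChk [b0, b1, b2, b3, b4, b5, b6, b7, b8, b9] = true := by
  decide +kernel

/-- Six transpositions closed under conjugation are those fixing a point. -/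
theorem six_closed_star : ∀ T ∈ (Finset.univ : Finset (Fin 10)).powersetCard 6,
    (∀ k ∈ T, ∀ l ∈ T, conjTen k l ∈ T) → ∃ i : Fin 5, ∀ k, k ∈ T ↔ (pairTen k).1 ≠ i ∧ (pairTen k).2 ≠ i := by
  intro T hT hcl
  have hcard : T.card = 6 := (Finset.mem_powersetCard.1 hT).2
  set l : List Bool := List.ofFn fun k : Fin 10 => decide (k ∈ T) with hl
  have hget : ∀ k : Fin 10, l.getD k.val false = decide (k ∈ T) := fun k => by
    rw [hl, List.getD_eq_getElem?_getD, List.getElem?_ofFn, dif_pos k.2]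
    rfl
  have hchk : sixChk l = true := by
    have := sixChk_all (decide ((0 : Fin 10) ∈ T)) (decide ((1 : Fin 10) ∈ T)) (decide ((2 : Fin 10) ∈ T)) (decide ((3 : Fin 10) ∈ T)) (decide ((4 : Fin 10) ∈ T)) (decide ((5 : Fin 10) ∈ T)) (decide ((6 : Fin 10) ∈ T)) (decide ((7 : Fin 10) ∈ T)) (decide ((8 : Fin 10) ∈ T)) (decide ((9 : Fin 10) ∈ T))
    simpa [hl, List.ofFn_succ] using this
  have hsum : (l.map fun b => bif b then 1 else 0).sum = 6 := by
    rw [← hcard, hl, List.map_ofFn, List.sum_ofFn]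
    simp [Bool.cond_decide]
  simp only [sixChk, Bool.or_eq_true, Bool.not_eq_true', List.any_eq_true, List.all_eq_true, hget,
    List.mem_finRange, true_and, forall_const, beq_iff_eq, Bool.not_eq_true'] at hchk
  rcases hchk with (h | h) | h
  · simp [hsum] at h
  · exfalso
    apply Bool.eq_false_iff.1 h
    simp only [List.all_eq_true, Bool.or_eq_true, Bool.not_eq_true', decide_eq_true_eq, decide_eq_false_iff_not]
    intro k _
    by_cases hk : k ∈ T
    · right
      intro m _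
      by_cases hm : m ∈ T
      · right
        rw [← conjTen_eq_tab]
        exact hcl k hk m hm
      · exact Or.inl hm
    · exact Or.inl hk
  · obtain ⟨i, hi⟩ := h
    refine ⟨i, fun k => ?_⟩
    have := hi k
    rw [← Bool.decide_and] at this
    exact decide_eq_decide.1 this

theorem swapTen_fix : ∀ (k : Fin 10) (a b : Fin 5), a ≠ b → swapTen k = Equiv.swap a b → ∀ i,
    ((pairTen k).1 ≠ i ∧ (pairTen k).2 ≠ i ↔ a ≠ i ∧ b ≠ i) := by
  decide +kernel

/-- The transpositions of seven points, indexed by ordered pairs. -/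
theorem swapSeven_injOn : ∀ p q : Fin 7 × Fin 7, p.1 < p.2 → q.1 < q.2 →
    Equiv.swap p.1 p.2 = Equiv.swap q.1 q.2 → p = q := by
  rintro ⟨a, b⟩ ⟨c, e⟩ hab hce h
  simp only at hab hce h
  have h1 := congrArg (fun f => f a) h
  have h2 := congrArg (fun f => f b) h
  simp only [Equiv.swap_apply_left, Equiv.swap_apply_right, Equiv.swap_apply_def] at h1 h2
  revert h1 h2 hab hce
  revert a b c e
  decide +kernel

theorem card_pairSeven : (Finset.univ.filter fun p : Fin 7 × Fin 7 => p.1 < p.2).card = 21 := by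
  decide +kernel

/-- Subgroups of order five in type M(22) are conjugate. -/
theorem five_conj22 {Q : Type*} [Group Q] [Finite Q] {E : Set Q} (h : IsThreeTranspositionGroup E)
    (hp : IsPrimitiveUnderConj E) (h22 : IsOfTypeM22 Q E) {y y' : Q} (hy : orderOf y = 5)
    (hy' : orderOf y' = 5) : ∃ g : Q, (Subgroup.zpowers y).map (MulAut.conj g).toMonoidHom = Subgroup.zpowers y' := by
  obtain ⟨e, he, hye⟩ := five_has_fixed h hp h22 hy
  obtain ⟨e', he', hye'⟩ := five_has_fixed h hp h22 hy'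
  obtain ⟨k, hk⟩ := single_class h h22 he he'
  obtain ⟨g, -, hg⟩ := conj_in_centralizer h hp h22 he'
    ((orderOf_injective (MulAut.conj k).toMonoidHom (MulAut.conj k).injective y).trans hy) hy'
    (show Commute (k * y * k⁻¹) e' by rw [← hk, commute_conj_iff']; exact hye) hye'
  refine ⟨g * k, ?_⟩
  rw [MonoidHom.map_zpowers, ← hg]
  congr 1
  simp [mul_assoc]

namespace M23

/-- The data at an element of order five. -/
structure FiveData {G : Type*} [Group G] (D : Set G) (x : G) where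
  /-- a chain -/
  a : Fin 4 → G
  /-- the action of the symmetric group of degree seven -/
  ψ : Equiv.Perm (Fin 7) →* G
  chain : MemberChain D a
  zpow : Subgroup.zpowers x = Subgroup.zpowers (five a)
  inj : Function.Injective ψ
  mem : ∀ z, z ∈ D ∧ Commute z x ↔ ∃ i j : Fin 7, i ≠ j ∧ z = ψ (Equiv.swap i j)
  range : ψ.range = Subgroup.closure {z : G | z ∈ D ∧ Commute z x}
  comm : ∀ σ i, Commute (ψ σ) (a i)
  disj : Subgroup.zpowers x ⊓ ψ.range = ⊥
  cent : Subgroup.centralizer ({x} : Set G) = Subgroup.zpowers x ⊔ ψ.range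
  card : Nat.card ↥(Subgroup.centralizer ({x} : Set G)) = 25200

variable {G : Type*} [Group G] [Finite G] {D : Set G} (H : Hyp G D)

include H

/-- The quotient data at a fixed member. -/
theorem five_at {x d : G} (hx : orderOf x = 5) (hd : d ∈ D) (hdx : Commute d x) :
    ∃ (a : Fin 4 → G) (φ : Equiv.Perm (Fin 5) →* G), MemberChain D a ∧
      Subgroup.zpowers x = Subgroup.zpowers (five a) ∧ Function.Injective φ ∧ (∀ i, a i ∈ perp D d) ∧
      (∀ z, z ∈ perp D d ∧ Commute z x ↔ ∃ k, z = φ (swapTen k)) ∧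
      (∀ z ∈ perp D d, Commute z x → ∀ i, Commute z (a i)) ∧
      {z : G | z ∈ perp D d ∧ Commute z x}.ncard = 10 ∧
      Nat.card ↥(Subgroup.centralizer ({x, d} : Set G)) = 1200 := by
  classical
  have : Fact (Nat.Prime 5) := ⟨by norm_num⟩
  set xd : ↥(Subgroup.centralizer ({d} : Set G)) := ⟨x, Subgroup.mem_centralizer_singleton_iff.2 hdx.symm.eq⟩
  have hq := quotGroup H.group d
  have hqp := quotPrim H hd
  have hq22 := quot22 H hd
  have hxo : orderOf (proj H hd xd) = 5 := orderOf_proj H hd hx (by norm_num)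
  obtain ⟨ā, ē, hē, hā, hāe, hāz⟩ := five_local hq hqp hq22 hxo
  obtain ⟨b, hb, -, hbcl, -, -, -, h600⟩ := five_centralizer hq hqp hq22 hā hē hāe
  obtain ⟨h10, hall, -⟩ := five_fixed hq hqp hq22 hā hē fun i => (hāe i).2.2
  choose a ha hab using fun i => exists_lift (D := D) (d := d) (hā.mem i)
  have hac : ∀ i, a i ∈ Subgroup.centralizer ({d} : Set G) := fun i =>
    Subgroup.mem_centralizer_singleton_iff.2 (ha i).2.2.symm.eq
  have hA : MemberChain D a := by
    have nc : ∀ {i j}, ¬ Commute (ā i) (ā j) → ¬ Commute (a i) (a j) := fun {i j} hn hc => hn (by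
      rw [← hab i, ← hab j]; exact (bar_commute H (ha i) (ha j)).2 hc)
    have cc : ∀ {i j}, Commute (ā i) (ā j) → Commute (a i) (a j) := fun {i j} hc => by
      rw [← hab i, ← hab j] at hc; exact (bar_commute H (ha i) (ha j)).1 hc
    exact ⟨fun i => (ha i).1, nc hā.nc01, nc hā.nc12, nc hā.nc23, cc hā.c02, cc hā.c03, cc hā.c13⟩
  obtain ⟨-, hao, -⟩ := hA.five_props H.group
  have h5 : five a ∈ Subgroup.centralizer ({d} : Set G) :=
    mul_mem (mul_mem (mul_mem (hac 0) (hac 1)) (hac 2)) (hac 3)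
  have hp5 : proj H hd ⟨five a, h5⟩ = five ā := by
    rw [show (⟨five a, h5⟩ : ↥(Subgroup.centralizer ({d} : Set G))) =
      ⟨a 0, hac 0⟩ * ⟨a 1, hac 1⟩ * ⟨a 2, hac 2⟩ * ⟨a 3, hac 3⟩ from rfl, map_mul, map_mul, map_mul,
      proj_perp H hd (ha 0), proj_perp H hd (ha 1), proj_perp H hd (ha 2), proj_perp H hd (ha 3), hab, hab, hab,
      hab, five]
  have hzp : Subgroup.zpowers x = Subgroup.zpowers (five a) := by
    obtain ⟨i, hi⟩ := Subgroup.mem_zpowers_iff.1 (hāz ▸ Subgroup.mem_zpowers (proj H hd xd))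
    have h1 : x = five a ^ i := eq_of_proj_eq H hd (p := 5) (u := xd) (v := ⟨five a, h5⟩ ^ i)
      (hx ▸ pow_orderOf_eq_one x) (by
        push_cast
        rw [← zpow_natCast, ← zpow_mul, mul_comm, zpow_mul, zpow_natCast, ← hao, pow_orderOf_eq_one, one_zpow])
      (by norm_num) (by rw [map_zpow, hp5, hi]) |>.trans (Subgroup.coe_zpow _ _ i)
    exact Subgroup.eq_of_le_of_card_ge (Subgroup.zpowers_le.2 ⟨i, h1.symm⟩)
      (by rw [Nat.card_zpowers, Nat.card_zpowers, hx, hao])
  have hfix : ∀ {z}, ∀ hz : z ∈ perp D d, Commute z x ↔ Commute (bar hz) (five ā) := by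
    intro z hz
    rw [← hp5, commute_proj_bar H hd hz]
    constructor
    · intro hc
      obtain ⟨i, hi⟩ := Subgroup.mem_zpowers_iff.1 (hzp.symm ▸ Subgroup.mem_zpowers (five a))
      show Commute z (five a)
      rw [← hi]; exact hc.zpow_right i
    · intro hc
      obtain ⟨i, hi⟩ := Subgroup.mem_zpowers_iff.1 (hzp ▸ Subgroup.mem_zpowers x)
      rw [← hi]; exact (show Commute z (five a) from hc).zpow_right i
  have hF1 : {z : G | z ∈ perp D d ∧ Commute z x}.ncard = 10 := by
    rw [← h10]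
    exact ncard_bar H hd (fun z hz => hz.1) (fun q hq => hq.1) fun z hz =>
      ⟨fun h => ⟨bar_mem H hd hz, (hfix hz).1 h.2⟩, fun h => ⟨hz, (hfix hz).2 h.2⟩⟩
  have hcomm : ∀ z ∈ perp D d, Commute z x → ∀ i, Commute z (a i) := fun z hz hzx i =>
    (bar_commute H hz (ha i)).1 (by rw [hab]; exact hall _ (bar_mem H hd hz) ((hfix hz).1 hzx) i)
  -- the second chain
  choose b' hb' hbb using fun i => exists_lift (D := D) (d := d) (hb.mem i)
  have hbx : ∀ i, Commute (b' i) x := fun i => (hfix (hb' i)).2 (by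
    rw [hbb]
    have h1 : b i ∈ Subgroup.centralizer ({five ā} : Set (PerpQuot D d)) := by
      have hle : Subgroup.closure (img D d ∩ (Subgroup.centralizer ({five ā} : Set (PerpQuot D d)) :
          Set (PerpQuot D d))) ≤ Subgroup.centralizer ({five ā} : Set (PerpQuot D d)) :=
        (Subgroup.closure_le _).2 fun w hw => hw.2
      exact hle (hbcl ▸ Subgroup.subset_closure ⟨i, rfl⟩)
    exact Subgroup.mem_centralizer_singleton_iff.1 h1)
  have hB : MemberChain D b' := by
    have nc : ∀ {i j}, ¬ Commute (b i) (b j) → ¬ Commute (b' i) (b' j) := fun {i j} hn hc => hn (by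
      rw [← hbb i, ← hbb j]; exact (bar_commute H (hb' i) (hb' j)).2 hc)
    have cc : ∀ {i j}, Commute (b i) (b j) → Commute (b' i) (b' j) := fun {i j} hc => by
      rw [← hbb i, ← hbb j] at hc; exact (bar_commute H (hb' i) (hb' j)).1 hc
    exact ⟨fun i => (hb' i).1, nc hb.nc01, nc hb.nc12, nc hb.nc23, cc hb.c02, cc hb.c03, cc hb.c13⟩
  obtain ⟨φ, hφ, hφb, -, hφr⟩ := hB.exists_perm_hom H.group
  have hrange : ∀ σ, Commute (φ σ) d ∧ Commute (φ σ) x := by
    intro σ
    have h1 : φ σ ∈ Subgroup.closure (Set.range b') := hφr ▸ ⟨σ, rfl⟩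
    have hle : Subgroup.closure (Set.range b') ≤ Subgroup.centralizer ({d, x} : Set G) := by
      rw [Subgroup.closure_le]
      rintro _ ⟨i, rfl⟩
      rw [SetLike.mem_coe, Subgroup.mem_centralizer_iff]
      rintro w (rfl | rfl)
      exacts [(hb' i).2.2.eq, (hbx i).symm.eq]
    have h2 := Subgroup.mem_centralizer_iff.1 (hle h1)
    exact ⟨(h2 d (by simp)).symm, (h2 x (by simp)).symm⟩
  have hsub : Set.range (φ ∘ swapTen) ⊆ {z : G | z ∈ perp D d ∧ Commute z x} := by
    rintro _ ⟨k, rfl⟩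
    obtain ⟨σ, hσ⟩ := isConj_iff.1 (Equiv.Perm.isConj_swap (show (0 : Fin 5) ≠ 1 by decide)
      (show (pairTen k).1 ≠ (pairTen k).2 by revert k; decide +kernel))
    have he : φ (swapTen k) = φ σ * b' 0 * (φ σ)⁻¹ := by
      rw [← hφb 0, ← map_inv, ← map_mul, ← map_mul]
      exact congrArg φ hσ.symm
    refine ⟨⟨?_, fun h0 => (hb' 0).2.1 ?_, (hrange _).1.symm⟩, (hrange _).2⟩
    · show φ (swapTen k) ∈ D
      rw [he]; exact H.group.2.1 _ _ (hb' 0).1
    rw [Function.comp_apply, he, mul_inv_eq_iff_eq_mul, ← (hrange σ).1.eq] at h0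
    exact mul_left_cancel h0
  have heq : Set.range (φ ∘ swapTen) = {z : G | z ∈ perp D d ∧ Commute z x} := by
    refine Set.eq_of_subset_of_ncard_le hsub ?_ (Set.toFinite _)
    rw [hF1, Set.ncard_range_of_injective (hφ.comp swapTen_injective)]
    simp
  refine ⟨a, φ, hA, hzp, hφ, ha, fun z => ?_, hcomm, hF1, ?_⟩
  · constructor
    · intro hz
      obtain ⟨k, hk⟩ := (Set.ext_iff.1 heq z).2 hz
      exact ⟨k, hk.symm⟩
    · rintro ⟨k, rfl⟩
      exact hsub ⟨k, rfl⟩
  · rw [card_centralizer_pair_eq (p := 5) H hd (x := xd) hx (by norm_num)]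
    have : Subgroup.centralizer ({proj H hd xd} : Set (PerpQuot D d)) =
        Subgroup.centralizer ({five ā} : Set (PerpQuot D d)) := by
      rw [← Subgroup.centralizer_closure, ← Subgroup.centralizer_closure ({five ā} : Set (PerpQuot D d)),
        ← Subgroup.zpowers_eq_closure, ← Subgroup.zpowers_eq_closure, hāz]
    rw [this, h600]

/-- Subgroups of order five are conjugate. -/
theorem five_conj {x y : G} (hx : orderOf x = 5) (hy : orderOf y = 5) {d e : G} (hd : d ∈ D) (he : e ∈ D)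
    (hdx : Commute d x) (hey : Commute e y) :
    ∃ g : G, g * d * g⁻¹ = e ∧ (Subgroup.zpowers x).map (MulAut.conj g).toMonoidHom = Subgroup.zpowers y := by
  have : Fact (Nat.Prime 5) := ⟨by norm_num⟩
  obtain ⟨g, hg⟩ := H.prim.1 d hd e he
  have hx' : orderOf (g * x * g⁻¹) = 5 :=
    (orderOf_injective (MulAut.conj g).toMonoidHom (MulAut.conj g).injective x).trans hx
  have hgx : Commute (g * x * g⁻¹) e := by rw [← hg, commute_conj_iff']; exact hdx.symm
  set u : ↥(Subgroup.centralizer ({e} : Set G)) := ⟨_, Subgroup.mem_centralizer_singleton_iff.2 hgx.eq⟩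
  set v : ↥(Subgroup.centralizer ({e} : Set G)) := ⟨y, Subgroup.mem_centralizer_singleton_iff.2 hey.symm.eq⟩
  obtain ⟨q, hq⟩ := five_conj22 (quotGroup H.group e) (quotPrim H he) (quot22 H he)
    (orderOf_proj H he (x := u) hx' (by norm_num)) (orderOf_proj H he (x := v) hy (by norm_num))
  obtain ⟨k, hk, hkm⟩ := conj_of_proj H he (x := u) (y := v) hx' hy (by norm_num) hq
  refine ⟨k * g, ?_, ?_⟩
  · rw [show k * g * d * (k * g)⁻¹ = k * (g * d * g⁻¹) * k⁻¹ by group, hg, hk.eq, mul_inv_cancel_right]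
  · rw [MonoidHom.map_zpowers] at hkm ⊢
    rw [← hkm]
    congr 1
    simp [u, mul_assoc]

/-- The structure of the fixed members of an element of order five. -/
theorem exists_fiveData {x : G} (hx : orderOf x = 5) : Nonempty (FiveData D x) := by
  classical
  have := Fintype.ofFinite G
  have : Fact (Nat.Prime 5) := ⟨by norm_num⟩
  obtain ⟨d, hd, hdx⟩ := exists_fixed H (p := 5) hx (by norm_num)
  obtain ⟨a, φ, hA, hzp, hφ, had, hF1, hcomm, hF1c, hC1200⟩ := five_at H hx hd hdx
  set F : Set G := {z | z ∈ D ∧ Commute z x} with hF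
  set F1 : Set G := {z | z ∈ perp D d ∧ Commute z x} with hF1s
  set F2 : Set G := {z | z ∈ F ∧ ¬ Commute d z} with hF2s
  have hsplit : F = insert d F1 ∪ F2 := by
    ext z
    constructor
    · intro hz
      by_cases hc : Commute d z
      · by_cases hzd : z = d
        · exact Or.inl (Or.inl hzd)
        · exact Or.inl (Or.inr ⟨⟨hz.1, hzd, hc⟩, hz.2⟩)
      · exact Or.inr ⟨hz, hc⟩
    · rintro ((rfl | hz) | hz)
      exacts [⟨hd, hdx⟩, ⟨hz.1.1, hz.2⟩, hz.1]
  have hFcard : F.ncard = 11 + F2.ncard := by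
    rw [hsplit, Set.ncard_union_eq ?_ (Set.toFinite _) (Set.toFinite _),
      Set.ncard_insert_of_notMem (fun h0 => h0.1.2.1 rfl), hF1c]
    refine Set.disjoint_left.2 ?_
    rintro z (rfl | hz) hz'
    exacts [hz'.2 (Commute.refl _), hz'.2 hz.1.2.2]
  -- ten fixed neighbours everywhere
  have hnb : ∀ e ∈ F, {z | z ∈ perp D e ∧ Commute z x}.ncard = 10 := fun e he => by
    obtain ⟨-, -, -, -, -, -, -, -, h, -⟩ := five_at H hx he.1 he.2
    exact h
  have hsix : ∀ e ∈ F1, {f | f ∈ F2 ∧ Commute e f}.ncard = 6 := by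
    intro e he
    obtain ⟨k, hk⟩ := (hF1 e).1 he
    have h3 : {z | z ∈ F1 ∧ z ∈ perp D e}.ncard = 3 := by
      rw [show {z | z ∈ F1 ∧ z ∈ perp D e} = (φ ∘ swapTen) '' ↑(Finset.univ.filter fun l : Fin 10 =>
          l ≠ k ∧ swapTen l * swapTen k = swapTen k * swapTen l) from ?_,
        Set.ncard_image_of_injective _ (hφ.comp swapTen_injective), Set.ncard_coe_finset, swapTen_nbrs k]
      ext z
      constructor
      · rintro ⟨hz, hze⟩
        obtain ⟨l, rfl⟩ := (hF1 z).1 hz
        refine ⟨l, ?_, rfl⟩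
        simp only [Finset.coe_filter, Finset.mem_univ, true_and, Set.mem_setOf_eq]
        refine ⟨fun h0 => hze.2.1 (by rw [hk, h0]), hφ ?_⟩
        rw [map_mul, map_mul]
        exact (hk ▸ hze.2.2).symm.eq
      · rintro ⟨l, hl, rfl⟩
        simp only [Finset.coe_filter, Finset.mem_univ, true_and, Set.mem_setOf_eq] at hl
        have hl1 : φ (swapTen l) ∈ F1 := (hF1 _).2 ⟨l, rfl⟩
        refine ⟨hl1, hl1.1.1, fun h0 => hl.1 (swapTen_injective (hφ (h0.trans hk))), ?_⟩
        rw [hk]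
        exact ((show Commute (swapTen l) (swapTen k) from hl.2).map φ).symm
    have heF : e ∈ F := ⟨he.1.1, he.2⟩
    have hsp : {z | z ∈ perp D e ∧ Commute z x} =
        insert d {z | z ∈ F1 ∧ z ∈ perp D e} ∪ {f | f ∈ F2 ∧ Commute e f} := by
      ext z
      constructor
      · rintro ⟨hze, hzx⟩
        by_cases hc : Commute d z
        · by_cases hzd : z = d
          · exact Or.inl (Or.inl hzd)
          · exact Or.inl (Or.inr ⟨⟨⟨hze.1, hzd, hc⟩, hzx⟩, hze⟩)
        · exact Or.inr ⟨⟨⟨hze.1, hzx⟩, hc⟩, hze.2.2⟩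
      · rintro ((rfl | ⟨hz, hze⟩) | ⟨hz, hc⟩)
        · exact ⟨perp_symm hd he.1, hdx⟩
        · exact ⟨hze, hz.2⟩
        · exact ⟨⟨hz.1.1, fun h0 => hz.2 (h0 ▸ he.1.2.2), hc⟩, hz.1.2⟩
    have h10 := hnb e heF
    rw [hsp, Set.ncard_union_eq ?_ (Set.toFinite _) (Set.toFinite _),
      Set.ncard_insert_of_notMem (fun h0 => h0.1.1.2.1 rfl), h3] at h10
    · omega
    refine Set.disjoint_left.2 ?_
    rintro z (rfl | hz) hz'
    exacts [hz'.1.2 (Commute.refl _), hz'.1.2 hz.1.1.2.2]
  -- constancy on the fixed non-neighbours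
  set c : G → ℕ := fun f => {z | z ∈ F1 ∧ Commute z f}.ncard with hc
  have hcval : ∀ f ∈ F2, c f % 5 = 1 ∧ c f ≤ 10 := by
    intro f hf
    refine ⟨?_, hF1c ▸ Set.ncard_le_ncard (fun z hz => hz.1) (Set.toFinite _)⟩
    have h1 := ncard_fixed_common_mod H (p := 5) hx hd hf.1.1 hf.2 hdx hf.1.2
    rw [show {z : G | z ∈ perp D d ∩ perp D f ∧ Commute z x} = {z | z ∈ F1 ∧ Commute z f} from ?_] at h1
    · simpa [hc] using h1
    ext z
    constructor
    · exact fun hz => ⟨⟨hz.1.1, hz.2⟩, hz.1.2.2.2.symm⟩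
    · exact fun hz => ⟨⟨hz.1.1, hz.1.1.1, fun h0 => hf.2 (h0 ▸ hz.1.1.2.2), hz.2.symm⟩, hz.1.2⟩
  have hconst : ∀ f ∈ F2, ∀ f' ∈ F2, c f = c f' := by
    intro f hf f' hf'
    obtain ⟨g, g1, g2⟩ := M23.exists_conj_noncommute H hd hf.1.1 hf.2 hd hf'.1.1 hf'.2
    set S := Subgroup.centralizer ({d, f'} : Set G) with hS
    have hmS : ∀ {w : G}, w ∈ S ↔ Commute w d ∧ Commute w f' := fun {w} => by
      rw [hS, Subgroup.mem_centralizer_iff]
      refine ⟨fun hw => ⟨(hw d (by simp)).symm, (hw f' (by simp)).symm⟩, ?_⟩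
      rintro ⟨a, b⟩ w' (rfl | rfl)
      exacts [a.symm.eq, b.symm.eq]
    have hScard : Nat.card ↥S = 5 * 917070336 := by
      rw [hS, (Transpositions.TypeM23.mu_props H hd hf'.1.1 hf'.2).2.2]
    have hxS : x ∈ S := hmS.2 ⟨hdx.symm, hf'.1.2.symm⟩
    have hgx : g * x * g⁻¹ ∈ S := hmS.2
      ⟨by have := (commute_conj_iff' g x d).2 hdx.symm; rwa [g1] at this,
        by have := (commute_conj_iff' g x f).2 hf.1.2.symm; rwa [g2] at this⟩
    have o1 : Nat.card ↥(Subgroup.zpowers (⟨_, hgx⟩ : ↥S)) = 5 := by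
      rw [Nat.card_zpowers, ← Subgroup.orderOf_coe]
      exact (orderOf_injective (MulAut.conj g).toMonoidHom (MulAut.conj g).injective x).trans hx
    have o2 : Nat.card ↥(Subgroup.zpowers (⟨x, hxS⟩ : ↥S)) = 5 := by
      rw [Nat.card_zpowers, ← Subgroup.orderOf_coe]; exact hx
    obtain ⟨k, hk⟩ := (sylow_conj_count (p := 5) hScard (by norm_num) o1).1 _ o2
    have h1 := congrArg (Subgroup.map S.subtype) hk
    rw [MonoidHom.map_zpowers, MonoidHom.map_zpowers, MonoidHom.map_zpowers] at h1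
    set n := (k : G) * g with hn
    have hnX : Subgroup.zpowers (n * x * n⁻¹) = Subgroup.zpowers x := by
      have h2 : Subgroup.zpowers ((k : G) * (g * x * g⁻¹) * (k : G)⁻¹) = Subgroup.zpowers x := h1
      rwa [hn, show (k : G) * g * x * ((k : G) * g)⁻¹ = k * (g * x * g⁻¹) * (k : G)⁻¹ by group]
    have hnd : n * d * n⁻¹ = d := by
      rw [hn, show (k : G) * g * d * ((k : G) * g)⁻¹ = k * (g * d * g⁻¹) * (k : G)⁻¹ by group, g1,
        (hmS.1 k.2).1.eq, mul_inv_cancel_right]
    have hnf : n * f * n⁻¹ = f' := by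
      rw [hn, show (k : G) * g * f * ((k : G) * g)⁻¹ = k * (g * f * g⁻¹) * (k : G)⁻¹ by group, g2,
        (hmS.1 k.2).2.eq, mul_inv_cancel_right]
    have hfixiff : ∀ z, Commute (n * z * n⁻¹) x ↔ Commute z x := by
      intro z
      constructor
      · intro hz
        rw [← commute_conj_iff' n]
        obtain ⟨i, hi⟩ := Subgroup.mem_zpowers_iff.1 (hnX ▸ Subgroup.mem_zpowers (n * x * n⁻¹))
        rw [← hi]; exact hz.zpow_right i
      · intro hz
        obtain ⟨i, hi⟩ := Subgroup.mem_zpowers_iff.1 (hnX.symm ▸ Subgroup.mem_zpowers x)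
        rw [← hi]; exact ((commute_conj_iff' n z x).2 hz).zpow_right i
    have himg : (fun z => n * z * n⁻¹) '' {z | z ∈ F1 ∧ Commute z f} = {z | z ∈ F1 ∧ Commute z f'} := by
      ext w
      constructor
      · rintro ⟨z, ⟨⟨hz, hzx⟩, hzf⟩, rfl⟩
        refine ⟨⟨?_, (hfixiff z).2 hzx⟩, by rw [← hnf, commute_conj_iff']; exact hzf⟩
        exact ⟨H.group.2.1 n z hz.1, fun h0 => hz.2.1 (mul_left_cancel (mul_right_cancel (h0.trans hnd.symm))),
          by rw [← hnd, commute_conj_iff']; exact hz.2.2⟩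
      · rintro ⟨⟨hw, hwx⟩, hwf⟩
        refine ⟨n⁻¹ * w * n, ⟨⟨⟨?_, fun h0 => hw.2.1 ?_, ?_⟩, ?_⟩, ?_⟩, by group⟩
        · simpa using H.group.2.1 n⁻¹ w hw.1
        · rw [← hnd, ← h0]; group
        · rw [← commute_conj_iff' n, hnd]
          simpa [mul_assoc] using hw.2.2
        · rw [← hfixiff]
          simpa [mul_assoc] using hwx
        · rw [← commute_conj_iff' n, hnf]
          simpa [mul_assoc] using hwf
    show {z | z ∈ F1 ∧ Commute z f}.ncard = {z | z ∈ F1 ∧ Commute z f'}.ncard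
    rw [← himg, Set.ncard_image_of_injective _ (fun u v huv => mul_left_cancel (mul_right_cancel huv))]
  have hcount : ∑ f ∈ F2.toFinset, c f = 60 := by
    rw [← sum_ncard_comm F1 F2 Commute, Finset.sum_congr rfl fun e he => hsix e (Set.mem_toFinset.1 he),
      Finset.sum_const, ← Set.ncard_eq_toFinset_card', hF1c]
    rfl
  have hF2ne : F2.Nonempty := by
    by_contra hne
    rw [Set.not_nonempty_iff_eq_empty] at hne
    simp [hne] at hcount
  obtain ⟨f, hf⟩ := hF2ne
  rw [Finset.sum_congr rfl fun f' hf' => hconst f' (Set.mem_toFinset.1 hf') f hf, Finset.sum_const,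
    ← Set.ncard_eq_toFinset_card', smul_eq_mul] at hcount
  have hcf6 : c f = 6 ∧ F2.ncard = 10 := by
    obtain ⟨h1, h2⟩ := hcval f hf
    rcases (show c f = 1 ∨ c f = 6 by omega) with e | e
    · exfalso
      rw [e, mul_one] at hcount
      rw [hcount] at hFcard
      set N := Subgroup.normalizer ((Subgroup.zpowers x : Subgroup G) : Set G) with hN
      have hNx : ∀ n ∈ N, ∀ z, Commute z x → Commute (n * z * n⁻¹) x := by
        intro n hn z hz
        obtain ⟨i, hi⟩ := Subgroup.mem_zpowers_iff.1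
          ((Subgroup.mem_normalizer_iff.1 (inv_mem hn) x).1 (Subgroup.mem_zpowers x))
        have h2 : Commute z (n⁻¹ * x * n) := by
          rw [show n⁻¹ * x * n = x ^ i by rw [hi, inv_inv]]; exact hz.zpow_right i
        have h3 := (commute_conj_iff' n _ _).2 h2
        rwa [show n * (n⁻¹ * x * n) * n⁻¹ = x by group] at h3
      have horb := card_eq_ncard_mul_card (H := N) (K := N ⊓ Subgroup.centralizer ({d} : Set G)) inf_le_left
        (fun n => n * d * n⁻¹) (S := F) (fun n hn => ⟨H.group.2.1 n d hd, hNx n hn d hdx⟩)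
        (fun e' he' => by
          obtain ⟨w, w1, w2⟩ := five_conj H hx hx hd he'.1 hdx he'.2
          exact ⟨w, Subgroup.mem_normalizer_iff_map_conj_eq.2 w2, w1⟩)
        (fun n hn n' hn' => by
          rw [conj_eq_conj_iff, Subgroup.mem_inf, Subgroup.mem_centralizer_singleton_iff]
          exact ⟨fun h0 => ⟨mul_mem (inv_mem hn) hn', h0.eq⟩, fun h0 => h0.2⟩)
      rw [hFcard] at horb
      have hdvd : 71 ∣ Nat.card G := (Dvd.intro _ horb.symm).trans N.card_subgroup_dvd_card
      rw [Transpositions.TypeM23.card_group H] at hdvd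
      norm_num at hdvd
    · exact ⟨e, by rw [e] at hcount; omega⟩
  obtain ⟨hcf, hF2c⟩ := hcf6
  have hF21 : F.ncard = 21 := by omega
  -- all fixed members commute with the chain
  have hspread : ∀ z ∈ F2, ∀ i, Commute z (a i) := by
    intro z hz
    obtain ⟨e, he, hez⟩ : {w | w ∈ F1 ∧ Commute w z}.Nonempty := Set.nonempty_of_ncard_ne_zero (by
      show c z ≠ 0
      rw [hconst z hz f hf, hcf]; norm_num)
    have hea : ∀ i, Commute e (a i) := hcomm e he.1 he.2
    have hae : ∀ i, a i ∈ perp D e := by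
      intro i
      refine ⟨hA.mem i, fun h0 => ?_, hea i⟩
      fin_cases i <;> simp only [Fin.mk_zero, Fin.mk_one, Fin.zero_eta, Fin.reduceFinMk] at h0
      exacts [hA.nc01 (h0 ▸ hea 1), hA.nc12 (h0 ▸ hea 2), hA.nc23 (h0 ▸ hea 3), hA.nc23 (h0 ▸ hea 2).symm]
    have hde : d ∈ perp D e := perp_symm hd he.1
    have hze : z ∈ perp D e := ⟨hz.1.1, fun h0 => hz.2 (h0 ▸ he.1.2.2), hez⟩
    have hAq : MemberChain (img D e) fun i => bar (hae i) := by
      refine ⟨fun i => bar_mem H he.1.1 (hae i), ?_, ?_, ?_, ?_, ?_, ?_⟩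
      · exact fun h0 => hA.nc01 ((bar_commute H (hae 0) (hae 1)).1 h0)
      · exact fun h0 => hA.nc12 ((bar_commute H (hae 1) (hae 2)).1 h0)
      · exact fun h0 => hA.nc23 ((bar_commute H (hae 2) (hae 3)).1 h0)
      · exact (bar_commute H (hae 0) (hae 2)).2 hA.c02
      · exact (bar_commute H (hae 0) (hae 3)).2 hA.c03
      · exact (bar_commute H (hae 1) (hae 3)).2 hA.c13
    obtain ⟨-, hall, -⟩ := five_fixed (quotGroup H.group e) (quotPrim H he.1.1) (quot22 H he.1.1) hAq
      (bar_mem H he.1.1 hde) fun i => (bar_commute H hde (hae i)).2 (had i).2.2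
    refine fun i => (bar_commute H hze (hae i)).1 (hall _ (bar_mem H he.1.1 hze) ?_ i)
    obtain ⟨n, hn⟩ := Subgroup.mem_zpowers_iff.1 (hzp.symm ▸ Subgroup.mem_zpowers (five a))
    have h5 : five a ∈ Subgroup.centralizer ({e} : Set G) :=
      Subgroup.mem_centralizer_singleton_iff.2 (five_commute hea).symm.eq
    have e1 : proj H he.1.1 ⟨five a, h5⟩ = five fun i => bar (hae i) := rfl
    rw [← e1, commute_proj_bar H he.1.1 hze]
    show Commute z (five a)
    rw [← hn]; exact hz.1.2.zpow_right n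
  have hallF : ∀ z ∈ F, ∀ i, Commute z (a i) := by
    intro z hz
    rw [hsplit] at hz
    rcases hz with (rfl | hz) | hz
    exacts [fun i => (had i).2.2, hcomm z hz.1 hz.2, hspread z hz]
  -- the six-chain
  set T := Finset.univ.filter fun k : Fin 10 => Commute (φ (swapTen k)) f with hT
  have hTcard : T.card = 6 := by
    rw [← hcf, ← Set.ncard_coe_finset, ← Set.ncard_image_of_injective _ (hφ.comp swapTen_injective)]
    show _ = {z | z ∈ F1 ∧ Commute z f}.ncard
    congr 1
    ext z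
    constructor
    · rintro ⟨k, hk, rfl⟩
      simp only [hT, Finset.coe_filter, Finset.mem_univ, true_and, Set.mem_setOf_eq] at hk
      exact ⟨(hF1 _).2 ⟨k, rfl⟩, hk⟩
    · rintro ⟨hz, hzf⟩
      obtain ⟨k, rfl⟩ := (hF1 z).1 hz
      exact ⟨k, by simpa [hT] using hzf, rfl⟩
  obtain ⟨i₀, hi₀⟩ := six_closed_star T (Finset.mem_powersetCard.2 ⟨Finset.subset_univ _, hTcard⟩) (by
    intro k hk l hl
    simp only [hT, Finset.mem_filter, Finset.mem_univ, true_and] at hk hl ⊢
    rw [← swapTen_conj, map_mul, map_mul]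
    exact (hk.mul_left hl).mul_left hk)
  set π : Equiv.Perm (Fin 5) := Equiv.swap 4 i₀ with hπ
  set t : Fin 4 → G := fun j => φ (Equiv.swap (π j.castSucc) (π j.succ)) with ht
  have hπne : ∀ j : Fin 4, π j.castSucc ≠ π j.succ := fun j h0 => Fin.castSucc_lt_succ.ne (π.injective h0)
  have htF : ∀ j, t j ∈ F1 ∧ (Commute (t j) f ↔ (π j.castSucc ≠ i₀ ∧ π j.succ ≠ i₀)) := by
    intro j
    obtain ⟨k, hk⟩ := swapTen_surj _ _ (hπne j)
    refine ⟨(hF1 _).2 ⟨k, by rw [ht, hk]⟩, ?_⟩
    rw [← swapTen_fix k _ _ (hπne j) hk, ← hi₀ k, hT, Finset.mem_filter, and_iff_right (Finset.mem_univ _), hk, ht]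
  have hπ4 : π 4 = i₀ := Equiv.swap_apply_left _ _
  have hne4 : ∀ m : Fin 5, m ≠ 4 → π m ≠ i₀ := fun m hm h0 => hm (π.injective (h0.trans hπ4.symm))
  have tc : ∀ i j : Fin 4, Commute (Equiv.swap i.castSucc i.succ) (Equiv.swap j.castSucc j.succ) →
      Commute (t i) (t j) := by
    intro i j hij
    have h1 := ((commute_conj_iff' π _ _).2 hij).map φ
    rwa [show π * Equiv.swap i.castSucc i.succ * π⁻¹ = Equiv.swap (π i.castSucc) (π i.succ) from
        (Equiv.swap_apply_apply π _ _).symm,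
      show π * Equiv.swap j.castSucc j.succ * π⁻¹ = Equiv.swap (π j.castSucc) (π j.succ) from
        (Equiv.swap_apply_apply π _ _).symm] at h1
  have tn : ∀ i j : Fin 4, ¬ Commute (Equiv.swap i.castSucc i.succ) (Equiv.swap j.castSucc j.succ) →
      ¬ Commute (t i) (t j) := by
    intro i j hij hh
    refine hij ((commute_conj_iff' π _ _).1 ?_)
    rw [show π * Equiv.swap i.castSucc i.succ * π⁻¹ = Equiv.swap (π i.castSucc) (π i.succ) from
        (Equiv.swap_apply_apply π _ _).symm,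
      show π * Equiv.swap j.castSucc j.succ * π⁻¹ = Equiv.swap (π j.castSucc) (π j.succ) from
        (Equiv.swap_apply_apply π _ _).symm]
    refine hφ ?_
    rw [map_mul, map_mul]
    exact hh.eq
  have tdc : ∀ j, Commute (t j) d := fun j => (htF j).1.1.2.2.symm
  have t3f : ¬ Commute (t 3) f := fun h0 => ((htF 3).2.1 h0).2 hπ4
  have tfc : ∀ j : Fin 4, j ≠ 3 → Commute (t j) f := by
    intro j hj
    refine (htF j).2.2 ⟨hne4 _ ?_, hne4 _ ?_⟩
    · exact (Fin.castSucc_lt_last j).ne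
    · intro h0; exact hj (Fin.succ_injective _ (h0.trans (rfl : (4 : Fin 5) = Fin.succ (3 : Fin 4))))
  let u : ℕ → G := fun i => if hi : i < 4 then t ⟨i, hi⟩ else if i = 4 then f else if i = 5 then d else 1
  have e0 : u 0 = t 0 := rfl
  have e1 : u 1 = t 1 := rfl
  have e2 : u 2 = t 2 := rfl
  have e3 : u 3 = t 3 := rfl
  have e4 : u 4 = f := rfl
  have e5 : u 5 = d := rfl
  have hu : ∀ i < 6, u i ∈ F := by
    intro i hi
    interval_cases i
    exacts [⟨(htF _).1.1.1, (htF _).1.2⟩, ⟨(htF _).1.1.1, (htF _).1.2⟩, ⟨(htF _).1.1.1, (htF _).1.2⟩,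
      ⟨(htF _).1.1.1, (htF _).1.2⟩, hf.1, ⟨hd, hdx⟩]
  have ut : CfsgLib.CoxeterSym.IsSymGens 6 u := by
    refine ⟨fun i hi => mul_self H.group.1 (hu i hi).1, fun i hi => ?_, fun i j hij hj => ?_⟩
    · refine braid H.group.1 (hu i (by omega)).1 (hu (i + 1) hi).1 ?_
      have hi5 : i < 5 := by omega
      interval_cases i
      · exact tn 0 1 (fun hc => absurd hc.eq (by decide))
      · exact tn 1 2 (fun hc => absurd hc.eq (by decide))
      · exact tn 2 3 (fun hc => absurd hc.eq (by decide))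
      · exact t3f
      · exact fun h0 => hf.2 h0.symm
    · have hj6 : j < 6 := hj
      have hi4 : i < 4 := by omega
      interval_cases i <;> interval_cases j <;>
        first
          | omega
          | exact (tc _ _ (show _ * _ = _ * _ by decide)).eq
          | exact (tfc _ (by decide)).eq
          | exact (tdc _).eq
  obtain ⟨ψ, hψ⟩ := CfsgLib.CoxeterSym.exists_hom ut
  have hψu : ∀ i : Fin 6, ψ (Equiv.swap i.castSucc i.succ) = u i := fun i => hψ i
  have hψinj : Function.Injective ψ := by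
    rw [← MonoidHom.ker_eq_bot_iff]
    by_contra hne
    have hle := Equiv.Perm.alternatingGroup_le_of_normal (N := ψ.ker) (by simp)
      ((Subgroup.nontrivial_iff_ne_bot _).2 hne)
    have hm : Equiv.swap (Fin.castSucc (4 : Fin 6)) (4 : Fin 6).succ *
        Equiv.swap (Fin.castSucc (5 : Fin 6)) (5 : Fin 6).succ ∈ alternatingGroup (Fin 7) := by
      rw [Equiv.Perm.mem_alternatingGroup]; decide
    have h1 := hle hm
    rw [MonoidHom.mem_ker, map_mul, hψu, hψu, mul_eq_one_iff_eq_inv] at h1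
    change f = d⁻¹ at h1
    rw [inv_eq H.group.1 hd] at h1
    exact hf.2 (h1 ▸ Commute.refl _)
  have hrle : ∀ S : Subgroup G, (∀ i < 6, u i ∈ S) → ψ.range ≤ S := by
    intro S hS
    have htop : Subgroup.closure (Set.range fun i : Fin 6 => Equiv.swap i.castSucc i.succ) = ⊤ := by
      refine (Subgroup.eq_top_iff' _).2 fun w => ?_
      have hw : w ∈ Submonoid.closure (Set.range fun i : Fin 6 => Equiv.swap i.castSucc i.succ) :=
        Equiv.Perm.mclosure_swap_castSucc_succ 6 ▸ trivial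
      exact Submonoid.closure_le.2 Subgroup.subset_closure hw
    rw [MonoidHom.range_eq_map, ← htop, MonoidHom.map_closure, Subgroup.closure_le]
    rintro _ ⟨_, ⟨i, rfl⟩, rfl⟩
    show ψ (Equiv.swap i.castSucc i.succ) ∈ S
    rw [hψu]
    exact hS i i.2
  have hra : ∀ σ i, Commute (ψ σ) (a i) := fun σ i => Subgroup.mem_centralizer_singleton_iff.1
    (hrle (Subgroup.centralizer ({a i} : Set G))
      (fun j hj => Subgroup.mem_centralizer_singleton_iff.2 (hallF _ (hu j hj) i).eq) ⟨σ, rfl⟩)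
  have hrx : ∀ σ, Commute (ψ σ) x := fun σ => Subgroup.mem_centralizer_singleton_iff.1
    (hrle (Subgroup.centralizer ({x} : Set G))
      (fun j hj => Subgroup.mem_centralizer_singleton_iff.2 (hu j hj).2.eq) ⟨σ, rfl⟩)
  have himg : (fun p : Fin 7 × Fin 7 => ψ (Equiv.swap p.1 p.2)) '' ↑(Finset.univ.filter fun p : Fin 7 × Fin 7 =>
      p.1 < p.2) = F := by
    refine Set.eq_of_subset_of_ncard_le ?_ ?_ (Set.toFinite _)
    · rintro _ ⟨p, hp, rfl⟩
      simp only [Finset.coe_filter, Finset.mem_univ, true_and, Set.mem_setOf_eq] at hp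
      obtain ⟨σ, hσ⟩ := isConj_iff.1 (Equiv.Perm.isConj_swap (show (0 : Fin 7) ≠ 1 by decide) hp.ne)
      refine ⟨?_, hrx _⟩
      show ψ (Equiv.swap p.1 p.2) ∈ D
      rw [← hσ, map_mul, map_mul, map_inv]
      exact H.group.2.1 _ _ (by rw [show ψ (Equiv.swap 0 1) = u 0 from hψu 0]; exact (hu 0 (by norm_num)).1)
    · rw [hF21, Set.InjOn.ncard_image ?_, Set.ncard_coe_finset, card_pairSeven]
      intro p hp q hq he
      simp only [Finset.coe_filter, Finset.mem_univ, true_and, Set.mem_setOf_eq] at hp hq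
      exact swapSeven_injOn p q hp hq (hψinj he)
  have hmem : ∀ z, z ∈ D ∧ Commute z x ↔ ∃ i j : Fin 7, i ≠ j ∧ z = ψ (Equiv.swap i j) := by
    intro z
    show z ∈ F ↔ _
    constructor
    · intro hz
      rw [← himg] at hz
      obtain ⟨p, hp, rfl⟩ := hz
      simp only [Finset.coe_filter, Finset.mem_univ, true_and, Set.mem_setOf_eq] at hp
      exact ⟨p.1, p.2, hp.ne, rfl⟩
    · rintro ⟨i, j, hij, rfl⟩
      rw [← himg]
      rcases lt_or_gt_of_ne hij with h0 | h0
      · exact ⟨(i, j), by simpa using h0, rfl⟩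
      · exact ⟨(j, i), by simpa using h0, by rw [Equiv.swap_comm]⟩
  have hrange : ψ.range = Subgroup.closure F := by
    refine le_antisymm (hrle _ fun i hi => Subgroup.subset_closure (hu i hi)) ((Subgroup.closure_le _).2 ?_)
    intro z hz
    obtain ⟨i, j, -, rfl⟩ := (hmem z).1 hz
    exact ⟨_, rfl⟩
  -- the centralizer
  obtain ⟨-, hao, ha0⟩ := hA.five_props H.group
  have hdisj : Subgroup.zpowers x ⊓ ψ.range = ⊥ := by
    rw [Subgroup.eq_bot_iff_forall]
    intro z hz
    obtain ⟨hzx, σ, rfl⟩ := Subgroup.mem_inf.1 hz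
    rw [hzp] at hzx
    by_contra h1
    refine ha0 ?_
    have htop : Subgroup.zpowers (five a) ≤ Subgroup.zpowers (ψ σ) := by
      refine ge_of_eq (Subgroup.eq_of_le_of_card_ge (Subgroup.zpowers_le.2 hzx) ?_)
      rw [Nat.card_zpowers, Nat.card_zpowers, hao]
      rcases (Nat.dvd_prime (by norm_num : Nat.Prime 5)).1
        (hao ▸ Nat.card_zpowers (five a) ▸ Subgroup.orderOf_dvd_natCard _ hzx) with h2 | h2
      · exact absurd (orderOf_eq_one_iff.1 h2) h1
      · rw [h2]
    obtain ⟨i, hi⟩ := Subgroup.mem_zpowers_iff.1 (htop (Subgroup.mem_zpowers _))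
    rw [← hi]
    exact (hra σ 0).zpow_left i
  set Cx := Subgroup.centralizer ({x} : Set G) with hCx
  have hle : Subgroup.zpowers x ⊔ ψ.range ≤ Cx := by
    refine sup_le (Subgroup.zpowers_le.2 (Subgroup.mem_centralizer_singleton_iff.2 rfl)) ?_
    rintro _ ⟨σ, rfl⟩
    exact Subgroup.mem_centralizer_singleton_iff.2 (hrx σ).eq
  have hup : Nat.card ↥Cx ≤ 25200 := by
    rw [card_eq_ncard_mul_card (H := Cx) (K := Subgroup.centralizer ({x, d} : Set G))
      (Subgroup.centralizer_le (by simp)) (fun k => k * d * k⁻¹) (S := (fun k => k * d * k⁻¹) '' (Cx : Set G))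
      (fun k hk => ⟨k, hk, rfl⟩) (fun z hz => hz) fun k hk l hl => by
        rw [conj_eq_conj_iff, Subgroup.mem_centralizer_iff]
        refine ⟨fun hc => ?_, fun hc => (hc d (by simp)).symm⟩
        rintro w (rfl | rfl)
        · exact (Subgroup.mem_centralizer_singleton_iff.1 (mul_mem (inv_mem hk) hl)).symm
        · exact hc.symm, hC1200]
    refine le_trans (Nat.mul_le_mul_right _ ?_) (le_of_eq (rfl : 21 * 1200 = 25200))
    rw [← hF21]
    refine Set.ncard_le_ncard ?_ (Set.toFinite _)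
    rintro _ ⟨k, hk, rfl⟩
    refine ⟨H.group.2.1 k d hd, ?_⟩
    have h1 := (commute_conj_iff' k d x).2 hdx
    rwa [show k * x * k⁻¹ = x by rw [Subgroup.mem_centralizer_singleton_iff.1 hk, mul_inv_cancel_right]] at h1
  have hlow : 25200 ≤ Nat.card ↥(Subgroup.zpowers x ⊔ ψ.range) := by
    have hr : Nat.card ↥ψ.range = 5040 := by
      rw [← Nat.card_congr (MonoidHom.ofInjective hψinj).toEquiv, Nat.card_perm, Nat.card_eq_fintype_card]
      rfl
    have hinj : Function.Injective fun q : ↥(Subgroup.zpowers x) × ↥ψ.range =>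
        (⟨q.1.1 * q.2.1, Subgroup.mul_mem_sup q.1.2 q.2.2⟩ : ↥(Subgroup.zpowers x ⊔ ψ.range)) := by
      intro q q' hq
      have h1 : q.1.1 * q.2.1 = q'.1.1 * q'.2.1 := congrArg Subtype.val hq
      obtain ⟨e1, e2⟩ := Prod.mk.inj
        ((Subgroup.disjoint_iff_mul_eq_one.1 (disjoint_iff.2 hdisj)) |> fun hh => by
          have h2 : (q'.1.1⁻¹ * q.1.1) * (q.2.1 * q'.2.1⁻¹) = 1 := by
            rw [show q'.1.1⁻¹ * q.1.1 * (q.2.1 * q'.2.1⁻¹) = q'.1.1⁻¹ * (q.1.1 * q.2.1) * q'.2.1⁻¹ by group, h1]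
            group
          obtain ⟨a1, a2⟩ := hh (mul_mem (inv_mem q'.1.2) q.1.2) (mul_mem q.2.2 (inv_mem q'.2.2)) h2
          exact (show ((q.1.1, q.2.1) : G × G) = (q'.1.1, q'.2.1) from
            Prod.ext (inv_mul_eq_one.1 a1).symm (mul_inv_eq_one.1 a2)))
      exact Prod.ext (Subtype.ext e1) (Subtype.ext e2)
    have := Nat.card_le_card_of_injective _ hinj
    rwa [Nat.card_prod, Nat.card_zpowers, hx, hr] at this
  have := Subgroup.card_le_of_le hle
  exact ⟨{ a := a, ψ := ψ, chain := hA, zpow := hzp, inj := hψinj, mem := hmem, range := hrange, comm := hra,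
           disj := hdisj, cent := (Subgroup.eq_of_le_of_card_ge hle (show Nat.card ↥Cx ≤ _ by omega)).symm,
           card := show Nat.card ↥Cx = 25200 by omega }⟩

end M23

end CfsgLib.FischerTypes
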