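import Cfsg.Agent.FischerTypes.M23Local
import Cfsg.Agent.Transpositions.Primitive

/-!
# The commuting graph in type M(23)

For non-commuting members `d`, `y` the common neighbours form a connected set meeting the perp of every
member of `D_y` not commuting with `d`; `d` lies in `⟨D_d⟩` and only `1`, `d` centralize `d` and `D_d`.
-/

set_option autoImplicit false
set_option linter.style.haveILetI false
set_option maxHeartbeats 400000

namespace CfsgLib.FischerTypes.M23

open Cfsg

variable {G : Type*} [Group G] [Finite G] {D : Set G} (HH : Hyp G D) {d : G} (hd : d ∈ D)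

include HH hd

/-- A common neighbour of two non-commuting members commutes with 126 others. -/
theorem ncard_common_perp {y : G} (hy : y ∈ D) (hdy : ¬ Commute d y) {x : G} (hxd : x ∈ perp D d)
    (hxy : x ∈ perp D y) : (perp D d ∩ perp D y ∩ perp D x).ncard = 126 := by
  rw [Set.inter_comm]
  exact ncard_perp_not_commute HH hxd.1 (perp_symm hd hxd) (perp_symm hy hxy) hdy

/-- The counting inequality for a union `K` of components of `D_d ∩ D_y` and a set `Z` without neighbours
in `K`. -/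
theorem component_bound (K Z : Finset G)
    (hK : ∀ q ∈ K, q ∈ perp D d) (hdeg : ∀ q ∈ K, ((K : Set G) ∩ perp D q).ncard = 126)
    (hne : K.Nonempty) (hZ : ∀ p ∈ Z, p ∈ perp D d ∧ p ∉ K ∧ ∀ q ∈ K, q ∉ perp D p) :
    5103 * (K.card : ℤ) ≤ (3510 - K.card - Z.card) * (2 * (K.card : ℤ) - 135) := by
  classical
  have := Fintype.ofFinite G
  set P : Finset G := Finset.univ.filter (fun p => p ∈ perp D d) with hP
  have hPcard : P.card = 3510 := by
    rw [← ncard_perp HH hd, Set.ncard_eq_toFinset_card']; congr 1; ext z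
    simp only [hP, Set.mem_toFinset, Finset.mem_filter, Finset.mem_univ, true_and]
  set r : G → G → ℕ := fun p q => if q ∈ perp D p then 1 else 0 with hr
  set f : G → ℕ := fun p => ∑ q ∈ K, r p q with hf
  have hsymm : ∀ {p q}, p ∈ perp D d → q ∈ perp D p → p ∈ perp D q := fun hp hq => perp_symm hp.1 hq
  -- first moment
  have h1 : ∑ p ∈ P, f p = 693 * K.card := by
    simp only [hf]
    rw [Finset.sum_comm, Finset.sum_eq_card_nsmul (b := 693), smul_eq_mul, mul_comm]
    intro q hq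
    simp only [hr, Finset.sum_boole, Nat.cast_id]
    rw [← ncard_perp_perp HH hd (hK q hq), Set.ncard_eq_toFinset_card']
    congr 1
    ext p
    simp only [hP, Finset.mem_filter, Finset.mem_univ, true_and, Set.mem_toFinset, Set.mem_inter_iff]
    exact ⟨fun ⟨hp, hq'⟩ => ⟨hp, hsymm hp hq'⟩, fun ⟨hp, hp'⟩ => ⟨hp, perp_symm (hK q hq).1 hp'⟩⟩
  -- second moment
  have h2 : (∑ p ∈ P, (f p : ℤ) ^ 2) = (K.card : ℤ) * (126 * (K.card : ℤ) + 7371) := by
    have e : ∀ p, (f p : ℤ) ^ 2 = ∑ q ∈ K, ∑ q' ∈ K, ((r p q * r p q' : ℕ) : ℤ) := fun p => by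
      simp only [hf]; push_cast; rw [pow_two, Finset.sum_mul_sum]
    simp only [e]
    rw [Finset.sum_comm, Finset.sum_eq_card_nsmul (b := 126 * (K.card : ℤ) + 7371)]
    · rw [nsmul_eq_mul]
    intro q hq
    rw [Finset.sum_comm]
    have hcommon : ∀ q' ∈ K, (∑ p ∈ P, ((r p q * r p q' : ℕ) : ℤ)) =
        if q' = q then 693 else if q' ∈ perp D q then 180 else 126 := by
      intro q' hq'
      have e2 : ∀ p, ((r p q * r p q' : ℕ) : ℤ) = if q ∈ perp D p ∧ q' ∈ perp D p then 1 else 0 := fun p => by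
        simp only [hr]
        by_cases ha : q ∈ perp D p
        · by_cases hb : q' ∈ perp D p
          · rw [if_pos ha, if_pos hb, if_pos ⟨ha, hb⟩]; rfl
          · rw [if_pos ha, if_neg hb, if_neg (fun hh => hb hh.2)]; rfl
        · rw [if_neg ha, if_neg (show ¬ (q ∈ perp D p ∧ q' ∈ perp D p) from fun hh => ha hh.1), zero_mul]; rfl
      simp only [e2, Finset.sum_boole]
      have e3 : (P.filter fun p => q ∈ perp D p ∧ q' ∈ perp D p).card =
          (perp D d ∩ (perp D q ∩ perp D q')).ncard := by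
        rw [Set.ncard_eq_toFinset_card']
        congr 1
        ext p
        simp only [hP, Finset.mem_filter, Finset.mem_univ, true_and, Set.mem_toFinset, Set.mem_inter_iff]
        exact ⟨fun ⟨hp, ha, hb⟩ => ⟨hp, hsymm hp ha, hsymm hp hb⟩,
          fun ⟨hp, ha, hb⟩ => ⟨hp, perp_symm (hK q hq).1 ha, perp_symm (hK q' hq').1 hb⟩⟩
      rw [e3]
      split_ifs with ha hb
      · rw [ha, Set.inter_self, ncard_perp_perp HH hd (hK q hq)]; rfl
      · rw [ncard_perp_commute HH hd (hK q hq) (hK q' hq') (Ne.symm ha) hb.2.2]; rfl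
      · rw [ncard_perp_not_commute HH hd (hK q hq) (hK q' hq') fun hc => hb ⟨(hK q' hq').1, ha, hc⟩]; rfl
    rw [Finset.sum_congr rfl hcommon]
    have e4 : ∀ q' ∈ K, (if q' = q then (693 : ℤ) else if q' ∈ perp D q then 180 else 126) =
        126 + (if q' = q then 567 else 0) + (if q' ∈ perp D q then 54 else 0) := by
      intro q' _
      by_cases ha : q' = q
      · subst ha; simp
      · simp only [if_neg ha]; split_ifs <;> norm_num
    rw [Finset.sum_congr rfl e4, Finset.sum_add_distrib, Finset.sum_add_distrib, Finset.sum_const,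
      Finset.sum_ite_eq' K q, if_pos hq, nsmul_eq_mul,
      ← Finset.sum_filter (s := K) (fun q' => q' ∈ perp D q) (fun _ => (54 : ℤ)), Finset.sum_const, nsmul_eq_mul]
    have e5 : (K.filter fun q' => q' ∈ perp D q).card = 126 := by
      rw [← hdeg q hq, Set.ncard_eq_toFinset_card']
      congr 1; ext z; simp only [Set.mem_toFinset, Finset.mem_filter, Set.mem_inter_iff, Finset.mem_coe]
    rw [e5]; push_cast; ring
  -- values on `K` and `Z`
  have hKP : K ⊆ P := fun q hq => Finset.mem_filter.2 ⟨Finset.mem_univ _, hK q hq⟩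
  have hfK : ∀ p ∈ K, f p = 126 := fun p hp => by
    simp only [hf, hr, Finset.sum_boole, Nat.cast_id]
    rw [← hdeg p hp, Set.ncard_eq_toFinset_card']
    congr 1; ext z; simp only [Set.mem_toFinset, Finset.mem_filter, Set.mem_inter_iff, Finset.mem_coe]
  set O := P \ K with hO
  have hZO : Z ⊆ O := fun p hp => Finset.mem_sdiff.2
    ⟨Finset.mem_filter.2 ⟨Finset.mem_univ _, (hZ p hp).1⟩, (hZ p hp).2.1⟩
  have hfZ : ∀ p ∈ Z, f p = 0 := fun p hp => Finset.sum_eq_zero fun q hq => if_neg ((hZ p hp).2.2 q hq)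
  have s1 : (∑ p ∈ O \ Z, (f p : ℤ)) = 567 * K.card := by
    have a1 := Finset.sum_sdiff (f := fun p => (f p : ℤ)) hKP
    have a2 := Finset.sum_sdiff (f := fun p => (f p : ℤ)) hZO
    rw [Finset.sum_congr (s₁ := K) rfl (fun p hp => show (f p : ℤ) = 126 by rw [hfK p hp]; rfl), Finset.sum_const,
      nsmul_eq_mul, ← hO] at a1
    rw [Finset.sum_congr (s₁ := Z) rfl (fun p hp => show (f p : ℤ) = 0 by rw [hfZ p hp]; rfl), Finset.sum_const,
      smul_zero, add_zero] at a2
    have a3 : (∑ p ∈ P, (f p : ℤ)) = 693 * K.card := by exact_mod_cast h1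
    linarith
  have s2 : (∑ p ∈ O \ Z, (f p : ℤ) ^ 2) = (K.card : ℤ) * (126 * K.card - 8505) := by
    have a1 := Finset.sum_sdiff (f := fun p => (f p : ℤ) ^ 2) hKP
    have a2 := Finset.sum_sdiff (f := fun p => (f p : ℤ) ^ 2) hZO
    rw [Finset.sum_congr (s₁ := K) rfl (fun p hp => show (f p : ℤ) ^ 2 = 15876 by rw [hfK p hp]; norm_num),
      Finset.sum_const, nsmul_eq_mul, ← hO] at a1
    rw [Finset.sum_congr (s₁ := Z) rfl (fun p hp => show (f p : ℤ) ^ 2 = 0 by rw [hfZ p hp]; rfl), Finset.sum_const,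
      smul_zero, add_zero] at a2
    linarith
  have hcard : ((O \ Z).card : ℤ) = 3510 - K.card - Z.card := by
    rw [Finset.cast_card_sdiff hZO, hO, Finset.cast_card_sdiff hKP, hPcard]
    norm_num
  have hcs := sq_sum_le_card_mul_sum_sq (s := O \ Z) (f := fun p => (f p : ℤ))
  rw [s1, s2, hcard] at hcs
  have hpos : (0 : ℤ) < K.card := by exact_mod_cast hne.card_pos
  have h3 : (K.card : ℤ) * (63 * (5103 * K.card)) ≤
      (K.card : ℤ) * (63 * ((3510 - K.card - Z.card) * (2 * (K.card : ℤ) - 135))) := by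
    linear_combination hcs
  exact le_of_mul_le_mul_left (le_of_mul_le_mul_left h3 hpos) (by norm_num)

/-- If `d`, `y` have a common neighbour then every member of `D_d` has a neighbour among these. -/
theorem exists_commute_common {y p : G} (hy : y ∈ D) (hdy : ¬ Commute d y)
    (hX : (perp D d ∩ perp D y).Nonempty) (hpd : p ∈ perp D d) (hpy : ¬ Commute y p) :
    ∃ q ∈ perp D d ∩ perp D y, q ∈ perp D p := by
  classical
  have := Fintype.ofFinite G
  by_contra hall
  push Not at hall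
  have h := HH.group
  set K : Finset G := (perp D d ∩ perp D y).toFinset with hK
  have hKm : ∀ {q}, q ∈ K ↔ q ∈ perp D d ∧ q ∈ perp D y :=
    fun {q} => Set.mem_toFinset
  have hnc : ∀ q ∈ K, ¬ Commute p q := fun q hq hc =>
    hall q ⟨(hKm.1 hq).1, (hKm.1 hq).2⟩ ⟨(hKm.1 hq).1.1, fun he => hpy (he ▸ (hKm.1 hq).2.2.2), hc⟩
  have hcd : ∀ q ∈ K, Commute q d ∧ Commute q y ∧ q ∈ D :=
    fun q hq => ⟨(hKm.1 hq).1.2.2.symm, (hKm.1 hq).2.2.2.symm, (hKm.1 hq).1.1⟩
  set Z : Finset G := K.image (fun q => q * p * q) with hZ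
  have hinj : Set.InjOn (fun q => q * p * q) (K : Set G) := by
    intro q hq q' hq' he
    simp only at he
    rw [braid h.1 (hcd q hq).2.2 hpd.1 (fun hc => hnc q hq hc.symm),
      braid h.1 (hcd q' hq').2.2 hpd.1 (fun hc => hnc q' hq' hc.symm)] at he
    exact mul_left_cancel (mul_right_cancel he)
  have hcard : Z.card = K.card := Finset.card_image_of_injOn hinj
  have hdeg : ∀ q ∈ K, ((K : Set G) ∩ perp D q).ncard = 126 := fun q hq => by
    rw [hK, Set.coe_toFinset]
    exact ncard_common_perp HH hd hy hdy (hKm.1 hq).1 (hKm.1 hq).2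
  have hZp : ∀ o ∈ Z, o ∈ perp D d ∧ o ∉ K ∧ ∀ q ∈ K, q ∉ perp D o := by
    intro o ho
    obtain ⟨q₀, hq₀, rfl⟩ := Finset.mem_image.1 ho
    obtain ⟨c1, c2, hqD⟩ := hcd q₀ hq₀
    have hi : q₀⁻¹ = q₀ := inv_eq h.1 hqD
    have hconj : ∀ a, Commute (q₀ * p * q₀) a ↔ Commute p (q₀ * a * q₀) := fun a => by
      have h1 := commute_conj_iff' q₀ (q₀ * p * q₀) a
      rw [hi, show q₀ * (q₀ * p * q₀) * q₀ = p by
        simp [mul_assoc, mul_self h.1 hqD, mul_self_cancel h.1 hqD]] at h1
      exact h1.symm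
    have hmem : q₀ * p * q₀ ∈ perp D d := by
      have h1 := conj_mem_perp h c1 hpd
      rwa [hi] at h1
    refine ⟨hmem, fun hK' => hpy ?_, fun q hq hqo => ?_⟩
    · have h1 := (hconj y).1 (hKm.1 hK').2.2.2.symm
      rw [c2.eq, mul_assoc, mul_self h.1 hqD, mul_one] at h1
      exact h1.symm
    · have hm : q₀ * q * q₀ ∈ K := by
        have h1 := conj_mem_perp h c1 (hKm.1 hq).1
        have h2 := conj_mem_perp h c2 (hKm.1 hq).2
        rw [hi] at h1 h2
        exact hKm.2 ⟨h1, h2⟩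
      exact hnc _ hm ((hconj q).1 hqo.2.2)
  have hb := component_bound HH hd K Z (fun q hq => (hKm.1 hq).1) hdeg (by rw [hK, Set.toFinset_nonempty]; exact hX) hZp
  rw [hcard] at hb
  nlinarith [sq_nonneg (4 * (K.card : ℤ) - 1094), sq_nonneg (2 * (K.card : ℤ) - 547)]

/-- Every two non-commuting members have a common neighbour. -/
theorem common_nonempty {y : G} (hy : y ∈ D) (hdy : ¬ Commute d y) :
    (perp D d ∩ perp D y).Nonempty := by
  obtain ⟨e, he⟩ : (perp D d).Nonempty := Set.nonempty_of_ncard_ne_zero (by rw [ncard_perp HH hd]; norm_num)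
  suffices key : ∀ z, Relation.ReflTransGen (Adj D) d z → ¬ Commute d z →
      (perp D d ∩ perp D z).Nonempty from key y (reach_of_primitive HH.group HH.prim hd he hy) hdy
  intro z hz
  induction hz with
  | refl => exact fun hc => absurd (Commute.refl _) hc
  | @tail b c _ hbc ih =>
    intro hdc
    by_cases hdb : Commute d b
    · have hbd : b ≠ d := fun he' => hdc (he' ▸ hbc.2.2.2)
      exact ⟨b, ⟨hbc.1, hbd, hdb⟩, perp_symm hbc.1 hbc.2⟩
    · have hX := ih hdb
      obtain ⟨q, hq, hqc⟩ := exists_commute_common HH hbc.1 hd (fun hh => hdb hh.symm)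
        (by rwa [Set.inter_comm]) hbc.2 hdc
      exact ⟨q, hq.2, hqc⟩

/-- The common neighbours of two non-commuting members are connected. -/
theorem common_connected {y : G} (hy : y ∈ D) (hdy : ¬ Commute d y) {x x' : G}
    (hx : x ∈ perp D d ∩ perp D y) (hx' : x' ∈ perp D d ∩ perp D y) :
    Relation.ReflTransGen (fun a b => b ∈ perp D d ∩ perp D y ∧ b ∈ perp D a) x x' := by
  classical
  have := Fintype.ofFinite G
  by_contra hall
  set R : G → G → Prop := fun a b => b ∈ perp D d ∩ perp D y ∧ b ∈ perp D a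
  have hsym : ∀ {a}, a ∈ perp D d ∩ perp D y → ∀ {b}, Relation.ReflTransGen R a b →
      b ∈ perp D d ∩ perp D y ∧ Relation.ReflTransGen R b a := by
    intro a ha b hab
    induction hab with
    | refl => exact ⟨ha, .refl⟩
    | @tail u v _ hr ih => exact ⟨hr.1, .head ⟨ih.1, perp_symm ih.1.1.1 hr.2⟩ ih.2⟩
  set X : Finset G := (perp D d ∩ perp D y).toFinset with hX
  set K₁ : Finset G := X.filter (fun z => Relation.ReflTransGen R x z) with hK₁
  set K₂ : Finset G := X.filter (fun z => ¬ Relation.ReflTransGen R x z) with hK₂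
  have hmX : ∀ {z}, z ∈ X ↔ z ∈ perp D d ∩ perp D y := fun {z} => Set.mem_toFinset
  have hdegX : ∀ q ∈ X, ((X : Set G) ∩ perp D q).ncard = 126 := fun q hq => by
    rw [hX, Set.coe_toFinset]
    exact ncard_common_perp HH hd hy hdy (hmX.1 hq).1 (hmX.1 hq).2
  have hdeg₁ : ∀ q ∈ K₁, ((K₁ : Set G) ∩ perp D q).ncard = 126 := fun q hq => by
    rw [hK₁, Finset.mem_filter] at hq
    rw [← hdegX q hq.1]
    congr 1
    ext z
    simp only [hK₁, Set.mem_inter_iff, Finset.coe_filter, Set.mem_ofPred_eq, Finset.mem_coe]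
    exact ⟨fun hz => ⟨hz.1.1, hz.2⟩, fun hz => ⟨⟨hz.1, hq.2.tail ⟨hmX.1 hz.1, hz.2⟩⟩, hz.2⟩⟩
  have hdeg₂ : ∀ q ∈ K₂, ((K₂ : Set G) ∩ perp D q).ncard = 126 := fun q hq => by
    rw [hK₂, Finset.mem_filter] at hq
    rw [← hdegX q hq.1]
    congr 1
    ext z
    simp only [hK₂, Set.mem_inter_iff, Finset.coe_filter, Set.mem_ofPred_eq, Finset.mem_coe]
    exact ⟨fun hz => ⟨hz.1.1, hz.2⟩, fun hz =>
      ⟨⟨hz.1, fun hh => hq.2 (hh.tail ⟨hmX.1 hq.1, perp_symm (hmX.1 hq.1).1.1 hz.2⟩)⟩, hz.2⟩⟩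
  have hd' : ∀ q ∈ X, q ∈ perp D d := fun q hq => (hmX.1 hq).1
  have b₁ := component_bound HH hd K₁ ∅ (fun q hq => hd' q (Finset.mem_filter.1 hq).1) hdeg₁
    ⟨x, Finset.mem_filter.2 ⟨hmX.2 hx, .refl⟩⟩ (fun p hp => absurd hp (Finset.notMem_empty p))
  have b₂ := component_bound HH hd K₂ ∅ (fun q hq => hd' q (Finset.mem_filter.1 hq).1) hdeg₂
    ⟨x', Finset.mem_filter.2 ⟨hmX.2 hx', hall⟩⟩ (fun p hp => absurd hp (Finset.notMem_empty p))
  have bX := component_bound HH hd X ∅ hd' hdegX ⟨x, hmX.2 hx⟩ (fun p hp => absurd hp (Finset.notMem_empty p))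
  have hsum : K₁.card + K₂.card = X.card :=
    Finset.card_filter_add_card_filter_not (s := X) (fun z => Relation.ReflTransGen R x z)
  simp only [Finset.card_empty, Nat.cast_zero, sub_zero] at b₁ b₂ bX
  have hs : (K₁.card : ℤ) + K₂.card = X.card := by exact_mod_cast hsum
  have l₁ : (351 : ℤ) ≤ K₁.card := by nlinarith
  have l₂ : (351 : ℤ) ≤ K₂.card := by nlinarith
  nlinarith

/-- `d`, `D_d` and one more member generate. -/
theorem closure_insert_eq_top {x : G} (hx : x ∈ D) (hdx : ¬ Commute d x) :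
    Subgroup.closure (insert x (insert d (perp D d))) = ⊤ := by
  obtain ⟨e, he⟩ : (perp D d).Nonempty := Set.nonempty_of_ncard_ne_zero (by rw [ncard_perp HH hd]; norm_num)
  have hw : ∃ a ∈ D, ∃ b ∈ D, a ≠ b ∧ Commute a b := ⟨d, hd, e, he.1, Ne.symm he.2.1, he.2.2⟩
  obtain ⟨-, hmax⟩ := CfsgLib.Transpositions.maximal_dSubgroup_of_primitive HH.group HH.prim hw hd
  set S := Subgroup.closure (insert x (insert d (perp D d))) with hS
  have hsub : insert x (insert d (perp D d)) ⊆ D := by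
    rintro z (rfl | rfl | hz)
    exacts [hx, hd, hz.1]
  have hDS : IsDSubgroup D S := by
    refine le_antisymm ((Subgroup.closure_le _).2 fun z hz => hz.2) ?_
    exact Subgroup.closure_mono fun z hz => ⟨hsub hz, Subgroup.subset_closure hz⟩
  have hle : Subgroup.closure {y : G | y ∈ D ∧ Commute d y} ≤ S := by
    refine Subgroup.closure_mono fun y hy => ?_
    by_cases hyd : y = d
    · exact Or.inr (Or.inl hyd)
    · exact Or.inr (Or.inr ⟨hy.1, hyd, hy.2⟩)
  refine (hmax S hDS hle).resolve_left fun he' => hdx ?_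
  have h1 : x ∈ Subgroup.closure {y : G | y ∈ D ∧ Commute d y} :=
    he' ▸ Subgroup.subset_closure (Set.mem_insert _ _)
  have h2 : Subgroup.closure {y : G | y ∈ D ∧ Commute d y} ≤ Subgroup.centralizer ({d} : Set G) :=
    (Subgroup.closure_le _).2 fun y hy => Subgroup.mem_centralizer_singleton_iff.2 hy.2.eq.symm
  exact (Subgroup.mem_centralizer_singleton_iff.1 (h2 h1)).symm

/-- The only elements centralizing `d` and `D_d` are `1` and `d`. -/
theorem eq_one_or_eq_of_centralize {w : G} (hwd : Commute w d) (hw : ∀ y ∈ perp D d, Commute w y) :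
    w = 1 ∨ w = d := by
  have h := HH.group
  obtain ⟨e, he⟩ : (perp D d).Nonempty := Set.nonempty_of_ncard_ne_zero (by rw [ncard_perp HH hd]; norm_num)
  have hde : d ∈ perp D e := perp_symm hd he
  obtain ⟨x, hx, hnc⟩ := noCentral HH he.1 d hde
  have fixed : ∀ w : G, Commute w d → (∀ y ∈ perp D d, Commute w y) → Commute w x → w = 1 := by
    intro w hwd hw hwx
    have hle : Subgroup.closure (insert x (insert d (perp D d))) ≤ Subgroup.centralizer ({w} : Set G) := by
      rw [Subgroup.closure_le]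
      rintro z (rfl | rfl | hz) <;> refine Subgroup.mem_centralizer_singleton_iff.2 ?_
      exacts [hwx.eq.symm, hwd.eq.symm, (hw z hz).eq.symm]
    rw [closure_insert_eq_top HH hd hx.1 hnc] at hle
    have hc : w ∈ Subgroup.center G := Subgroup.mem_center_iff.2 fun g =>
      Subgroup.mem_centralizer_singleton_iff.1 (hle (Subgroup.mem_top g))
    rwa [HH.type.1, Subgroup.mem_bot] at hc
  have hwe : Commute w e := hw e he
  have hx' : w * x * w⁻¹ ∈ perp D e := conj_mem_perp h hwe hx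
  have hnc' : ¬ Commute d (w * x * w⁻¹) := fun hc => hnc (by
    rw [show d = w * d * w⁻¹ by rw [hwd.eq]; group, commute_conj_iff'] at hc
    exact hc)
  have hG := quotGroup h e
  rcases line_property hG (quotPrim HH he.1) (quot22 HH he.1) (bar_mem HH he.1 hde) (bar_mem HH he.1 hx)
      (bar_mem HH he.1 hx') (fun h0 => hnc ((bar_commute HH hde hx).1 h0))
      (fun h0 => hnc' ((bar_commute HH hde hx').1 h0)) (by
    rintro p ⟨hpd, hpx⟩
    obtain ⟨z, hz, rfl⟩ := exists_lift hpd.1
    rw [mem_perp_bar HH he.1 hde hz] at hpd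
    rw [mem_perp_bar HH he.1 hx hz] at hpx
    rw [mem_perp_bar HH he.1 hx' hz]
    refine ⟨hz.1, fun h0 => hnc' (h0 ▸ hpd.2.2), ?_⟩
    have h1 := (commute_conj_iff' w x z).2 hpx.2.2
    rwa [show w * z * w⁻¹ = z by rw [(hw z hpd).eq, mul_inv_cancel_right]] at h1) with h1 | h1
  · left
    have hxx : w * x * w⁻¹ = x := bar_inj HH he.1 hx' hx h1
    exact fixed w hwd hw (mul_inv_eq_iff_eq_mul.1 hxx)
  · right
    have hdx : d * x * d ∈ perp D e := by
      have h2 := conj_mem_perp h (g := d) hde.2.2.symm hx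
      rwa [inv_eq h.1 hd] at h2
    have hxx : w * x * w⁻¹ = d * x * d := bar_inj HH he.1 hx' hdx (h1.trans rfl)
    have h3 : w * d = 1 := by
      refine fixed (w * d) (hwd.mul_left (Commute.refl d)) (fun y hy => (hw y hy).mul_left hy.2.2) ?_
      have h2 : d * (d * x * d) * d = x := by
        simp [mul_assoc, mul_self h.1 hd, mul_self_cancel h.1 hd]
      rw [← hxx] at h2
      have h4 : (w * d) * x * (w * d)⁻¹ = x := by
        rw [hwd.eq, _root_.mul_inv_rev, inv_eq h.1 hd]
        simpa [mul_assoc] using h2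
      exact mul_inv_eq_iff_eq_mul.1 h4
    rw [mul_eq_one_iff_eq_inv, inv_eq h.1 hd] at h3
    exact h3

/-- `d` lies in `⟨D_d⟩`: it is a product of six members of `D_d`. -/
theorem mem_closure_perp_self : d ∈ Subgroup.closure (perp D d) := by
  have h := HH.group
  obtain ⟨e, he⟩ : (perp D d).Nonempty := Set.nonempty_of_ncard_ne_zero (by rw [ncard_perp HH hd]; norm_num)
  obtain ⟨f, hfd, hfe⟩ : (perp D d ∩ perp D e).Nonempty :=
    Set.nonempty_of_ncard_ne_zero (by rw [ncard_perp_perp HH hd he]; norm_num)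
  obtain ⟨g, hgd, hge, hgf⟩ : (perp D d ∩ (perp D e ∩ perp D f)).Nonempty :=
    Set.nonempty_of_ncard_ne_zero (by
      rw [ncard_perp_commute HH hd he hfd (Ne.symm hfe.2.1) hfe.2.2]; norm_num)
  obtain ⟨a, b, c, hnd, hD, hc, heq, -⟩ := exists_six (quotGroup h d) (quotPrim HH hd) (quot22 HH hd)
    (bar_mem HH hd he) ((mem_perp_bar HH hd he hfd).2 hfe) ((mem_perp_bar HH hd he hgd).2 hge)
    (fun h0 => hgf.2.1 (bar_inj HH hd hfd hgd h0).symm) ((bar_commute HH hfd hgd).2 hgf.2.2)
  obtain ⟨a', ha, rfl⟩ := exists_lift (hD a (by simp))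
  obtain ⟨b', hb, rfl⟩ := exists_lift (hD b (by simp))
  obtain ⟨c', hc', rfl⟩ := exists_lift (hD c (by simp))
  set l : List G := [e, f, g, c', b', a'] with hl
  have hlm : ∀ z ∈ l, ∃ hz : z ∈ perp D d, bar hz ∈ [bar he, bar hfd, bar hgd, bar ha, bar hb, bar hc'] := by
    intro z hz
    simp only [hl, List.mem_cons, List.not_mem_nil, or_false] at hz
    rcases hz with rfl | rfl | rfl | rfl | rfl | rfl
    exacts [⟨he, by simp⟩, ⟨hfd, by simp⟩, ⟨hgd, by simp⟩, ⟨hc', by simp⟩, ⟨hb, by simp⟩, ⟨ha, by simp⟩]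
  have hinj : ∀ {u v : G} (hu : u ∈ perp D d) (hv : v ∈ perp D d), bar hu ≠ bar hv → u ≠ v :=
    fun hu hv hne huv => hne (by subst huv; rfl)
  simp only [List.nodup_cons, List.mem_cons, List.not_mem_nil, or_false, not_or, List.nodup_nil, and_true,
    not_false_eq_true] at hnd
  obtain ⟨⟨n1, n2, n3, n4, n5⟩, ⟨n6, n7, n8, n9⟩, ⟨n10, n11, n12⟩, ⟨n13, n14⟩, n15⟩ := hnd
  have hlnd : l.Nodup := by
    simp only [hl, List.nodup_cons, List.mem_cons, List.not_mem_nil, or_false, not_or, List.nodup_nil, and_true,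
      not_false_eq_true]
    exact ⟨⟨hinj he hfd n1, hinj he hgd n2, hinj he hc' n5, hinj he hb n4, hinj he ha n3⟩,
      ⟨hinj hfd hgd n6, hinj hfd hc' n9, hinj hfd hb n8, hinj hfd ha n7⟩,
      ⟨hinj hgd hc' n12, hinj hgd hb n11, hinj hgd ha n10⟩,
      ⟨hinj hc' hb (Ne.symm n15), hinj hc' ha (Ne.symm n14)⟩, hinj hb ha (Ne.symm n13)⟩
  have hcl : ∀ z ∈ l, z ∈ Subgroup.closure (perp D d) := fun z hz => mem_perp_closure (hlm z hz).1
  have hprod : l.prod ∈ Subgroup.closure (perp D d) := Subgroup.list_prod_mem _ hcl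
  have hcen : ∀ y ∈ perp D d, Commute l.prod y := by
    suffices h1 : (QuotientGroup.mk (⟨l.prod, hprod⟩ : ↥(Subgroup.closure (perp D d))) : PerpQuot D d) = 1 from
      mem_center_closure_iff.1 ((QuotientGroup.eq_one_iff _).1 h1)
    have e1 : (⟨l.prod, hprod⟩ : ↥(Subgroup.closure (perp D d))) =
        ⟨e, mem_perp_closure he⟩ * ⟨f, mem_perp_closure hfd⟩ * ⟨g, mem_perp_closure hgd⟩ *
          ⟨c', mem_perp_closure hc'⟩ * ⟨b', mem_perp_closure hb⟩ * ⟨a', mem_perp_closure ha⟩ :=
      Subtype.ext (by simp [hl, mul_assoc])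
    rw [e1]
    simp only [QuotientGroup.mk_mul]
    show bar he * bar hfd * bar hgd * bar hc' * bar hb * bar ha = 1
    have hEs := (quotGroup h d).1
    rw [heq]
    simp [mul_assoc, mul_self_cancel hEs (bar_mem HH hd hb), mul_self_cancel hEs (bar_mem HH hd hc'),
      mul_self hEs (bar_mem HH hd ha)]
  have hne1 : l.prod ≠ 1 := (noRel_of_M23 psu62Facts h HH.type).2 l hlnd rfl (fun z hz => (hlm z hz).1.1)
    fun u hu v hv => by
      obtain ⟨hu', hum⟩ := hlm u hu
      obtain ⟨hv', hvm⟩ := hlm v hv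
      exact (bar_commute HH hu' hv').1 (hc _ hum _ hvm)
  rcases eq_one_or_eq_of_centralize HH hd
      (Subgroup.mem_centralizer_singleton_iff.1 (closure_le_centralizer d hprod)) hcen with h0 | h0
  · exact absurd h0 hne1
  · exact h0 ▸ hprod

end CfsgLib.FischerTypes.M23
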