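import Cfsg.Agent.FischerTypes.Triples

/-!
# A product of at most three commuting members determines the factors in types M(23), M(24)
-/

set_option autoImplicit false
set_option maxHeartbeats 400000

namespace CfsgLib.FischerTypes

open Cfsg

variable {G : Type*} [Group G] [Finite G] {D : Set G}

theorem factors_unique (hU : PSU62Facts) (h : IsThreeTranspositionGroup D)
    (hprim : IsPrimitiveUnderConj D) (ht : IsOfTypeM23 G D ∨ IsOfTypeM24 G D) (m : ℕ) (hm : m ≤ 3)
    (j : G) (l l' : List G)
    (hl : (l.Nodup ∧ l.length = m ∧ (∀ a ∈ l, a ∈ D) ∧ (∀ a ∈ l, ∀ b ∈ l, Commute a b) ∧ l.prod = j))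
    (hl' : (l'.Nodup ∧ l'.length = m ∧ (∀ a ∈ l', a ∈ D) ∧ (∀ a ∈ l', ∀ b ∈ l', Commute a b) ∧ l'.prod = j)) :
    ∀ x : G, x ∈ l ↔ x ∈ l' := by
  have hZ : Subgroup.center G = ⊥ := ht.elim (·.1) (·.1)
  have hnt := noTwins_of_primitive h hZ hprim
  have hpu := pairUnique h.1 hnt
  have h6 : NoRel D 6 := by
    rcases ht with h23 | h24
    · exact (noRel_of_M23 hU h h23).2
    · exact noRel_six_of_M24 hU h hprim h24
  obtain ⟨hn, hlen, hD, hc, hp⟩ := hl
  obtain ⟨hn', hlen', hD', hc', hp'⟩ := hl'
  interval_cases m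
  · simp [List.length_eq_zero_iff.mp hlen, List.length_eq_zero_iff.mp hlen']
  · obtain ⟨a, rfl⟩ := List.length_eq_one_iff.mp hlen
    obtain ⟨b, rfl⟩ := List.length_eq_one_iff.mp hlen'
    simp only [List.prod_cons, List.prod_nil, mul_one] at hp hp'
    simp [hp, hp']
  · obtain ⟨a, b, rfl⟩ := List.length_eq_two.mp hlen
    obtain ⟨c, e, rfl⟩ := List.length_eq_two.mp hlen'
    simp only [List.prod_cons, List.prod_nil, mul_one] at hp hp'
    simp only [List.nodup_cons, List.mem_singleton, List.not_mem_nil, not_false_eq_true,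
      List.nodup_nil, and_true] at hn hn'
    rcases hpu a (hD a (by simp)) b (hD b (by simp)) c (hD' c (by simp)) e (hD' e (by simp)) hn
      (hc a (by simp) b (by simp)) hn' (hc' c (by simp) e (by simp)) (hp.trans hp'.symm) with
      ⟨rfl, rfl⟩ | ⟨rfl, rfl⟩ <;> intro x <;> simp only [List.mem_cons, List.not_mem_nil, or_false] <;>
      tauto
  · obtain ⟨a, b, c, rfl⟩ := List.length_eq_three.mp hlen
    obtain ⟨a', b', c', rfl⟩ := List.length_eq_three.mp hlen'
    simp only [List.prod_cons, List.prod_nil, mul_one] at hp hp'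
    simp only [List.nodup_cons, List.mem_cons, List.mem_singleton, List.not_mem_nil, not_or,
      not_false_eq_true, List.nodup_nil, and_true] at hn hn'
    refine triple_unique h.1 hpu h6 ?_ hn.1.1 hn.1.2 hn.2 (hc a (by simp) b (by simp))
      (hc a (by simp) c (by simp)) (hc b (by simp) c (by simp)) hn'.1.1 hn'.1.2 hn'.2
      (hc' a' (by simp) b' (by simp)) (hc' a' (by simp) c' (by simp)) (hc' b' (by simp) c' (by simp))
      (by rw [mul_assoc, mul_assoc, hp, hp'])
    intro x hx
    simp only [List.mem_cons, List.not_mem_nil, or_false] at hx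
    rcases hx with h0 | h0 | h0 | h0 | h0 | h0 <;> subst h0 <;>
      first | (apply hD; simp; done) | (apply hD'; simp; done)

end CfsgLib.FischerTypes
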