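import Cfsg.Agent.FischerTypes.M22Connected
import Cfsg.Agent.FischerTypes.M22Mu
import Cfsg.Agent.FischerTypes.M22Centralizer
import Cfsg.Agent.FischerTypes.Products

/-!
# The neighbourhood of a member in type M(23)

For every member `d`, `⟨D_d⟩` modulo its centre with the images of `D_d` is of type M(22); this gives the local
counts and transporters.
-/

set_option autoImplicit false
set_option linter.style.haveILetI false
set_option maxHeartbeats 400000

namespace CfsgLib.FischerTypes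

open Cfsg CfsgLib.U62 CfsgLib.RepBounds.Unit

variable {G : Type*} [Group G] {D : Set G}

/-- Type M(22) is preserved by an isomorphism carrying one set to the other. -/
theorem isOfTypeM22_equiv {H : Type*} [Group H] {E : Set H} (ψ : G ≃* H) (hψ : ∀ x, x ∈ D ↔ ψ x ∈ E)
    (h22 : IsOfTypeM22 G D) : IsOfTypeM22 H E := by
  obtain ⟨hZ, d, hd, c, hc, hdc, ⟨F, iF, iFt, hF, ⟨e⟩⟩, cc, hcc, ⟨Q, hQ, hdet, ⟨e'⟩⟩⟩ := h22
  have hsym : ∀ y, y ∈ E ↔ ψ.symm y ∈ D := fun y => by rw [hψ, ψ.apply_symm_apply]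
  have hperp : ∀ u y, y ∈ perp E (ψ u) ↔ ψ.symm y ∈ perp D u := fun u y => by
    constructor
    · exact fun hy => ⟨(hsym y).1 hy.1, fun h0 => hy.2.1 (by rw [← h0, ψ.apply_symm_apply]),
        by simpa using hy.2.2.map ψ.symm.toMonoidHom⟩
    · exact fun hy => ⟨(hsym y).2 hy.1, fun h0 => hy.2.1 (by rw [h0, ψ.symm_apply_apply]),
        by simpa using hy.2.2.map ψ.toMonoidHom⟩
  have iso : ∀ (S : Set H) (T : Set G), (∀ y, y ∈ S ↔ ψ.symm y ∈ T) →
      Nonempty (↥(Subgroup.closure S) ⧸ Subgroup.center ↥(Subgroup.closure S) ≃*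
        ↥(Subgroup.closure T) ⧸ Subgroup.center ↥(Subgroup.closure T)) := by
    intro S T hST
    have hmap : (Subgroup.closure S).map ψ.symm.toMonoidHom = Subgroup.closure T := by
      rw [MonoidHom.map_closure]
      congr 1
      ext z
      constructor
      · rintro ⟨w, hw, rfl⟩; exact (hST w).1 hw
      · exact fun hz => ⟨ψ z, (hST _).2 (by rwa [ψ.symm_apply_apply]), ψ.symm_apply_apply z⟩
    let θ : ↥(Subgroup.closure S) ≃* ↥(Subgroup.closure T) :=
      (ψ.symm.subgroupMap _).trans (MulEquiv.subgroupCongr hmap)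
    exact ⟨QuotientGroup.congr _ _ θ (by
      ext w
      simp only [Subgroup.mem_map, Subgroup.mem_center_iff]
      constructor
      · rintro ⟨y, hy, rfl⟩ k
        obtain ⟨k, rfl⟩ := θ.surjective k
        exact (map_mul θ k y).symm.trans ((congrArg θ (hy k)).trans (map_mul θ y k))
      · exact fun hw => ⟨θ.symm w, fun k => θ.injective (by simpa using hw (θ k)), by simp⟩)⟩
  refine ⟨?_, ψ d, (hψ d).1 hd, ψ c, (hψ c).1 hc, fun h0 => hdc ?_, ?_, cc, hcc, ?_⟩
  · rw [eq_bot_iff]
    intro z hz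
    have h1 : ψ.symm z ∈ Subgroup.center G := Subgroup.mem_center_iff.2 fun g => by
      have := congrArg ψ.symm (Subgroup.mem_center_iff.1 hz (ψ g))
      simpa using this
    rw [hZ, Subgroup.mem_bot] at h1
    rw [Subgroup.mem_bot, ← ψ.apply_symm_apply z, h1, map_one]
  · simpa using h0.map ψ.symm.toMonoidHom
  · obtain ⟨θ⟩ := iso (perp E (ψ d)) (perp D d) (hperp d)
    exact ⟨F, iF, iFt, hF, ⟨θ.trans e⟩⟩
  · obtain ⟨θ⟩ := iso (perp E (ψ d) ∩ perp E (ψ c)) (perp D d ∩ perp D c)
      (fun y => and_congr (hperp d y) (hperp c y))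
    exact ⟨Q, hQ, hdet, ⟨θ.trans e'⟩⟩

variable [Finite G]

/-- The neighbourhood of each member in type M(23). -/
theorem local_M22 (h : IsThreeTranspositionGroup D) (h23 : IsOfTypeM23 G D) {a : G} (ha : a ∈ D) :
    NoCentralPerp D a ∧ IsOfTypeM22 (PerpQuot D a) (img D a) := by
  obtain ⟨d, hd, hN, hnc, -, h22⟩ := nice_of_isOfTypeM23 psu62Facts h h23
  have hnca : NoCentralPerp D a := noCentralPerp_of_noTwins h hN.noTwins hN.single ha
  refine ⟨hnca, ?_⟩
  obtain ⟨g, hg⟩ := isConj_iff.mp (hN.single d hd a ha)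
  have hmem : ∀ x, x ∈ perp D d ↔ g * x * g⁻¹ ∈ perp D a := fun x => by
    constructor
    · intro hx
      refine ⟨h.2.1 g x hx.1, fun he => hx.2.1 ?_, ?_⟩
      · exact mul_left_cancel (mul_right_cancel (he.trans hg.symm))
      · rw [← hg, commute_conj_iff']; exact hx.2.2
    · intro hx
      refine ⟨by simpa [mul_assoc] using h.2.1 g⁻¹ _ hx.1, fun he => hx.2.1 (by rw [he, hg]), ?_⟩
      rw [← commute_conj_iff' g, hg]; exact hx.2.2
  have hmap : (Subgroup.closure (perp D d)).map (MulAut.conj g).toMonoidHom =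
      Subgroup.closure (perp D a) := by
    rw [MonoidHom.map_closure]
    congr 1
    ext y
    simp only [Set.mem_image, MulEquiv.coe_toMonoidHom, MulAut.conj_apply]
    constructor
    · rintro ⟨x, hx, rfl⟩; exact (hmem x).1 hx
    · exact fun hy => ⟨g⁻¹ * y * g, (hmem _).2 (by simpa [mul_assoc] using hy), by group⟩
  let ψ : ↥(Subgroup.closure (perp D d)) ≃* ↥(Subgroup.closure (perp D a)) :=
    (MulEquiv.subgroupMap (MulAut.conj g) _).trans (MulEquiv.subgroupCongr hmap)
  have hψ : ∀ x, ((ψ x : ↥(Subgroup.closure (perp D a))) : G) = g * (x : G) * g⁻¹ := fun x => rfl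
  let ψ' : PerpQuot D d ≃* PerpQuot D a := QuotientGroup.congr (Subgroup.center _) (Subgroup.center _) ψ
    (by
      ext x
      simp only [Subgroup.mem_map, Subgroup.mem_center_iff]
      constructor
      · rintro ⟨y, hy, rfl⟩ k
        obtain ⟨k, rfl⟩ := ψ.surjective k
        exact (map_mul ψ k y).symm.trans ((congrArg ψ (hy k)).trans (map_mul ψ y k))
      · exact fun hx => ⟨ψ.symm x, fun k => ψ.injective (by simpa using hx (ψ k)), by simp⟩)
  refine isOfTypeM22_equiv ψ' (fun p => ?_) h22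
  constructor
  · rintro ⟨⟨x, hx, rfl⟩, -⟩
    exact mk_mem_img hnca (x := ψ x) (by rw [hψ]; exact (hmem _).1 hx)
  · intro hp
    obtain ⟨⟨y, hy, hye⟩, -⟩ := hp
    have : p = QuotientGroup.mk (ψ.symm y) := ψ'.injective (by
      rw [← hye]
      show _ = (QuotientGroup.mk (ψ (ψ.symm y)) : PerpQuot D a)
      rw [ψ.apply_symm_apply])
    rw [this]
    refine mk_mem_img hnc (x := ψ.symm y) ((hmem _).2 ?_)
    rw [← hψ, ψ.apply_symm_apply]
    exact hy

namespace M23

/-- The standing hypotheses. -/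
structure Hyp (G : Type*) [Group G] (D : Set G) : Prop where
  group : IsThreeTranspositionGroup D
  prim : IsPrimitiveUnderConj D
  type : IsOfTypeM23 G D

variable (H : Hyp G D) {d : G} (hd : d ∈ D)

include H hd

theorem noCentral : NoCentralPerp D d := (local_M22 H.group H.type hd).1

theorem quot22 : IsOfTypeM22 (PerpQuot D d) (img D d) := (local_M22 H.group H.type hd).2

omit H hd [Finite G] in
theorem quotGroup (h : IsThreeTranspositionGroup D) (d : G) : IsThreeTranspositionGroup (img D d) :=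
  isThreeTranspositionGroup_img h d

theorem quotPrim : IsPrimitiveUnderConj (img D d) :=
  isPrimitive_of_M22 (isThreeTranspositionGroup_img H.group d) (quot22 H hd)

theorem bar_mem {x : G} (hx : x ∈ perp D d) : bar hx ∈ img D d :=
  mk_mem_img (noCentral H hd) (x := ⟨x, mem_perp_closure hx⟩) hx

theorem bar_inj {x y : G} (hx : x ∈ perp D d) (hy : y ∈ perp D d) (he : bar hx = bar hy) : x = y :=
  congrArg Subtype.val (mk_inj H.group (x := ⟨x, mem_perp_closure hx⟩) (y := ⟨y, mem_perp_closure hy⟩)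
    hx hy (mk_ne_one (noCentral H hd) hx) he)

omit hd [Finite G] in
theorem bar_commute {x y : G} (hx : x ∈ perp D d) (hy : y ∈ perp D d) :
    Commute (bar hx) (bar hy) ↔ Commute x y :=
  commute_mk_iff H.group (x := ⟨x, mem_perp_closure hx⟩) (y := ⟨y, mem_perp_closure hy⟩) hx hy

omit hd H [Finite G] in
theorem exists_lift {p : PerpQuot D d} (hp : p ∈ img D d) : ∃ x, ∃ hx : x ∈ perp D d, bar hx = p := by
  obtain ⟨⟨⟨x, hx'⟩, hx, he⟩, -⟩ := hp
  exact ⟨x, hx, he⟩

theorem mem_perp_bar {x y : G} (hx : x ∈ perp D d) (hy : y ∈ perp D d) :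
    bar hy ∈ perp (img D d) (bar hx) ↔ y ∈ perp D x := by
  constructor
  · exact fun hh => ⟨hy.1, fun h0 => hh.2.1 (by subst h0; rfl), (bar_commute H hx hy).1 hh.2.2⟩
  · exact fun hh => ⟨bar_mem H hd hy, fun h0 => hh.2.1 (bar_inj H hd hy hx h0),
      (bar_commute H hx hy).2 hh.2.2⟩

/-- A subset of `D_d` and its image have the same size. -/
theorem ncard_bar {S : Set G} {T : Set (PerpQuot D d)} (hS : S ⊆ perp D d) (hT : T ⊆ img D d)
    (hST : ∀ x, ∀ hx : x ∈ perp D d, x ∈ S ↔ bar hx ∈ T) : S.ncard = T.ncard := by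
  refine Set.ncard_congr (fun x hx => bar (hS hx)) (fun x hx => (hST x (hS hx)).1 hx)
    (fun x y hx hy he => bar_inj H hd (hS hx) (hS hy) he) fun p hp => ?_
  obtain ⟨x, hx, rfl⟩ := exists_lift (hT hp)
  exact ⟨x, (hST x hx).2 hp, rfl⟩

theorem ncard_perp : (perp D d).ncard = 3510 := by
  rw [ncard_bar H hd (S := perp D d) (T := img D d) subset_rfl subset_rfl
    (fun x hx => iff_of_true hx (bar_mem H hd hx))]
  exact ncard_D (quotGroup H.group d) (quotPrim H hd) (quot22 H hd)

theorem ncard_perp_perp {x : G} (hx : x ∈ perp D d) : (perp D d ∩ perp D x).ncard = 693 := by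
  rw [ncard_bar H hd (S := perp D d ∩ perp D x) (T := perp (img D d) (bar hx)) Set.inter_subset_left
    (fun p hp => hp.1) (fun y hy => by rw [mem_perp_bar H hd hx hy]; exact and_iff_right hy)]
  obtain ⟨M⟩ := exists_perpModel (quotGroup H.group d) (quot22 H hd) (bar_mem H hd hx)
  exact M.ncard_perp

theorem ncard_perp_commute {x y : G} (hx : x ∈ perp D d) (hy : y ∈ perp D d) (hne : x ≠ y)
    (hc : Commute x y) : (perp D d ∩ (perp D x ∩ perp D y)).ncard = 180 := by
  rw [ncard_bar H hd (S := perp D d ∩ (perp D x ∩ perp D y))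
    (T := perp (img D d) (bar hx) ∩ perp (img D d) (bar hy)) Set.inter_subset_left (fun p hp => hp.1.1)
    (fun z hz => by
      rw [Set.mem_inter_iff, Set.mem_inter_iff, Set.mem_inter_iff, mem_perp_bar H hd hx hz,
        mem_perp_bar H hd hy hz]
      exact and_iff_right hz)]
  obtain ⟨M⟩ := exists_perpModel (quotGroup H.group d) (quot22 H hd) (bar_mem H hd hx)
  exact M.ncard_perp_perp ((mem_perp_bar H hd hx hy).2 ⟨hy.1, Ne.symm hne, hc⟩)

theorem ncard_perp_not_commute {x y : G} (hx : x ∈ perp D d) (hy : y ∈ perp D d)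
    (hc : ¬ Commute x y) : (perp D d ∩ (perp D x ∩ perp D y)).ncard = 126 := by
  rw [ncard_bar H hd (S := perp D d ∩ (perp D x ∩ perp D y))
    (T := perp (img D d) (bar hx) ∩ perp (img D d) (bar hy)) Set.inter_subset_left (fun p hp => hp.1.1)
    (fun z hz => by
      rw [Set.mem_inter_iff, Set.mem_inter_iff, Set.mem_inter_iff, mem_perp_bar H hd hx hz,
        mem_perp_bar H hd hy hz]
      exact and_iff_right hz)]
  exact ncard_common (quotGroup H.group d) (quotPrim H hd) (quot22 H hd) (bar_mem H hd hx) (bar_mem H hd hy)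
    (fun h0 => hc ((bar_commute H hx hy).1 h0))

theorem exists_conj {x y : G} (hx : x ∈ perp D d) (hy : y ∈ perp D d) :
    ∃ g ∈ Subgroup.closure (perp D d), g * x * g⁻¹ = y :=
  exists_conj_perp H.group (noCentral H hd)
    (fun p hp q hq => isConj_iff.2 ((quotPrim H hd).1 p hp q hq)) hx hy

/-- An element of `⟨D_d⟩` centralizing the neighbour `x` is, modulo the centre, in `⟨D_d ∩ D_x⟩`. -/
theorem exists_decomp {x z : G} (hx : x ∈ perp D d) (hz : z ∈ Subgroup.closure (perp D d))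
    (hzx : Commute z x) : ∃ u ∈ Subgroup.closure (perp D d ∩ perp D x),
      ∀ y ∈ perp D d, Commute (u⁻¹ * z) y := by
  set π := QuotientGroup.mk' (Subgroup.center ↥(Subgroup.closure (perp D d))) with hπ
  have h1 : π ⟨z, hz⟩ ∈ Subgroup.closure (perp (img D d) (bar hx)) := by
    rw [← centralizer_eq (quotGroup H.group d) (quotPrim H hd) (quot22 H hd) (bar_mem H hd hx),
      Subgroup.mem_centralizer_singleton_iff]
    exact ((show Commute (⟨z, hz⟩ : ↥(Subgroup.closure (perp D d))) ⟨x, mem_perp_closure hx⟩ from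
      Subtype.ext hzx.eq).map π).eq
  set S := ((Subgroup.closure (perp D d ∩ perp D x)).comap (Subgroup.closure (perp D d)).subtype).map π
  have hle : Subgroup.closure (perp (img D d) (bar hx)) ≤ S := by
    rw [Subgroup.closure_le]
    intro p hp
    obtain ⟨y, hy, rfl⟩ := exists_lift hp.1
    exact ⟨⟨y, mem_perp_closure hy⟩,
      Subgroup.subset_closure (⟨hy, (mem_perp_bar H hd hx hy).1 hp⟩ : y ∈ perp D d ∩ perp D x), rfl⟩
  obtain ⟨⟨u, hu'⟩, hu, hue⟩ := hle h1
  exact ⟨u, hu, mem_center_closure_iff.1 (QuotientGroup.eq.1 hue)⟩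

end M23

/-- In type M(22): a member commuting with every common neighbour of two non-commuting ones, and not with the
first, is the second or the third of their line. -/
theorem line_property {d x x' : G} (h : IsThreeTranspositionGroup D) (hp : IsPrimitiveUnderConj D)
    (h22 : IsOfTypeM22 G D) (hd : d ∈ D) (hx : x ∈ D) (hx' : x' ∈ D) (hnc : ¬ Commute d x)
    (hnc' : ¬ Commute d x') (hsub : perp D d ∩ perp D x ⊆ perp D x') : x' = x ∨ x' = d * x * d := by
  obtain ⟨q, hq⟩ : (perp D d ∩ perp D x).Nonempty := common_nonempty h hp h22 hd hx hnc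
  obtain ⟨M⟩ := exists_perpModel h h22 hq.1.1
  have hdq : d ∈ perp D q := perp_symm hd hq.1
  have hxq : x ∈ perp D q := perp_symm hx hq.2
  have hx'q : x' ∈ perp D q := perp_symm hx' (hsub hq)
  obtain ⟨v, hv, hv0, hvd⟩ := M.exists_pt hdq
  obtain ⟨r, hr, hr0, hxr⟩ := M.exists_pt hxq
  obtain ⟨r', hr', hr'0, hxr'⟩ := M.exists_pt hx'q
  have hrv : herm M.C r v ≠ 0 := fun h0 => hnc ((M.commute_iff hdq hxq hv hr hr0 hvd hxr).2 h0)
  have hr'v : herm M.C r' v ≠ 0 := fun h0 => hnc' ((M.commute_iff hdq hx'q hv hr' hr'0 hvd hxr').2 h0)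
  have hperp : ∀ s, herm M.C s s = 0 → herm M.C s v = 0 → herm M.C s r = 0 → herm M.C s r' = 0 := by
    intro s hs hsv hsr
    by_cases hs0 : s = 0
    · rw [hs0, herm_zero_left]
    obtain ⟨z, hz, hzs⟩ := M.exists_mem hs hs0
    have hzd := (M.commute_iff hdq hz hv hs hs0 hvd hzs).2 hsv
    have hzx := (M.commute_iff hxq hz hr hs hs0 hxr hzs).2 hsr
    refine (M.commute_iff hx'q hz hr' hs hs0 hxr' hzs).1 ?_
    exact (hsub ⟨⟨hz.1, fun h0 => hnc (h0 ▸ hzx).symm, hzd⟩,
      ⟨hz.1, fun h0 => hnc (h0 ▸ hzd), hzx⟩⟩).2.2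
  rcases eq_or_eq_tv_of_perp M.C M.hq hv hr hr' hrv hr'v hperp with ⟨a, ha⟩ | ⟨a, ha⟩
  · exact Or.inl (M.eq_of_smul hxq hx'q hr hr'0 hxr hxr' ha).symm
  · right
    have hdx : d * x * d ∈ perp D q := by
      have h1 := conj_mem_perp h (g := d) hdq.2.2.symm hxq
      rwa [inv_eq h.1 hd] at h1
    have hbar : bar hdx = M.θ (tv M.C (app M.C (tv M.C v) r)) := by
      have e1 : bar hdx = bar hdq * bar hxq * bar hdq := rfl
      rw [e1, hvd, hxr, ← map_mul, ← map_mul, ← conj_tv M.C M.hq _ hr,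
        inv_eq_of_mul_eq_one_right (tv_mul_self M.C M.hq hv)]
    exact (M.eq_of_smul hdx hx'q (by rw [herm_app, hr]) hr'0 hbar hxr' ha).symm

end CfsgLib.FischerTypes
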