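import Cfsg.Agent.FischerTypes.M23Pair
import Cfsg.Agent.FischerTypes.M22OtherClass

/-!
# Type M(23) has one class of 3-transpositions

`|D|` is odd, so an involution fixes a member and is a product of at most three commuting members.
-/

set_option autoImplicit false
set_option linter.style.haveILetI false
set_option maxHeartbeats 400000

namespace CfsgLib.FischerTypes.M23

open Cfsg CfsgLib.FischerTypes

variable {G : Type*} [Group G] [Finite G] {D : Set G} (H : Hyp G D)

include H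

/-- The number of members is odd. -/
theorem odd_ncard : Odd D.ncard := by
  classical
  have := Fintype.ofFinite G
  obtain ⟨d, hd, -⟩ := H.prim.2.1
  have h := H.group
  have hinv : ∀ x ∈ D, d * (d * x * d) * d = x := fun x _ => by
    simp [mul_assoc, mul_self h.1 hd, mul_self_cancel h.1 hd]
  have hconj : ∀ x ∈ D, d * x * d ∈ D := fun x hx => by
    have := h.2.1 d x hx; rwa [inv_eq h.1 hd] at this
  set Fx : Set G := {x | x ∈ D ∧ Commute d x} with hFx
  have hfix : Fx = insert d (perp D d) := by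
    ext x
    constructor
    · intro hx
      by_cases hxd : x = d
      · exact Or.inl hxd
      · exact Or.inr ⟨hx.1, hxd, hx.2⟩
    · rintro (rfl | hx)
      exacts [⟨hd, Commute.refl _⟩, ⟨hx.1, hx.2.2⟩]
  have hF : Fx.ncard = 3511 := by
    rw [hfix, Set.ncard_insert_of_notMem (fun h0 => h0.2.1 rfl), ncard_perp H hd]
  -- conjugation by `d` is a fixed point free involution elsewhere
  set M : Finset G := (D \ Fx).toFinset with hM
  have heven : Even M.card := by
    have hsum : (∑ _x ∈ M, (1 : ZMod 2)) = 0 := by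
      refine Finset.sum_involution (fun x _ => d * x * d) (fun x _ => by decide) (fun x hx _ he => ?_)
        (fun x hx => ?_) (fun x hx => hinv x (Set.mem_toFinset.1 hx).1)
      · obtain ⟨hxD, hxn⟩ := Set.mem_toFinset.1 hx
        refine hxn ⟨hxD, ?_⟩
        show d * x = x * d
        calc d * x = d * x * d * d := by simp [mul_assoc, mul_self h.1 hd]
          _ = x * d := by rw [he]
      · obtain ⟨hxD, hxn⟩ := Set.mem_toFinset.1 hx
        refine Set.mem_toFinset.2 ⟨hconj x hxD, fun hc => hxn ⟨hxD, ?_⟩⟩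
        have h1 := (commute_conj_iff' d d (d * x * d)).2 hc.2
        rwa [inv_eq h.1 hd, hinv x hxD, mul_self h.1 hd, one_mul] at h1
    rw [Finset.sum_const, nsmul_one] at hsum
    exact even_iff_two_dvd.2 ((ZMod.natCast_eq_zero_iff_even).1 hsum).two_dvd
  have hD : D.ncard = Fx.ncard + M.card := by
    rw [hM, ← Set.ncard_eq_toFinset_card', add_comm,
      Set.ncard_sdiff_add_ncard_of_subset (fun x hx => hx.1) (Set.toFinite _)]
  rw [hD, hF]
  exact (show Odd 3511 by decide).add_even heven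

/-- An involution fixes a member. -/
theorem exists_fixed_member {j : G} (hj : j * j = 1) : ∃ z ∈ D, Commute j z := by
  classical
  have := Fintype.ofFinite G
  by_contra hall
  push Not at hall
  have hi : j⁻¹ = j := inv_eq_of_mul_eq_one_right hj
  have hsum : (∑ _x ∈ D.toFinset, (1 : ZMod 2)) = 0 := by
    refine Finset.sum_involution (fun x _ => j * x * j) (fun x _ => by decide) (fun x hx _ he => ?_)
      (fun x hx => ?_) (fun x _ => ?_)
    · refine hall x (Set.mem_toFinset.1 hx) ?_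
      show j * x = x * j
      calc j * x = j * x * j * j := by rw [mul_assoc (j * x), hj, mul_one]
        _ = x * j := by rw [he]
    · have := H.group.2.1 j x (Set.mem_toFinset.1 hx)
      exact Set.mem_toFinset.2 (by rwa [hi] at this)
    · show j * (j * x * j) * j = x
      calc j * (j * x * j) * j = (j * j) * x * (j * j) := by group
        _ = x := by rw [hj, one_mul, mul_one]
  rw [Finset.sum_const, nsmul_one, ← Set.ncard_eq_toFinset_card'] at hsum
  exact Nat.not_even_iff_odd.2 (odd_ncard H) ((ZMod.natCast_eq_zero_iff_even).1 hsum)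

/-- A product of a member and three commuting neighbours is a product of three. -/
theorem exists_three {z x y w : G} (hz : z ∈ D) (hx : x ∈ perp D z) (hy : y ∈ perp D z) (hw : w ∈ perp D z)
    (hxy : y ∈ perp D x) (hxw : w ∈ perp D x) (hyw : w ∈ perp D y) :
    ∃ a b c, a ∈ D ∧ b ∈ perp D a ∧ c ∈ perp D a ∧ c ∈ perp D b ∧ z * (x * y * w) = a * b * c := by
  have h := H.group
  obtain ⟨pa, pb, pc, hnd, hD, hc, heq, -⟩ := exists_six (quotGroup h z) (quotPrim H hz) (quot22 H hz)
    (bar_mem H hz hx) ((mem_perp_bar H hz hx hy).2 hxy) ((mem_perp_bar H hz hx hw).2 hxw)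
    (fun h0 => hyw.2.1 (bar_inj H hz hy hw h0).symm) ((bar_commute H hy hw).2 hyw.2.2)
  obtain ⟨a, ha, rfl⟩ := exists_lift (hD pa (by simp))
  obtain ⟨b, hb, rfl⟩ := exists_lift (hD pb (by simp))
  obtain ⟨c, hc', rfl⟩ := exists_lift (hD pc (by simp))
  have hp := prod_six H hz hx hy hw ha hb hc' hnd hc heq
  simp only [List.nodup_cons, List.mem_cons, List.not_mem_nil, or_false, not_or, List.nodup_nil, and_true,
    not_false_eq_true] at hnd
  have hne : ∀ {u v : G} (hu : u ∈ perp D z) (hv : v ∈ perp D z), bar hu ≠ bar hv → u ≠ v :=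
    fun hu hv hne huv => hne (by subst huv; rfl)
  have com : ∀ {u v : G} (hu : u ∈ perp D z) (hv : v ∈ perp D z),
      bar hu ∈ [bar hx, bar hy, bar hw, bar ha, bar hb, bar hc'] →
      bar hv ∈ [bar hx, bar hy, bar hw, bar ha, bar hb, bar hc'] → Commute u v :=
    fun hu hv mu mv => (bar_commute H hu hv).1 (hc _ mu _ mv)
  refine ⟨a, b, c, ha.1, ⟨hb.1, (hne ha hb hnd.2.2.2.1.1).symm, com ha hb (by simp) (by simp)⟩,
    ⟨hc'.1, (hne ha hc' hnd.2.2.2.1.2).symm, com ha hc' (by simp) (by simp)⟩,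
    ⟨hc'.1, (hne hb hc' hnd.2.2.2.2).symm, com hb hc' (by simp) (by simp)⟩, ?_⟩
  have hprod : x * y * w = z * (a * b * c) := by
    calc x * y * w = x * y * w * c * b * a * (a * b * c) := by
          simp [mul_assoc, mul_self h.1 hc'.1, mul_self_cancel h.1 ha.1, mul_self_cancel h.1 hb.1]
      _ = z * (a * b * c) := by rw [hp]
  rw [hprod, mul_self_cancel h.1 hz]

/-- An involution is a product of at most three commuting members. -/
theorem involution_eq_prod {j : G} (hj : j * j = 1) (hj1 : j ≠ 1) :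
    j ∈ D ∨ (∃ a b, a ∈ D ∧ b ∈ perp D a ∧ j = a * b) ∨
      ∃ a b c, a ∈ D ∧ b ∈ perp D a ∧ c ∈ perp D a ∧ c ∈ perp D b ∧ j = a * b * c := by
  have h := H.group
  obtain ⟨z, hz, hjz⟩ := exists_fixed_member H hj
  have hjm : j ∈ Subgroup.closure (perp D z) := by
    rw [← centralizer_eq h H hz]
    exact Subgroup.mem_centralizer_singleton_iff.2 hjz.eq
  set J : ↥(Subgroup.closure (perp D z)) := ⟨j, hjm⟩ with hJ
  have split : ∀ m : ↥(Subgroup.closure (perp D z)),
      (QuotientGroup.mk m : PerpQuot D z) = QuotientGroup.mk J → j = (m : G) ∨ j = z * m := by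
    intro m hm
    have h1 : m⁻¹ * J ∈ Subgroup.center ↥(Subgroup.closure (perp D z)) := QuotientGroup.eq.1 hm
    rcases eq_one_or_eq_of_centralize H hz
        (Subgroup.mem_centralizer_singleton_iff.1 (closure_le_centralizer z (m⁻¹ * J).2))
        (mem_center_closure_iff.1 h1) with h0 | h0
    · exact Or.inl (inv_mul_eq_one.1 h0).symm
    · refine Or.inr ?_
      have hzm : Commute z (m : G) :=
        (Subgroup.mem_centralizer_singleton_iff.mp (closure_le_centralizer z m.2)).symm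
      rw [hzm.eq]
      exact inv_mul_eq_iff_eq_mul.1 h0
  by_cases h1 : (QuotientGroup.mk J : PerpQuot D z) = 1
  · rcases split 1 h1.symm with h0 | h0
    · exact absurd h0 hj1
    · exact Or.inl (by rw [h0, OneMemClass.coe_one, mul_one]; exact hz)
  have hJJ : (QuotientGroup.mk J : PerpQuot D z) * QuotientGroup.mk J = 1 := by
    rw [← QuotientGroup.mk_mul, show J * J = 1 from Subtype.ext hj]; rfl
  rcases FischerTypes.involution_eq_prod (quotGroup h z) (quotPrim H hz) (quot22 H hz) hJJ h1 with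
    h0 | ⟨pa, pb, hpa, hpb, h0⟩ | ⟨pa, pb, pc, hpa, hpb, hpc, hpbc, h0⟩
  · obtain ⟨x, hx, hxe⟩ := exists_lift h0
    rcases split ⟨x, mem_perp_closure hx⟩ hxe with e | e
    · exact Or.inl (e ▸ hx.1)
    · exact Or.inr (Or.inl ⟨z, x, hz, hx, e⟩)
  · obtain ⟨x, hx, rfl⟩ := exists_lift hpa
    obtain ⟨y, hy, rfl⟩ := exists_lift hpb.1
    have hxy := (mem_perp_bar H hz hx hy).1 hpb
    rcases split (⟨x, mem_perp_closure hx⟩ * ⟨y, mem_perp_closure hy⟩) (by rw [h0]; rfl) with e | e
    · exact Or.inr (Or.inl ⟨x, y, hx.1, hxy, e⟩)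
    · exact Or.inr (Or.inr ⟨z, x, y, hz, hx, hy, hxy, e.trans (mul_assoc _ _ _).symm⟩)
  · obtain ⟨x, hx, rfl⟩ := exists_lift hpa
    obtain ⟨y, hy, rfl⟩ := exists_lift hpb.1
    obtain ⟨w, hw, rfl⟩ := exists_lift hpc.1
    have hxy := (mem_perp_bar H hz hx hy).1 hpb
    have hxw := (mem_perp_bar H hz hx hw).1 hpc
    have hyw := (mem_perp_bar H hz hy hw).1 hpbc
    rcases split (⟨x, mem_perp_closure hx⟩ * ⟨y, mem_perp_closure hy⟩ * ⟨w, mem_perp_closure hw⟩)
      (by rw [h0]; rfl)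
      with e | e
    · exact Or.inr (Or.inr ⟨x, y, w, hx.1, hxy, hxw, hyw, e⟩)
    · obtain ⟨a, b, c, ha, hab, hac, hbc, he⟩ := exists_three H hz hx hy hw hxy hxw hyw
      exact Or.inr (Or.inr ⟨a, b, c, ha, hab, hac, hbc, e.trans he⟩)

/-- The only class of 3-transpositions is `D`. -/
theorem threeTranspositionClass_eq {D' : Set G} (hD' : IsThreeTranspositionClass D') : D' = D := by
  obtain ⟨⟨hord, hprod⟩, ⟨j, hj, hjc⟩, -⟩ := hD'
  obtain ⟨hj2, hj1⟩ : j * j = 1 ∧ j ≠ 1 := by
    have h1 := orderOf_eq_iff (show 0 < 2 by norm_num) |>.1 (hord j hj)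
    exact ⟨by rw [← pow_two]; exact h1.1, fun h0 => h1.2 1 (by norm_num) (by norm_num) (by rw [h0, one_pow])⟩
  have hmem : ∀ {g : G}, g * j * g⁻¹ ∈ D' := fun {g} => hjc ▸ isConj_iff.2 ⟨g, rfl⟩
  have h := H.group
  obtain ⟨d₀, hd₀, hN, -, -, -⟩ := nice_of_isOfTypeM23 psu62Facts h H.type
  have hpu := pairUnique h.1 hN.noTwins
  obtain ⟨pa, pb, pc, pd, pe, hpe, hpa, hpb, hpc, hpd, hpab, hpad, hpcd, nac, ncb, nbd⟩ :=
    exists_chain (quotGroup h d₀) (quotPrim H hd₀) (quot22 H hd₀)
  obtain ⟨e, he, rfl⟩ := exists_lift hpe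
  obtain ⟨a, ha', rfl⟩ := exists_lift hpa.1
  obtain ⟨b, hb', rfl⟩ := exists_lift hpb.1
  obtain ⟨c, hc', rfl⟩ := exists_lift hpc.1
  obtain ⟨d, hd', rfl⟩ := exists_lift hpd.1
  have ha := (mem_perp_bar H hd₀ he ha').1 hpa
  have hb := (mem_perp_bar H hd₀ he hb').1 hpb
  have hc := (mem_perp_bar H hd₀ he hc').1 hpc
  have hd := (mem_perp_bar H hd₀ he hd').1 hpd
  have hab := (mem_perp_bar H hd₀ ha' hb').1 hpab
  have had := (mem_perp_bar H hd₀ ha' hd').1 hpad
  have hcd := (mem_perp_bar H hd₀ hc' hd').1 hpcd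
  rw [bar_commute H ha' hc'] at nac
  rw [bar_commute H hc' hb'] at ncb
  rw [bar_commute H hb' hd'] at nbd
  have contra := not_threeTransposition_pairs h hpu ha.1 hb.1 hc.1 hd.1 hab.2.2 had.2.2 hcd.2.2 nac ncb nbd
  have conj3 : ∀ {x y w x' y' w' : G}, x ∈ D → y ∈ perp D x → w ∈ perp D x → w ∈ perp D y → x' ∈ D →
      y' ∈ perp D x' → w' ∈ perp D x' → w' ∈ perp D y' →
      ∃ g : G, g * x * g⁻¹ = x' ∧ g * y * g⁻¹ = y' ∧ g * w * g⁻¹ = w' := by
    intro x y w x' y' w' hx hy hw hyw hx' hy' hw' hyw'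
    have inj : ∀ {x y w : G}, y ∈ perp D x → w ∈ perp D x → w ∈ perp D y →
        Function.Injective ![x, y, w] ∧ ∀ i k, Commute (![x, y, w] i) (![x, y, w] k) := by
      intro x y w hy hw hyw
      refine ⟨fun i k hik => ?_, fun i k => ?_⟩
      · fin_cases i <;> fin_cases k <;> simp at hik ⊢
        exacts [hy.2.1 hik.symm, hw.2.1 hik.symm, hy.2.1 hik, hyw.2.1 hik.symm, hw.2.1 hik, hyw.2.1 hik]
      · fin_cases i <;> fin_cases k <;>
          first
            | exact Commute.refl _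
            | exact hy.2.2
            | exact hy.2.2.symm
            | exact hw.2.2
            | exact hw.2.2.symm
            | exact hyw.2.2
            | exact hyw.2.2.symm
    have hmD : ∀ {x y w : G}, x ∈ D → y ∈ D → w ∈ D → ∀ i, ![x, y, w] i ∈ D := by
      intro x y w p q r i; fin_cases i <;> assumption
    obtain ⟨g, hg⟩ := exists_conj_triple23 psu62Facts h H.type (inj hy hw hyw).1 (inj hy' hw' hyw').1
      (hmD hx hy.1 hw.1) (hmD hx' hy'.1 hw'.1) (inj hy hw hyw).2 (inj hy' hw' hyw').2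
    exact ⟨g, hg 0, hg 1, hg 2⟩
  have hde : ∀ {u : G}, u ∈ perp D e → e ∈ perp D u := fun hu => perp_symm he.1 hu
  rcases involution_eq_prod H hj2 hj1 with hjD | ⟨x, y, hx, hxy, rfl⟩ | ⟨x, y, w, hx, hy, hw, hyw, rfl⟩
  · ext g
    rw [hjc]
    constructor
    · intro hg
      obtain ⟨k, rfl⟩ := isConj_iff.1 hg
      exact h.2.1 k j hjD
    · exact fun hg => isConj_iff.2 (H.prim.1 j hjD g hg)
  · exfalso
    obtain ⟨f, hf⟩ : ∃ f, f ∈ perp D x ∩ perp D y :=
      Set.nonempty_of_ncard_ne_zero (by rw [ncard_perp_perp H hx hxy]; norm_num)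
    obtain ⟨g, g1, g2, -⟩ := conj3 hx hxy hf.1 hf.2 ha.1 hab (hde ha) (hde hb)
    obtain ⟨k, k1, k2, -⟩ := conj3 hx hxy hf.1 hf.2 hc.1 hcd (hde hc) (hde hd)
    refine contra ?_
    have := hprod _ (hmem (g := g)) _ (hmem (g := k))
    rwa [show g * (x * y) * g⁻¹ = g * x * g⁻¹ * (g * y * g⁻¹) by group,
      show k * (x * y) * k⁻¹ = k * x * k⁻¹ * (k * y * k⁻¹) by group, g1, g2, k1, k2] at this
  · exfalso
    obtain ⟨g, g1, g2, g3⟩ := conj3 hx hy hw hyw ha.1 hab (hde ha) (hde hb)
    obtain ⟨k, k1, k2, k3⟩ := conj3 hx hy hw hyw hc.1 hcd (hde hc) (hde hd)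
    refine contra ?_
    have := hprod _ (hmem (g := g)) _ (hmem (g := k))
    rw [show g * (x * y * w) * g⁻¹ = g * x * g⁻¹ * (g * y * g⁻¹) * (g * w * g⁻¹) by group,
      show k * (x * y * w) * k⁻¹ = k * x * k⁻¹ * (k * y * k⁻¹) * (k * w * k⁻¹) by group, g1, g2, g3, k1, k2, k3,
      show a * b * e * (c * d * e) = a * b * (c * d) by
        rw [((hc.2.2.symm).mul_left hd.2.2.symm).eq, mul_assoc, mul_self_cancel h.1 he.1]] at this
    exact this

end CfsgLib.FischerTypes.M23
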