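import Cfsg.Agent.FischerTypes.M23PencilBase

/-!
# The conjugates of an involution with centraliser a double cover of type M(22) in the Thompson subgroup

They are fused by the normaliser of that subgroup; counting them by the classes of their images, dividing
into the order of `GL(11,2)` and looking at the conjugates which lie over members in the frame of one of
them leaves exactly 23.
-/

set_option autoImplicit false
set_option linter.unusedSectionVars false
set_option maxHeartbeats 1000000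

namespace CfsgLib.FischerTypes

open Cfsg

variable {G Q : Type*} [Group G] [Group Q] [Finite G] [Finite Q] {E : Set Q}

/-- `d` in its centraliser. -/
def selfC (d : G) : ↥(Subgroup.centralizer ({d} : Set G)) :=
  ⟨d, Subgroup.mem_centralizer_singleton_iff.2 rfl⟩

variable {d : G}

namespace Pencil

variable (π : ↥(Subgroup.centralizer ({d} : Set G)) →* Q) (M : Set Q)

/-- The preimage of `⟨M⟩`. -/
def Asub : Subgroup G := ((Subgroup.closure M).comap π).map (Subgroup.centralizer ({d} : Set G)).subtype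

/-- The conjugates of `d` in it. -/
def omega : Set G := {x | x ∈ Asub π M ∧ IsConj d x}

/-- A lift of a member of `M`. -/
def IsML (y : G) : Prop := ∃ c : ↥(Subgroup.centralizer ({d} : Set G)), (c : G) = y ∧ π c ∈ M

/-- `y` is a lift of a member as seen from the conjugate `x` of `d`. -/
def rel (x y : G) : Prop :=
  ∃ g ∈ Subgroup.normalizer (Asub π M : Set G), g * d * g⁻¹ = x ∧ IsML π M (g⁻¹ * y * g)

/-- The conjugates of `d` over the products of `k` members. -/
def fib (k : ℕ) : Set ↥(Subgroup.centralizer ({d} : Set G)) :=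
  {c | π c ∈ cliqueProds M k ∧ IsConj d (c : G)}

variable {π M} (H : Cover22 π E (selfC d)) (hM : IsMaxClique E M)

include H hM

omit H hM in
theorem mem_A {x : G} : x ∈ Asub π M ↔
    ∃ c : ↥(Subgroup.centralizer ({d} : Set G)), (c : G) = x ∧ π c ∈ Subgroup.closure M := by
  constructor
  · rintro ⟨c, hc, rfl⟩; exact ⟨c, rfl, hc⟩
  · rintro ⟨c, rfl, hc⟩; exact ⟨c, hc, rfl⟩

omit H hM in
theorem commute_d (c : ↥(Subgroup.centralizer ({d} : Set G))) : Commute (c : G) d :=
  Subgroup.mem_centralizer_singleton_iff.1 c.2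

theorem elementary_A : IsElementaryAbelian 2 (Asub π M) :=
  CfsgLib.PLocal.isElementaryAbelian_map (H.elementary_comap hM) _

theorem card_A : Nat.card (Asub π M) = 2 ^ 11 := by
  rw [Asub, Subgroup.card_map_of_injective (Subgroup.subtype_injective _), H.card_preimage hM]
  norm_num

theorem comm_A {x y : G} (hx : x ∈ Asub π M) (hy : y ∈ Asub π M) : Commute x y :=
  CfsgLib.PLocal.comm_of_isMulCommutative (elementary_A H hM).1 hx hy

theorem sq_A {x : G} (hx : x ∈ Asub π M) : x * x = 1 := by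
  rw [← pow_two]; exact (elementary_A H hM).2 x hx

theorem d_mem_omega : d ∈ omega π M :=
  ⟨mem_A.2 ⟨selfC d, rfl, by rw [H.map_d]; exact one_mem _⟩, IsConj.refl d⟩

theorem d_ne_one : d ≠ 1 := fun h => H.ne (Subtype.ext h)

theorem d_sq : d * d = 1 := congrArg Subtype.val H.sq

omit hM in
/-- An element over the stabiliser of `M` normalises the subgroup. -/
theorem stab_mem_normalizer {c : ↥(Subgroup.centralizer ({d} : Set G))}
    (hc : (fun q => π c * q * (π c)⁻¹) '' M = M) : (c : G) ∈ Subgroup.normalizer (Asub π M : Set G) := by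
  refine Subgroup.mem_normalizer_fintype fun x hx => ?_
  obtain ⟨y, rfl, hy⟩ := mem_A.1 hx
  refine mem_A.2 ⟨c * y * c⁻¹, rfl, ?_⟩
  rw [map_mul, map_mul, map_inv, ← hc, ← conj_closure]
  exact ⟨π y, hy, rfl⟩

theorem stab_of_mem_normalizer {c : ↥(Subgroup.centralizer ({d} : Set G))}
    (hc : (c : G) ∈ Subgroup.normalizer (Asub π M : Set G)) {q : Q} (hq : q ∈ M) :
    π c * q * (π c)⁻¹ ∈ M := by
  refine mem_clique_of_mem_closure H.group hM (H.group.2.1 _ q (hM.sub hq)) ?_
  obtain ⟨y, rfl⟩ := H.surj q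
  have h1 := (Subgroup.mem_normalizer_iff.1 hc (y : G)).1 (mem_A.2 ⟨y, rfl, Subgroup.subset_closure hq⟩)
  obtain ⟨z, hz, hzM⟩ := mem_A.1 h1
  have : z = c * y * c⁻¹ := Subtype.ext hz
  rw [this, map_mul, map_mul, map_inv] at hzM
  exact hzM

theorem ml_conj {g : G} (hg : g ∈ Subgroup.normalizer (Asub π M : Set G)) (hgd : Commute g d) {y : G}
    (hy : IsML π M y) : IsML π M (g * y * g⁻¹) := by
  obtain ⟨c, rfl, hc⟩ := hy
  refine ⟨⟨g, Subgroup.mem_centralizer_singleton_iff.2 hgd.eq⟩ * c *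
    (⟨g, Subgroup.mem_centralizer_singleton_iff.2 hgd.eq⟩)⁻¹, rfl, ?_⟩
  rw [map_mul, map_mul, map_inv]
  exact stab_of_mem_normalizer H hM (c := ⟨g, _⟩) hg hc

theorem omega_conj {g x : G} (hg : g ∈ Subgroup.normalizer (Asub π M : Set G)) (hx : x ∈ omega π M) :
    g * x * g⁻¹ ∈ omega π M :=
  ⟨(Subgroup.mem_normalizer_iff.1 hg x).1 hx.1, hx.2.trans (isConj_iff.2 ⟨g, rfl⟩)⟩

theorem omega_conj' {g x : G} (hg : g ∈ Subgroup.normalizer (Asub π M : Set G)) (hx : x ∈ omega π M) :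
    g⁻¹ * x * g ∈ omega π M := by
  simpa using omega_conj H hM (inv_mem hg) hx

/-- The conjugates of `d` in the subgroup are fused by its normaliser. -/
theorem transitive {x : G} (hx : x ∈ omega π M) :
    ∃ g ∈ Subgroup.normalizer (Asub π M : Set G), g * d * g⁻¹ = x := by
  haveI : Fact (Nat.Prime 2) := ⟨Nat.prime_two⟩
  obtain ⟨g, hg⟩ := isConj_iff.1 hx.2
  have hmem : ∀ y ∈ Asub π M, g⁻¹ * y * g ∈ Subgroup.centralizer ({d} : Set G) := by
    intro y hy
    refine Subgroup.mem_centralizer_singleton_iff.2 ?_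
    show Commute (g⁻¹ * y * g) d
    rw [← commute_conj_iff' g, hg, show g * (g⁻¹ * y * g) * g⁻¹ = y by group]
    exact comm_A H hM hy hx.1
  let f : ↥(Asub π M) →* ↥(Subgroup.centralizer ({d} : Set G)) :=
    { toFun := fun y => ⟨g⁻¹ * y * g, hmem y y.2⟩
      map_one' := Subtype.ext (by simp)
      map_mul' := fun y z => Subtype.ext (by
        show g⁻¹ * ((y : G) * z) * g = g⁻¹ * y * g * (g⁻¹ * z * g)
        group) }
  have hf : Function.Injective f := fun y z he =>
    Subtype.ext (mul_left_cancel (mul_right_cancel (congrArg Subtype.val he)))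
  have hBe : IsElementaryAbelian 2 f.range := by
    rw [MonoidHom.range_eq_map]
    refine CfsgLib.PLocal.isElementaryAbelian_map ⟨?_, fun y _ => Subtype.ext ((elementary_A H hM).2 y y.2)⟩ f
    exact ⟨⟨fun y z => Subtype.ext (Subtype.ext (comm_A H hM y.1.2 z.1.2).eq)⟩⟩
  have hBc : Nat.card f.range = 2048 := by
    rw [← Nat.card_congr (MonoidHom.ofInjective hf).toEquiv, card_A H hM]; norm_num
  obtain ⟨T, hT⟩ := (CfsgLib.PLocal.isPGroup_of_isElementaryAbelian
    (CfsgLib.PLocal.isElementaryAbelian_map hBe π)).exists_le_sylow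
  obtain ⟨hM', hB⟩ := (H.elementary_le_cover hBe).2 hBc.ge T hT
  obtain ⟨k, -, hk⟩ := exists_conj_fixing H.group H.prim H.type hM' hM (X := (∅ : Set Q))
    (fun _ _ => Subgroup.mem_centralizer_iff.2 (fun _ h0 => h0.elim))
    (fun _ _ => Subgroup.mem_centralizer_iff.2 (fun _ h0 => h0.elim))
  obtain ⟨k, rfl⟩ := H.surj k
  refine ⟨g * (k : G)⁻¹, ?_, ?_⟩
  · suffices h1 : (k : G) * g⁻¹ ∈ Subgroup.normalizer (Asub π M : Set G) by
      have := inv_mem h1
      rwa [mul_inv_rev, inv_inv] at this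
    refine Subgroup.mem_normalizer_fintype fun y hy => mem_A.2 ⟨k * f ⟨y, hy⟩ * k⁻¹, ?_, ?_⟩
    · show (k : G) * (g⁻¹ * y * g) * (k : G)⁻¹ = (k : G) * g⁻¹ * y * ((k : G) * g⁻¹)⁻¹
      group
    · have h1 : π (f ⟨y, hy⟩) ∈ Subgroup.closure {q : Q | q ∈ E ∧ q ∈ (T : Subgroup Q)} :=
        (SetLike.ext_iff.1 hB (f ⟨y, hy⟩)).1 ⟨_, rfl⟩
      rw [map_mul, map_mul, map_inv]
      refine (show Subgroup.closure ((fun x => π k * x * (π k)⁻¹) '' _) ≤ Subgroup.closure M from (le_of_eq (congrArg Subgroup.closure hk))) ?_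
      rw [← conj_closure]
      exact ⟨_, h1, rfl⟩
  · calc g * (k : G)⁻¹ * d * (g * (k : G)⁻¹)⁻¹ = g * ((k : G)⁻¹ * (d * (k : G))) * g⁻¹ := by group
      _ = x := by rw [← (commute_d k).eq, inv_mul_cancel_left, hg]

/-- The number of conjugates divides the order of `GL(11,2)`. -/
theorem ncard_dvd : (omega π M).ncard ∣ ∏ i : Fin 11, (2 ^ 11 - 2 ^ (i : ℕ)) := by
  have hA := card_A H hM
  have h1 := CfsgLib.OutTwo.card_mulAut_dvd (V := ↥(Asub π M))
    (fun v => Subtype.ext (sq_A H hM v.2)) hA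
  set φ := (Asub π M).normalizerMonoidHom
  set o : ↥(Asub π M) := ⟨d, (d_mem_omega H hM).1⟩
  have himg : omega π M = (fun y : ↥(Asub π M) => (y : G)) '' MulAction.orbit φ.range o := by
    ext x
    constructor
    · intro hx
      obtain ⟨g, hg, rfl⟩ := transitive H hM hx
      exact ⟨_, ⟨⟨φ ⟨g, hg⟩, ⟨g, hg⟩, rfl⟩, rfl⟩, rfl⟩
    · rintro ⟨_, ⟨⟨_, g, rfl⟩, rfl⟩, rfl⟩
      exact omega_conj H hM g.2 (d_mem_omega H hM)
  refine Nat.dvd_trans ?_ ((Subgroup.card_subgroup_dvd_card φ.range).trans h1)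
  rw [himg, Set.ncard_image_of_injective _ Subtype.coe_injective, ← MulAction.index_stabilizer]
  exact Subgroup.index_dvd_card _

theorem rel_iff {g x y : G} (hg : g ∈ Subgroup.normalizer (Asub π M : Set G)) (hgx : g * d * g⁻¹ = x) :
    rel π M x y ↔ IsML π M (g⁻¹ * y * g) := by
  refine ⟨fun ⟨g', hg', hgx', hy⟩ => ?_, fun hy => ⟨g, hg, hgx, hy⟩⟩
  have hc : Commute (g⁻¹ * g') d := conj_eq_conj_iff.1 (hgx.trans hgx'.symm)
  have h1 := ml_conj H hM (mul_mem (inv_mem hg) hg') hc hy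
  rwa [show g⁻¹ * g' * (g'⁻¹ * y * g') * (g⁻¹ * g')⁻¹ = g⁻¹ * y * g by group] at h1

theorem rel_conj {g x y : G} (hg : g ∈ Subgroup.normalizer (Asub π M : Set G)) (hxy : rel π M x y) :
    rel π M (g * x * g⁻¹) (g * y * g⁻¹) := by
  obtain ⟨k, hk, rfl, hy⟩ := hxy
  refine ⟨g * k, mul_mem hg hk, by group, ?_⟩
  rwa [show (g * k)⁻¹ * (g * y * g⁻¹) * (g * k) = k⁻¹ * y * k by group]

theorem rel_d {y : G} : rel π M d y ↔ IsML π M y := by
  rw [rel_iff H hM (one_mem _) (by group), inv_one, one_mul, mul_one]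

/-! ### The classes of images -/

omit H hM in
theorem cliqueProds_one : cliqueProds M 1 = M := by
  ext q
  constructor
  · rintro ⟨l, -, hl, hlM, rfl⟩
    obtain ⟨a, rfl⟩ := List.length_eq_one_iff.1 hl
    simpa using hlM a (by simp)
  · exact fun hq => ⟨[q], by simp, rfl, by simpa using hq, by simp⟩

theorem prods_trans {k : ℕ} (hk : 1 ≤ k) (hk3 : k ≤ 3) {j j' : Q} (hj : j ∈ cliqueProds M k)
    (hj' : j' ∈ cliqueProds M k) : ∃ q : Q, (fun x => q * x * q⁻¹) '' M = M ∧ q * j * q⁻¹ = j' := by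
  obtain ⟨l, hnd, hlen, hlM, rfl⟩ := hj
  obtain ⟨l', hnd', hlen', hlM', rfl⟩ := hj'
  have c1 := isCList_of_clique hM hnd hlM
  have c2 := isCList_of_clique hM hnd' hlM'
  obtain ⟨g, hg⟩ := isConj_iff.1 (((involution_classes22 H.group H.prim H.type).2.1 k hk hk3).2 l.prod l'.prod
    ⟨l, hnd, hlen, c1.mem, c1.comm, rfl⟩ ⟨l', hnd', hlen', c2.mem, c2.comm, rfl⟩)
  obtain ⟨q, hq, hqj⟩ := exists_conj_stab H.group H.prim H.type hM (S := {l.prod}) (g := g)
    (Set.singleton_subset_iff.2 (prod_mem_closure hlM))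
    (by rintro x rfl; rw [hg]; exact prod_mem_closure hlM')
  exact ⟨q, hq, by rw [hqj _ rfl, hg]⟩

theorem fib_move {k : ℕ} (hk : 1 ≤ k) (hk3 : k ≤ 3) {x : ↥(Subgroup.centralizer ({d} : Set G))}
    (hx : π x ∈ cliqueProds M k) {j' : Q} (hj' : j' ∈ cliqueProds M k) :
    ∃ c : ↥(Subgroup.centralizer ({d} : Set G)), (c : G) ∈ Subgroup.normalizer (Asub π M : Set G) ∧
      π (c * x * c⁻¹) = j' := by
  obtain ⟨q, hq, hqj⟩ := prods_trans H hM hk hk3 hx hj'
  obtain ⟨c, rfl⟩ := H.surj q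
  exact ⟨c, stab_mem_normalizer H hq, by rw [map_mul, map_mul, map_inv, hqj]⟩

omit hM in
theorem conj_fib {k : ℕ} {x c : ↥(Subgroup.centralizer ({d} : Set G))} (hx : IsConj d (x : G))
    (hc : π (c * x * c⁻¹) ∈ cliqueProds M k) : c * x * c⁻¹ ∈ fib π M k :=
  ⟨hc, hx.trans (isConj_iff.2 ⟨(c : G), rfl⟩)⟩

omit hM in
theorem ncard_preimage (T : Set Q) : (π ⁻¹' T).ncard = 2 * T.ncard := by
  obtain ⟨L, hL⟩ := H.surj.hasRightInverse
  have he : π ⁻¹' T = L '' T ∪ (fun q => L q * selfC d) '' T := by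
    ext x
    constructor
    · intro hx
      rcases H.eq_or_eq_mul (hL (π x)) with e | e
      · exact Or.inl ⟨π x, hx, e.symm⟩
      · exact Or.inr ⟨π x, hx, e.symm⟩
    · rintro (⟨q, hq, rfl⟩ | ⟨q, hq, rfl⟩)
      · show π (L q) ∈ T; rwa [hL q]
      · show π (L q * selfC d) ∈ T; rwa [map_mul, H.map_d, mul_one, hL q]
  rw [he, Set.ncard_union_eq ?_ (Set.toFinite _) (Set.toFinite _), Set.ncard_image_of_injective _ hL.injective,
    Set.ncard_image_of_injective _ fun p q e => hL.injective (mul_right_cancel e), two_mul]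
  rw [Set.disjoint_left]
  rintro _ ⟨p, -, rfl⟩ ⟨q, -, e⟩
  have h1 := congrArg π e
  rw [map_mul, H.map_d, mul_one, hL q, hL p] at h1
  subst h1
  exact H.ne (mul_eq_left.1 e)

/-- A class of images has none, one or both lifts among the conjugates. -/
theorem fib_cases {k : ℕ} (hk : 1 ≤ k) (hk3 : k ≤ 3) :
    fib π M k = ∅ ∨ fib π M k = π ⁻¹' cliqueProds M k ∨
      ((fib π M k).ncard = (cliqueProds M k).ncard ∧
        ∀ x ∈ fib π M k, x * selfC d ∉ fib π M k) := by
  classical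
  by_cases hb : ∃ x ∈ fib π M k, x * selfC d ∈ fib π M k
  · obtain ⟨x, hx, hxd⟩ := hb
    refine Or.inr (Or.inl (Set.Subset.antisymm (fun y hy => hy.1) fun y hy => ?_))
    obtain ⟨c, -, hc⟩ := fib_move H hM hk hk3 hx.1 hy
    rcases H.eq_or_eq_mul hc with e | e
    · exact e ▸ conj_fib H hx.2 (hc ▸ hy)
    · have h1 := conj_fib H (c := c) (x := x * selfC d) hxd.2 (by
        rw [map_mul, map_mul, map_mul, H.map_d, mul_one, ← map_mul, ← map_mul, hc]; exact hy)
      rw [show c * (x * selfC d) * c⁻¹ = y by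
        rw [e, mul_assoc, mul_assoc x, (H.central c⁻¹).eq]; group] at h1
      exact h1
  push Not at hb
  rcases (fib π M k).eq_empty_or_nonempty with he | ⟨x, hx⟩
  · exact Or.inl he
  refine Or.inr (Or.inr ⟨?_, hb⟩)
  have hinj : Set.InjOn π (fib π M k) := fun y hy z hz he => by
    rcases H.eq_or_eq_mul he with e | e
    · exact e.symm
    · exact absurd (e ▸ hz) (hb y hy)
  rw [← hinj.ncard_image]
  congr 1
  refine Set.Subset.antisymm (by rintro _ ⟨y, hy, rfl⟩; exact hy.1) fun j hj => ?_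
  obtain ⟨c, -, hc⟩ := fib_move H hM hk hk3 hx.1 hj
  exact ⟨_, conj_fib H hx.2 (hc ▸ hj), hc⟩

theorem fib_ncard {k : ℕ} (hk : 1 ≤ k) (hk3 : k ≤ 3) :
    (fib π M k).ncard = 0 ∨ (fib π M k).ncard = (cliqueProds M k).ncard ∨
      (fib π M k).ncard = 2 * (cliqueProds M k).ncard := by
  rcases fib_cases H hM hk hk3 with e | e | e
  · exact Or.inl (by rw [e, Set.ncard_empty])
  · exact Or.inr (Or.inr (by rw [e, ncard_preimage H]))
  · exact Or.inr (Or.inl e.1)

theorem omega_ncard :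
    (omega π M).ncard = 1 + (fib π M 1).ncard + (fib π M 2).ncard + (fib π M 3).ncard := by
  have hd : ∀ i j, 1 ≤ i → i ≤ 3 → 1 ≤ j → j ≤ 3 → i ≠ j → Disjoint (fib π M i) (fib π M j) :=
    fun i j a b c e hne => Set.disjoint_left.2 fun x hi hj =>
      hne (cliqueProds_disjoint H.group H.prim H.type hM a b c e hi.1 hj.1)
  have he : omega π M = (fun c : ↥(Subgroup.centralizer ({d} : Set G)) => (c : G)) ''
      ({selfC d} ∪ fib π M 1 ∪ fib π M 2 ∪ fib π M 3) := by
    ext x
    constructor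
    · rintro ⟨hxA, hxd⟩
      obtain ⟨c, rfl, hc⟩ := mem_A.1 hxA
      refine ⟨c, ?_, rfl⟩
      by_cases h1 : π c = 1
      · rcases (H.ker c).1 h1 with rfl | rfl
        · exfalso
          exact d_ne_one H hM (isConj_one_left.1 hxd)
        · exact Or.inl (Or.inl (Or.inl rfl))
      obtain ⟨l, l1, l3, hl, hlM, hp'⟩ := closure_clique_cases H.group H.prim H.type hM hc h1
      have hmem : c ∈ fib π M l.length := ⟨⟨l, hl.nodup, rfl, hlM, hp'⟩, hxd⟩
      obtain e | e | e : l.length = 1 ∨ l.length = 2 ∨ l.length = 3 := by omega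
      · exact Or.inl (Or.inl (Or.inr (e ▸ hmem)))
      · exact Or.inl (Or.inr (e ▸ hmem))
      · exact Or.inr (e ▸ hmem)
    · rintro ⟨c, hc, rfl⟩
      rcases hc with ((hc | hc) | hc) | hc
      · rw [Set.mem_singleton_iff] at hc
        subst hc
        exact d_mem_omega H hM
      all_goals
        obtain ⟨⟨l, -, -, hlM, he⟩, hcd⟩ := hc
        exact ⟨mem_A.2 ⟨c, rfl, he ▸ prod_mem_closure hlM⟩, hcd⟩
  have hone : ∀ i, 1 ≤ i → i ≤ 3 → selfC d ∉ fib π M i := by
    intro i hi hi3 hd'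
    obtain ⟨l, hnd, hlen, hlM, he⟩ := hd'.1
    rw [H.map_d] at he
    have hc := isCList_of_clique hM hnd hlM
    obtain ⟨x, hx, l', hnd', hlen', hD', hc', he'⟩ :=
      ((involution_classes22 H.group H.prim H.type).2.1 i hi hi3).1
    have h2 := ((involution_classes22 H.group H.prim H.type).2.1 i hi hi3).2 x 1
      ⟨l', hnd', hlen', hD', hc', he'⟩ ⟨l, hnd, hlen, hc.mem, hc.comm, he⟩
    rw [isConj_one_left.1 h2, orderOf_one] at hx
    omega
  rw [he, Set.ncard_image_of_injective _ Subtype.coe_injective,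
    Set.ncard_union_eq ?_ (Set.toFinite _) (Set.toFinite _),
    Set.ncard_union_eq ?_ (Set.toFinite _) (Set.toFinite _),
    Set.ncard_union_eq (Set.disjoint_singleton_left.2 (hone 1 le_rfl (by norm_num)))
      (Set.toFinite _) (Set.toFinite _), Set.ncard_singleton]
  · rw [Set.disjoint_union_left, Set.disjoint_singleton_left]
    exact ⟨hone 2 (by norm_num) (by norm_num), hd 1 2 le_rfl (by norm_num) (by norm_num) (by norm_num) (by norm_num)⟩
  · rw [Set.disjoint_union_left, Set.disjoint_union_left, Set.disjoint_singleton_left]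
    exact ⟨⟨hone 3 (by norm_num) le_rfl, hd 1 3 le_rfl (by norm_num) (by norm_num) le_rfl (by norm_num)⟩,
      hd 2 3 (by norm_num) (by norm_num) (by norm_num) le_rfl (by norm_num)⟩

end Pencil

end CfsgLib.FischerTypes
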