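import Cfsg.Agent.FischerTypes.M22Cover
import Cfsg.Agent.FischerTypes.M22CliqueGroup
import Cfsg.Agent.OutTwo.Six

/-!
# The preimage of `⟨M⟩` in a double cover of type M(22)

It is elementary abelian of order 2048, it is the Thompson subgroup of a Sylow 2-subgroup, and it contains a
six of one class of lifts with product `d` through each member of `M`.
-/

set_option autoImplicit false
set_option linter.unusedSectionVars false
set_option maxHeartbeats 1000000

namespace CfsgLib.FischerTypes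

open Cfsg

variable {P Q : Type*} [Group P] [Group Q] [Finite P] [Finite Q] {E : Set Q} {π : P →* Q} {d : P}

namespace Cover22

variable (H : Cover22 π E d)

include H

theorem card_comap (B : Subgroup Q) : Nat.card (B.comap π) = 2 * Nat.card B := by
  let f : ↥(B.comap π) →* ↥B := π.subgroupComap B
  have hf : Function.Surjective f := fun b => by
    obtain ⟨p, hp⟩ := H.surj (b : Q)
    exact ⟨⟨p, show π p ∈ B from hp ▸ b.2⟩, Subtype.ext hp⟩
  rw [Subgroup.card_eq_card_quotient_mul_card_subgroup f.ker,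
    Nat.card_congr (QuotientGroup.quotientKerEquivOfSurjective f hf).toEquiv, mul_comm]
  congr 1
  have hd : d ∈ B.comap π := show π d ∈ B by rw [H.map_d]; exact one_mem B
  have he : (f.ker : Set ↥(B.comap π)) = {1, ⟨d, hd⟩} := by
    ext z
    rw [SetLike.mem_coe, MonoidHom.mem_ker, Subtype.ext_iff]
    show π (z : P) = 1 ↔ _
    rw [H.ker]
    exact ⟨Or.imp (fun e => Subtype.ext e) (fun e => Subtype.ext e), Or.imp (congrArg Subtype.val) (congrArg Subtype.val)⟩
  rw [show Nat.card f.ker = (f.ker : Set ↥(B.comap π)).ncard from Nat.card_coe_set_eq _, he,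
    Set.ncard_pair fun e => H.ne (congrArg Subtype.val e).symm]

theorem elementary_comap {M : Set Q} (hM : IsMaxClique E M) :
    IsElementaryAbelian 2 ((Subgroup.closure M).comap π) := by
  set S : Set P := {x | x = d ∨ π x ∈ M} with hS
  have hle : (Subgroup.closure M).comap π ≤ Subgroup.closure S := by
    intro x hx
    have key : ∀ q ∈ Subgroup.closure M, ∃ y ∈ Subgroup.closure S, π y = q := by
      intro q hq
      induction hq using Subgroup.closure_induction with
      | mem m hm =>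
        obtain ⟨y, rfl⟩ := H.surj m
        exact ⟨y, Subgroup.subset_closure (Or.inr hm), rfl⟩
      | one => exact ⟨1, one_mem _, map_one π⟩
      | mul a b _ _ iha ihb =>
        obtain ⟨y, hy, rfl⟩ := iha
        obtain ⟨z, hz, rfl⟩ := ihb
        exact ⟨y * z, mul_mem hy hz, map_mul π y z⟩
      | inv a _ iha =>
        obtain ⟨y, hy, rfl⟩ := iha
        exact ⟨y⁻¹, inv_mem hy, map_inv π y⟩
    obtain ⟨y, hy, hyx⟩ := key _ hx
    rcases H.eq_or_eq_mul hyx with rfl | rfl
    · exact hy
    · exact mul_mem hy (Subgroup.subset_closure (Or.inl rfl))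
  refine CfsgLib.PLocal.isElementaryAbelian_of_le (CfsgLib.PLocal.isElementaryAbelian_closure ?_ ?_) hle
  · rintro x (rfl | hx) y (rfl | hy)
    · rfl
    · exact (H.central y).eq
    · exact (H.central x).eq.symm
    · exact (H.commute_of_commute (hM.sub hx) (hM.sub hy) (hM.comm _ hx _ hy)).eq
  · rintro x (rfl | hx)
    · rw [pow_two]; exact H.sq
    · rw [pow_two]; exact H.member_mul_self (hM.sub hx)

theorem card_preimage {M : Set Q} (hM : IsMaxClique E M) : Nat.card ((Subgroup.closure M).comap π) = 2048 := by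
  rw [H.card_comap, card_closure_clique H.group H.prim H.type hM]

/-- An elementary abelian subgroup has order at most 2048, with equality only for these preimages. -/
theorem elementary_le_cover {B : Subgroup P} (hB : IsElementaryAbelian 2 B) :
    Nat.card B ≤ 2048 ∧ (2048 ≤ Nat.card B → ∀ T : Sylow 2 Q, B.map π ≤ (T : Subgroup Q) →
      IsMaxClique E {x : Q | x ∈ E ∧ x ∈ (T : Subgroup Q)} ∧
      B = (Subgroup.closure {x : Q | x ∈ E ∧ x ∈ (T : Subgroup Q)}).comap π) := by
  have hB' : IsElementaryAbelian 2 (B.map π) := CfsgLib.PLocal.isElementaryAbelian_map hB π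
  obtain ⟨h1, h2⟩ := elementary_le H.group H.prim H.type hB'
  have hle : B ≤ (B.map π).comap π := Subgroup.le_comap_map π B
  have hc := Subgroup.card_le_of_le hle
  rw [H.card_comap] at hc
  refine ⟨by omega, fun he T hT => ?_⟩
  obtain ⟨hM, heq⟩ := h2 (by omega) T hT
  refine ⟨hM, ?_⟩
  rw [← heq]
  exact Subgroup.eq_of_le_of_card_ge hle (by rw [H.card_comap]; omega)

/-- The Thompson subgroup of a Sylow 2-subgroup. -/
theorem thompson (S : Sylow 2 P) :
    ∃ M, IsMaxClique E M ∧ thompsonSubgroupOf 2 (S : Subgroup P) = (Subgroup.closure M).comap π := by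
  haveI : Fact (Nat.Prime 2) := ⟨Nat.prime_two⟩
  set T := S.mapSurjective (f := π) H.surj with hTdef
  have hT : (T : Subgroup Q) = (S : Subgroup P).map π := Sylow.coe_mapSurjective _ S
  set M := {x : Q | x ∈ E ∧ x ∈ (T : Subgroup Q)} with hMdef
  -- some maximal commuting set lies in `T`
  obtain ⟨M₀, hM₀, -⟩ := exists_clique_supset H.group (S := ∅) (Set.empty_subset E) (fun a ha => ha.elim)
  obtain ⟨T', hT'⟩ := (CfsgLib.PLocal.isPGroup_of_isElementaryAbelian
    (isElementaryAbelian_clique H.group hM₀)).exists_le_sylow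
  obtain ⟨g, hg⟩ := MulAction.exists_smul_eq Q T' T
  have hM₁ := isMaxClique_conj H.group hM₀ g
  have hsub : Subgroup.closure ((fun x => g * x * g⁻¹) '' M₀) ≤ (T : Subgroup Q) := by
    rw [Subgroup.closure_le]
    rintro _ ⟨x, hx, rfl⟩
    rw [← hg, Sylow.coe_subgroup_smul]
    exact ⟨x, hT' (Subgroup.subset_closure hx), rfl⟩
  obtain ⟨hM, hMe⟩ := (elementary_le H.group H.prim H.type (isElementaryAbelian_clique H.group hM₁)).2
    (card_closure_clique H.group H.prim H.type hM₁) T hsub
  refine ⟨M, hM, ?_⟩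
  set A := (Subgroup.closure M).comap π with hA
  have hAS : A ≤ (S : Subgroup P) := by
    intro x hx
    have hxT : π x ∈ (S : Subgroup P).map π := hT ▸ ((Subgroup.closure_le _).2 fun y hy => hy.2) hx
    obtain ⟨s, hs, hsx⟩ := hxT
    have hdS : d ∈ (S : Subgroup P) := by
      have hp : IsPGroup 2 ↥(Subgroup.zpowers d) := CfsgLib.PLocal.isPGroup_of_isElementaryAbelian
        (CfsgLib.PLocal.isElementaryAbelian_zpowers (by rw [pow_two, H.sq]))
      obtain ⟨S', hS'⟩ := hp.exists_le_sylow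
      obtain ⟨k, hk⟩ := MulAction.exists_smul_eq P S' S
      rw [← hk, Sylow.coe_subgroup_smul]
      refine ⟨d, hS' (Subgroup.mem_zpowers d), ?_⟩
      show k * d * k⁻¹ = d
      rw [← (H.central k).eq, mul_inv_cancel_right]
    rcases H.eq_or_eq_mul hsx with rfl | rfl
    · exact hs
    · exact mul_mem hs hdS
  have hset : Subgroup.map (S : Subgroup P).subtype '' maxElementaryAbelianSubgroups 2 ↥(S : Subgroup P) = {A} := by
    rw [CfsgLib.PLocal.image_map_maxEA]
    ext B
    constructor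
    · rintro ⟨hBS, hBe, hBmax⟩
      exact ((H.elementary_le_cover hBe).2 (by
        rw [← H.card_preimage hM]
        exact hBmax A hAS (H.elementary_comap hM)) T (by rw [hT]; exact Subgroup.map_mono hBS)).2
    · rintro rfl
      exact ⟨hAS, H.elementary_comap hM, fun X hX hX' => by
        rw [hA, H.card_preimage hM]; exact (H.elementary_le_cover hX').1⟩
  unfold thompsonSubgroupOf thompsonSubgroup
  rw [(Subgroup.gc_map_comap (S : Subgroup P).subtype).l_sSup, ← sSup_image, hset, sSup_singleton]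

/-- Through each member of `M` runs a six of lifts in one class with product `d`. -/
theorem exists_six_through {M : Set Q} (hM : IsMaxClique E M) {a : P} (ha : π a ∈ M) :
    ∃ l : List P, l.length = 5 ∧ (l.map π).Nodup ∧ (∀ x ∈ l, π x ∈ M ∧ π x ≠ π a ∧ IsConj a x) ∧
      a * l.prod = d := by
  classical
  obtain ⟨L, hlen, hnd, hcl, hcm, hprod⟩ := H.exists_six_cover (hM.sub ha)
  set S : Set Q := {q | ∃ x ∈ L, π x = q} with hS
  obtain ⟨M', hM', hSM'⟩ := exists_clique_supset H.group (S := S)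
    (by rintro q ⟨x, hx, rfl⟩; exact H.mem_D_of_conj (hM.sub ha) (hcl x hx))
    (by rintro p ⟨x, hx, rfl⟩ q ⟨y, hy, rfl⟩; exact hcm x hx y hy)
  obtain ⟨k₁, -, hk₁⟩ := exists_conj_fixing H.group H.prim H.type hM' hM (X := (∅ : Set Q))
    (fun _ _ => Subgroup.mem_centralizer_iff.2 (fun _ h0 => h0.elim))
    (fun _ _ => Subgroup.mem_centralizer_iff.2 (fun _ h0 => h0.elim))
  obtain ⟨x₀, hx₀⟩ : ∃ x₀, x₀ ∈ L := by
    cases L with
    | nil => simp at hlen
    | cons x L => exact ⟨x, by simp⟩
  have hq : k₁ * π x₀ * k₁⁻¹ ∈ M := hk₁ ▸ ⟨_, hSM' ⟨x₀, hx₀, rfl⟩, rfl⟩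
  obtain ⟨k₂, hk₂, hk₂a⟩ := exists_stab_member H.group H.prim H.type hM hq ha
  obtain ⟨k, hk⟩ := H.surj (k₂ * k₁)
  set L' := L.map fun x => k * x * k⁻¹ with hL'
  have hπk : ∀ x, π (k * x * k⁻¹) = k₂ * (k₁ * π x * k₁⁻¹) * k₂⁻¹ := fun x => by
    rw [map_mul, map_mul, map_inv, hk]; group
  have hL'M : ∀ x ∈ L', π x ∈ M ∧ IsConj a x := by
    intro x hx
    obtain ⟨y, hy, rfl⟩ := List.mem_map.1 hx
    refine ⟨?_, (hcl y hy).trans (isConj_iff.2 ⟨k, rfl⟩)⟩
    rw [hπk, ← hk₂]
    exact ⟨_, hk₁ ▸ ⟨_, hSM' ⟨y, hy, rfl⟩, rfl⟩, rfl⟩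
  have ha' : a ∈ L' := by
    refine List.mem_map.2 ⟨x₀, hx₀, ?_⟩
    refine (H.lift_unique (hM.sub ha) ((hcl x₀ hx₀).trans (isConj_iff.2 ⟨k, rfl⟩)) ?_).symm
    rw [hπk, hk₂a]
  have hnd' : (L'.map π).Nodup := by
    have e : L'.map π = (L.map π).map fun q => k₂ * (k₁ * q * k₁⁻¹) * k₂⁻¹ := by
      rw [hL', List.map_map, List.map_map]
      exact List.map_congr_left fun x _ => hπk x
    rw [e]
    exact hnd.map fun p q he => mul_left_cancel (mul_right_cancel (mul_left_cancel (mul_right_cancel he)))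
  have hnd2 : L'.Nodup := hnd'.of_map π
  have hperm := List.perm_cons_erase ha'
  have hcm' : ∀ x ∈ L', ∀ y ∈ L', Commute x y := fun x hx y hy =>
    H.commute_of_commute (hM.sub (hL'M x hx).1) (hM.sub (hL'M y hy).1) (hM.comm _ (hL'M x hx).1 _ (hL'M y hy).1)
  have hnd3 : ((a :: L'.erase a).map π).Nodup := (hperm.map π).nodup_iff.1 hnd'
  rw [List.map_cons, List.nodup_cons] at hnd3
  refine ⟨L'.erase a, ?_, hnd3.2, fun x hx => ⟨(hL'M x (List.mem_of_mem_erase hx)).1,
    fun he => hnd3.1 (he ▸ List.mem_map_of_mem hx), (hL'M x (List.mem_of_mem_erase hx)).2⟩, ?_⟩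
  · rw [List.length_erase_of_mem ha', hL', List.length_map, hlen]
  · rw [← List.prod_cons, ← hperm.prod_eq' (hnd2.pairwise_of_forall_ne fun x hx y hy _ => hcm' x hx y hy), hL',
      show L.map (fun x => k * x * k⁻¹) = L.map (MulAut.conj k) from rfl, ← map_list_prod, hprod,
      MulAut.conj_apply, ← (H.central k).eq, mul_inv_cancel_right]

end Cover22

end CfsgLib.FischerTypes
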