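import Cfsg.Agent.FischerTypes.M23Pencil

/-!
# Exactly 23 conjugates

In the frame of a conjugate `a` over a member the member lifts are `d` and the lifts in the class of `a`:
the other choices give five members with product one, or an element fixing `d` which exchanges the two
lifts of a member.
-/

set_option autoImplicit false
set_option linter.unusedSectionVars false
set_option maxHeartbeats 1000000

namespace CfsgLib.FischerTypes

open Cfsg

variable {G Q : Type*} [Group G] [Group Q] [Finite G] [Finite Q] {E : Set Q} {d : G}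

namespace Pencil

variable {π : ↥(Subgroup.centralizer ({d} : Set G)) →* Q} {M : Set Q}

/-- The conjugates over members seen from `a`, as elements of the centralizer of `d`. -/
def frame (π : ↥(Subgroup.centralizer ({d} : Set G)) →* Q) (M : Set Q)
    (a : ↥(Subgroup.centralizer ({d} : Set G))) : Set ↥(Subgroup.centralizer ({d} : Set G)) :=
  {c | (c : G) ∈ omega π M ∧ rel π M (a : G) (c : G)}

variable (H : Cover22 π E (selfC d)) (hM : IsMaxClique E M)

include H hM

theorem fib_one {c : ↥(Subgroup.centralizer ({d} : Set G))} :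
    c ∈ fib π M 1 ↔ π c ∈ M ∧ IsConj d (c : G) := by
  simp only [fib, cliqueProds_one, Set.mem_ofPred_eq]

theorem omega_of_fib {k : ℕ} {c : ↥(Subgroup.centralizer ({d} : Set G))} (hc : c ∈ fib π M k) :
    (c : G) ∈ omega π M := by
  obtain ⟨⟨l, -, -, hlM, he⟩, hcd⟩ := hc
  exact ⟨mem_A.2 ⟨c, rfl, he ▸ prod_mem_closure hlM⟩, hcd⟩

omit H hM in
theorem mem_normalizer_set {q : Q} (hq : (fun x => q * x * q⁻¹) '' M = M) :
    q ∈ Subgroup.normalizer M := by
  refine Subgroup.mem_normalizer_fintype fun x hx => ?_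
  rw [← hq]
  exact ⟨x, hx, rfl⟩

omit H hM in
theorem image_of_mem_normalizer {q : Q} (hq : q ∈ Subgroup.normalizer M) :
    (fun x => q * x * q⁻¹) '' M = M :=
  Set.Subset.antisymm (by rintro _ ⟨x, hx, rfl⟩; exact (Subgroup.mem_set_normalizer_iff.1 hq x).1 hx)
    fun x hx => ⟨q⁻¹ * x * q, (Subgroup.mem_set_normalizer_iff.1 hq _).2 (by simpa [mul_assoc] using hx), by group⟩

/-- The relation is symmetric between `d` and a conjugate over a member. -/
theorem rel_sym {a : ↥(Subgroup.centralizer ({d} : Set G))} (ha : a ∈ fib π M 1) : rel π M (a : G) d := by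
  classical
  obtain ⟨g, hg, hga⟩ := transitive H hM (omega_of_fib H hM ha)
  have hy := omega_conj' H hM hg (d_mem_omega H hM)
  obtain ⟨cy, hcy, hcyM⟩ := mem_A.1 hy.1
  set K := Subgroup.normalizer (Asub π M : Set G) ⊓ Subgroup.centralizer ({d} : Set G) with hK
  have horb : ∀ x : G, Nat.card K = {z | ∃ k ∈ K, k * x * k⁻¹ = z}.ncard *
      Nat.card ↥(K ⊓ Subgroup.centralizer ({x} : Set G)) := fun x =>
    card_eq_ncard_mul_card inf_le_left (fun k => k * x * k⁻¹) (fun k hk => ⟨k, hk, rfl⟩) (fun z hz => hz)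
      fun k hk k' hk' => by
        rw [conj_eq_conj_iff, Subgroup.mem_inf, Subgroup.mem_centralizer_singleton_iff]
        exact ⟨fun hc => ⟨mul_mem (inv_mem hk) hk', hc⟩, fun hc => hc.2⟩
  have hKeq : (K ⊓ Subgroup.centralizer ({g⁻¹ * d * g} : Set G)).map (MulAut.conj g).toMonoidHom =
      K ⊓ Subgroup.centralizer ({(a : G)} : Set G) := by
    ext z
    simp only [Subgroup.mem_map, hK, Subgroup.mem_inf, Subgroup.mem_centralizer_singleton_iff,
      MulEquiv.toMonoidHom_eq_coe, MonoidHom.coe_coe, MulAut.conj_apply]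
    constructor
    · rintro ⟨w, ⟨⟨hwN, hwd⟩, hwy⟩, rfl⟩
      refine ⟨⟨mul_mem (mul_mem hg hwN) (inv_mem hg), ?_⟩, ?_⟩
      · have := (commute_conj_iff' g _ _).2 (show Commute w (g⁻¹ * d * g) from hwy)
        rwa [show g * (g⁻¹ * d * g) * g⁻¹ = d by group] at this
      · rw [← hga]
        exact (commute_conj_iff' g _ _).2 (show Commute w d from hwd)
    · rintro ⟨⟨hzN, hzd⟩, hza⟩
      refine ⟨g⁻¹ * z * g, ⟨⟨mul_mem (mul_mem (inv_mem hg) hzN) hg, ?_⟩, ?_⟩, by group⟩
      · show Commute (g⁻¹ * z * g) d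
        rw [← commute_conj_iff' g, show g * (g⁻¹ * z * g) * g⁻¹ = z by group, hga]
        exact hza
      · show Commute (g⁻¹ * z * g) (g⁻¹ * d * g)
        rw [← commute_conj_iff' g, show g * (g⁻¹ * z * g) * g⁻¹ = z by group,
          show g * (g⁻¹ * d * g) * g⁻¹ = d by group]
        exact hzd
  have hcard : Nat.card ↥(K ⊓ Subgroup.centralizer ({g⁻¹ * d * g} : Set G)) =
      Nat.card ↥(K ⊓ Subgroup.centralizer ({(a : G)} : Set G)) := by
    rw [← hKeq, Subgroup.card_map_of_injective (MulAut.conj g).injective]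
  have e1 := horb (g⁻¹ * d * g)
  rw [horb (a : G), hcard] at e1
  have hSS := Nat.eq_of_mul_eq_mul_right Nat.card_pos e1
  have haM := (fib_one H hM).1 ha
  -- the orbit of `a` has at most 22 members
  have hSa : {z | ∃ k ∈ K, k * (a : G) * k⁻¹ = z}.ncard ≤ 22 := by
    set S' := {c : ↥(Subgroup.centralizer ({d} : Set G)) | IsConj a c ∧ π c ∈ M}
    have h1 : {z | ∃ k ∈ K, k * (a : G) * k⁻¹ = z} ⊆ (fun c : ↥(Subgroup.centralizer ({d} : Set G)) => (c : G)) '' S' := by
      rintro _ ⟨k, hk, rfl⟩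
      refine ⟨⟨k, hk.2⟩ * a * ⟨k, hk.2⟩⁻¹, ⟨isConj_iff.2 ⟨_, rfl⟩, ?_⟩, rfl⟩
      rw [map_mul, map_mul, map_inv]
      exact stab_of_mem_normalizer H hM (c := ⟨k, hk.2⟩) hk.1 haM.1
    refine (Set.ncard_le_ncard h1 (Set.toFinite _)).trans ((Set.ncard_image_le (Set.toFinite _)).trans ?_)
    rw [← (ncard_cliqueProds H.group H.prim H.type hM).1, cliqueProds_one]
    exact Set.ncard_le_ncard_of_injOn π (fun c hc => hc.2) (fun x hx y hy he =>
      H.lift_unique (hM.sub hx.2) (hx.1.symm.trans hy.1) he) (Set.toFinite _)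
  -- so `d` lies over a member there
  have hne1 : π cy ≠ 1 := fun h1 => by
    rcases (H.ker cy).1 h1 with rfl | rfl
    · exact d_ne_one H hM (conj_eq_one_iff.1 (show g⁻¹ * d * g⁻¹⁻¹ = 1 by rw [inv_inv]; exact hcy.symm))
    · have e : g * d * g⁻¹ = d := by
        calc g * d * g⁻¹ = g * ((selfC d : ↥(Subgroup.centralizer ({d} : Set G))) : G) * g⁻¹ := rfl
          _ = d := by rw [hcy]; group
      rw [hga] at e
      have h2 : a = selfC d := Subtype.ext e
      have h3 := haM.1
      rw [h2, H.map_d] at h3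
      exact ne_one H.group.1 (hM.sub h3) rfl
  obtain ⟨l, l1, l3, hl, hlM, hp'⟩ := closure_clique_cases H.group H.prim H.type hM hcyM hne1
  have hmem : π cy ∈ cliqueProds M l.length := ⟨l, hl.nodup, rfl, hlM, hp'⟩
  have hge : (cliqueProds M l.length).ncard ≤ {z | ∃ k ∈ K, k * (g⁻¹ * d * g) * k⁻¹ = z}.ncard := by
    set S'' := {c : ↥(Subgroup.centralizer ({d} : Set G)) | ∃ k ∈ K, k * (g⁻¹ * d * g) * k⁻¹ = (c : G)}
    have h1 : cliqueProds M l.length ⊆ π '' S'' := fun j hj => by
      obtain ⟨c, hc, hcj⟩ := fib_move H hM l1 l3 hmem hj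
      exact ⟨c * cy * c⁻¹, ⟨c, ⟨hc, c.2⟩, by rw [← hcy]; rfl⟩, hcj⟩
    refine (Set.ncard_le_ncard h1 (Set.toFinite _)).trans ((Set.ncard_image_le (Set.toFinite _)).trans ?_)
    exact Set.ncard_le_ncard_of_injOn (fun c : ↥(Subgroup.centralizer ({d} : Set G)) => (c : G))
      (fun c hc => hc) (fun x _ y _ he => Subtype.ext he) (Set.toFinite _)
  have hk1 : l.length = 1 := by
    by_contra hne
    obtain ⟨-, n2, n3⟩ := ncard_cliqueProds H.group H.prim H.type hM
    obtain e | e : l.length = 2 ∨ l.length = 3 := by omega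
    all_goals rw [e] at hge; omega
  rw [rel_iff H hM hg hga]
  exact ⟨cy, hcy, by rw [hk1, cliqueProds_one] at hmem; exact hmem⟩

/-- The frame of `a` has as many points as that of `d`. -/
theorem frame_ncard {a : ↥(Subgroup.centralizer ({d} : Set G))} (ha : a ∈ fib π M 1) :
    (frame π M a).ncard = (fib π M 1).ncard := by
  obtain ⟨g, hg, hga⟩ := transitive H hM (omega_of_fib H hM ha)
  rw [← Set.ncard_image_of_injective (frame π M a) Subtype.coe_injective,
    ← Set.ncard_image_of_injective (fib π M 1)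
      ((MulAut.conj g).injective.comp Subtype.coe_injective)]
  congr 1
  ext x
  constructor
  · rintro ⟨c, ⟨hc, hr⟩, rfl⟩
    obtain ⟨e, he, heM⟩ := (rel_iff H hM hg hga).1 hr
    refine ⟨e, (fib_one H hM).2 ⟨heM, he ▸ (omega_conj' H hM hg hc).2⟩, ?_⟩
    show g * (e : G) * g⁻¹ = c
    rw [he]; group
  · rintro ⟨e, he, rfl⟩
    have h1 := omega_conj H hM hg (omega_of_fib H hM he)
    obtain ⟨c, hc, -⟩ := mem_A.1 h1.1
    refine ⟨c, ⟨hc.symm ▸ h1, (rel_iff H hM hg hga).2 ⟨e, ?_, ((fib_one H hM).1 he).1⟩⟩, hc⟩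
    rw [hc]; group

theorem self_mem_frame {a : ↥(Subgroup.centralizer ({d} : Set G))} (ha : a ∈ fib π M 1) :
    selfC d ∈ frame π M a :=
  ⟨d_mem_omega H hM, rel_sym H hM ha⟩

/-- When both lifts occur, frames are closed under the product with their centre. -/
theorem mul_mem_frame (hb : fib π M 1 = π ⁻¹' cliqueProds M 1) {a c : ↥(Subgroup.centralizer ({d} : Set G))}
    (ha : a ∈ fib π M 1) (hc : c ∈ frame π M a) : a * c ∈ frame π M a := by
  obtain ⟨g, hg, hga⟩ := transitive H hM (omega_of_fib H hM ha)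
  obtain ⟨e, he, heM⟩ := (rel_iff H hM hg hga).1 hc.2
  have h1 : selfC d * e ∈ fib π M 1 := by
    rw [hb, Set.mem_preimage, map_mul, H.map_d, one_mul, cliqueProds_one]; exact heM
  have e' : ((a * c : ↥(Subgroup.centralizer ({d} : Set G))) : G) =
      g * ((selfC d * e : ↥(Subgroup.centralizer ({d} : Set G))) : G) * g⁻¹ := by
    show (a : G) * c = g * (d * e) * g⁻¹
    rw [he, ← hga]; group
  refine ⟨e' ▸ omega_conj H hM hg (omega_of_fib H hM h1), (rel_iff H hM hg hga).2 ⟨selfC d * e, ?_, ?_⟩⟩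
  · rw [e']; group
  · rw [map_mul, H.map_d, one_mul]; exact heM

/-- Either both lifts occur everywhere or only one. -/
theorem fib_one_cases {a : ↥(Subgroup.centralizer ({d} : Set G))} (ha : a ∈ fib π M 1) :
    (fib π M 1 = π ⁻¹' cliqueProds M 1 ∧ (fib π M 1).ncard = 44) ∨
      ((fib π M 1).ncard = 22 ∧ ∀ x ∈ fib π M 1, x * selfC d ∉ fib π M 1) := by
  have n1 := (ncard_cliqueProds H.group H.prim H.type hM).1
  rcases fib_cases H hM (le_refl 1) (by norm_num) with e | e | e
  · rw [e] at ha; exact ha.elim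
  · exact Or.inl ⟨e, by rw [e, ncard_preimage H, n1]⟩
  · exact Or.inr ⟨by rw [e.1, n1], e.2⟩

/-- An element over the stabiliser of `M` and of the image of `a`. -/
theorem exists_fixing {a : ↥(Subgroup.centralizer ({d} : Set G))} (ha : π a ∈ M) {q : Q}
    (hq : (fun x => q * x * q⁻¹) '' M = M) (hqa : q * π a * q⁻¹ = π a) :
    ∃ c : ↥(Subgroup.centralizer ({d} : Set G)), π c = q ∧
      (c : G) ∈ Subgroup.normalizer (Asub π M : Set G) ∧ c * a * c⁻¹ = a ∧
      ∀ {z}, z ∈ frame π M a \ {selfC d, a * selfC d} →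
        c * z * c⁻¹ ∈ frame π M a \ {selfC d, a * selfC d} := by
  obtain ⟨c, rfl⟩ := H.surj q
  have hcN := stab_mem_normalizer H hq
  have hca : c * a * c⁻¹ = a := by
    rw [(H.commute_of_fix (hM.sub ha) (show Commute (π c) (π a) from mul_inv_eq_iff_eq_mul.1 hqa)).eq,
      mul_inv_cancel_right]
  have hcd : c * selfC d * c⁻¹ = selfC d := by rw [← (H.central c).eq, mul_inv_cancel_right]
  have hcad : c * (a * selfC d) * c⁻¹ = a * selfC d := by
    calc c * (a * selfC d) * c⁻¹ = (c * a * c⁻¹) * (c * selfC d * c⁻¹) := by group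
      _ = _ := by rw [hca, hcd]
  refine ⟨c, rfl, hcN, hca, fun {z} hz => ⟨⟨omega_conj H hM hcN hz.1.1, ?_⟩, ?_⟩⟩
  · have h1 := rel_conj H hM hcN hz.1.2
    rwa [show (c : G) * (a : G) * (c : G)⁻¹ = (a : G) from congrArg Subtype.val hca] at h1
  · have hinj : ∀ {w : ↥(Subgroup.centralizer ({d} : Set G))}, c * z * c⁻¹ = w → c * w * c⁻¹ = w → z = w :=
      fun {w} h1 h2 => mul_left_cancel (mul_right_cancel (h1.trans h2.symm))
    rintro (h1 | h1)
    · exact hz.2 (Or.inl (hinj h1 hcd))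
    · exact hz.2 (Or.inr (hinj h1 hcad))

/-- The points of a frame beside `d` lie over members and their products with the centre's image. -/
theorem rest_cases {a : ↥(Subgroup.centralizer ({d} : Set G))} (ha : a ∈ fib π M 1)
    {z : ↥(Subgroup.centralizer ({d} : Set G))} (hz : z ∈ frame π M a \ {selfC d, a * selfC d}) :
    ∃ b ∈ M, b ≠ π a ∧ (π z = b ∨ π z = π a * b) := by
  classical
  obtain ⟨haM, had⟩ := (fib_one H hM).1 ha
  set α := π a with hα
  obtain ⟨n1, n2, n3⟩ := ncard_cliqueProds H.group H.prim H.type hM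
  have hM22 : M.ncard = 22 := by rw [← cliqueProds_one (M := M)]; exact n1
  set Rest := frame π M a \ {selfC d, a * selfC d} with hRest
  set Im := π '' Rest with hIm
  set S := Subgroup.normalizer M with hS
  have hRle : Rest.ncard = 21 ∨ Rest.ncard = 42 := by
    have h1 := frame_ncard H hM ha
    have hd1 := self_mem_frame H hM ha
    rcases fib_one_cases H hM ha with ⟨hb, h44⟩ | ⟨h22, hno⟩
    · right
      have hne : selfC d ≠ a * selfC d := fun e => by
        have := mul_eq_right.1 e.symm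
        rw [this, map_one] at hα
        exact ne_one H.group.1 (hM.sub haM) hα
      rw [hRest, Set.ncard_sdiff (Set.pair_subset hd1 (mul_mem_frame H hM hb ha hd1)), h1, h44,
        Set.ncard_pair hne]
    · left
      have hnot : a * selfC d ∉ frame π M a := fun h2 =>
        hno a ha ((fib_one H hM).2 ⟨by rw [map_mul, H.map_d, mul_one]; exact haM, h2.1.2⟩)
      rw [hRest, show frame π M a \ {selfC d, a * selfC d} = frame π M a \ {selfC d} by
        ext x
        simp only [Set.mem_sdiff, Set.mem_insert_iff, Set.mem_singleton_iff, not_or]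
        exact ⟨fun hx => ⟨hx.1, hx.2.1⟩, fun hx => ⟨hx.1, hx.2, fun e => hnot (e ▸ hx.1)⟩⟩,
        Set.ncard_sdiff (Set.singleton_subset_iff.2 hd1), h1, h22, Set.ncard_singleton]
  have hImle : Im.ncard ≤ 42 :=
    (Set.ncard_image_le (Set.toFinite _)).trans (by omega)
  set O : Q → Set Q := fun j => {r | ∃ q ∈ S ⊓ Subgroup.centralizer ({α} : Set Q), q * j * q⁻¹ = r} with hO
  have hOsub : ∀ j ∈ Im, O j ⊆ Im := by
    rintro _ ⟨w, hw, rfl⟩ _ ⟨q, hq, rfl⟩
    obtain ⟨c, rfl, -, -, hmv⟩ := exists_fixing H hM haM (image_of_mem_normalizer hq.1)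
      (by rw [Subgroup.mem_centralizer_singleton_iff.1 hq.2, mul_inv_cancel_right])
    exact ⟨_, hmv hw, by rw [map_mul, map_mul, map_inv]⟩
  have mkq : ∀ {q : Q}, (fun x => q * x * q⁻¹) '' M = M → q * α * q⁻¹ = α →
      q ∈ S ⊓ Subgroup.centralizer ({α} : Set Q) := fun h1 h2 =>
    ⟨mem_normalizer_set h1, Subgroup.mem_centralizer_singleton_iff.2 (mul_inv_eq_iff_eq_mul.1 h2)⟩
  have hM21 : (M \ {α}).ncard = 21 := by
    rw [Set.ncard_sdiff (Set.singleton_subset_iff.2 haM), hM22, Set.ncard_singleton]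
  -- the classes
  have classes : ∀ j ∈ Im, (∃ b ∈ M, b ≠ α ∧ (j = b ∨ j = α * b)) ∨
      (j ∈ cliqueProds M 3) := by
    rintro _ ⟨w, hw, rfl⟩
    obtain ⟨c, hc, hcM⟩ := mem_A.1 hw.1.1.1
    rw [Subtype.ext hc] at hcM
    have hne1 : π w ≠ 1 := fun h1 => by
      rcases (H.ker w).1 h1 with rfl | rfl
      · exact d_ne_one H hM (isConj_one_left.1 hw.1.1.2)
      · exact hw.2 (Or.inl rfl)
    obtain ⟨l, l1, l3, hl, hlM, hp'⟩ := closure_clique_cases H.group H.prim H.type hM hcM hne1
    match l, l1, l3 with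
    | [b], _, _ =>
      left
      refine ⟨b, hlM b (by simp), fun hb => ?_, Or.inl (by simpa using hp'.symm)⟩
      have e : π a = π w := by rw [← hp', hb]; simp [hα]
      rcases H.eq_or_eq_mul e with ew | ew
      · obtain ⟨g, hg, hga⟩ := transitive H hM (omega_of_fib H hM ha)
        obtain ⟨e', he', heM⟩ := (rel_iff H hM hg hga).1 hw.1.2
        have : e' = selfC d := Subtype.ext (by rw [he', ew]; show g⁻¹ * (a : G) * g = d; rw [← hga]; group)
        rw [this, H.map_d] at heM
        exact ne_one H.group.1 (hM.sub heM) rfl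
      · exact hw.2 (Or.inr ew)
    | [b, c], _, _ =>
      have hbM := hlM b (by simp)
      have hcM' := hlM c (by simp)
      have hbc : b ≠ c := fun e => (List.nodup_cons.1 hl.nodup).1 (by simp [e])
      have hbcp : π w = b * c := by rw [← hp']; simp
      by_cases hbα : b = α
      · exact Or.inl ⟨c, hcM', fun e => hbc (hbα.trans e.symm), Or.inr (hbα ▸ hbcp)⟩
      by_cases hcα : c = α
      · exact Or.inl ⟨b, hbM, hbα, Or.inr (by rw [hbcp, (hM.comm b hbM c hcM').eq, hcα])⟩
      exfalso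
      -- too many pairs avoid `α`
      have h1 : cliqueProds M 2 \ (fun x => α * x) '' M ⊆ O (π w) := by
        rintro _ ⟨⟨l', hnd', hlen', hlM', rfl⟩, hno⟩
        obtain ⟨b', c', rfl⟩ := List.length_eq_two.1 hlen'
        have hb' := hlM' b' (by simp)
        have hc' := hlM' c' (by simp)
        have hbc' : b' ≠ c' := fun e => (List.nodup_cons.1 hnd').1 (by simp [e])
        have hb'α : b' ≠ α := fun e => hno ⟨c', hc', by simp [e]⟩
        have hc'α : c' ≠ α := fun e => hno ⟨b', hb', by simp [e, (hM.comm α haM b' hb').eq]⟩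
        obtain ⟨q, hq, q1, q2, q3⟩ := exists_stab_triple H.group H.prim H.type hM haM hbM hcM' haM hb' hc'
          (Ne.symm hbα) (Ne.symm hcα) hbc hb'α.symm hc'α.symm hbc'
        exact ⟨q, mkq hq q1, by rw [hbcp, show q * (b * c) * q⁻¹ = (q * b * q⁻¹) * (q * c * q⁻¹) by group, q2, q3]; simp⟩
      have h2 : (cliqueProds M 2).ncard ≤ (cliqueProds M 2 \ (fun x => α * x) '' M).ncard + 22 := by
        refine (Set.ncard_le_ncard_sdiff_add_ncard _ ((fun x => α * x) '' M) (Set.toFinite _)).trans ?_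
        have h2' : ((fun x => α * x) '' M).ncard ≤ M.ncard := Set.ncard_image_le (Set.toFinite _)
        omega
      have h3 := (Set.ncard_le_ncard h1 (Set.toFinite _)).trans
        ((Set.ncard_le_ncard (hOsub _ ⟨w, hw, rfl⟩) (Set.toFinite _)).trans hImle)
      omega
    | [b, c, e], _, _ => exact Or.inr ⟨[b, c, e], hl.nodup, rfl, hlM, hp'⟩
  -- orbits have at least 21 images
  have orb21 : ∀ j, (∃ b ∈ M, b ≠ α ∧ (j = b ∨ j = α * b)) → 21 ≤ (O j).ncard := by
    rintro j ⟨b, hb, hba, hj⟩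
    rw [← hM21]
    have mv : ∀ b' ∈ M \ {α}, ∃ q ∈ S ⊓ Subgroup.centralizer ({α} : Set Q), q * α * q⁻¹ = α ∧ q * b * q⁻¹ = b' := by
      intro b' hb'
      obtain ⟨q, hq, q1, q2⟩ := exists_stab_pair H.group H.prim H.type hM haM hb haM hb'.1 hba.symm
        (fun e => hb'.2 e.symm)
      exact ⟨q, mkq hq q1, q1, q2⟩
    rcases hj with rfl | rfl
    · refine Set.ncard_le_ncard (fun b' hb' => ?_) (Set.toFinite _)
      obtain ⟨q, hq, -, q2⟩ := mv b' hb'
      exact ⟨q, hq, q2⟩
    · rw [← Set.ncard_image_of_injective (M \ {α}) (mul_right_injective α)]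
      refine Set.ncard_le_ncard ?_ (Set.toFinite _)
      rintro _ ⟨b', hb', rfl⟩
      obtain ⟨q, hq, q1, q2⟩ := mv b' hb'
      exact ⟨q, hq, by rw [show q * (α * b) * q⁻¹ = (q * α * q⁻¹) * (q * b * q⁻¹) by group, q1, q2]⟩
  -- the orbit of a triple has a multiple of 35 images
  have orb35 : ∀ j ∈ cliqueProds M 3, ∃ m, 1 ≤ m ∧ (O j).ncard = 35 * m := by
    intro j hj
    have horb : ∀ (T : Subgroup Q) (x : Q), Nat.card T = {r | ∃ q ∈ T, q * x * q⁻¹ = r}.ncard *
        Nat.card ↥(T ⊓ Subgroup.centralizer ({x} : Set Q)) := fun T x =>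
      card_eq_ncard_mul_card inf_le_left (fun q => q * x * q⁻¹) (fun q hq => ⟨q, hq, rfl⟩) (fun r hr => hr)
        fun q hq q' hq' => by
          rw [conj_eq_conj_iff, Subgroup.mem_inf, Subgroup.mem_centralizer_singleton_iff]
          exact ⟨fun hc => ⟨mul_mem (inv_mem hq) hq', hc⟩, fun hc => hc.2⟩
    have s1 : {r | ∃ q ∈ S, q * α * q⁻¹ = r} = M := by
      refine Set.Subset.antisymm ?_ fun b hb => ?_
      · rintro _ ⟨q, hq, rfl⟩; exact (Subgroup.mem_set_normalizer_iff.1 hq α).1 haM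
      · obtain ⟨q, hq, hqb⟩ := exists_stab_member H.group H.prim H.type hM haM hb
        exact ⟨q, mem_normalizer_set hq, hqb⟩
    have s3 : {r | ∃ q ∈ S, q * j * q⁻¹ = r} = cliqueProds M 3 := by
      refine Set.Subset.antisymm ?_ fun r hr => ?_
      · rintro _ ⟨q, hq, rfl⟩
        obtain ⟨l, hnd, hlen, hlM, rfl⟩ := hj
        refine ⟨l.map (MulAut.conj q), hnd.map (MulAut.conj q).injective, by rw [List.length_map, hlen], ?_, ?_⟩
        · intro x hx
          obtain ⟨y, hy, rfl⟩ := List.mem_map.1 hx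
          exact (Subgroup.mem_set_normalizer_iff.1 hq y).1 (hlM y hy)
        · rw [← map_list_prod]; rfl
      · obtain ⟨q, hq, hqr⟩ := prods_trans H hM (by norm_num) le_rfl hj hr
        exact ⟨q, mem_normalizer_set hq, hqr⟩
    have e1 := horb S α
    have e3 := horb S j
    have f1 := horb (S ⊓ Subgroup.centralizer ({α} : Set Q)) j
    have f3 := horb (S ⊓ Subgroup.centralizer ({j} : Set Q)) α
    rw [s1, hM22] at e1
    rw [s3, n3] at e3
    rw [f1] at e1
    rw [f3, inf_right_comm] at e3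
    rw [e1, ← mul_assoc, ← mul_assoc] at e3
    have e4 := Nat.eq_of_mul_eq_mul_right Nat.card_pos e3
    have hpos : 0 < {r | ∃ q ∈ S ⊓ Subgroup.centralizer ({j} : Set Q), q * α * q⁻¹ = r}.ncard :=
      (Set.ncard_pos (Set.toFinite _)).2 ⟨α, 1, one_mem _, by group⟩
    refine ⟨_, hpos, ?_⟩
    show (O j).ncard = _
    simp only [hO]
    omega
  -- no triple occurs
  rcases classes _ ⟨z, hz, rfl⟩ with h | h
  · exact h
  exfalso
  obtain ⟨m, hm, hm35⟩ := orb35 _ h
  have hsub := hOsub _ ⟨z, hz, rfl⟩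
  have hle := (Set.ncard_le_ncard hsub (Set.toFinite _)).trans hImle
  have hImO : Im = O (π z) := by
    refine Set.Subset.antisymm (fun w hw => ?_) hsub
    by_contra hwO
    have hdisj : Disjoint (O (π z)) (O w) := Set.disjoint_left.2 fun r hr hr' => hwO (by
      obtain ⟨q, hq, rfl⟩ := hr
      obtain ⟨q', hq', e⟩ := hr'
      exact ⟨q'⁻¹ * q, mul_mem (inv_mem hq') hq, by
        calc q'⁻¹ * q * π z * (q'⁻¹ * q)⁻¹ = q'⁻¹ * (q * π z * q⁻¹) * q' := by group
          _ = w := by rw [← e]; group⟩)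
    have h21 : 21 ≤ (O w).ncard := by
      rcases classes w hw with h' | h'
      · exact orb21 w h'
      · obtain ⟨m', hm', e⟩ := orb35 w h'
        omega
    have := Set.ncard_le_ncard (Set.union_subset hsub (hOsub w hw)) (Set.toFinite _)
    rw [Set.ncard_union_eq hdisj (Set.toFinite _) (Set.toFinite _)] at this
    omega
  have hinj : Set.InjOn π Rest := by
    intro x hx y hy he
    rcases H.eq_or_eq_mul he with e | e
    · exact e.symm
    exfalso
    have hall : π ⁻¹' O (π z) ⊆ Rest := by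
      intro w hw
      obtain ⟨q', hq', hxO⟩ : π x ∈ O (π z) := hImO ▸ ⟨x, hx, rfl⟩
      obtain ⟨q, hq, hqw⟩ := hw
      obtain ⟨c, hc, -, -, hmv⟩ := exists_fixing H hM haM (q := q * q'⁻¹)
        (image_of_mem_normalizer (mul_mem hq.1 (inv_mem hq'.1)))
        (by rw [Subgroup.mem_centralizer_singleton_iff.1 (mul_mem hq.2 (inv_mem hq'.2)), mul_inv_cancel_right])
      have hcw : π (c * x * c⁻¹) = π w := by
        rw [map_mul, map_mul, map_inv, hc, ← hxO, ← hqw]; group
      rcases H.eq_or_eq_mul hcw with e' | e'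
      · exact e' ▸ hmv hx
      · have h1 := hmv hy
        rw [e, show c * (x * selfC d) * c⁻¹ = w by
          rw [e', mul_assoc, mul_assoc x, (H.central c⁻¹).eq]; group] at h1
        exact h1
    have := Set.ncard_le_ncard hall (Set.toFinite _)
    rw [ncard_preimage H] at this
    omega
  have hIR : Im.ncard = Rest.ncard := hinj.ncard_image
  rw [hImO] at hIR
  omega

/-- Not all products of `a` with the class of `a` and `d` lie in the frame. -/
theorem five_kill {a : ↥(Subgroup.centralizer ({d} : Set G))} (ha : a ∈ fib π M 1)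
    (hall : ∀ u, IsConj a u → π u ∈ M → π u ≠ π a → a * u * selfC d ∈ frame π M a) : False := by
  obtain ⟨haM, -⟩ := (fib_one H hM).1 ha
  obtain ⟨l, hlen, hnd, hl, hprod⟩ := H.exists_six_through hM haM
  obtain ⟨g, hg, hga⟩ := transitive H hM (omega_of_fib H hM ha)
  set T := (Subgroup.closure M).comap π with hT
  have hmem : ∀ x : ↥T, g⁻¹ * ((x : ↥(Subgroup.centralizer ({d} : Set G))) : G) * g ∈
      Subgroup.centralizer ({d} : Set G) := fun x => by
    obtain ⟨c, hc, -⟩ := mem_A.1 ((Subgroup.mem_set_normalizer_iff.1 hg _).2 (show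
      g * (g⁻¹ * ((x : ↥(Subgroup.centralizer ({d} : Set G))) : G) * g) * g⁻¹ ∈ (Asub π M : Set G) by
      rw [show g * (g⁻¹ * ((x : ↥(Subgroup.centralizer ({d} : Set G))) : G) * g) * g⁻¹ =
        ((x : ↥(Subgroup.centralizer ({d} : Set G))) : G) by group]
      exact mem_A.2 ⟨x, rfl, x.2⟩) : g⁻¹ * ((x : ↥(Subgroup.centralizer ({d} : Set G))) : G) * g ∈ Asub π M)
    exact hc ▸ c.2
  let τ : ↥T →* Q :=
    { toFun := fun x => π ⟨_, hmem x⟩
      map_one' := by rw [← map_one π]; congr 1; exact Subtype.ext (by simp)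
      map_mul' := fun x y => by
        rw [← map_mul π]
        congr 1
        exact Subtype.ext (by
          show g⁻¹ * (((x : ↥(Subgroup.centralizer ({d} : Set G))) : G) * (y : ↥(Subgroup.centralizer ({d} : Set G)))) * g =
            g⁻¹ * ((x : ↥(Subgroup.centralizer ({d} : Set G))) : G) * g *
              (g⁻¹ * ((y : ↥(Subgroup.centralizer ({d} : Set G))) : G) * g)
          group) }
  have hML : ∀ {x : ↥T}, rel π M (a : G) ((x : ↥(Subgroup.centralizer ({d} : Set G))) : G) → τ x ∈ M := by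
    intro x hr
    obtain ⟨e, he, heM⟩ := (rel_iff H hM hg hga).1 hr
    have : e = ⟨_, hmem x⟩ := Subtype.ext he
    rw [this] at heM
    exact heM
  have haT : a ∈ T := Subgroup.subset_closure haM
  have hdT : selfC d ∈ T := Subgroup.mem_comap.2 (by rw [H.map_d]; exact one_mem _)
  have hτa : τ ⟨a, haT⟩ = 1 := by
    show π ⟨_, _⟩ = 1
    rw [← H.map_d]; congr 1
    exact Subtype.ext (by show g⁻¹ * (a : G) * g = d; rw [← hga]; group)
  set m₀ := τ ⟨selfC d, hdT⟩ with hm₀
  have hm₀M : m₀ ∈ M := hML (rel_sym H hM ha)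
  have hlT : ∀ x ∈ l, x ∈ T := fun x hx => Subgroup.subset_closure (hl x hx).1
  set L : List ↥T := l.pmap (fun x hx => ⟨x, hx⟩) hlT with hL
  have hLl : L.map T.subtype = l := by rw [hL, List.map_pmap]; simp
  set W := L.map fun x => τ x * m₀ with hW
  have hmW : ∀ x ∈ L, τ x * m₀ ∈ M := by
    intro x hx
    have hxl : (x : ↥(Subgroup.centralizer ({d} : Set G))) ∈ l := hLl ▸ List.mem_map_of_mem hx
    have h1 := hall _ (hl _ hxl).2.2 (hl _ hxl).1 (hl _ hxl).2.1
    have h2 := hML (x := ⟨a, haT⟩ * x * ⟨selfC d, hdT⟩) h1.2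
    rwa [map_mul, map_mul, hτa, one_mul] at h2
  -- the five are distinct
  have hinj : ∀ x ∈ L, ∀ y ∈ L, τ x = τ y → x = y := by
    intro x hx y hy he
    have hxl : (x : ↥(Subgroup.centralizer ({d} : Set G))) ∈ l := hLl ▸ List.mem_map_of_mem hx
    have hyl : (y : ↥(Subgroup.centralizer ({d} : Set G))) ∈ l := hLl ▸ List.mem_map_of_mem hy
    have h1 : τ (x⁻¹ * y) = 1 := by rw [map_mul, map_inv, he, inv_mul_cancel]
    have hxy : ((x : ↥(Subgroup.centralizer ({d} : Set G))))⁻¹ * y = 1 ∨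
        ((x : ↥(Subgroup.centralizer ({d} : Set G))))⁻¹ * y = a := by
      rcases (H.ker _).1 h1 with e | e
      · refine Or.inl (Subtype.ext ?_)
        have e' := congrArg Subtype.val e
        change g⁻¹ * _ * g = 1 at e'
        have := congrArg (fun w => g * w * g⁻¹) e'
        simpa [mul_assoc] using this
      · refine Or.inr (Subtype.ext ?_)
        have e' := congrArg Subtype.val e
        change g⁻¹ * _ * g = d at e'
        have := congrArg (fun w => g * w * g⁻¹) e'
        simpa [mul_assoc, hga] using this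
    rcases hxy with e | e
    · exact Subtype.ext (inv_mul_eq_one.1 e)
    · exfalso
      have e' := congrArg π e
      rw [map_mul, map_inv] at e'
      have hxM := (hl _ hxl).1
      have hyM := (hl _ hyl).1
      rw [FischerTypes.inv_eq H.group.1 (hM.sub hxM)] at e'
      by_cases hxyπ : π (x : ↥(Subgroup.centralizer ({d} : Set G))) = π (y : ↥(Subgroup.centralizer ({d} : Set G)))
      · rw [hxyπ, FischerTypes.mul_self H.group.1 (hM.sub hyM)] at e'
        exact ne_one H.group.1 (hM.sub haM) e'.symm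
      · have := cliqueProds_disjoint H.group H.prim H.type hM (j := 2) (k := 1) (by norm_num) (by norm_num)
          le_rfl (by norm_num) (g := π a) ⟨[_, _], by simpa using hxyπ, rfl, by simp [hxM, hyM], by simpa using e'⟩
          (by rw [cliqueProds_one]; exact haM)
        omega
  have hLnd : L.Nodup := by
    refine List.Nodup.of_map T.subtype ?_
    rw [hLl]; exact hnd.of_map π
  have hWnd : W.Nodup := hLnd.map_on fun x hx y hy he => hinj x hx y hy (mul_right_cancel he)
  have hWM : ∀ x ∈ W, x ∈ M := fun x hx => by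
    obtain ⟨y, hy, rfl⟩ := List.mem_map.1 hx; exact hmW y hy
  have hτc : ∀ x : ↥T, Commute m₀ (τ x) := fun x => by
    rw [hm₀]
    refine Commute.map ?_ τ
    exact Subtype.ext (H.central x).eq
  have hWprod : ∀ L' : List ↥T, (L'.map fun x => τ x * m₀).prod = τ L'.prod * m₀ ^ L'.length := by
    intro L'
    induction L' with
    | nil => simp
    | cons x L' ih =>
      rw [List.map_cons, List.prod_cons, ih, List.prod_cons, map_mul, List.length_cons, pow_succ', mul_assoc,
        mul_assoc, ← mul_assoc m₀, (hτc L'.prod).eq, mul_assoc]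
  have hLlen : L.length = 5 := by rw [hL, List.length_pmap, hlen]
  have hLprod : τ L.prod = m₀ := by
    have e : ⟨a, haT⟩ * L.prod = (⟨selfC d, hdT⟩ : ↥T) := Subtype.ext (by
      show a * ((L.prod : ↥T) : ↥(Subgroup.centralizer ({d} : Set G))) = selfC d
      rw [show ((L.prod : ↥T) : ↥(Subgroup.centralizer ({d} : Set G))) = (L.map T.subtype).prod from
        (map_list_prod T.subtype L), hLl, hprod])
    rw [hm₀, ← e, map_mul, hτa, one_mul]
  have hm2 : m₀ * m₀ = 1 := FischerTypes.mul_self H.group.1 (hM.sub hm₀M)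
  refine noRel_five_of_M22 psu62Facts H.group H.type W hWnd (by rw [hW, List.length_map, hLlen])
    (fun x hx => hM.sub (hWM x hx)) (fun x hx y hy => hM.comm x (hWM x hx) y (hWM y hy)) ?_
  rw [hW, hWprod, hLprod, hLlen]
  simp only [pow_succ, pow_zero, one_mul, hm2]

/-- The class of `a` is in its frame. -/
theorem class_mem_frame {a : ↥(Subgroup.centralizer ({d} : Set G))} (ha : a ∈ fib π M 1)
    {u : ↥(Subgroup.centralizer ({d} : Set G))} (hu : IsConj a u) (huM : π u ∈ M) (hua : π u ≠ π a) :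
    u ∈ frame π M a := by
  obtain ⟨haM, had⟩ := (fib_one H hM).1 ha
  have mk : ∀ {v}, IsConj a v → π v ∈ M → v ∈ fib π M 1 := fun {v} hv hvM => by
    obtain ⟨c, rfl⟩ := isConj_iff.1 hv
    exact (fib_one H hM).2 ⟨hvM, had.trans (isConj_iff.2 ⟨(c : G), rfl⟩)⟩
  have move : ∀ {v v'}, IsConj a v → π v ∈ M → π v ≠ π a → IsConj a v' → π v' ∈ M → π v' ≠ π a →
      ∃ c : ↥(Subgroup.centralizer ({d} : Set G)), c * v * c⁻¹ = v' ∧ c * a * c⁻¹ = a ∧
        c * selfC d * c⁻¹ = selfC d ∧ ∀ {z}, z ∈ frame π M a → c * z * c⁻¹ ∈ frame π M a := by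
    intro v v' hv hvM hva hv' hvM' hva'
    obtain ⟨q, hq, q1, q2⟩ := exists_stab_pair H.group H.prim H.type hM haM hvM haM hvM' hva.symm hva'.symm
    obtain ⟨c, hc, hcN, hca, -⟩ := exists_fixing H hM haM hq q1
    refine ⟨c, ?_, hca, by rw [← (H.central c).eq, mul_inv_cancel_right], fun {z} hz =>
      ⟨omega_conj H hM hcN hz.1, ?_⟩⟩
    · refine (H.lift_unique (hM.sub hvM') (hv'.symm.trans (hv.trans (isConj_iff.2 ⟨c, rfl⟩))) ?_).symm
      rw [map_mul, map_mul, map_inv, hc, q2]
    · have h1 := rel_conj H hM hcN hz.2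
      rwa [show (c : G) * (a : G) * (c : G)⁻¹ = (a : G) from congrArg Subtype.val hca] at h1
  have kill : ∀ {v}, IsConj a v → π v ∈ M → π v ≠ π a → a * v * selfC d ∈ frame π M a → False :=
    fun {v} hv hvM hva hr => five_kill H hM ha fun v' hv' hvM' hva' => by
      obtain ⟨c, c1, c2, c3, c4⟩ := move hv hvM hva hv' hvM' hva'
      have h1 := c4 hr
      rwa [show c * (a * v * selfC d) * c⁻¹ = (c * a * c⁻¹) * (c * v * c⁻¹) * (c * selfC d * c⁻¹) by group,
        c1, c2, c3] at h1
  have main : ∃ v, IsConj a v ∧ π v ∈ M ∧ π v ≠ π a ∧ v ∈ frame π M a := by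
    obtain ⟨z, hz⟩ : (frame π M a \ {selfC d, a * selfC d}).Nonempty := by
      refine Set.nonempty_of_ncard_ne_zero ?_
      have h1 := frame_ncard H hM ha
      have h2 : 22 ≤ (frame π M a).ncard := by
        rcases fib_one_cases H hM ha with ⟨-, h⟩ | ⟨h, -⟩ <;> omega
      have h3 := Set.le_ncard_sdiff ({selfC d, a * selfC d} : Set _) (frame π M a)
      have h4 : ({selfC d, a * selfC d} : Set _).ncard ≤ 2 := by
        refine le_trans (Set.ncard_insert_le _ _) ?_
        rw [Set.ncard_singleton]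
      omega
    obtain ⟨b, hb, hba, hzb⟩ := rest_cases H hM ha hz
    obtain ⟨v, hv, hvb⟩ := H.exists_lift_in (hM.sub haM) (hM.sub hb)
    have hvM : π v ∈ M := hvb.symm ▸ hb
    have hva : π v ≠ π a := hvb.symm ▸ hba
    refine ⟨v, hv, hvM, hva, ?_⟩
    rcases hzb with hzb | hzb
    · rcases H.eq_or_eq_mul (hvb.trans hzb.symm) with e | e
      · exact e ▸ hz.1
      · exfalso
        rcases fib_one_cases H hM ha with ⟨hb', -⟩ | ⟨-, hno⟩
        · have h1 := mul_mem_frame H hM hb' ha hz.1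
          rw [e, ← mul_assoc] at h1
          exact kill hv hvM hva h1
        · exact hno v (mk hv hvM) ((fib_one H hM).2 ⟨by rw [map_mul, H.map_d, mul_one]; exact hvM,
            e ▸ hz.1.1.2⟩)
    · rcases H.eq_or_eq_mul (show π (a * v) = π z by rw [map_mul, hvb, hzb]) with e | e
      · have ha2 : a * a = 1 := H.member_mul_self (hM.sub haM)
        have hvz : v = a * z := by rw [e, ← mul_assoc, ha2, one_mul]
        rcases fib_one_cases H hM ha with ⟨hb', -⟩ | ⟨-, hno⟩
        · exact hvz ▸ mul_mem_frame H hM hb' ha hz.1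
        · exfalso
          obtain ⟨g, hg, hga⟩ := transitive H hM (omega_of_fib H hM ha)
          obtain ⟨w, hw, hwM⟩ := (rel_iff H hM hg hga).1 hz.1.2
          refine hno w ((fib_one H hM).2 ⟨hwM, hw ▸ (omega_conj' H hM hg hz.1.1).2⟩)
            ((fib_one H hM).2 ⟨by rw [map_mul, H.map_d, mul_one]; exact hwM, ?_⟩)
          have h1 := (omega_conj' H hM hg (omega_of_fib H hM (mk hv hvM))).2
          rw [hvz] at h1
          have e2 : g⁻¹ * ((a * z : ↥(Subgroup.centralizer ({d} : Set G))) : G) * g =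
              ((w * selfC d : ↥(Subgroup.centralizer ({d} : Set G))) : G) := by
            rw [← H.central w]
            show g⁻¹ * ((a : G) * z) * g = d * (w : G)
            rw [hw, ← hga]; group
          rwa [e2] at h1
      · exact (kill hv hvM hva (e ▸ hz.1)).elim
  obtain ⟨v, hv, hvM, hva, hvf⟩ := main
  obtain ⟨c, c1, -, -, c4⟩ := move hv hvM hva hu huM hua
  exact c1 ▸ c4 hvf

/-- Both lifts of a member never occur. -/
theorem not_both_lifts {a : ↥(Subgroup.centralizer ({d} : Set G))} (ha : a ∈ fib π M 1) :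
    fib π M 1 ≠ π ⁻¹' cliqueProds M 1 := by
  intro hb
  obtain ⟨haM, had⟩ := (fib_one H hM).1 ha
  obtain ⟨b, hbM, hba, -⟩ := exists_third H.group H.prim H.type hM (b := π a) haM
  obtain ⟨u, hu, rfl⟩ := H.exists_lift_in (hM.sub haM) (hM.sub hbM)
  have huf := class_mem_frame H hM ha hu hbM hba
  obtain ⟨g, hg, hga⟩ := transitive H hM (omega_of_fib H hM ha)
  obtain ⟨w, hw, hwM⟩ := (rel_iff H hM hg hga).1 huf.2
  -- exchange `a` and `u`
  obtain ⟨q, hq, q1, q2⟩ := exists_stab_pair H.group H.prim H.type hM haM hbM hbM haM hba.symm hba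
  obtain ⟨c, rfl⟩ := H.surj q
  have hcN := stab_mem_normalizer H hq
  have c1 : c * a * c⁻¹ = u := (H.lift_unique (hM.sub hbM) (hu.symm.trans (isConj_iff.2 ⟨c, rfl⟩))
    (by rw [map_mul, map_mul, map_inv, q1])).symm
  have c2 : c * u * c⁻¹ = a := (H.lift_unique (hM.sub haM) (hu.trans (isConj_iff.2 ⟨c, rfl⟩))
    (by rw [map_mul, map_mul, map_inv, q2])).symm
  set h := g⁻¹ * (c : G) * g with hh
  have hhN : h ∈ Subgroup.normalizer (Asub π M : Set G) := mul_mem (mul_mem (inv_mem hg) hcN) hg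
  have h1 : h * d * h⁻¹ = (w : G) := by
    calc h * d * h⁻¹ = g⁻¹ * ((c : G) * (g * d * g⁻¹) * (c : G)⁻¹) * g := by rw [hh]; group
      _ = g⁻¹ * (u : G) * g := by rw [hga, show (c : G) * (a : G) * (c : G)⁻¹ = (u : G) from congrArg Subtype.val c1]
      _ = w := hw.symm
  have h2 : h * (w : G) * h⁻¹ = d := by
    calc h * (w : G) * h⁻¹ = g⁻¹ * ((c : G) * (u : G) * (c : G)⁻¹) * g := by rw [hh, hw]; group
      _ = g⁻¹ * (a : G) * g := by rw [show (c : G) * (u : G) * (c : G)⁻¹ = (a : G) from congrArg Subtype.val c2]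
      _ = d := by rw [← hga]; group
  -- their product is a conjugate over a member
  set x := w * selfC d with hx
  have hxf : x ∈ fib π M 1 := by
    rw [hb, Set.mem_preimage, hx, map_mul, H.map_d, mul_one, cliqueProds_one]; exact hwM
  obtain ⟨k, hk, hkx⟩ := transitive H hM (omega_of_fib H hM hxf)
  obtain ⟨y, hy, hyM⟩ := (rel_iff H hM hk hkx).1 (rel_sym H hM hxf)
  have hxval : (x : G) = (w : G) * d := rfl
  have hwd : Commute (w : G) d := commute_d w
  set h' := k⁻¹ * h * k with hh'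
  have hh'd : Commute h' d := by
    rw [← commute_conj_iff' k, show k * h' * k⁻¹ = h by rw [hh']; group, hkx, hxval]
    refine mul_inv_eq_iff_eq_mul.1 ?_
    rw [show h * ((w : G) * d) * h⁻¹ = (h * (w : G) * h⁻¹) * (h * d * h⁻¹) by group, h1, h2, hwd.eq]
  have e : h' * (y : G) * h'⁻¹ = (y : G) * d := by
    rw [hy, hh']
    calc k⁻¹ * h * k * (k⁻¹ * d * k) * (k⁻¹ * h * k)⁻¹ = k⁻¹ * (h * d * h⁻¹) * k := by group
      _ = k⁻¹ * ((x : G) * d) * k := by rw [h1, hxval, mul_assoc (w : G), d_sq H hM, mul_one]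
      _ = k⁻¹ * (k * d * k⁻¹ * d) * k := by rw [hkx]
      _ = d * (k⁻¹ * d * k) := by group
      _ = k⁻¹ * d * k * d := by
          have := commute_d y
          rw [hy] at this
          exact this.eq.symm
  exact H.not_conj_mul (hM.sub hyM) (isConj_iff.2
    ⟨⟨h', Subgroup.mem_centralizer_singleton_iff.2 hh'd.eq⟩, Subtype.ext e⟩)

/-- When a lift of a member occurs, the conjugates fall into sets of 23. -/
theorem blocks {a : ↥(Subgroup.centralizer ({d} : Set G))} (ha : a ∈ fib π M 1) :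
    (fib π M 1).ncard = 22 ∧ 23 ∣ (omega π M).ncard := by
  classical
  obtain ⟨h22, hno⟩ : (fib π M 1).ncard = 22 ∧ ∀ x ∈ fib π M 1, x * selfC d ∉ fib π M 1 := by
    rcases fib_one_cases H hM ha with ⟨e, -⟩ | h
    · exact absurd e (not_both_lifts H hM ha)
    · exact h
  refine ⟨h22, ?_⟩
  set B : Set G := insert d ((fun c : ↥(Subgroup.centralizer ({d} : Set G)) => (c : G)) '' fib π M 1) with hB
  set N' : G → Set G := fun x => {y | y ∈ omega π M ∧ rel π M x y} with hN'
  have hdB : ∀ c ∈ fib π M 1, (c : G) ≠ d := fun c hc he => by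
    have h1 := ((fib_one H hM).1 hc).1
    rw [show c = selfC d from Subtype.ext he, H.map_d] at h1
    exact ne_one H.group.1 (hM.sub h1) rfl
  have hBΩ : B ⊆ omega π M := by
    rintro _ (rfl | ⟨c, hc, rfl⟩)
    exacts [d_mem_omega H hM, omega_of_fib H hM hc]
  have hBc : B.ncard = 23 := by
    rw [hB, Set.ncard_insert_of_notMem ?_ (Set.toFinite _), Set.ncard_image_of_injective _ Subtype.coe_injective, h22]
    rintro ⟨c, hc, he⟩
    exact hdB c hc he
  have hNB : ∀ x ∈ B, N' x = B \ {x} := by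
    rintro _ (rfl | ⟨c, hc, rfl⟩)
    · ext y
      simp only [hN', Set.mem_ofPred_eq, rel_d H hM, hB, Set.mem_sdiff, Set.mem_insert_iff, Set.mem_singleton_iff]
      constructor
      · rintro ⟨hy, e, rfl, heM⟩
        have he := (fib_one H hM).2 ⟨heM, hy.2⟩
        exact ⟨Or.inr ⟨e, he, rfl⟩, hdB e he⟩
      · rintro ⟨rfl | ⟨e, he, rfl⟩, hne⟩
        · exact absurd rfl hne
        · exact ⟨omega_of_fib H hM he, e, rfl, ((fib_one H hM).1 he).1⟩
    · have hsub : B \ {(c : G)} ⊆ N' c := by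
        rintro y ⟨rfl | ⟨e, he, rfl⟩, hne⟩
        · exact ⟨d_mem_omega H hM, rel_sym H hM hc⟩
        · obtain ⟨hcM, hcd⟩ := (fib_one H hM).1 hc
          obtain ⟨heM, -⟩ := (fib_one H hM).1 he
          obtain ⟨v, hv, hvπ⟩ := H.exists_lift_in (hM.sub hcM) (hM.sub heM)
          have hvf : v ∈ fib π M 1 := (fib_one H hM).2 ⟨hvπ.symm ▸ heM, by
            obtain ⟨k, rfl⟩ := isConj_iff.1 hv
            exact hcd.trans (isConj_iff.2 ⟨(k : G), rfl⟩)⟩
          have hve : e = v := by
            rcases H.eq_or_eq_mul hvπ with h0 | h0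
            · exact h0
            · exact absurd (h0 ▸ he) (hno v hvf)
          subst hve
          exact class_mem_frame H hM hc hv heM fun e' =>
            hne (congrArg Subtype.val (H.lift_unique (hM.sub hcM) hv e'.symm).symm)
      have hcard : (N' (c : G)).ncard = 22 := by
        rw [← h22, ← frame_ncard H hM hc, ← Set.ncard_image_of_injective (frame π M c) Subtype.coe_injective]
        congr 1
        ext y
        constructor
        · rintro ⟨hy, hr⟩
          obtain ⟨e, rfl, -⟩ := mem_A.1 hy.1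
          exact ⟨e, ⟨hy, hr⟩, rfl⟩
        · rintro ⟨e, ⟨hy, hr⟩, rfl⟩; exact ⟨hy, hr⟩
      refine (Set.eq_of_subset_of_ncard_le hsub ?_ (Set.toFinite _)).symm
      have hcB : (c : G) ∈ B := Or.inr ⟨c, hc, rfl⟩
      rw [hcard, Set.ncard_sdiff (Set.singleton_subset_iff.2 hcB), hBc, Set.ncard_singleton]
  have hNc : ∀ {g x : G}, g ∈ Subgroup.normalizer (Asub π M : Set G) →
      N' (g * x * g⁻¹) = (fun y => g * y * g⁻¹) '' N' x := by
    intro g x hg
    ext y
    constructor
    · rintro ⟨hy, hr⟩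
      refine ⟨g⁻¹ * y * g, ⟨omega_conj' H hM hg hy, ?_⟩, by group⟩
      have h1 := rel_conj H hM (inv_mem hg) hr
      rwa [show g⁻¹ * (g * x * g⁻¹) * g⁻¹⁻¹ = x by group, inv_inv] at h1
    · rintro ⟨z, ⟨hz, hr⟩, rfl⟩
      exact ⟨omega_conj H hM hg hz, rel_conj H hM hg hr⟩
  have hblock : ∀ {g x : G}, g ∈ Subgroup.normalizer (Asub π M : Set G) → x ∈ B → g * x * g⁻¹ ∈ B →
      (fun y => g * y * g⁻¹) '' B = B := by
    intro g x hg hx hx'
    calc (fun y => g * y * g⁻¹) '' B = (fun y => g * y * g⁻¹) '' insert x (N' x) := by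
          rw [hNB x hx, Set.insert_sdiff_singleton, Set.insert_eq_of_mem hx]
      _ = insert (g * x * g⁻¹) (N' (g * x * g⁻¹)) := by rw [Set.image_insert_eq, hNc hg]
      _ = B := by rw [hNB _ hx', Set.insert_sdiff_singleton, Set.insert_eq_of_mem hx']
  choose γ hγN hγ using fun (x : G) (hx : x ∈ omega π M) => transitive H hM hx
  let blk : G → Set G := fun x => if hx : x ∈ omega π M then (fun y => γ x hx * y * (γ x hx)⁻¹) '' B else ∅
  have hblk : ∀ {g z : G}, g ∈ Subgroup.normalizer (Asub π M : Set G) → z ∈ omega π M →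
      g⁻¹ * z * g ∈ B → blk z = (fun y => g * y * g⁻¹) '' B := by
    intro g z hg hz hzB
    simp only [blk, dif_pos hz]
    have h1 := hblock (g := g⁻¹ * γ z hz) (x := d) (mul_mem (inv_mem hg) (hγN z hz)) (Or.inl rfl) (by
      rwa [show g⁻¹ * γ z hz * d * (g⁻¹ * γ z hz)⁻¹ = g⁻¹ * (γ z hz * d * (γ z hz)⁻¹) * g by group, hγ z hz])
    conv_rhs => rw [← h1, Set.image_image]
    exact Set.image_congr' fun y => by group
  set Ωf := (omega π M).toFinite.toFinset
  rw [Set.ncard_eq_toFinset_card _ (omega π M).toFinite,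
    Finset.card_eq_sum_card_image blk Ωf]
  refine Finset.dvd_sum fun β hβ => ?_
  obtain ⟨x, hxf, rfl⟩ := Finset.mem_image.1 hβ
  have hx : x ∈ omega π M := (omega π M).toFinite.mem_toFinset.1 hxf
  have hset : ((Ωf.filter fun z => blk z = blk x) : Set G) = blk x := by
    ext z
    simp only [Finset.coe_filter, Ωf, Set.Finite.mem_toFinset, Set.mem_ofPred_eq]
    constructor
    · rintro ⟨hz, he⟩
      rw [← he]
      simp only [blk, dif_pos hz]
      exact ⟨d, Or.inl rfl, hγ z hz⟩
    · intro hzb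
      simp only [blk, dif_pos hx] at hzb
      obtain ⟨y, hy, rfl⟩ := hzb
      have hz := omega_conj H hM (hγN x hx) (hBΩ hy)
      refine ⟨hz, ?_⟩
      rw [hblk (hγN x hx) hz (by rwa [show (γ x hx)⁻¹ * (γ x hx * y * (γ x hx)⁻¹) * γ x hx = y by group])]
      simp only [blk, dif_pos hx]
  rw [← Set.ncard_coe_finset, hset]
  simp only [blk, dif_pos hx]
  rw [Set.ncard_image_of_injective _ (fun p q e => mul_left_cancel (mul_right_cancel e)), hBc]

/-- There are exactly 23 conjugates. -/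
theorem ncard_eq {x : G} (hx : x ∈ omega π M) (hxd : x ≠ d) : (omega π M).ncard = 23 := by
  have hn := omega_ncard H hM
  have hdiv := ncard_dvd H hM
  have hge : 2 ≤ (omega π M).ncard := by
    rw [← Set.ncard_pair hxd]
    exact Set.ncard_le_ncard (Set.pair_subset hx (d_mem_omega H hM)) (Set.toFinite _)
  obtain ⟨n1, n2, n3⟩ := ncard_cliqueProds H.group H.prim H.type hM
  have f2 := fib_ncard H hM (k := 2) (by norm_num) (by norm_num)
  have f3 := fib_ncard H hM (k := 3) (by norm_num) le_rfl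
  rw [n2] at f2
  rw [n3] at f3
  simp only [Fin.prod_univ_succ, Fin.prod_univ_zero, Fin.val_zero, Fin.val_succ] at hdiv
  norm_num at hdiv
  rcases (fib π M 1).eq_empty_or_nonempty with e | ⟨a, ha⟩
  · rw [e, Set.ncard_empty] at hn
    rcases f2 with f2 | f2 | f2 <;> rcases f3 with f3 | f3 | f3 <;> rw [f2, f3] at hn <;>
      (revert hdiv hge; norm_num [hn])
  · obtain ⟨h22, h23⟩ := blocks H hM ha
    rw [h22] at hn
    rcases f2 with f2 | f2 | f2 <;> rcases f3 with f3 | f3 | f3 <;> rw [f2, f3] at hn <;>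
      (revert hdiv h23; norm_num [hn])

/-- Some other conjugate lies in the subgroup. -/
theorem exists_other (hnwc : ∃ g : G, g * d * g⁻¹ ∈ Subgroup.centralizer ({d} : Set G) ∧ g * d * g⁻¹ ≠ d) :
    ∃ x ∈ omega π M, x ≠ d := by
  obtain ⟨g, hgC, hgne⟩ := hnwc
  set y : ↥(Subgroup.centralizer ({d} : Set G)) := ⟨g * d * g⁻¹, hgC⟩ with hy
  have hy1 : π y ≠ 1 := fun h1 => by
    rcases (H.ker y).1 h1 with e | e
    · exact d_ne_one H hM (conj_eq_one_iff.1 (congrArg Subtype.val e))
    · exact hgne (congrArg Subtype.val e)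
  have hy2 : π y * π y = 1 := by
    rw [← map_mul, show y * y = 1 from Subtype.ext (by
      show g * d * g⁻¹ * (g * d * g⁻¹) = 1
      rw [show g * d * g⁻¹ * (g * d * g⁻¹) = g * (d * d) * g⁻¹ by group, d_sq H hM, mul_one, mul_inv_cancel]),
      map_one]
  have hI := involution_classes22 H.group H.prim H.type
  obtain ⟨m, m1, m3, l, hnd, hlen, hD, hc, hprod⟩ := hI.1 (π y) (orderOf_eq_prime (by rw [pow_two, hy2]) hy1)
  obtain ⟨j, hj⟩ : (cliqueProds M m).Nonempty := by
    refine Set.nonempty_of_ncard_ne_zero ?_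
    obtain ⟨n1, n2, n3⟩ := ncard_cliqueProds H.group H.prim H.type hM
    interval_cases m <;> omega
  obtain ⟨l', hnd', hlen', hlM', rfl⟩ := hj
  have hc' := isCList_of_clique hM hnd' hlM'
  obtain ⟨q, hq⟩ := isConj_iff.1 ((hI.2.1 m m1 m3).2 (π y) l'.prod ⟨l, hnd, hlen, hD, hc, hprod⟩
    ⟨l', hnd', hlen', hc'.mem, hc'.comm, rfl⟩)
  obtain ⟨c, rfl⟩ := H.surj q
  refine ⟨(c * y * c⁻¹ : ↥(Subgroup.centralizer ({d} : Set G))), ⟨mem_A.2 ⟨_, rfl, ?_⟩,
    isConj_iff.2 ⟨(c : G) * g, by show _ = (c : G) * (g * d * g⁻¹) * (c : G)⁻¹; group⟩⟩, fun e => hgne ?_⟩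
  · rw [map_mul, map_mul, map_inv, hq]; exact prod_mem_closure hlM'
  · have e' : (c : G) * (g * d * g⁻¹) * (c : G)⁻¹ = (c : G) * d * (c : G)⁻¹ := by
      rw [(commute_d c).eq, mul_inv_cancel_right]; exact e
    exact mul_left_cancel (mul_right_cancel e')

end Pencil

end CfsgLib.FischerTypes
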