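import Cfsg.Agent.FischerTypes.M23FiveNorm
import Cfsg.Agent.FischerTypes.M22Seven

/-!
# Elements of order seven in type M(23)
-/

set_option autoImplicit false
set_option linter.style.haveILetI false
set_option maxHeartbeats 1000000

namespace CfsgLib.FischerTypes

open Cfsg

/-- Four transpositions in the pattern of a path are a conjugate of the standard generators. -/
theorem chainTen : ∀ k0 k1 : Fin 10, swapTen k0 * swapTen k1 ≠ swapTen k1 * swapTen k0 → ∀ k2,
    swapTen k0 * swapTen k2 = swapTen k2 * swapTen k0 → swapTen k1 * swapTen k2 ≠ swapTen k2 * swapTen k1 → ∀ k3,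
    swapTen k0 * swapTen k3 = swapTen k3 * swapTen k0 → swapTen k1 * swapTen k3 = swapTen k3 * swapTen k1 →
    swapTen k2 * swapTen k3 ≠ swapTen k3 * swapTen k2 → ∃ σ : Equiv.Perm (Fin 5),
      σ * Equiv.swap 0 1 = swapTen k0 * σ ∧ σ * Equiv.swap 1 2 = swapTen k1 * σ ∧
      σ * Equiv.swap 2 3 = swapTen k2 * σ ∧ σ * Equiv.swap 3 4 = swapTen k3 * σ := by
  decide +kernel

/-- The centralizer of an element is at most the number of fixed members times the pair centralizer. -/
theorem card_centralizer_le_mul {G : Type*} [Group G] [Finite G] {D : Set G} (h : IsThreeTranspositionGroup D)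
    {x d : G} (hd : d ∈ D) (hdx : Commute d x) :
    Nat.card ↥(Subgroup.centralizer ({x} : Set G)) ≤
      {z : G | z ∈ D ∧ Commute z x}.ncard * Nat.card ↥(Subgroup.centralizer ({x, d} : Set G)) := by
  set Cx := Subgroup.centralizer ({x} : Set G)
  rw [card_eq_ncard_mul_card (H := Cx) (K := Subgroup.centralizer ({x, d} : Set G))
      (Subgroup.centralizer_le (by simp)) (fun k => k * d * k⁻¹) (S := (fun k => k * d * k⁻¹) '' (Cx : Set G))
      (fun k hk => ⟨k, hk, rfl⟩) (fun z hz => hz) fun k hk l hl => by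
        rw [conj_eq_conj_iff, Subgroup.mem_centralizer_iff]
        refine ⟨fun hc => ?_, fun hc => (hc d (by simp)).symm⟩
        rintro w (rfl | rfl)
        · exact (Subgroup.mem_centralizer_singleton_iff.1 (mul_mem (inv_mem hk) hl)).symm
        · exact hc.symm]
  refine Nat.mul_le_mul_right _ (Set.ncard_le_ncard ?_ (Set.toFinite _))
  rintro _ ⟨k, hk, rfl⟩
  refine ⟨h.2.1 k d hd, ?_⟩
  have h1 := (commute_conj_iff' k d x).2 hdx
  rwa [show k * x * k⁻¹ = x by rw [Subgroup.mem_centralizer_singleton_iff.1 hk, mul_inv_cancel_right]] at h1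

/-- The normalizer of a cyclic subgroup permutes the members fixed by it. -/
theorem normalizer_conj_fixed {G : Type*} [Group G] {D : Set G} (h : IsThreeTranspositionGroup D) {x n z : G}
    (hn : n ∈ Subgroup.normalizer ((Subgroup.zpowers x : Subgroup G) : Set G)) (hz : z ∈ D) (hzx : Commute z x) :
    n * z * n⁻¹ ∈ D ∧ Commute (n * z * n⁻¹) x := by
  refine ⟨h.2.1 n z hz, ?_⟩
  obtain ⟨i, hi⟩ := Subgroup.mem_zpowers_iff.1
    ((Subgroup.mem_normalizer_iff.1 (inv_mem hn) x).1 (Subgroup.mem_zpowers x))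
  have h2 : Commute z (n⁻¹ * x * n) := by
    rw [show n⁻¹ * x * n = x ^ i by rw [hi, inv_inv]]; exact hzx.zpow_right i
  have h3 := (commute_conj_iff' n _ _).2 h2
  rwa [show n * (n⁻¹ * x * n) * n⁻¹ = x by group] at h3

namespace M23

variable {G : Type*} [Group G] [Finite G] {D : Set G} (H : Hyp G D)

include H

/-- The quotient data at a fixed member. -/
theorem seven_at {x d : G} (hx : orderOf x = 7) (hd : d ∈ D) (hdx : Commute d x) :
    {z : G | z ∈ perp D d ∧ Commute z x}.ncard = 3 ∧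
      (∀ u ∈ perp D d, ∀ v ∈ perp D d, Commute u x → Commute v x → Commute u v → u = v) ∧
      Nat.card ↥(Subgroup.centralizer ({x, d} : Set G)) = 84 := by
  have : Fact (Nat.Prime 7) := ⟨by norm_num⟩
  set xd : ↥(Subgroup.centralizer ({d} : Set G)) := ⟨x, Subgroup.mem_centralizer_singleton_iff.2 hdx.symm.eq⟩
  have hq := quotGroup H.group d
  have hqp := quotPrim H hd
  have hq22 := quot22 H hd
  have hxo : orderOf (proj H hd xd) = 7 := orderOf_proj H hd hx (by norm_num)
  obtain ⟨q, q', hqm, hqm', hnc, hqx, hqx', hall, h42⟩ := seven_local hq hqp hq22 hxo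
  refine ⟨?_, ?_, by rw [card_centralizer_pair_eq (p := 7) H hd (x := xd) hx (by norm_num), h42]⟩
  · rw [ncard_fixed_perp H hd xd]
    have hq3 : q * q' * q ∈ img D d := by
      have := hq.2.1 q q' hqm'
      rwa [inv_eq hq.1 hqm] at this
    have : {w : PerpQuot D d | w ∈ img D d ∧ Commute w (proj H hd xd)} = {q, q', q * q' * q} := by
      ext w
      simp only [Set.mem_setOf_eq, Set.mem_insert_iff, Set.mem_singleton_iff]
      refine ⟨fun hw => hall w hw.1 hw.2, ?_⟩
      rintro (rfl | rfl | rfl)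
      exacts [⟨hqm, hqx⟩, ⟨hqm', hqx'⟩, ⟨hq3, (hqx.mul_left hqx').mul_left hqx⟩]
    rw [this]
    have n1 : q ≠ q' := fun h0 => hnc (h0 ▸ Commute.refl q)
    have n2 : q ≠ q * q' * q := fun h0 => n1 (by
      have h1 : q * (q * q' * q) * q = q * q * q := congrArg (fun t => q * t * q) h0.symm
      rw [mul_self hq.1 hqm, one_mul, show q * (q * q' * q) * q = q * q * q' * (q * q) by group,
        mul_self hq.1 hqm, one_mul, mul_one] at h1
      exact h1.symm)
    have n3 : q' ≠ q * q' * q := fun h0 => hnc (by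
      have h1 : q * q' = q * (q * q' * q) := congrArg (q * ·) h0
      rw [show q * (q * q' * q) = q * q * q' * q by group, mul_self hq.1 hqm, one_mul] at h1
      exact h1)
    exact Set.ncard_eq_three.2 ⟨q, q', q * q' * q, n1, n2, n3, rfl⟩
  · intro u hu v hv hux hvx huv
    by_contra hne
    exact seven_not_pair hq hqp hq22 hxo (bar_mem H hd hu)
      (⟨bar_mem H hd hv, fun h0 => hne (bar_inj H hd hu hv h0.symm), (bar_commute H hu hv).2 huv⟩ :
        bar hv ∈ perp (img D d) (bar hu))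
      ((commute_proj_bar H hd hu xd).2 hux) ((commute_proj_bar H hd hv xd).2 hvx)

/-- The members fixed by an element of order seven and its centralizer. -/
theorem seven_data {x : G} (hx : orderOf x = 7) : ∃ φ : Equiv.Perm (Fin 5) →* G, Function.Injective φ ∧
    (∀ z, z ∈ D ∧ Commute z x ↔ ∃ k, z = φ (swapTen k)) ∧
    φ.range = Subgroup.closure {z : G | z ∈ D ∧ Commute z x} ∧
    Subgroup.zpowers x ⊓ φ.range = ⊥ ∧
    Subgroup.centralizer ({x} : Set G) = Subgroup.zpowers x ⊔ φ.range ∧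
    Nat.card ↥(Subgroup.centralizer ({x} : Set G)) = 840 := by
  classical
  have := Fintype.ofFinite G
  have : Fact (Nat.Prime 7) := ⟨by norm_num⟩
  obtain ⟨d, hd, hdx⟩ := exists_fixed H (p := 7) hx (by norm_num)
  obtain ⟨hF1c, hF1p, hC84⟩ := seven_at H hx hd hdx
  set F : Set G := {z | z ∈ D ∧ Commute z x} with hF
  set F1 : Set G := {z | z ∈ perp D d ∧ Commute z x} with hF1
  set F2 : Set G := {z | z ∈ F ∧ ¬ Commute z d} with hF2
  have hsplit : F = {d} ∪ F1 ∪ F2 := by
    ext z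
    constructor
    · intro hz
      by_cases hzd : z = d
      · exact Or.inl (Or.inl hzd)
      by_cases hc : Commute z d
      · exact Or.inl (Or.inr ⟨⟨hz.1, hzd, hc.symm⟩, hz.2⟩)
      · exact Or.inr ⟨hz, hc⟩
    · rintro ((rfl | hz) | hz)
      exacts [⟨hd, hdx⟩, ⟨hz.1.1, hz.2⟩, hz.1]
  -- each fixed non-neighbour commutes with one fixed neighbour
  have hone : ∀ f ∈ F2, {e | e ∈ F1 ∧ Commute e f}.ncard = 1 := by
    intro f hf
    have h1 := ncard_fixed_common_mod H (p := 7) hx hd hf.1.1 (fun h0 => hf.2 h0.symm) hdx hf.1.2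
    have h2 : {z : G | z ∈ perp D d ∩ perp D f ∧ Commute z x} = {e | e ∈ F1 ∧ Commute e f} := by
      ext z
      constructor
      · rintro ⟨⟨h1, h2⟩, h3⟩
        exact ⟨⟨h1, h3⟩, h2.2.2.symm⟩
      · rintro ⟨⟨h1, h3⟩, h2⟩
        exact ⟨⟨h1, h1.1, fun h0 => hf.2 (h0 ▸ h1.2.2.symm), h2.symm⟩, h3⟩
    rw [h2] at h1
    have h3 : {e | e ∈ F1 ∧ Commute e f}.ncard ≤ 3 := hF1c ▸ Set.ncard_le_ncard (fun e he => he.1) (Set.toFinite _)
    omega
  have htwo : ∀ e ∈ F1, {f | f ∈ F2 ∧ Commute e f}.ncard = 2 := by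
    intro e he
    obtain ⟨h3, hp, -⟩ := seven_at H hx he.1.1 he.2
    have hde : d ∈ perp D e := perp_symm hd he.1
    have hsub : {f | f ∈ F2 ∧ Commute e f} = {z | z ∈ perp D e ∧ Commute z x} \ {d} := by
      ext f
      constructor
      · rintro ⟨hf, hef⟩
        exact ⟨⟨⟨hf.1.1, fun h0 => hf.2 (h0 ▸ he.1.2.2.symm), hef⟩, hf.1.2⟩,
          fun h0 => hf.2 (Set.mem_singleton_iff.1 h0 ▸ Commute.refl _)⟩
      · rintro ⟨⟨hf, hfx⟩, hne⟩
        exact ⟨⟨⟨hf.1, hfx⟩, fun hfd => hne (hp f hf d hde hfx hdx hfd)⟩, hf.2.2⟩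
    rw [hsub, Set.ncard_sdiff_singleton_of_mem (show d ∈ {z | z ∈ perp D e ∧ Commute z x} from ⟨hde, hdx⟩), h3]
  have hF2c : F2.ncard = 6 := by
    have h1 := sum_ncard_comm F1 F2 Commute
    rw [Finset.sum_congr rfl (fun e he => htwo e (Set.mem_toFinset.1 he)),
      Finset.sum_congr rfl (fun f hf => hone f (Set.mem_toFinset.1 hf)), Finset.sum_const, Finset.sum_const,
      ← Set.ncard_eq_toFinset_card', ← Set.ncard_eq_toFinset_card', hF1c, smul_eq_mul, smul_eq_mul] at h1
    omega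
  have hFc : F.ncard = 10 := by
    rw [hsplit, Set.ncard_union_eq (Set.disjoint_left.2 fun z hz hz2 => by
        rcases hz with rfl | hz
        · exact hz2.2 (Commute.refl _)
        · exact hz2.2 hz.1.2.2.symm),
      Set.ncard_union_eq (Set.disjoint_left.2 fun z hz hz1 => hz1.1.2.1 hz), Set.ncard_singleton, hF1c, hF2c]
  -- the chain
  obtain ⟨f, hf⟩ : F2.Nonempty := Set.nonempty_of_ncard_ne_zero (by rw [hF2c]; norm_num)
  obtain ⟨e1, he1, he1f⟩ : {e | e ∈ F1 ∧ Commute e f}.Nonempty :=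
    Set.nonempty_of_ncard_ne_zero (by rw [hone f hf]; norm_num)
  obtain ⟨e2, he2, hne⟩ : ∃ e2 ∈ F1, e2 ≠ e1 := Set.exists_ne_of_one_lt_ncard (by rw [hF1c]; norm_num) e1
  have he2f : ¬ Commute e2 f := fun hc => by
    obtain ⟨w, hw⟩ := Set.ncard_eq_one.1 (hone f hf)
    exact hne ((hw.subset (⟨he2, hc⟩ : e2 ∈ {e | e ∈ F1 ∧ Commute e f})).trans
      (hw.subset (⟨he1, he1f⟩ : e1 ∈ {e | e ∈ F1 ∧ Commute e f})).symm)
  have hA : MemberChain D ![e1, e2, f, d] :=
    { mem := fun i => by fin_cases i; exacts [he1.1.1, he2.1.1, hf.1.1, hd]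
      nc01 := fun hc => hne (hF1p e2 he2.1 e1 he1.1 he2.2 he1.2 (Commute.symm hc))
      nc12 := he2f
      nc23 := hf.2
      c02 := he1f
      c03 := he1.1.2.2.symm
      c13 := he2.1.2.2.symm }
  obtain ⟨φ, hφ, hφa, -, hφr⟩ := hA.exists_perm_hom H.group
  have haF : ∀ i, ![e1, e2, f, d] i ∈ F := fun i => by
    fin_cases i
    exacts [⟨he1.1.1, he1.2⟩, ⟨he2.1.1, he2.2⟩, hf.1, ⟨hd, hdx⟩]
  have hrx : ∀ σ, Commute (φ σ) x := by
    intro σ
    have hle : Subgroup.closure (Set.range ![e1, e2, f, d]) ≤ Subgroup.centralizer ({x} : Set G) := by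
      rw [Subgroup.closure_le]
      rintro _ ⟨i, rfl⟩
      exact Subgroup.mem_centralizer_singleton_iff.2 (haF i).2.eq
    exact Subgroup.mem_centralizer_singleton_iff.1 (hle (hφr ▸ ⟨σ, rfl⟩))
  have hsub : Set.range (φ ∘ swapTen) ⊆ F := by
    rintro _ ⟨k, rfl⟩
    obtain ⟨σ, hσ⟩ := isConj_iff.1 (Equiv.Perm.isConj_swap (show (0 : Fin 5) ≠ 1 by decide)
      (show (pairTen k).1 ≠ (pairTen k).2 by revert k; decide +kernel))
    refine ⟨?_, hrx _⟩
    show φ (swapTen k) ∈ D
    rw [swapTen, ← hσ, map_mul, map_mul, map_inv, show φ (Equiv.swap 0 1) = ![e1, e2, f, d] 0 from hφa 0]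
    exact H.group.2.1 _ _ (haF 0).1
  have heq : Set.range (φ ∘ swapTen) = F := by
    refine Set.eq_of_subset_of_ncard_le hsub ?_ (Set.toFinite _)
    rw [hFc, Set.ncard_range_of_injective (hφ.comp swapTen_injective)]
    simp
  have hmem : ∀ z, z ∈ D ∧ Commute z x ↔ ∃ k, z = φ (swapTen k) := fun z => by
    constructor
    · intro hz
      obtain ⟨k, hk⟩ := (Set.ext_iff.1 heq z).2 hz
      exact ⟨k, hk.symm⟩
    · rintro ⟨k, rfl⟩
      exact hsub ⟨k, rfl⟩
  have hrange : φ.range = Subgroup.closure F := by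
    rw [hφr]
    refine le_antisymm (Subgroup.closure_mono (Set.range_subset_iff.2 haF)) ((Subgroup.closure_le _).2 ?_)
    intro z hz
    obtain ⟨k, rfl⟩ := (hmem z).1 hz
    exact hφr ▸ ⟨_, rfl⟩
  have hr : Nat.card ↥φ.range = 120 := by
    rw [← Nat.card_congr (MonoidHom.ofInjective hφ).toEquiv, Nat.card_perm, Nat.card_fin]
    rfl
  have hdisj : Subgroup.zpowers x ⊓ φ.range = ⊥ :=
    Subgroup.inf_eq_bot_of_coprime (by rw [Nat.card_zpowers, hx, hr]; norm_num)
  set Cx := Subgroup.centralizer ({x} : Set G) with hCx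
  have hle : Subgroup.zpowers x ⊔ φ.range ≤ Cx := by
    refine sup_le (Subgroup.zpowers_le.2 (Subgroup.mem_centralizer_singleton_iff.2 rfl)) ?_
    rintro _ ⟨σ, rfl⟩
    exact Subgroup.mem_centralizer_singleton_iff.2 (hrx σ).eq
  have hlow : Nat.card ↥(Subgroup.zpowers x ⊔ φ.range) = 840 := by
    rw [(sup_props _ _ (by
      intro a ha b hb
      obtain ⟨n, rfl⟩ := Subgroup.mem_zpowers_iff.1 ha
      obtain ⟨σ, rfl⟩ := hb
      exact ((hrx σ).symm.zpow_left n).eq) hdisj).2, Nat.card_zpowers, hx, hr]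
  have hup : Nat.card ↥Cx ≤ 840 := by
    refine (card_centralizer_le_mul H.group hd hdx).trans ?_
    rw [← hF, hFc, hC84]
  have heqC : Subgroup.zpowers x ⊔ φ.range = Cx := Subgroup.eq_of_le_of_card_ge hle (hup.trans hlow.ge)
  exact ⟨φ, hφ, hmem, hrange, hdisj, heqC.symm, heqC ▸ hlow⟩

/-- The normalizer of a subgroup of order seven. -/
theorem seven_normalizer {x : G} (hx : orderOf x = 7) :
    ∃ (φ : Equiv.Perm (Fin 5) →* G) (Fr : Subgroup G), Function.Injective φ ∧
      φ.range = Subgroup.closure {z : G | z ∈ D ∧ Commute z x} ∧ Nat.card ↥Fr = 42 ∧ Subgroup.zpowers x ≤ Fr ∧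
      Fr ⊓ Subgroup.centralizer ({x} : Set G) = Subgroup.zpowers x ∧ Fr ⊓ φ.range = ⊥ ∧
      (∀ f ∈ Fr, ∀ y ∈ φ.range, f * y = y * f) ∧
      Fr ⊔ φ.range = Subgroup.normalizer ((Subgroup.zpowers x : Subgroup G) : Set G) := by
  have : Fact (Nat.Prime 7) := ⟨by norm_num⟩
  obtain ⟨φ, hφ, hmem, hrange, hdisj, hcent, hcard⟩ := seven_data H hx
  obtain ⟨-, -, hcenter⟩ := Cfsg.Agent.S5482.frobTwenty_facts
  have hCX : Subgroup.centralizer ((Subgroup.zpowers x : Subgroup G) : Set G) =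
      Subgroup.centralizer ({x} : Set G) := by
    rw [Subgroup.zpowers_eq_closure, Subgroup.centralizer_closure]
  set N := Subgroup.normalizer ((Subgroup.zpowers x : Subgroup G) : Set G) with hN
  have hXcard : Nat.card ↥(Subgroup.zpowers x) = 7 := (Nat.card_zpowers x).trans hx
  have hN5040 : Nat.card ↥N = 5040 := by
    have hG : Nat.card G = 7 * 584210067613286400 := by rw [Transpositions.TypeM23.card_group H]
    obtain ⟨e, he, hc⟩ := card_normalizer_eq (p := 7) hXcard
    rw [hCX, hcard, ← hN] at hc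
    have hm := (sylow_conj_count hG (by norm_num) hXcard).2
    rw [← hN] at hm
    have hmul := N.card_mul_index
    rw [hc, hG] at hmul
    have he6 : e ≤ 6 := Nat.le_of_dvd (by norm_num) he
    have hi : N.index * e = 4868417230110720 := by
      refine Nat.eq_of_mul_eq_mul_left (show 0 < 840 by norm_num) ?_
      rw [show 840 * (N.index * e) = 840 * e * N.index by ring, hmul]
    rw [hc]
    interval_cases e <;> omega
  have hRN : φ.range ≤ N := le_trans (hcent ▸ le_sup_right) (hCX ▸ Subgroup.centralizer_le_normalizer _)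
  set Fr := N ⊓ Subgroup.centralizer ((φ.range : Subgroup G) : Set G) with hFr
  have hcomm : ∀ f ∈ Fr, ∀ y ∈ φ.range, f * y = y * f := fun f hf y hy =>
    ((Subgroup.mem_centralizer_iff.1 hf.2) y hy).symm
  have hdis : Fr ⊓ φ.range = ⊥ := by
    rw [Subgroup.eq_bot_iff_forall]
    intro z hz
    obtain ⟨hzF, σ, rfl⟩ := Subgroup.mem_inf.1 hz
    rw [hcenter σ fun i => hφ (by rw [map_mul, map_mul]; exact hcomm _ hzF _ ⟨_, rfl⟩), map_one]
  have hsup : Fr ⊔ φ.range = N := by
    refine le_antisymm (sup_le inf_le_left hRN) fun n hn => ?_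
    have hk : ∀ i : Fin 4, ∃ k, n * φ (Equiv.swap i.castSucc i.succ) * n⁻¹ = φ (swapTen k) := by
      intro i
      obtain ⟨m, hm⟩ := swapTen_surj _ _ (Fin.castSucc_lt_succ (i := i)).ne
      obtain ⟨h1, h2⟩ := (hmem (φ (Equiv.swap i.castSucc i.succ))).2 ⟨m, by rw [hm]⟩
      exact (hmem _).1 (normalizer_conj_fixed H.group hn h1 h2)
    choose k hk using hk
    have key : ∀ i j : Fin 4, swapTen (k i) * swapTen (k j) = swapTen (k j) * swapTen (k i) ↔
        Equiv.swap i.castSucc i.succ * Equiv.swap j.castSucc j.succ =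
          Equiv.swap j.castSucc j.succ * Equiv.swap i.castSucc i.succ := by
      intro i j
      rw [← hφ.eq_iff, map_mul, map_mul, ← hk i, ← hk j]
      refine (commute_conj_iff' n _ _).trans ?_
      show φ _ * φ _ = φ _ * φ _ ↔ _
      rw [← map_mul, ← map_mul, hφ.eq_iff]
    obtain ⟨σ, s0, s1, s2, s3⟩ := chainTen (k 0) (k 1) (fun h => absurd ((key 0 1).1 h) (by decide)) (k 2)
      ((key 0 2).2 (by decide)) (fun h => absurd ((key 1 2).1 h) (by decide)) (k 3) ((key 0 3).2 (by decide))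
      ((key 1 3).2 (by decide)) (fun h => absurd ((key 2 3).1 h) (by decide))
    have hs : ∀ i : Fin 4, σ * Equiv.swap i.castSucc i.succ = swapTen (k i) * σ := fun i => by
      fin_cases i
      exacts [s0, s1, s2, s3]
    have hc0 : ∀ i : Fin 4, Commute ((φ σ)⁻¹ * n) (φ (Equiv.swap i.castSucc i.succ)) := by
      intro i
      have h1 : n * φ (Equiv.swap i.castSucc i.succ) = φ (swapTen (k i)) * n :=
        mul_inv_eq_iff_eq_mul.1 (hk i)
      have h2 : (φ σ)⁻¹ * φ (swapTen (k i)) = φ (Equiv.swap i.castSucc i.succ) * (φ σ)⁻¹ := by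
        rw [← map_inv, ← map_mul, ← map_mul]
        congr 1
        rw [inv_mul_eq_iff_eq_mul, ← mul_assoc, hs i, mul_inv_cancel_right]
      show _ * _ = _ * _
      rw [mul_assoc, h1, ← mul_assoc, h2, mul_assoc]
    have hcR : (φ σ)⁻¹ * n ∈ Subgroup.centralizer ((φ.range : Subgroup G) : Set G) := by
      have htop : Subgroup.closure (Set.range fun i : Fin 4 => Equiv.swap i.castSucc i.succ) = ⊤ := by
        refine (Subgroup.eq_top_iff' _).2 fun w => ?_
        have hw : w ∈ Submonoid.closure (Set.range fun i : Fin 4 => Equiv.swap i.castSucc i.succ) :=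
          Equiv.Perm.mclosure_swap_castSucc_succ 4 ▸ trivial
        exact Submonoid.closure_le.2 Subgroup.subset_closure hw
      rw [MonoidHom.range_eq_map, ← htop, MonoidHom.map_closure, Subgroup.centralizer_closure,
        Subgroup.mem_centralizer_iff]
      rintro _ ⟨_, ⟨i, rfl⟩, rfl⟩
      exact (hc0 i).symm.eq
    have hσR : φ σ ∈ φ.range := MonoidHom.mem_range.2 ⟨σ, rfl⟩
    have hnσ : (φ σ)⁻¹ * n ∈ Fr := Subgroup.mem_inf.2 ⟨mul_mem (inv_mem (hRN hσR)) hn, hcR⟩
    have h3 := Subgroup.mul_mem_sup hnσ hσR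
    rwa [hcomm _ hnσ _ hσR, mul_inv_cancel_left] at h3
  have hF42 : Nat.card ↥Fr = 42 := by
    have h1 := (sup_props Fr φ.range hcomm hdis).2
    rw [hsup, hN5040, ← Nat.card_congr (MonoidHom.ofInjective hφ).toEquiv, Nat.card_perm, Nat.card_fin,
      show Nat.factorial 5 = 120 from rfl] at h1
    omega
  have hxF : Subgroup.zpowers x ≤ Fr := by
    rw [Subgroup.zpowers_le]
    refine ⟨Subgroup.le_normalizer (Subgroup.mem_zpowers x), Subgroup.mem_centralizer_iff.2 ?_⟩
    intro y hy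
    exact Subgroup.mem_centralizer_singleton_iff.1 (hcent ▸ Subgroup.mem_sup_right hy)
  refine ⟨φ, Fr, hφ, hrange, hF42, hxF, ?_, hdis, hcomm, hsup⟩
  refine le_antisymm ?_ (le_inf hxF (hcent ▸ le_sup_left))
  intro z hz
  obtain ⟨hzF, hzC⟩ := Subgroup.mem_inf.1 hz
  obtain ⟨u, hu, r, hr, rfl⟩ := (sup_props _ _ (by
      intro a ha b hb
      obtain ⟨n, rfl⟩ := Subgroup.mem_zpowers_iff.1 ha
      exact ((show Commute b x from Subgroup.mem_centralizer_singleton_iff.1
        (hcent ▸ Subgroup.mem_sup_right hb)).symm.zpow_left n).eq) hdisj).1 z (hcent ▸ hzC)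
  have hrF : r ∈ Fr ⊓ φ.range := ⟨by simpa using mul_mem (inv_mem (hxF hu)) hzF, hr⟩
  rw [hdis, Subgroup.mem_bot] at hrF
  rw [hrF, mul_one]
  exact hu

end M23

end CfsgLib.FischerTypes
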