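import Cfsg.Agent.S5476
import Cfsg.Agent.FischerTypes.M23Local

/-!
# The normalizer of the subgroup generated by the product of two non-commuting members

Generic part, and the descent to the quotient attached to a common neighbour.
-/

set_option autoImplicit false

namespace CfsgLib.FischerTypes

open Cfsg Cfsg.Agent.S5476

variable {G : Type*} [Group G] {D : Set G}

/-- The normalizer of `⟨ad⟩`, given that only the line of `a`, `d` inverts `ad`. -/
theorem pair_normalizer [Finite G] (h : IsThreeTranspositionGroup D) {a d : G} (ha : a ∈ D) (hd : d ∈ D)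
    (hnc : ¬ Commute a d)
    (hinvline : ∀ x ∈ D, x * (a * d) * x = d * a → x = a ∨ x = d ∨ x = a * d * a) :
    Subgroup.closure ({a, d} : Set G) ⊓ Subgroup.centralizer ({a, d} : Set G) = ⊥ ∧
    (∀ x ∈ Subgroup.closure ({a, d} : Set G), ∀ y ∈ Subgroup.centralizer ({a, d} : Set G), x * y = y * x) ∧
    Subgroup.closure ({a, d} : Set G) ⊔ Subgroup.centralizer ({a, d} : Set G) =
      Subgroup.normalizer ((Subgroup.zpowers (a * d) : Subgroup G) : Set G) ∧
    Nonempty (↥(Subgroup.closure ({a, d} : Set G)) ≃* Equiv.Perm (Fin 3)) ∧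
    D ∩ (Subgroup.centralizer ((Subgroup.zpowers (a * d) : Subgroup G) : Set G) : Set G) =
      perp D a ∩ perp D d := by
  classical
  set S := Subgroup.closure ({a, d} : Set G) with hS
  set K := Subgroup.centralizer ({a, d} : Set G) with hK
  have hi : ∀ {x : G}, x ∈ D → x⁻¹ = x := fun {x} hx => inv_eq h.1 hx
  have hne : a ≠ d := fun he => hnc (he ▸ Commute.refl _)
  have mK : ∀ {z : G}, z ∈ K ↔ Commute a z ∧ Commute d z := fun {z} => by
    rw [hK, Subgroup.mem_centralizer_iff]
    simp [commute_iff_eq]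
  obtain ⟨f, hf, hfv⟩ := exists_perm_line h ha hd hnc
  have hcomm : ∀ x ∈ S, ∀ y ∈ K, x * y = y * x := by
    intro x hx y hy
    have hle : S ≤ Subgroup.centralizer ({y} : Set G) := by
      rw [hS, Subgroup.closure_le]
      rintro z (rfl | rfl) <;> rw [SetLike.mem_coe, Subgroup.mem_centralizer_singleton_iff]
      exacts [(mK.1 hy).1.eq, (mK.1 hy).2.eq]
    exact Subgroup.mem_centralizer_singleton_iff.1 (hle hx)
  have t3 : orderOf (a * d) = 3 := orderOf_eq_prime (pow3 h ha hd hnc)
    (fun he => hne (by rw [mul_eq_one_iff_eq_inv, hi hd] at he; exact he))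
  have tinv : (a * d)⁻¹ = d * a := by rw [_root_.mul_inv_rev, hi ha, hi hd]
  refine ⟨?_, hcomm, ?_, ?_, ?_⟩
  · rw [Subgroup.eq_bot_iff_forall]
    intro z hz
    exact eq_one_of_commute_both h ha hd hnc (hS ▸ hz.1) (mK.1 hz.2).1.symm (mK.1 hz.2).2.symm
  · refine le_antisymm (sup_le ?_ ?_) ?_
    · rw [hS, Subgroup.closure_le]
      rintro z (rfl | rfl) <;>
        rw [SetLike.mem_coe] <;> refine mem_normalizer_of_conj_zpowers (Or.inr ?_) <;> rw [tinv]
      · simp [mul_assoc, hi ha, mul_self_cancel h.1 ha]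
      · simp [mul_assoc, hi hd, mul_self h.1 hd]
    · intro z hz
      refine mem_normalizer_of_conj_zpowers (Or.inl ?_)
      rw [mul_inv_eq_iff_eq_mul, ((mK.1 hz).1.symm.mul_right (mK.1 hz).2.symm).eq]
    · intro g hg
      have hcases : g * (a * d) * g⁻¹ = a * d ∨ g * (a * d) * g⁻¹ = d * a := by
        have h1 := (Subgroup.mem_normalizer_iff.1 hg (a * d)).1 (Subgroup.mem_zpowers _)
        rw [(IsOfFinOrder.mem_zpowers_iff_mem_range_orderOf (isOfFinOrder_of_finite _)), t3] at h1
        obtain ⟨i, hi3, he⟩ := Finset.mem_image.1 h1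
        rw [Finset.mem_range] at hi3
        interval_cases i
        · exfalso
          rw [pow_zero, eq_comm, mul_inv_eq_one, mul_eq_left] at he
          rw [he, orderOf_one] at t3
          exact absurd t3 (by norm_num)
        · exact Or.inl (by rw [← he, pow_one])
        · refine Or.inr ?_
          rw [← he, ← tinv, eq_inv_iff_mul_eq_one, ← pow_succ]
          have h4 := pow_orderOf_eq_one (a * d)
          rwa [t3] at h4
      have hinv : ∀ x, x * (a * d) * x = d * a → x * (d * a) * x = a * d →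
          g * x * g⁻¹ * (a * d) * (g * x * g⁻¹) = d * a := by
        intro x hx hx'
        rcases hcases with hc | hc
        · calc g * x * g⁻¹ * (a * d) * (g * x * g⁻¹) =
                g * x * g⁻¹ * (g * (a * d) * g⁻¹) * (g * x * g⁻¹) := by rw [hc]
            _ = g * (x * (a * d) * x) * g⁻¹ := by group
            _ = (g * (a * d) * g⁻¹)⁻¹ := by rw [hx, ← tinv]; group
            _ = d * a := by rw [hc, tinv]
        · have e1 : g * (d * a) * g⁻¹ = a * d := by
            rw [← tinv] at hc ⊢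
            calc g * (a * d)⁻¹ * g⁻¹ = (g * (a * d) * g⁻¹)⁻¹ := by group
              _ = a * d := by rw [hc, inv_inv]
          calc g * x * g⁻¹ * (a * d) * (g * x * g⁻¹) =
                g * x * g⁻¹ * (g * (d * a) * g⁻¹) * (g * x * g⁻¹) := by rw [e1]
            _ = g * (x * (d * a) * x) * g⁻¹ := by group
            _ = d * a := by rw [hx', hc]
      have hline : ∀ x, x ∈ D → x * (a * d) * x = d * a → x * (d * a) * x = a * d →
          g * x * g⁻¹ ∈ ({a, d, a * d * a} : Set G) := fun x hx h1 h2 => by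
        simpa using hinvline _ (h.2.1 g x hx) (hinv x h1 h2)
      let z1 : ↥({a, d, a * d * a} : Set G) := ⟨g * a * g⁻¹, hline a ha
        (by simp [mul_assoc, mul_self_cancel h.1 ha]) (by simp [mul_assoc, mul_self h.1 ha])⟩
      let z2 : ↥({a, d, a * d * a} : Set G) := ⟨g * d * g⁻¹, hline d hd
        (by simp [mul_assoc, mul_self h.1 hd]) (by simp [mul_assoc, mul_self_cancel h.1 hd])⟩
      let za : ↥({a, d, a * d * a} : Set G) := ⟨a, by simp⟩
      let zd : ↥({a, d, a * d * a} : Set G) := ⟨d, by simp⟩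
      classical
      have hz12 : z1 ≠ z2 := fun he => hne (mul_left_cancel (mul_right_cancel (congrArg Subtype.val he)))
      have had : za ≠ zd := fun he => hne (congrArg Subtype.val he)
      let σ := Equiv.swap za z1
      obtain ⟨s, hs⟩ := hf.2 (Equiv.swap (σ zd) z2 * σ)
      have hs1 : f s za = z1 := by
        have hh : z1 ≠ σ zd := fun he => had (σ.injective (by rw [← he]; simp [σ]))
        rw [hs, Equiv.Perm.mul_apply, show σ za = z1 by simp [σ], Equiv.swap_apply_of_ne_of_ne hh hz12]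
      have hs2 : f s zd = z2 := by
        rw [hs, Equiv.Perm.mul_apply, Equiv.swap_apply_left]
      have e1 : (s : G) * a * (s : G)⁻¹ = g * a * g⁻¹ := (hfv s za).symm.trans (congrArg Subtype.val hs1)
      have e2 : (s : G) * d * (s : G)⁻¹ = g * d * g⁻¹ := (hfv s zd).symm.trans (congrArg Subtype.val hs2)
      have hk : (s : G)⁻¹ * g ∈ K := by
        refine mK.2 ⟨Commute.symm (mul_inv_eq_iff_eq_mul.1 ?_), Commute.symm (mul_inv_eq_iff_eq_mul.1 ?_)⟩
        · calc (s : G)⁻¹ * g * a * ((s : G)⁻¹ * g)⁻¹ = (s : G)⁻¹ * (g * a * g⁻¹) * s := by group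
            _ = a := by rw [← e1]; group
        · calc (s : G)⁻¹ * g * d * ((s : G)⁻¹ * g)⁻¹ = (s : G)⁻¹ * (g * d * g⁻¹) * s := by group
            _ = d := by rw [← e2]; group
      rw [show g = (s : G) * ((s : G)⁻¹ * g) by group]
      exact Subgroup.mul_mem_sup (hS.symm ▸ s.2) hk
  · have hcard : Nat.card ↥({a, d, a * d * a} : Set G) = 3 := by
      rw [Nat.card_coe_set_eq, Set.ncard_eq_three]
      refine ⟨a, d, a * d * a, hne, fun he => hne ?_, fun he => ?_, rfl⟩
      · refine mul_left_cancel (a := a) ((mul_self h.1 ha).trans ?_)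
        exact (mul_right_cancel (b := a) ((one_mul a).trans he))
      · exact hnc (by
          show a * d = d * a
          calc a * d = a * (a * d * a) := by rw [← he]
            _ = d * a := by simp [mul_assoc, mul_self_cancel h.1 ha])
    exact ⟨(MulEquiv.ofBijective f hf).trans (Equiv.permCongrHom (Finite.equivFinOfCardEq hcard))⟩
  · ext y
    simp only [Set.mem_inter_iff, SetLike.mem_coe, Subgroup.mem_centralizer_iff]
    constructor
    · rintro ⟨hy, hc⟩
      obtain ⟨c1, c2⟩ := commute_both_of_commute_mul h ha hd hy hne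
        (hc (a * d) (Subgroup.mem_zpowers _)).symm
      exact ⟨⟨hy, fun he => hnc (he ▸ c2), c1.symm⟩, ⟨hy, fun he => hnc (he ▸ c1).symm, c2.symm⟩⟩
    · rintro ⟨h1, h2⟩
      refine ⟨h1.1, ?_⟩
      rintro z ⟨i, rfl⟩
      exact ((h1.2.2.mul_left h2.2.2).zpow_left i).eq

/-- A member inverting `ad` commutes with every common neighbour of `a` and `d`, unless it is on the
line; this reduces the inversion property to the quotient at a common neighbour. -/
theorem mem_line_descend (h : IsThreeTranspositionGroup D) {a d y : G} (ha : a ∈ D) (hd : d ∈ D)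
    (hnc : ¬ Commute a d) (hay : a ∈ perp D y) (hdy : d ∈ perp D y) (hy : y ∈ D)
    (hinj : ∀ {u v : G} (hu : u ∈ perp D y) (hv : v ∈ perp D y), bar hu = bar hv → u = v)
    (hq : ∀ {z : G} (hz : z ∈ perp D y), bar hz * (bar hay * bar hdy) * bar hz = bar hdy * bar hay →
      bar hz = bar hay ∨ bar hz = bar hdy ∨ bar hz = bar hay * bar hdy * bar hay)
    {x : G} (hx : x ∈ D) (hinv : x * (a * d) * x = d * a) : x = a ∨ x = d ∨ x = a * d * a := by
  obtain ⟨hb, -, hde⟩ := conj_line h ha hd hnc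
  have hne : a ≠ d := fun he => hnc (he ▸ Commute.refl _)
  have hxx := mul_self h.1 hx
  by_cases hxa : Commute x a
  · left
    have e1 : x * d * x = a * d * a := by
      calc x * d * x = a * (x * (a * d) * x) := by
            rw [← mul_assoc x a d, hxa.eq]; simp [mul_assoc, mul_self_cancel h.1 ha]
        _ = a * (d * a) := by rw [hinv]
        _ = a * d * a := by rw [mul_assoc]
    have nxd : ¬ Commute x d := fun hc => hnc (by
      rw [hc.eq, mul_assoc, hxx, mul_one] at e1
      show a * d = d * a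
      calc a * d = a * d * a * a := by rw [mul_assoc (a * d), mul_self h.1 ha, mul_one]
        _ = d * a := by rw [← e1])
    rw [braid h.1 hx hd nxd] at e1
    calc x = d * (d * x * d) * d := by simp [mul_assoc, mul_self h.1 hd, mul_self_cancel h.1 hd]
      _ = a := by rw [e1, hde]
  by_cases hxd : Commute x d
  · right; left
    have e1 : x * a * x = d * a * d := by
      calc x * a * x = x * (a * d) * (x * d) := by
            rw [hxd.eq]; simp [mul_assoc, mul_self_cancel h.1 hd]
        _ = x * (a * d) * x * d := by rw [← mul_assoc]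
        _ = d * a * d := by rw [hinv]
    rw [braid h.1 hx ha hxa, hb] at e1
    calc x = a * (a * x * a) * a := by simp [mul_assoc, mul_self h.1 ha, mul_self_cancel h.1 ha]
      _ = d := by rw [e1, mul_assoc a d a]; simp [mul_assoc, mul_self h.1 ha, mul_self_cancel h.1 ha]
  have hu : Commute (a * x) (a * d) := by
    show a * x * (a * d) = a * d * (a * x)
    calc a * x * (a * d) = a * (x * (a * d) * x) * x := by simp [mul_assoc, hxx]
      _ = a * d * (a * x) := by rw [hinv]; simp [mul_assoc]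
  have hxy : Commute x y := by
    have h1 : Commute ((a * x) * y * (a * x)⁻¹) (a * d) := by
      have hyt : Commute y (a * d) := hay.2.2.mul_right hdy.2.2
      have := (commute_conj_iff' (a * x) y (a * d)).2 hyt
      rwa [hu.eq, mul_inv_cancel_right] at this
    have h2 := (commute_both_of_commute_mul h ha hd (h.2.1 _ y hy) hne h1).1
    have h3 := (commute_conj_iff' a⁻¹ ((a * x) * y * (a * x)⁻¹) a).2 h2
    rw [show a⁻¹ * (a * x * y * (a * x)⁻¹) * a⁻¹⁻¹ = x * y * x⁻¹ by group,
      show a⁻¹ * a * a⁻¹⁻¹ = a by group] at h3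
    have h4 := (commute_conj_iff' x⁻¹ _ _).2 h3
    rw [show x⁻¹ * (x * y * x⁻¹) * x⁻¹⁻¹ = y by group, inv_inv, inv_eq h.1 hx, braid h.1 hx ha hxa] at h4
    have h5 := (commute_conj_iff' a y (a * x * a)).2 h4
    rw [show a * y * a⁻¹ = y by rw [hay.2.2.symm.eq, mul_inv_cancel_right],
      show a * (a * x * a) * a⁻¹ = x by simp [mul_assoc, mul_self_cancel h.1 ha]] at h5
    exact h5.symm
  have hxp : x ∈ perp D y := ⟨hx, fun he => hxa (he ▸ hay.2.2), hxy.symm⟩
  have heq : bar hxp * (bar hay * bar hdy) * bar hxp = bar hdy * bar hay :=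
    congrArg QuotientGroup.mk
      (show (⟨x, mem_perp_closure hxp⟩ : ↥(Subgroup.closure (perp D y))) *
          (⟨a, mem_perp_closure hay⟩ * ⟨d, mem_perp_closure hdy⟩) * ⟨x, mem_perp_closure hxp⟩ =
          ⟨d, mem_perp_closure hdy⟩ * ⟨a, mem_perp_closure hay⟩ from Subtype.ext hinv)
  rcases hq hxp heq with he | he | he
  · exact Or.inl (hinj hxp hay he)
  · exact Or.inr (Or.inl (hinj hxp hdy he))
  · have hade : a * d * a ∈ perp D y := by
      have := conj_mem_perp h (d := y) (g := a) hay.2.2.symm hdy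
      rwa [inv_eq h.1 ha] at this
    exact Or.inr (Or.inr (hinj hxp hade (he.trans rfl)))

/-- A clique of common neighbours grows by one over a bound in the quotients. -/
theorem clique_le_descend [Finite G] {a d : G} (ha : a ∈ D) (hd : d ∈ D) {k : ℕ}
    (hmem : ∀ {y : G}, y ∈ D → ∀ {u v : G} (hu : u ∈ perp D y) (hv : v ∈ perp D y),
      bar hv ∈ perp (img D y) (bar hu) ↔ v ∈ perp D u)
    (hinj : ∀ {y : G}, y ∈ D → ∀ {u v : G} (hu : u ∈ perp D y) (hv : v ∈ perp D y),
      bar hu = bar hv → u = v)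
    (hbound : ∀ {y : G}, y ∈ D → ∀ (hay : a ∈ perp D y) (hdy : d ∈ perp D y)
      (E : Set (PerpQuot D y)), E ⊆ perp (img D y) (bar hay) ∩ perp (img D y) (bar hdy) →
      (∀ u ∈ E, ∀ v ∈ E, Commute u v) → E.ncard ≤ k)
    {E : Set G} (hE : E ⊆ perp D a ∩ perp D d) (hc : ∀ u ∈ E, ∀ v ∈ E, Commute u v) :
    E.ncard ≤ k + 1 := by
  rcases E.eq_empty_or_nonempty with rfl | ⟨y, hy⟩
  · simp
  have hyD : y ∈ D := (hE hy).1.1
  have hay : a ∈ perp D y := perp_symm ha (hE hy).1
  have hdy : d ∈ perp D y := perp_symm hd (hE hy).2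
  have hsub : ∀ {z}, z ∈ E \ {y} → z ∈ perp D y := fun {z} hz =>
    ⟨(hE hz.1).1.1, fun he => hz.2 he, hc y hy z hz.1⟩
  rw [← Set.ncard_diff_singleton_add_one hy]
  refine Nat.add_le_add_right ?_ 1
  let f : ↥(E \ {y}) → PerpQuot D y := fun z => bar (hsub z.2)
  have hf : Function.Injective f := fun u v he => Subtype.ext (hinj hyD (hsub u.2) (hsub v.2) he)
  calc (E \ {y}).ncard = (Set.range f).ncard := by
        rw [Set.ncard_range_of_injective hf, Nat.card_coe_set_eq]
    _ ≤ k := hbound hyD hay hdy _ (by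
        rintro p ⟨z, rfl⟩
        exact ⟨(hmem hyD hay (hsub z.2)).2 (hE z.2.1).1, (hmem hyD hdy (hsub z.2)).2 (hE z.2.1).2⟩) (by
        rintro p ⟨u, rfl⟩ q ⟨v, rfl⟩
        exact congrArg QuotientGroup.mk (show
          (⟨(u : G), mem_perp_closure (hsub u.2)⟩ : ↥(Subgroup.closure (perp D y))) *
            ⟨v, mem_perp_closure (hsub v.2)⟩ = ⟨v, mem_perp_closure (hsub v.2)⟩ * ⟨u, mem_perp_closure (hsub u.2)⟩
          from Subtype.ext (hc u u.2.1 v v.2.1).eq))

/-- A clique in a quotient lifts to a clique one larger. -/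
theorem clique_lift [Finite G] {a d y : G} (ha : a ∈ D) (hd : d ∈ D) (hya : y ∈ perp D a)
    (hyd : y ∈ perp D d) (hay : a ∈ perp D y) (hdy : d ∈ perp D y)
    (hmem : ∀ {u v : G} (hu : u ∈ perp D y) (hv : v ∈ perp D y),
      bar hv ∈ perp (img D y) (bar hu) ↔ v ∈ perp D u)
    (hcomm : ∀ {u v : G} (hu : u ∈ perp D y) (hv : v ∈ perp D y),
      Commute (bar hu) (bar hv) ↔ Commute u v)
    {k : ℕ} {E : Set (PerpQuot D y)} (hE : E ⊆ perp (img D y) (bar hay) ∩ perp (img D y) (bar hdy))
    (hc : ∀ u ∈ E, ∀ v ∈ E, Commute u v) (hk : E.ncard = k) :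
    ∃ E' ⊆ perp D a ∩ perp D d, (∀ u ∈ E', ∀ v ∈ E', Commute u v) ∧ E'.ncard = k + 1 := by
  choose f hf hfe using fun p : ↥E => M23.exists_lift (hE p.2).1.1
  have hinjf : Function.Injective f := fun p q he => by
    apply Subtype.ext
    rw [← hfe p, ← hfe q]
    congr 2
  refine ⟨insert y (Set.range f), ?_, ?_, ?_⟩
  · rintro z (rfl | ⟨p, rfl⟩)
    · exact ⟨hya, hyd⟩
    · exact ⟨(hmem hay (hf p)).1 (by rw [hfe]; exact (hE p.2).1),
        (hmem hdy (hf p)).1 (by rw [hfe]; exact (hE p.2).2)⟩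
  · rintro u (rfl | ⟨p, rfl⟩) v (rfl | ⟨q, rfl⟩)
    · exact Commute.refl _
    · exact (hf q).2.2
    · exact (hf p).2.2.symm
    · exact (hcomm (hf p) (hf q)).1 (by rw [hfe, hfe]; exact hc _ p.2 _ q.2)
  · rw [Set.ncard_insert_of_notMem (show y ∉ Set.range f from fun ⟨p, hp⟩ => (hf p).2.1 hp) (Set.toFinite _),
      Set.ncard_range_of_injective hinjf, Nat.card_coe_set_eq, hk]

/-- Conjugation transports the group generated by the common neighbours. -/
theorem map_common_closure (h : IsThreeTranspositionGroup D) {a d a' d' g : G}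
    (g1 : g * a * g⁻¹ = a') (g2 : g * d * g⁻¹ = d') :
    (Subgroup.closure (perp D a ∩ perp D d)).map (MulAut.conj g).toMonoidHom =
      Subgroup.closure (perp D a' ∩ perp D d') := by
  rw [MonoidHom.map_closure]
  congr 1
  have cj : ∀ (g : G) {u v : G}, v ∈ perp D u → g * v * g⁻¹ ∈ perp D (g * u * g⁻¹) := fun g u v hv =>
    ⟨h.2.1 g v hv.1, fun he => hv.2.1 (mul_left_cancel (mul_right_cancel he)),
      (commute_conj_iff' g _ _).2 hv.2.2⟩
  ext z
  simp only [Set.mem_image, MulEquiv.coe_toMonoidHom, MulAut.conj_apply]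
  constructor
  · rintro ⟨x, ⟨x1, x2⟩, rfl⟩
    exact ⟨g1 ▸ cj g x1, g2 ▸ cj g x2⟩
  · rintro ⟨z1, z2⟩
    have e1 := cj g⁻¹ z1
    have e2 := cj g⁻¹ z2
    rw [← g1, show g⁻¹ * (g * a * g⁻¹) * g⁻¹⁻¹ = a by group] at e1
    rw [← g2, show g⁻¹ * (g * d * g⁻¹) * g⁻¹⁻¹ = d by group] at e2
    exact ⟨_, ⟨e1, e2⟩, by group⟩

/-- The common neighbours generate the joint centralizer once the orders match. -/
theorem common_closure_of_card [Finite G] (h : IsThreeTranspositionGroup D) {a d a₀ d₀ g : G}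
    (g1 : g * a₀ * g⁻¹ = a) (g2 : g * d₀ * g⁻¹ = d) {n : ℕ}
    (hC : Nat.card ↥(Subgroup.centralizer ({a, d} : Set G)) = n)
    (hquot : Nat.card (↥(Subgroup.closure (perp D a₀ ∩ perp D d₀)) ⧸
      Subgroup.center ↥(Subgroup.closure (perp D a₀ ∩ perp D d₀))) = n) :
    Subgroup.closure (perp D a ∩ perp D d) = Subgroup.centralizer ({a, d} : Set G) ∧
      Subgroup.center ↥(Subgroup.closure (perp D a₀ ∩ perp D d₀)) = ⊥ ∧
      Nonempty (↥(Subgroup.closure (perp D a₀ ∩ perp D d₀)) ≃* ↥(Subgroup.centralizer ({a, d} : Set G))) := by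
  set L := Subgroup.closure (perp D a₀ ∩ perp D d₀) with hL0
  have hmap := map_common_closure h g1 g2
  rw [← hL0] at hmap
  have hle : Subgroup.closure (perp D a ∩ perp D d) ≤ Subgroup.centralizer ({a, d} : Set G) := by
    rw [Subgroup.closure_le]
    intro z hz
    rw [SetLike.mem_coe, Subgroup.mem_centralizer_iff]
    rintro w (rfl | rfl)
    exacts [hz.1.2.2.eq, hz.2.2.2.eq]
  let e : ↥L ≃* ↥(Subgroup.closure (perp D a ∩ perp D d)) :=
    (MulEquiv.subgroupMap (MulAut.conj g) L).trans (MulEquiv.subgroupCongr hmap)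
  have hLn : Nat.card ↥L ≤ n := hC ▸ Nat.card_congr e.toEquiv ▸ Subgroup.card_le_of_le hle
  have h2 := Subgroup.card_eq_card_quotient_mul_card_subgroup (Subgroup.center ↥L)
  rw [hquot] at h2
  have hpos : 0 < Nat.card ↥(Subgroup.center ↥L) := Nat.card_pos
  have hnpos : 0 < n := hC ▸ Nat.card_pos
  have hz1 : Nat.card ↥(Subgroup.center ↥L) = 1 := by nlinarith
  have heq : Subgroup.closure (perp D a ∩ perp D d) = Subgroup.centralizer ({a, d} : Set G) :=
    Subgroup.eq_of_le_of_card_ge hle (by rw [hC, ← Nat.card_congr e.toEquiv, h2, hz1, mul_one])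
  exact ⟨heq, Subgroup.card_eq_one.1 hz1, ⟨e.trans (MulEquiv.subgroupCongr heq)⟩⟩

end CfsgLib.FischerTypes
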