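import Cfsg.Agent.FischerTypes.SwapSeven

/-!
# Transpositions of seven points commuting with an element
-/

set_option autoImplicit false
set_option maxHeartbeats 1000000

namespace CfsgLib.FischerTypes

open Cfsg

/-- If, among transpositions commuting with `f`, each has six others commuting with it, they are those fixing one
of the seven points. -/
theorem star_seven {G : Type*} [Group G] {φ : Equiv.Perm (Fin 7) →* G} (hφ : Function.Injective φ) {f : G}
    (hsix : ∀ u v : Fin 7, u ≠ v → Commute (φ (Equiv.swap u v)) f →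
      {w : G | (∃ i j : Fin 7, i ≠ j ∧ w = φ (Equiv.swap i j)) ∧ w ≠ φ (Equiv.swap u v) ∧
        Commute w (φ (Equiv.swap u v)) ∧ Commute w f}.ncard = 6)
    {u₀ v₀ : Fin 7} (hne : u₀ ≠ v₀) (hc₀ : Commute (φ (Equiv.swap u₀ v₀)) f) :
    ∃ π : Equiv.Perm (Fin 7), ∀ i j : Fin 7, i ≠ j →
      (Commute (φ (Equiv.swap (π i) (π j))) f ↔ i ≠ 6 ∧ j ≠ 6) := by
  classical
  -- moving the given pair to the last two points
  set s1 : Equiv.Perm (Fin 7) := Equiv.swap 5 u₀ with hs1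
  set σ : Equiv.Perm (Fin 7) := s1 * Equiv.swap 6 (s1 v₀) with hσdef
  have hs15 : s1 v₀ ≠ 5 := fun h0 => hne (by
    have h1 := congrArg s1 h0
    rw [hs1, Equiv.swap_apply_self, Equiv.swap_apply_left] at h1
    exact h1.symm)
  have hσ5 : σ 5 = u₀ := by
    rw [hσdef, Equiv.Perm.mul_apply, Equiv.swap_apply_of_ne_of_ne (by decide) hs15.symm, hs1, Equiv.swap_apply_left]
  have hσ6 : σ 6 = v₀ := by
    rw [hσdef, Equiv.Perm.mul_apply, Equiv.swap_apply_left, hs1, Equiv.swap_apply_self]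
  -- transitivity
  have htr : ∀ a b c : Fin 7, a ≠ b → b ≠ c → a ≠ c → Commute (φ (Equiv.swap a b)) f →
      Commute (φ (Equiv.swap b c)) f → Commute (φ (Equiv.swap a c)) f := by
    intro a b c hab hbc hac h1 h2
    have e : Equiv.swap a c = Equiv.swap a b * Equiv.swap b c * (Equiv.swap a b)⁻¹ := by
      rw [← Equiv.swap_apply_apply, Equiv.swap_apply_right, Equiv.swap_apply_of_ne_of_ne hac.symm hbc.symm]
    rw [e, map_mul, map_mul, map_inv]
    exact (h1.mul_left h2).mul_left h1.inv_left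
  set ξ : Equiv.Perm (Fin 7) →* G := φ.comp (MulAut.conj σ).toMonoidHom with hξ
  have hξinj : Function.Injective ξ := hφ.comp (MulAut.conj σ).injective
  have hξs : ∀ a b : Fin 7, ξ (Equiv.swap a b) = φ (Equiv.swap (σ a) (σ b)) := fun a b => by
    show φ (σ * Equiv.swap a b * σ⁻¹) = _
    rw [Equiv.swap_apply_apply]
  -- the pairs away from the last two points
  set T := Finset.univ.filter fun k : Fin 10 =>
    Commute (ξ (Equiv.swap (upFive (pairTen k).1) (upFive (pairTen k).2))) f with hT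
  have hTcard : T.card = 6 := by
    rw [← hsix u₀ v₀ hne hc₀, ← Set.ncard_coe_finset,
      ← Set.ncard_image_of_injective _ (hξinj.comp upFive_injective)]
    congr 1
    ext w
    constructor
    · rintro ⟨k, hk, rfl⟩
      simp only [hT, Finset.coe_filter, Finset.mem_univ, true_and, Set.mem_setOf_eq] at hk
      obtain ⟨k1, k2, k3⟩ := upFive_ne k
      refine ⟨⟨σ (upFive (pairTen k).1), σ (upFive (pairTen k).2), σ.injective.ne k1, hξs _ _⟩, ?_, ?_, hk⟩
      · rw [← hσ5, ← hσ6, ← hξs]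
        exact hξinj.ne k2
      · rw [← hσ5, ← hσ6, ← hξs]
        exact (show Commute _ _ from k3).map ξ
    · rintro ⟨⟨i, j, hij, rfl⟩, h2, h3, h4⟩
      have e : φ (Equiv.swap i j) = ξ (Equiv.swap (σ⁻¹ i) (σ⁻¹ j)) := by rw [hξs]; simp
      rw [← hσ5, ← hσ6, ← hξs, e] at h2 h3
      obtain ⟨k, hk⟩ := upFive_range _ _ (σ⁻¹.injective.ne hij) (fun h0 => h2 (by rw [h0]))
        (hξinj (by rw [map_mul, map_mul]; exact h3.eq))
      refine ⟨k, ?_, ?_⟩
      · simp only [hT, Finset.coe_filter, Finset.mem_univ, true_and, Set.mem_setOf_eq]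
        rw [← hk, ← e]; exact h4
      · show ξ _ = _
        rw [e, hk]
  obtain ⟨i₀, hi₀⟩ := six_closed_star T (Finset.mem_powersetCard.2 ⟨Finset.subset_univ _, hTcard⟩) (by
    intro k hk l hl
    simp only [hT, Finset.mem_filter, Finset.mem_univ, true_and] at hk hl ⊢
    rw [← upFive_conj, map_mul, map_mul]
    exact (hk.mul_left hl).mul_left hk)
  -- moving the omitted point to the fifth place
  set τ : Equiv.Perm (Fin 7) := Equiv.swap 4 (upFive i₀) with hτ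
  have hτfix : ∀ m : Fin 7, m = 5 ∨ m = 6 → τ m = m := by
    intro m hm
    exact (by decide +kernel : ∀ (i : Fin 5) (m : Fin 7), m = 5 ∨ m = 6 → Equiv.swap 4 (upFive i) m = m) i₀ m hm
  set π₀ : Equiv.Perm (Fin 7) := σ * τ with hπ₀
  set P : Fin 7 → Fin 7 → Prop := fun a b => Commute (φ (Equiv.swap (π₀ a) (π₀ b))) f with hP
  have hPsymm : ∀ {a b}, P a b → P b a := fun {a b} h => by
    simp only [hP] at h ⊢; rwa [Equiv.swap_comm]
  have hPtr : ∀ {a b c}, a ≠ b → b ≠ c → a ≠ c → P a b → P b c → P a c := fun {a b c} h1 h2 h3 =>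
    htr _ _ _ (π₀.injective.ne h1) (π₀.injective.ne h2) (π₀.injective.ne h3)
  have hP56 : P 5 6 := by
    simp only [hP, hπ₀, Equiv.Perm.mul_apply, hτfix 5 (Or.inl rfl), hτfix 6 (Or.inr rfl), hσ5, hσ6]
    exact hc₀
  have hPfive : ∀ a b : Fin 5, a ≠ b → (P (upFive a) (upFive b) ↔ a ≠ 4 ∧ b ≠ 4) := by
    intro a b hab
    obtain ⟨k, hk1, hk2⟩ := upFive_avoid i₀ a b hab
    rw [← hk2, ← hi₀ k, hT, Finset.mem_filter, and_iff_right (Finset.mem_univ _), hk1, hξs]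
    rfl
  have p01 : P 0 1 := (hPfive 0 1 (by decide)).2 (by decide)
  have p23 : P 2 3 := (hPfive 2 3 (by decide)).2 (by decide)
  have p03 : P 0 3 := (hPfive 0 3 (by decide)).2 (by decide)
  have p13 : P 1 3 := (hPfive 1 3 (by decide)).2 (by decide)
  have n43 : ¬ P 4 3 := fun h => absurd ((hPfive 4 3 (by decide)).1 h) (by decide)
  have n24 : ¬ P 2 4 := fun h => absurd ((hPfive 2 4 (by decide)).1 h) (by decide)
  have n34 : ¬ P 3 4 := fun h => n43 (hPsymm h)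
  have p53 : P 5 3 := by
    by_contra hno
    have n25 : ¬ P 2 5 := fun h => hno (hPtr (by decide) (by decide) (by decide) (hPsymm h) p23)
    have n36 : ¬ P 3 6 := fun h => hno (hPtr (by decide) (by decide) (by decide) hP56 (hPsymm h))
    have n26 : ¬ P 2 6 := fun h => n25 (hPtr (by decide) (by decide) (by decide) h (hPsymm hP56))
    have hc01 := hsix (π₀ 0) (π₀ 1) (π₀.injective.ne (by decide)) p01
    set g : Fin 7 × Fin 7 → G := fun p => φ (Equiv.swap (π₀ p.1) (π₀ p.2)) with hg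
    have hsub : {w : G | (∃ i j : Fin 7, i ≠ j ∧ w = φ (Equiv.swap i j)) ∧ w ≠ φ (Equiv.swap (π₀ 0) (π₀ 1)) ∧
        Commute w (φ (Equiv.swap (π₀ 0) (π₀ 1))) ∧ Commute w f} ⊆
        ↑(({(2, 3), (5, 6), (4, 5), (4, 6)} : Finset (Fin 7 × Fin 7)).image g) := by
      rintro w ⟨⟨i, j, hij, rfl⟩, h2, h3, h4⟩
      obtain ⟨a, rfl⟩ := π₀.surjective i
      obtain ⟨b, rfl⟩ := π₀.surjective j
      have hab : a ≠ b := fun h0 => hij (by rw [h0])
      have hP' : P a b := h4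
      have e : ∀ x y : Fin 7, φ (Equiv.swap (π₀ x) (π₀ y)) = φ (π₀ * Equiv.swap x y * π₀⁻¹) := fun x y => by
        rw [Equiv.swap_apply_apply]
      have hlist := swapSeven_off01 a b hab (fun h0 => h2 (by rw [e, e, h0])) (by
        rw [e, e] at h3
        exact (commute_conj_iff' π₀ _ _).1 (hφ ((map_mul φ _ _).trans (h3.eq.trans (map_mul φ _ _).symm))))
      simp only [List.mem_cons, List.not_mem_nil, or_false, Prod.mk.injEq] at hlist
      simp only [Finset.coe_image, Finset.coe_insert, Finset.coe_singleton, Set.mem_image, Set.mem_insert_iff,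
        Set.mem_singleton_iff]
      rcases hlist with ⟨rfl, rfl⟩ | ⟨rfl, rfl⟩ | ⟨rfl, rfl⟩ | ⟨rfl, rfl⟩ | ⟨rfl, rfl⟩ | ⟨rfl, rfl⟩ | ⟨rfl, rfl⟩ |
        ⟨rfl, rfl⟩ | ⟨rfl, rfl⟩ | ⟨rfl, rfl⟩ | ⟨rfl, rfl⟩ | ⟨rfl, rfl⟩ | ⟨rfl, rfl⟩ | ⟨rfl, rfl⟩ | ⟨rfl, rfl⟩ |
        ⟨rfl, rfl⟩ | ⟨rfl, rfl⟩ | ⟨rfl, rfl⟩ | ⟨rfl, rfl⟩ | ⟨rfl, rfl⟩
      exacts [⟨(2, 3), by simp, rfl⟩, ⟨(2, 3), by simp, congrArg φ (Equiv.swap_comm _ _)⟩,
        ⟨(5, 6), by simp, rfl⟩, ⟨(5, 6), by simp, congrArg φ (Equiv.swap_comm _ _)⟩,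
        ⟨(4, 5), by simp, rfl⟩, ⟨(4, 5), by simp, congrArg φ (Equiv.swap_comm _ _)⟩,
        ⟨(4, 6), by simp, rfl⟩, ⟨(4, 6), by simp, congrArg φ (Equiv.swap_comm _ _)⟩,
        absurd hP' n24, absurd (hPsymm hP') n24, absurd hP' n34, absurd (hPsymm hP') n34,
        absurd hP' n25, absurd (hPsymm hP') n25, absurd hP' n26, absurd (hPsymm hP') n26,
        absurd (hPsymm hP') hno, absurd hP' hno, absurd hP' n36, absurd (hPsymm hP') n36]
    have h4 := (Set.ncard_le_ncard hsub (Finset.finite_toSet _)).trans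
      ((Set.ncard_coe_finset _).le.trans Finset.card_image_le)
    rw [hc01] at h4
    exact absurd h4 (by decide)
  have p63 : P 6 3 := hPtr (by decide) (by decide) (by decide) (hPsymm hP56) p53
  have hall3 : ∀ a : Fin 7, a ≠ 4 → a ≠ 3 → P a 3 := by
    intro a h4 h3
    fin_cases a
    exacts [p03, p13, p23, absurd rfl h3, absurd rfl h4, p53, p63]
  have hchar : ∀ a b : Fin 7, a ≠ b → (P a b ↔ a ≠ 4 ∧ b ≠ 4) := by
    have hno4 : ∀ b : Fin 7, b ≠ 4 → ¬ P 4 b := by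
      intro b hb h
      by_cases hb3 : b = 3
      · exact n43 (hb3 ▸ h)
      · exact n43 (hPtr hb.symm hb3 (by decide) h (hall3 b hb hb3))
    intro a b hab
    refine ⟨fun h => ⟨fun h0 => hno4 b (fun h1 => hab (h0.trans h1.symm)) (h0 ▸ h),
      fun h0 => hno4 a (fun h1 => hab (h1.trans h0.symm)) (h0 ▸ hPsymm h)⟩, fun ⟨ha, hb⟩ => ?_⟩
    by_cases ha3 : a = 3
    · exact ha3 ▸ hPsymm (hall3 b hb (fun h => hab (ha3.trans h.symm)))
    by_cases hb3 : b = 3
    · exact hb3 ▸ hall3 a ha ha3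
    exact hPtr ha3 (Ne.symm hb3) hab (hall3 a ha ha3) (hPsymm (hall3 b hb hb3))
  set ρ : Equiv.Perm (Fin 7) := Equiv.swap 4 5 * Equiv.swap 5 6 with hρ
  have hρ4 : ∀ i : Fin 7, ρ i ≠ 4 ↔ i ≠ 6 := by rw [hρ]; decide +kernel
  refine ⟨π₀ * ρ, fun i j hij => ?_⟩
  rw [Equiv.Perm.mul_apply, Equiv.Perm.mul_apply, ← hρ4, ← hρ4]
  exact hchar _ _ (ρ.injective.ne hij)

end CfsgLib.FischerTypes
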