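import Cfsg.Agent.FischerTypes.M24FiveOrphan
import Cfsg.Agent.FischerTypes.M24Star

/-!
# Elements of order five in type M(24)
-/

set_option autoImplicit false
set_option linter.style.haveILetI false
set_option maxHeartbeats 2000000

namespace CfsgLib.FischerTypes

open Cfsg

/-- A transposition determines its ordered pair. -/
theorem swapPair_inj {n : ℕ} {a b c e : Fin n} (hab : a < b) (hce : c < e) (h : Equiv.swap a b = Equiv.swap c e) :
    a = c ∧ b = e := by
  have h1 := congrArg (fun f : Equiv.Perm (Fin n) => f a) h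
  simp only [Equiv.swap_apply_left] at h1
  by_cases ha : a = c
  · subst ha
    rw [Equiv.swap_apply_left] at h1
    exact ⟨rfl, h1⟩
  by_cases ha' : a = e
  · subst ha'
    rw [Equiv.swap_apply_right] at h1
    exact absurd (h1 ▸ hab) (lt_asymm hce)
  · rw [Equiv.swap_apply_of_ne_of_ne ha ha'] at h1
    exact absurd h1 hab.ne'

theorem card_pairNine : (Finset.univ.filter fun p : Fin 9 × Fin 9 => p.1 < p.2).card = 36 := by
  decide +kernel

/-- Adjacent transpositions of seven points, the last distinguished. -/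
theorem swapAdj_avoid : ∀ j : Fin 6, (j.castSucc ≠ (6 : Fin 7) ∧ j.succ ≠ (6 : Fin 7) ↔ j ≠ 5) := by
  decide +kernel

theorem swapTwentyOne_avoid :
    (Finset.univ.filter fun k : Fin 21 => (pairTwentyOne k).1 ≠ 6 ∧ (pairTwentyOne k).2 ≠ 6).card = 15 := by
  decide +kernel

theorem swapTwentyOne_disjoint : ∀ k, ∃ m, m ≠ k ∧ comTwentyOne m k = true := by
  decide +kernel

namespace M24

/-- The data at an element of order five. -/
structure FiveData {G : Type*} [Group G] (D : Set G) (x : G) where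
  /-- a chain -/
  a : Fin 4 → G
  /-- the action of the symmetric group of degree nine -/
  ψ : Equiv.Perm (Fin 9) →* G
  chain : MemberChain D a
  zpow : Subgroup.zpowers x = Subgroup.zpowers (five a)
  inj : Function.Injective ψ
  mem : ∀ z, z ∈ D ∧ Commute z x ↔ ∃ i j : Fin 9, i ≠ j ∧ z = ψ (Equiv.swap i j)
  range : ψ.range = Subgroup.closure {z : G | z ∈ D ∧ Commute z x}
  comm : ∀ σ i, Commute (ψ σ) (a i)
  disj : Subgroup.zpowers x ⊓ ψ.range = ⊥
  cent : Subgroup.centralizer ({x} : Set G) = Subgroup.zpowers x ⊔ ψ.range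
  card : Nat.card ↥(Subgroup.centralizer ({x} : Set G)) = 1814400

variable {G : Type*} [Group G] [Finite G] {D : Set G} (H : Hyp G D)

include H

/-- The structure of the fixed members of an element of order five. -/
theorem exists_fiveData {x : G} (hx : orderOf x = 5) : Nonempty (FiveData D x) := by
  classical
  have := Fintype.ofFinite G
  have : Fact (Nat.Prime 5) := ⟨by norm_num⟩
  obtain ⟨d, hd, hdx⟩ := exists_fixed H (p := 5) hx (by norm_num)
  obtain ⟨a, φ, hA, hzp, hφ, had, hF1, hcomm, hF1c, hC⟩ := five_at H hx hd hdx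
  set F : Set G := {z | z ∈ D ∧ Commute z x} with hF
  set F1 : Set G := {z | z ∈ perp D d ∧ Commute z x} with hF1'
  set F2 : Set G := {z | z ∈ F ∧ ¬ Commute z d} with hF2
  have hsplit : F = {d} ∪ F1 ∪ F2 := by
    ext z
    constructor
    · intro hz
      by_cases hzd : z = d
      · exact Or.inl (Or.inl hzd)
      by_cases hc : Commute z d
      · exact Or.inl (Or.inr ⟨⟨hz.1, hzd, hc.symm⟩, hz.2⟩)
      · exact Or.inr ⟨hz, hc⟩
    · rintro ((rfl | hz) | hz)
      exacts [⟨hd, hdx⟩, ⟨hz.1.1, hz.2⟩, hz.1]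
  have hF1k : ∀ k, φ (swapTwentyOne k) ∈ F1 := fun k => (hF1 _).2 ⟨k, rfl⟩
  -- the neighbours of a neighbour
  have hten : ∀ e ∈ F1, {f | f ∈ F2 ∧ Commute e f}.ncard = 10 := by
    intro e he
    obtain ⟨-, ξ, -, -, hξ, -, hFe, -, -, -⟩ := five_at H hx he.1.1 he.2
    obtain ⟨kd, hkd⟩ := (hFe d).1 ⟨perp_symm hd he.1, hdx⟩
    have hset : {f | f ∈ F2 ∧ Commute e f} =
        (fun l => ξ (swapTwentyOne l)) '' ↑(Finset.univ.filter fun l : Fin 21 => comTwentyOne kd l = false) := by
      ext f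
      simp only [Finset.coe_filter, Finset.mem_univ, true_and, Set.mem_setOf_eq, Set.mem_image]
      constructor
      · rintro ⟨hf, hef⟩
        obtain ⟨l, rfl⟩ := (hFe f).1 ⟨⟨hf.1.1, fun h0 => hf.2 (h0 ▸ he.1.2.2.symm), hef⟩, hf.1.2⟩
        refine ⟨l, ?_, rfl⟩
        rw [← Bool.not_eq_true, ← commute_swapTwentyOne hξ, ← hkd]
        exact fun h => hf.2 h.symm
      · rintro ⟨l, hl, rfl⟩
        obtain ⟨h1, h2⟩ := (hFe (ξ (swapTwentyOne l))).2 ⟨l, rfl⟩
        refine ⟨⟨⟨h1.1, h2⟩, fun h => ?_⟩, h1.2.2⟩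
        have h' := (commute_swapTwentyOne hξ kd l).1 (hkd ▸ h.symm)
        rw [hl] at h'
        exact Bool.false_ne_true h'
    rw [hset, Set.ncard_image_of_injective _ (fun p q h => swapTwentyOne_injective (hξ h) : Function.Injective fun l => ξ (swapTwentyOne l)), Set.ncard_coe_finset,
      swapTwentyOne_noncommuting]
  -- each non-neighbour commutes with those avoiding a point
  have hstar : ∀ f ∈ F2, ∃ π : Equiv.Perm (Fin 7), ∀ i j : Fin 7, i ≠ j →
      (Commute (φ (Equiv.swap (π i) (π j))) f ↔ i ≠ 6 ∧ j ≠ 6) := by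
    intro f hf
    obtain ⟨e0, he0, he0x, he0f⟩ := five_no_orphan H hx hd hdx hf.1.1 hf.1.2 (fun h => hf.2 h.symm)
    obtain ⟨k0, rfl⟩ := (hF1 e0).1 ⟨he0, he0x⟩
    refine star_seven hφ ?_ (pairTwentyOne_ne k0) he0f
    intro u v huv hc
    obtain ⟨k, hk⟩ := swapTwentyOne_surj u v huv
    have he : φ (Equiv.swap u v) ∈ F1 := hk ▸ hF1k k
    set e := φ (Equiv.swap u v) with hedef
    obtain ⟨-, ξ, -, -, hξ, -, hFe, -, -, -⟩ := five_at H hx he.1.1 he.2
    obtain ⟨kd, hkd⟩ := (hFe d).1 ⟨perp_symm hd he.1, hdx⟩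
    obtain ⟨kf, hkf⟩ := (hFe f).1 ⟨⟨hf.1.1, fun h0 => hf.2 (h0 ▸ he.1.2.2.symm), hc⟩, hf.1.2⟩
    have hdf : comTwentyOne kd kf = false := by
      rw [← Bool.not_eq_true, ← commute_swapTwentyOne hξ, ← hkd, ← hkf]
      exact fun h => hf.2 h.symm
    have hset : {w : G | (∃ i j : Fin 7, i ≠ j ∧ w = φ (Equiv.swap i j)) ∧ w ≠ e ∧ Commute w e ∧ Commute w f} =
        (fun m => ξ (swapTwentyOne m)) '' ↑(Finset.univ.filter fun m : Fin 21 =>
          comTwentyOne m kd = true ∧ comTwentyOne m kf = true) := by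
      ext w
      simp only [Finset.coe_filter, Finset.mem_univ, true_and, Set.mem_setOf_eq, Set.mem_image]
      constructor
      · rintro ⟨⟨i, j, hij, rfl⟩, h2, h3, h4⟩
        obtain ⟨k', hk'⟩ := swapTwentyOne_surj i j hij
        have hw : φ (Equiv.swap i j) ∈ F1 := hk' ▸ hF1k k'
        obtain ⟨m, hm⟩ := (hFe _).1 ⟨⟨hw.1.1, h2, h3.symm⟩, hw.2⟩
        rw [hm] at h4 ⊢
        refine ⟨m, ⟨(commute_swapTwentyOne hξ m kd).1 ?_, (commute_swapTwentyOne hξ m kf).1 (hkf ▸ h4)⟩, rfl⟩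
        rw [← hkd, ← hm]
        exact hw.1.2.2.symm
      · rintro ⟨m, ⟨h1, h2⟩, rfl⟩
        obtain ⟨h3, h4⟩ := (hFe (ξ (swapTwentyOne m))).2 ⟨m, rfl⟩
        have hwd : Commute (ξ (swapTwentyOne m)) d := hkd ▸ (commute_swapTwentyOne hξ m kd).2 h1
        have hwf : Commute (ξ (swapTwentyOne m)) f := hkf ▸ (commute_swapTwentyOne hξ m kf).2 h2
        have hw : ξ (swapTwentyOne m) ∈ F1 := ⟨⟨h3.1, fun h0 => hf.2 (h0 ▸ hwf).symm, hwd.symm⟩, h4⟩
        obtain ⟨k', hk'⟩ := (hF1 _).1 hw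
        exact ⟨⟨_, _, pairTwentyOne_ne k', hk'⟩, h3.2.1, h3.2.2.symm, hwf⟩
    rw [hset, Set.ncard_image_of_injective _ (fun p q h => swapTwentyOne_injective (hξ h) : Function.Injective fun l => ξ (swapTwentyOne l)), Set.ncard_coe_finset,
      swapTwentyOne_six kd kf hdf]
  have hfifteen : ∀ f ∈ F2, {e | e ∈ F1 ∧ Commute e f}.ncard = 15 := by
    intro f hf
    obtain ⟨π, hπ⟩ := hstar f hf
    set ξ : Equiv.Perm (Fin 7) →* G := φ.comp (MulAut.conj π).toMonoidHom with hξ
    have hξs : ∀ a b : Fin 7, ξ (Equiv.swap a b) = φ (Equiv.swap (π a) (π b)) := fun a b => by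
      show φ (π * Equiv.swap a b * π⁻¹) = _
      rw [Equiv.swap_apply_apply]
    have hset : {e | e ∈ F1 ∧ Commute e f} = (fun m => ξ (swapTwentyOne m)) '' ↑(Finset.univ.filter fun m : Fin 21 =>
        (pairTwentyOne m).1 ≠ 6 ∧ (pairTwentyOne m).2 ≠ 6) := by
      ext w
      simp only [Finset.coe_filter, Finset.mem_univ, true_and, Set.mem_setOf_eq, Set.mem_image]
      constructor
      · rintro ⟨hw, hwf⟩
        obtain ⟨k, rfl⟩ := (hF1 w).1 hw
        obtain ⟨m, hm⟩ := swapTwentyOne_surj (π⁻¹ (pairTwentyOne k).1) (π⁻¹ (pairTwentyOne k).2)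
          (π⁻¹.injective.ne (pairTwentyOne_ne k))
        have e : ξ (swapTwentyOne m) = φ (swapTwentyOne k) := by rw [hm, hξs]; simp [swapTwentyOne]
        refine ⟨m, (hπ _ _ (pairTwentyOne_ne m)).1 ?_, e⟩
        rw [← hξs]
        exact e.symm ▸ hwf
      · rintro ⟨m, hm, rfl⟩
        obtain ⟨k, hk⟩ := swapTwentyOne_surj (π (pairTwentyOne m).1) (π (pairTwentyOne m).2)
          (π.injective.ne (pairTwentyOne_ne m))
        rw [swapTwentyOne, hξs]
        exact ⟨hk ▸ hF1k k, (hπ _ _ (pairTwentyOne_ne m)).2 hm⟩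
    rw [hset, Set.ncard_image_of_injective _ (fun p q h => swapTwentyOne_injective ((MulAut.conj π).injective (hφ h)) : Function.Injective fun l => ξ (swapTwentyOne l)),
      Set.ncard_coe_finset, swapTwentyOne_avoid]
  have hF2c : F2.ncard = 14 := by
    have h1 := M23.sum_ncard_comm F1 F2 Commute
    rw [Finset.sum_congr rfl (fun e he => hten e (Set.mem_toFinset.1 he)),
      Finset.sum_congr rfl (fun f hf => hfifteen f (Set.mem_toFinset.1 hf)), Finset.sum_const, Finset.sum_const,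
      ← Set.ncard_eq_toFinset_card', ← Set.ncard_eq_toFinset_card', hF1c, smul_eq_mul, smul_eq_mul] at h1
    omega
  have hFc : F.ncard = 36 := by
    rw [hsplit, Set.ncard_union_eq (Set.disjoint_left.2 fun z hz hz2 => by
        rcases hz with rfl | hz
        · exact hz2.2 (Commute.refl _)
        · exact hz2.2 hz.1.2.2.symm),
      Set.ncard_union_eq (Set.disjoint_left.2 fun z hz hz1 => hz1.1.2.1 hz), Set.ncard_singleton, hF1c, hF2c]
  -- the eight-chain
  obtain ⟨f, hf⟩ : F2.Nonempty := Set.nonempty_of_ncard_ne_zero (by rw [hF2c]; norm_num)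
  obtain ⟨π, hπ⟩ := hstar f hf
  set t : Fin 6 → G := fun j => φ (Equiv.swap (π j.castSucc) (π j.succ)) with ht
  have hπne : ∀ j : Fin 6, π j.castSucc ≠ π j.succ := fun j h0 => Fin.castSucc_lt_succ.ne (π.injective h0)
  have htF : ∀ j, t j ∈ F1 ∧ (Commute (t j) f ↔ j ≠ 5) := by
    intro j
    obtain ⟨k, hk⟩ := swapTwentyOne_surj _ _ (hπne j)
    refine ⟨(hF1 _).2 ⟨k, by rw [ht, hk]⟩, ?_⟩
    rw [← swapAdj_avoid j]
    exact hπ _ _ Fin.castSucc_lt_succ.ne
  have hts : ∀ j, t j = φ (π * Equiv.swap j.castSucc j.succ * π⁻¹) := fun j => by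
    show φ (Equiv.swap (π j.castSucc) (π j.succ)) = _
    rw [Equiv.swap_apply_apply]
  have tcomm : ∀ i j : Fin 6, i.val + 2 ≤ j.val → Commute (t i) (t j) := fun i j hij => by
    rw [hts, hts]
    exact ((commute_conj_iff' π _ _).2 ((swapAdj_six i j).2 hij)).map φ
  have tnc : ∀ i j : Fin 6, i.val + 1 = j.val → ¬ Commute (t i) (t j) := fun i j hij h => by
    rw [hts, hts] at h
    exact (swapAdj_six i j).1 hij
      ((commute_conj_iff' π _ _).1 (hφ ((map_mul φ _ _).trans (h.eq.trans (map_mul φ _ _).symm)))).eq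
  let u : ℕ → G := fun i => if hi : i < 6 then t ⟨i, hi⟩ else if i = 6 then f else if i = 7 then d else 1
  have hu : ∀ i < 8, u i ∈ F := by
    intro i hi
    by_cases h6 : i < 6
    · simp only [u, h6, dif_pos]
      exact ⟨(htF _).1.1.1, (htF _).1.2⟩
    · rcases (show i = 6 ∨ i = 7 by omega) with rfl | rfl
      exacts [hf.1, ⟨hd, hdx⟩]
  have ut : CfsgLib.CoxeterSym.IsSymGens 8 u := by
    refine ⟨fun i hi => mul_self H.group.1 (hu i hi).1, fun i hi => ?_, fun i j hij hj => ?_⟩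
    · refine braid H.group.1 (hu i (by omega)).1 (hu (i + 1) hi).1 ?_
      by_cases h5 : i < 5
      · simp only [u, show i < 6 by omega, show i + 1 < 6 by omega, dif_pos]
        exact tnc _ _ rfl
      · rcases (show i = 5 ∨ i = 6 by omega) with rfl | rfl
        · show ¬ Commute (t 5) f
          exact fun h => (htF 5).2.1 h rfl
        · show ¬ Commute f d
          exact hf.2
    · have hj8 : j < 8 := hj
      by_cases hj6 : j < 6
      · simp only [u, hj6, show i < 6 by omega, dif_pos]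
        exact (tcomm _ _ (show i + 2 ≤ j by omega)).eq
      · have hi6 : i < 6 := by omega
        rcases (show j = 6 ∨ j = 7 by omega) with rfl | rfl
        · simp only [u, hi6, dif_pos]
          exact ((htF ⟨i, hi6⟩).2.2 (fun h => by simp [Fin.ext_iff] at h; omega)).eq
        · simp only [u, hi6, dif_pos]
          exact (htF ⟨i, hi6⟩).1.1.2.2.symm.eq
  obtain ⟨ψ, hψ⟩ := CfsgLib.CoxeterSym.exists_hom ut
  have hψu : ∀ i : Fin 8, ψ (Equiv.swap i.castSucc i.succ) = u i := fun i => hψ i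
  have hψinj : Function.Injective ψ := by
    rw [← MonoidHom.ker_eq_bot_iff]
    by_contra hne
    have hle := Equiv.Perm.alternatingGroup_le_of_normal (N := ψ.ker) (by simp)
      ((Subgroup.nontrivial_iff_ne_bot _).2 hne)
    have hm : Equiv.swap (Fin.castSucc (6 : Fin 8)) (6 : Fin 8).succ *
        Equiv.swap (Fin.castSucc (7 : Fin 8)) (7 : Fin 8).succ ∈ alternatingGroup (Fin 9) := by
      rw [Equiv.Perm.mem_alternatingGroup, map_mul, Equiv.Perm.sign_swap (by decide),
        Equiv.Perm.sign_swap (by decide)]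
      rfl
    have h1 := hle hm
    rw [MonoidHom.mem_ker, map_mul, hψu, hψu, mul_eq_one_iff_eq_inv] at h1
    change f = d⁻¹ at h1
    rw [inv_eq H.group.1 hd] at h1
    exact hf.2 (h1 ▸ Commute.refl _)
  have hrle : ∀ S : Subgroup G, (∀ i < 8, u i ∈ S) → ψ.range ≤ S := by
    intro S hS
    have htop : Subgroup.closure (Set.range fun i : Fin 8 => Equiv.swap i.castSucc i.succ) = ⊤ := by
      refine (Subgroup.eq_top_iff' _).2 fun w => ?_
      have hw : w ∈ Submonoid.closure (Set.range fun i : Fin 8 => Equiv.swap i.castSucc i.succ) :=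
        Equiv.Perm.mclosure_swap_castSucc_succ 8 ▸ trivial
      exact Submonoid.closure_le.2 Subgroup.subset_closure hw
    rw [MonoidHom.range_eq_map, ← htop, MonoidHom.map_closure, Subgroup.closure_le]
    rintro _ ⟨_, ⟨i, rfl⟩, rfl⟩
    show ψ (Equiv.swap i.castSucc i.succ) ∈ S
    rw [hψu]
    exact hS i i.2
  -- the chain is centralized
  have hfa : ∀ i, Commute f (a i) := by
    obtain ⟨e, he, hex, hef⟩ := five_no_orphan H hx hd hdx hf.1.1 hf.1.2 (fun h => hf.2 h.symm)
    obtain ⟨k, rfl⟩ := (hF1 e).1 ⟨he, hex⟩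
    set e := φ (swapTwentyOne k) with hedef
    obtain ⟨m, hmk, hcm⟩ := swapTwentyOne_disjoint k
    have hea : ∀ i, Commute e (a i) := hcomm e he hex
    have hae : ∀ i, a i ∈ perp D e := by
      intro i
      refine ⟨hA.mem i, fun h0 => ?_, hea i⟩
      fin_cases i <;> simp only [Fin.mk_zero, Fin.mk_one, Fin.zero_eta, Fin.reduceFinMk] at h0
      exacts [hA.nc01 (h0 ▸ hea 1), hA.nc12 (h0 ▸ hea 2), hA.nc23 (h0 ▸ hea 3), hA.nc23 (h0 ▸ hea 2).symm]
    have hde : d ∈ perp D e := perp_symm hd he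
    have hfe : f ∈ perp D e := ⟨hf.1.1, fun h0 => hf.2 (h0 ▸ he.2.2.symm), hef⟩
    set e' := φ (swapTwentyOne m) with he'def
    have he' : e' ∈ perp D e := by
      refine ⟨(hF1k m).1.1, fun h0 => hmk (swapTwentyOne_injective (hφ h0)), ?_⟩
      exact ((commute_swapTwentyOne hφ m k).2 hcm).symm
    have HQ := quot H he.1
    have hAq : MemberChain (img D e) fun i => bar (hae i) := by
      refine ⟨fun i => bar_mem H he.1 (hae i), ?_, ?_, ?_, ?_, ?_, ?_⟩
      · exact fun h0 => hA.nc01 ((bar_commute H (hae 0) (hae 1)).1 h0)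
      · exact fun h0 => hA.nc12 ((bar_commute H (hae 1) (hae 2)).1 h0)
      · exact fun h0 => hA.nc23 ((bar_commute H (hae 2) (hae 3)).1 h0)
      · exact (bar_commute H (hae 0) (hae 2)).2 hA.c02
      · exact (bar_commute H (hae 0) (hae 3)).2 hA.c03
      · exact (bar_commute H (hae 1) (hae 3)).2 hA.c13
    have hperp : bar he' ∈ perp (img D e) (bar hde) :=
      (mem_perp_bar H he.1 hde he').2 ⟨he'.1, (hF1k m).1.2.1, (hF1k m).1.2.2⟩
    have hall := M23.five_commute_fixed HQ hAq (bar_mem H he.1 hde) hperp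
      (fun i => (bar_commute H hde (hae i)).2 (had i).2.2)
      (fun i => (bar_commute H he' (hae i)).2 (hcomm _ (hF1k m).1 (hF1k m).2 i))
    refine fun i => (bar_commute H hfe (hae i)).1 (hall _ (bar_mem H he.1 hfe) ?_ i)
    obtain ⟨n, hn⟩ := Subgroup.mem_zpowers_iff.1 (hzp.symm ▸ Subgroup.mem_zpowers (five a))
    have h5 : five a ∈ Subgroup.centralizer ({e} : Set G) :=
      Subgroup.mem_centralizer_singleton_iff.2 (five_commute hea).symm.eq
    have e1 : proj H he.1 ⟨five a, h5⟩ = five fun i => bar (hae i) := rfl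
    rw [← e1, commute_proj_bar H he.1 hfe]
    show Commute f (five a)
    rw [← hn]; exact hf.1.2.zpow_right n
  have hua : ∀ j < 8, ∀ i, Commute (u j) (a i) := by
    intro j hj i
    by_cases h6 : j < 6
    · simp only [u, h6, dif_pos]
      exact hcomm _ (htF _).1.1 (htF _).1.2 i
    · rcases (show j = 6 ∨ j = 7 by omega) with rfl | rfl
      exacts [hfa i, (had i).2.2]
  have hra : ∀ σ i, Commute (ψ σ) (a i) := fun σ i => Subgroup.mem_centralizer_singleton_iff.1
    (hrle (Subgroup.centralizer ({a i} : Set G))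
      (fun j hj => Subgroup.mem_centralizer_singleton_iff.2 (hua j hj i).eq) ⟨σ, rfl⟩)
  have hrx : ∀ σ, Commute (ψ σ) x := fun σ => Subgroup.mem_centralizer_singleton_iff.1
    (hrle (Subgroup.centralizer ({x} : Set G))
      (fun j hj => Subgroup.mem_centralizer_singleton_iff.2 (hu j hj).2.eq) ⟨σ, rfl⟩)
  have himg : (fun p : Fin 9 × Fin 9 => ψ (Equiv.swap p.1 p.2)) '' ↑(Finset.univ.filter fun p : Fin 9 × Fin 9 =>
      p.1 < p.2) = F := by
    refine Set.eq_of_subset_of_ncard_le ?_ ?_ (Set.toFinite _)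
    · rintro _ ⟨p, hp, rfl⟩
      simp only [Finset.coe_filter, Finset.mem_univ, true_and, Set.mem_setOf_eq] at hp
      obtain ⟨σ, hσ⟩ := isConj_iff.1 (Equiv.Perm.isConj_swap (show (0 : Fin 9) ≠ 1 by decide) hp.ne)
      refine ⟨?_, hrx _⟩
      show ψ (Equiv.swap p.1 p.2) ∈ D
      rw [← hσ, map_mul, map_mul, map_inv]
      exact H.group.2.1 _ _ (by rw [show ψ (Equiv.swap 0 1) = u 0 from hψu 0]; exact (hu 0 (by norm_num)).1)
    · rw [hFc, Set.InjOn.ncard_image ?_, Set.ncard_coe_finset, card_pairNine]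
      intro p hp q hq he
      simp only [Finset.coe_filter, Finset.mem_univ, true_and, Set.mem_setOf_eq] at hp hq
      obtain ⟨e1, e2⟩ := swapPair_inj hp hq (hψinj he)
      exact Prod.ext e1 e2
  have hmem : ∀ z, z ∈ D ∧ Commute z x ↔ ∃ i j : Fin 9, i ≠ j ∧ z = ψ (Equiv.swap i j) := by
    intro z
    show z ∈ F ↔ _
    constructor
    · intro hz
      rw [← himg] at hz
      obtain ⟨p, hp, rfl⟩ := hz
      simp only [Finset.coe_filter, Finset.mem_univ, true_and, Set.mem_setOf_eq] at hp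
      exact ⟨p.1, p.2, hp.ne, rfl⟩
    · rintro ⟨i, j, hij, rfl⟩
      rw [← himg]
      rcases lt_or_gt_of_ne hij with h0 | h0
      · exact ⟨(i, j), by simpa using h0, rfl⟩
      · exact ⟨(j, i), by simpa using h0, by rw [Equiv.swap_comm]⟩
  have hrange : ψ.range = Subgroup.closure F := by
    refine le_antisymm (hrle _ fun i hi => Subgroup.subset_closure (hu i hi)) ((Subgroup.closure_le _).2 ?_)
    intro z hz
    obtain ⟨i, j, -, rfl⟩ := (hmem z).1 hz
    exact ⟨_, rfl⟩
  -- the centralizer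
  obtain ⟨-, hao, ha0⟩ := hA.five_props H.group
  have hdisj : Subgroup.zpowers x ⊓ ψ.range = ⊥ := by
    rw [Subgroup.eq_bot_iff_forall]
    intro z hz
    obtain ⟨hzx, σ, rfl⟩ := Subgroup.mem_inf.1 hz
    rw [hzp] at hzx
    by_contra h1
    refine ha0 ?_
    have htop : Subgroup.zpowers (five a) ≤ Subgroup.zpowers (ψ σ) := by
      refine ge_of_eq (Subgroup.eq_of_le_of_card_ge (Subgroup.zpowers_le.2 hzx) ?_)
      rw [Nat.card_zpowers, Nat.card_zpowers, hao]
      rcases (Nat.dvd_prime (by norm_num : Nat.Prime 5)).1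
        (hao ▸ Nat.card_zpowers (five a) ▸ Subgroup.orderOf_dvd_natCard _ hzx) with h2 | h2
      · exact absurd (orderOf_eq_one_iff.1 h2) h1
      · rw [h2]
    obtain ⟨i, hi⟩ := Subgroup.mem_zpowers_iff.1 (htop (Subgroup.mem_zpowers _))
    rw [← hi]
    exact (hra σ 0).zpow_left i
  set Cx := Subgroup.centralizer ({x} : Set G) with hCx
  have hle : Subgroup.zpowers x ⊔ ψ.range ≤ Cx := by
    refine sup_le (Subgroup.zpowers_le.2 (Subgroup.mem_centralizer_singleton_iff.2 rfl)) ?_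
    rintro _ ⟨σ, rfl⟩
    exact Subgroup.mem_centralizer_singleton_iff.2 (hrx σ).eq
  have hup : Nat.card ↥Cx ≤ 1814400 := by
    refine (card_centralizer_le_mul H.group hd hdx).trans ?_
    rw [← hF, hFc, hC]
  have hlow : Nat.card ↥(Subgroup.zpowers x ⊔ ψ.range) = 1814400 := by
    rw [(sup_props _ _ (by
      intro b hb c hc
      obtain ⟨n, rfl⟩ := Subgroup.mem_zpowers_iff.1 hb
      obtain ⟨σ, rfl⟩ := hc
      exact ((hrx σ).symm.zpow_left n).eq) hdisj).2, Nat.card_zpowers, hx,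
      ← Nat.card_congr (MonoidHom.ofInjective hψinj).toEquiv, Nat.card_perm, Nat.card_fin]
    norm_num [Nat.factorial]
  have heqC : Subgroup.zpowers x ⊔ ψ.range = Cx := Subgroup.eq_of_le_of_card_ge hle (hup.trans hlow.ge)
  exact ⟨{ a := a, ψ := ψ, chain := hA, zpow := hzp, inj := hψinj, mem := hmem, range := hrange, comm := hra,
           disj := hdisj, cent := heqC.symm, card := by rw [← hCx, ← heqC]; exact hlow }⟩

end M24

end CfsgLib.FischerTypes
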