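import Cfsg.Agent.FischerTypes.M24PrimeLocal
import Cfsg.Agent.FischerTypes.M23FiveNorm
import Cfsg.Agent.FischerTypes.M23Seven
import Cfsg.Agent.FischerTypes.SwapSeven

/-!
# Elements of order five in type M(24): the view from a fixed member
-/

set_option autoImplicit false
set_option linter.style.haveILetI false
set_option maxHeartbeats 1000000

namespace CfsgLib.FischerTypes

open Cfsg

/-- Adjacent transpositions of seven points. -/
theorem swapAdj_six : ∀ i j : Fin 6,
    (i.val + 1 = j.val → Equiv.swap i.castSucc i.succ * Equiv.swap j.castSucc j.succ ≠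
      Equiv.swap j.castSucc j.succ * Equiv.swap i.castSucc i.succ) ∧
    (i.val + 2 ≤ j.val → Equiv.swap i.castSucc i.succ * Equiv.swap j.castSucc j.succ =
      Equiv.swap j.castSucc j.succ * Equiv.swap i.castSucc i.succ) := by
  decide +kernel

namespace M23

variable {G : Type*} [Group G] [Finite G] {D : Set G} (H : Hyp G D)

include H

/-- Every member fixed by the product of a chain commutes with the chain, if two commuting members do. -/
theorem five_commute_fixed {a : Fin 4 → G} (hA : MemberChain D a) {d e : G} (hd : d ∈ D) (he : e ∈ perp D d)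
    (hda : ∀ i, Commute d (a i)) (hea : ∀ i, Commute e (a i)) :
    ∀ z ∈ D, Commute z (five a) → ∀ i, Commute z (a i) := by
  have key : ∀ {w w' z : G}, w ∈ D → w' ∈ perp D w → (∀ i, Commute w (a i)) → (∀ i, Commute w' (a i)) →
      z ∈ perp D w → Commute z (five a) → ∀ i, Commute z (a i) := by
    intro w w' z hw hw' hwa hw'a hz hzx i
    have haw : ∀ i, a i ∈ perp D w := by
      intro i
      refine ⟨hA.mem i, fun h0 => ?_, hwa i⟩
      fin_cases i <;> simp only [Fin.mk_zero, Fin.mk_one, Fin.zero_eta, Fin.reduceFinMk] at h0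
      exacts [hA.nc01 (h0 ▸ hwa 1), hA.nc12 (h0 ▸ hwa 2), hA.nc23 (h0 ▸ hwa 3), hA.nc23 (h0 ▸ hwa 2).symm]
    have hAq : MemberChain (img D w) fun i => bar (haw i) := by
      refine ⟨fun i => bar_mem H hw (haw i), ?_, ?_, ?_, ?_, ?_, ?_⟩
      · exact fun h0 => hA.nc01 ((bar_commute H (haw 0) (haw 1)).1 h0)
      · exact fun h0 => hA.nc12 ((bar_commute H (haw 1) (haw 2)).1 h0)
      · exact fun h0 => hA.nc23 ((bar_commute H (haw 2) (haw 3)).1 h0)
      · exact (bar_commute H (haw 0) (haw 2)).2 hA.c02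
      · exact (bar_commute H (haw 0) (haw 3)).2 hA.c03
      · exact (bar_commute H (haw 1) (haw 3)).2 hA.c13
    obtain ⟨-, hall, -⟩ := five_fixed (quotGroup H.group w) (quotPrim H hw) (quot22 H hw) hAq
      (bar_mem H hw hw') fun i => (bar_commute H hw' (haw i)).2 (hw'a i)
    refine (bar_commute H hz (haw i)).1 (hall _ (bar_mem H hw hz) ?_ i)
    have h5 : five a ∈ Subgroup.centralizer ({w} : Set G) :=
      Subgroup.mem_centralizer_singleton_iff.2 (five_commute hwa).symm.eq
    have e1 : proj H hw ⟨five a, h5⟩ = five fun i => bar (haw i) := rfl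
    rw [← e1, commute_proj_bar H hw hz]
    exact hzx
  intro z hz hzx
  by_cases hzd : z = d
  · exact hzd ▸ hda
  by_cases hc : Commute d z
  · exact key hd he hda hea ⟨hz, hzd, hc⟩ hzx
  obtain ⟨-, hao, -⟩ := hA.five_props H.group
  obtain ⟨Dt⟩ := exists_fiveData H hao
  obtain ⟨i, j, hij, hd'⟩ := (Dt.mem d).1 ⟨hd, five_commute hda⟩
  obtain ⟨k, l, hkl, hz'⟩ := (Dt.mem z).1 ⟨hz, hzx⟩
  obtain ⟨p, hp⟩ := swapTwentyOne_surj i j hij
  obtain ⟨q, hq⟩ := swapTwentyOne_surj k l hkl
  have hpq : comTwentyOne p q = false := by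
    rw [← Bool.not_eq_true, ← swapTwentyOne_commute, hp, hq]
    intro h0
    refine hc ?_
    rw [hd', hz']
    exact (show Commute _ _ from h0).map Dt.ψ
  obtain ⟨m, hmp, -, c1, c2⟩ := swapTwentyOne_common p q hpq
  obtain ⟨hwD, hwx⟩ := (Dt.mem (Dt.ψ (swapTwentyOne m))).2 ⟨_, _, pairTwentyOne_ne m, rfl⟩
  have hwd : Dt.ψ (swapTwentyOne m) ∈ perp D d := by
    refine ⟨hwD, ?_, ?_⟩
    · rw [hd', ← hp]
      exact fun h0 => hmp (swapTwentyOne_injective (Dt.inj h0))
    · rw [hd', ← hp]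
      exact ((show Commute _ _ from (swapTwentyOne_commute m p).2 c1).map Dt.ψ).symm
  have hwa := key hd he hda hea hwd hwx
  have hwz : z ∈ perp D (Dt.ψ (swapTwentyOne m)) := by
    refine ⟨hz, fun h0 => hc (h0 ▸ hwd.2.2), ?_⟩
    rw [hz', ← hq]
    exact (show Commute _ _ from (swapTwentyOne_commute m q).2 c2).map Dt.ψ
  exact key hwD (perp_symm hd hwd) hwa hda hwz hzx

end M23

namespace M24

variable {G : Type*} [Group G] [Finite G] {D : Set G} (H : Hyp G D)

include H

/-- The quotient data at a fixed member. -/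
theorem five_at {x d : G} (hx : orderOf x = 5) (hd : d ∈ D) (hdx : Commute d x) :
    ∃ (a : Fin 4 → G) (φ : Equiv.Perm (Fin 7) →* G), MemberChain D a ∧
      Subgroup.zpowers x = Subgroup.zpowers (five a) ∧ Function.Injective φ ∧ (∀ i, a i ∈ perp D d) ∧
      (∀ z, z ∈ perp D d ∧ Commute z x ↔ ∃ k, z = φ (swapTwentyOne k)) ∧
      (∀ z ∈ perp D d, Commute z x → ∀ i, Commute z (a i)) ∧
      {z : G | z ∈ perp D d ∧ Commute z x}.ncard = 21 ∧
      Nat.card ↥(Subgroup.centralizer ({x, d} : Set G)) = 50400 := by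
  classical
  have : Fact (Nat.Prime 5) := ⟨by norm_num⟩
  set xd : ↥(Subgroup.centralizer ({d} : Set G)) := ⟨x, Subgroup.mem_centralizer_singleton_iff.2 hdx.symm.eq⟩
  have HQ := quot H hd
  have hxo : orderOf (proj H hd xd) = 5 := orderOf_proj H hd hx (by norm_num)
  obtain ⟨Dq⟩ := M23.exists_fiveData HQ hxo
  -- the lifted chain
  choose a ha hab using fun i => M23.exists_lift (D := D) (d := d) (Dq.chain.mem i)
  have hA : MemberChain D a := by
    have nc : ∀ {i j}, ¬ Commute (Dq.a i) (Dq.a j) → ¬ Commute (a i) (a j) := fun {i j} hn hc => hn (by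
      rw [← hab i, ← hab j]; exact (bar_commute H (ha i) (ha j)).2 hc)
    have cc : ∀ {i j}, Commute (Dq.a i) (Dq.a j) → Commute (a i) (a j) := fun {i j} hc => by
      rw [← hab i, ← hab j] at hc; exact (bar_commute H (ha i) (ha j)).1 hc
    exact ⟨fun i => (ha i).1, nc Dq.chain.nc01, nc Dq.chain.nc12, nc Dq.chain.nc23, cc Dq.chain.c02,
      cc Dq.chain.c03, cc Dq.chain.c13⟩
  obtain ⟨-, hao, -⟩ := hA.five_props H.group
  have h5 : five a ∈ Subgroup.centralizer ({d} : Set G) :=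
    Subgroup.mem_centralizer_singleton_iff.2 (five_commute fun i => (ha i).2.2).symm.eq
  have hp5 : proj H hd ⟨five a, h5⟩ = five Dq.a := by
    have e1 : proj H hd ⟨five a, h5⟩ = five fun i => bar (ha i) := rfl
    rw [e1]
    exact congrArg five (funext hab)
  have hzp : Subgroup.zpowers x = Subgroup.zpowers (five a) := by
    obtain ⟨i, hi⟩ := Subgroup.mem_zpowers_iff.1 (Dq.zpow ▸ Subgroup.mem_zpowers (proj H hd xd))
    have h1 : x = five a ^ i := eq_of_proj_eq H hd (p := 5) (u := xd) (v := ⟨five a, h5⟩ ^ i)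
      (hx ▸ pow_orderOf_eq_one x) (by
        push_cast
        rw [← zpow_natCast, ← zpow_mul, mul_comm, zpow_mul, zpow_natCast, ← hao, pow_orderOf_eq_one, one_zpow])
      (by norm_num) (by rw [map_zpow, hp5, hi]) |>.trans (Subgroup.coe_zpow _ _ i)
    exact Subgroup.eq_of_le_of_card_ge (Subgroup.zpowers_le.2 ⟨i, h1.symm⟩)
      (by rw [Nat.card_zpowers, Nat.card_zpowers, hx, hao])
  -- the lifted symmetric group
  have hgen : ∀ i : Fin 6, Dq.ψ (Equiv.swap i.castSucc i.succ) ∈ img D d := fun i =>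
    ((Dq.mem _).2 ⟨_, _, Fin.castSucc_lt_succ.ne, rfl⟩).1
  choose b hb hbb using fun i => M23.exists_lift (D := D) (d := d) (hgen i)
  let t : ℕ → G := fun i => if hi : i < 6 then b ⟨i, hi⟩ else 1
  have hbc : ∀ i j : Fin 6, Commute (b i) (b j) ↔
      Commute (Equiv.swap i.castSucc i.succ) (Equiv.swap j.castSucc j.succ) := by
    intro i j
    rw [← bar_commute H (hb i) (hb j), hbb, hbb]
    exact ⟨fun h => Dq.inj (by rw [map_mul, map_mul]; exact h.eq), fun h => h.map Dq.ψ⟩
  have ht : CfsgLib.CoxeterSym.IsSymGens 6 t := by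
    refine ⟨fun i hi => ?_, fun i hi => ?_, fun i j hij hj => ?_⟩
    · simp only [t, hi, dif_pos]; exact mul_self H.group.1 (hb _).1
    · simp only [t, show i < 6 by omega, show i + 1 < 6 by omega, dif_pos]
      refine braid H.group.1 (hb _).1 (hb _).1 fun h => ?_
      rw [hbc] at h
      exact swapAdj_six ⟨i, by omega⟩ ⟨i + 1, hi⟩ |>.1 rfl h.eq
    · have hj6 : j < 6 := hj
      have hi4 : i < 4 := by omega
      simp only [t, hj6, show i < 6 by omega, dif_pos]
      exact ((hbc _ _).2 ((swapAdj_six ⟨i, by omega⟩ ⟨j, hj6⟩).2 (show i + 2 ≤ j by omega))).eq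
  obtain ⟨φ, hφt⟩ := CfsgLib.CoxeterSym.exists_hom ht
  have hφb : ∀ i : Fin 6, φ (Equiv.swap i.castSucc i.succ) = b i := fun i =>
    (hφt i).trans (by simp only [t, i.isLt, dif_pos, Fin.eta])
  have htop : Subgroup.closure (Set.range fun i : Fin 6 => Equiv.swap i.castSucc i.succ) = ⊤ := by
    refine (Subgroup.eq_top_iff' _).2 fun w => ?_
    have hw : w ∈ Submonoid.closure (Set.range fun i : Fin 6 => Equiv.swap i.castSucc i.succ) :=
      Equiv.Perm.mclosure_swap_castSucc_succ 6 ▸ trivial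
    exact Submonoid.closure_le.2 Subgroup.subset_closure hw
  have hφC : ∀ σ, φ σ ∈ Subgroup.centralizer ({d} : Set G) := by
    intro σ
    have h1 : φ.range ≤ Subgroup.centralizer ({d} : Set G) := by
      rw [MonoidHom.range_eq_map, ← htop, MonoidHom.map_closure, Subgroup.closure_le]
      rintro _ ⟨_, ⟨i, rfl⟩, rfl⟩
      show φ (Equiv.swap i.castSucc i.succ) ∈ _
      rw [hφb]
      exact Subgroup.mem_centralizer_singleton_iff.2 (hb i).2.2.symm.eq
    exact h1 ⟨σ, rfl⟩
  have hproj : ∀ σ, proj H hd ⟨φ σ, hφC σ⟩ = Dq.ψ σ := by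
    intro σ
    have h1 : (proj H hd).comp (φ.codRestrict _ hφC) = Dq.ψ := by
      refine MonoidHom.eq_of_eqOn_dense htop ?_
      rintro _ ⟨i, rfl⟩
      show proj H hd ⟨φ (Equiv.swap i.castSucc i.succ), _⟩ = _
      rw [← hbb i, ← proj_perp H hd (hb i)]
      exact congrArg _ (Subtype.ext (hφb i))
    exact DFunLike.congr_fun h1 σ
  have hφinj : Function.Injective φ := fun σ τ h => Dq.inj (by
    rw [← hproj, ← hproj]; exact congrArg _ (Subtype.ext h))
  have hswap : ∀ k, φ (swapTwentyOne k) ∈ perp D d := by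
    intro k
    obtain ⟨σ, hσ⟩ := isConj_iff.1 (Equiv.Perm.isConj_swap (show (0 : Fin 7) ≠ 1 by decide) (pairTwentyOne_ne k))
    rw [swapTwentyOne, ← hσ, map_mul, map_mul, map_inv, show φ (Equiv.swap 0 1) = b 0 from hφb 0]
    exact conj_mem_perp H.group (Subgroup.mem_centralizer_singleton_iff.1 (hφC σ)) (hb 0)
  have hbar : ∀ k, bar (hswap k) = Dq.ψ (swapTwentyOne k) := fun k => by
    rw [← proj_perp H hd (hswap k), ← hproj]
  have hmem : ∀ z, z ∈ perp D d ∧ Commute z x ↔ ∃ k, z = φ (swapTwentyOne k) := by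
    intro z
    constructor
    · rintro ⟨hz, hzx⟩
      obtain ⟨i, j, hij, hij'⟩ := (Dq.mem (bar hz)).1 ⟨bar_mem H hd hz, (commute_proj_bar H hd hz xd).2 hzx⟩
      obtain ⟨k, hk⟩ := swapTwentyOne_surj i j hij
      exact ⟨k, bar_inj H hd hz (hswap k) (by rw [hij', hbar, hk])⟩
    · rintro ⟨k, rfl⟩
      refine ⟨hswap k, (commute_proj_bar H hd (hswap k) xd).1 ?_⟩
      rw [hbar]
      exact ((Dq.mem _).2 ⟨_, _, pairTwentyOne_ne k, rfl⟩).2
  refine ⟨a, φ, hA, hzp, hφinj, ha, hmem, ?_, ?_, ?_⟩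
  · intro z hz hzx i
    obtain ⟨k, rfl⟩ := (hmem z).1 ⟨hz, hzx⟩
    refine (bar_commute H hz (ha i)).1 ?_
    rw [show bar hz = Dq.ψ (swapTwentyOne k) from hbar k, hab]
    exact Dq.comm _ i
  · have : {z : G | z ∈ perp D d ∧ Commute z x} = Set.range (φ ∘ swapTwentyOne) := by
      ext z
      exact (hmem z).trans ⟨fun ⟨k, hk⟩ => ⟨k, hk.symm⟩, fun ⟨k, hk⟩ => ⟨k, hk.symm⟩⟩
    rw [this, Set.ncard_range_of_injective (hφinj.comp swapTwentyOne_injective)]
    simp
  · rw [card_centralizer_pair_eq (p := 5) H hd (x := xd) hx (by norm_num), Dq.card]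

/-- Subgroups of order five are conjugate. -/
theorem five_conj {x y : G} (hx : orderOf x = 5) (hy : orderOf y = 5) {d e : G} (hd : d ∈ D) (he : e ∈ D)
    (hdx : Commute d x) (hey : Commute e y) :
    ∃ g : G, g * d * g⁻¹ = e ∧ (Subgroup.zpowers x).map (MulAut.conj g).toMonoidHom = Subgroup.zpowers y := by
  have : Fact (Nat.Prime 5) := ⟨by norm_num⟩
  obtain ⟨g, hg⟩ := H.prim.1 d hd e he
  have hx' : orderOf (g * x * g⁻¹) = 5 :=
    (orderOf_injective (MulAut.conj g).toMonoidHom (MulAut.conj g).injective x).trans hx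
  have hgx : Commute (g * x * g⁻¹) e := by rw [← hg, commute_conj_iff']; exact hdx.symm
  set u : ↥(Subgroup.centralizer ({e} : Set G)) := ⟨_, Subgroup.mem_centralizer_singleton_iff.2 hgx.eq⟩
  set v : ↥(Subgroup.centralizer ({e} : Set G)) := ⟨y, Subgroup.mem_centralizer_singleton_iff.2 hey.symm.eq⟩
  obtain ⟨q, hq⟩ := M23.five_conj_elem (quot H he)
    (orderOf_proj H he (x := u) hx' (by norm_num)) (orderOf_proj H he (x := v) hy (by norm_num))
  obtain ⟨k, hk, hkm⟩ := conj_of_proj H he (x := u) (y := v) hx' hy (by norm_num)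
    (g := q) (by rw [MonoidHom.map_zpowers, ← hq]; rfl)
  refine ⟨k * g, ?_, ?_⟩
  · rw [show k * g * d * (k * g)⁻¹ = k * (g * d * g⁻¹) * k⁻¹ by group, hg, hk.eq, mul_inv_cancel_right]
  · rw [MonoidHom.map_zpowers] at hkm ⊢
    rw [← hkm]
    congr 1
    simp [u, mul_assoc]

end M24

end CfsgLib.FischerTypes
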