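import Cfsg.Agent.FischerTypes.M24FiveAt

/-!
# Elements of order five in type M(24): fixed non-neighbours have common fixed neighbours
-/

set_option autoImplicit false
set_option linter.style.haveILetI false
set_option maxHeartbeats 1000000

namespace CfsgLib.FischerTypes

open Cfsg

/-- Commutation of the transpositions through an injective map. -/
theorem commute_swapTwentyOne {G : Type*} [Group G] {φ : Equiv.Perm (Fin 7) →* G} (hφ : Function.Injective φ)
    (k l : Fin 21) : Commute (φ (swapTwentyOne k)) (φ (swapTwentyOne l)) ↔ comTwentyOne k l = true := by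
  rw [← swapTwentyOne_commute]
  exact ⟨fun h => hφ ((map_mul φ _ _).trans (h.eq.trans (map_mul φ _ _).symm)), fun h => (show Commute _ _ from h).map φ⟩

namespace M24

variable {G : Type*} [Group G] [Finite G] {D : Set G} (H : Hyp G D)

include H

/-- The translates of a fixed member by products of two fixed neighbours not meeting it. -/
theorem five_translate {z a b : G} (hz : z ∈ D) (ha : a ∈ D) (hb : b ∈ D) (hab : Commute a b) (hne : a ≠ b)
    (hza : ¬ Commute z a) (hzb : ¬ Commute z b) : a * b * z * b * a ∈ perp D z := by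
  have hi : ∀ {u : G}, u ∈ D → u⁻¹ = u := fun hu => inv_eq H.group.1 hu
  have e1 : a * b * z * b * a = (a * b) * z * (a * b)⁻¹ := by
    rw [_root_.mul_inv_rev, hi ha, hi hb, ← mul_assoc]
  have ea := braid H.group.1 ha hz (fun h => hza h.symm)
  have eb := braid H.group.1 hb hz (fun h => hzb h.symm)
  refine ⟨e1 ▸ H.group.2.1 _ z hz, fun h0 => hne ?_, ?_⟩
  · have h1 : b * z * b = a * z * a := by
      calc b * z * b = a * (a * b * z * b * a) * a := by
            simp only [← mul_assoc, mul_self H.group.1 ha, one_mul]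
            simp only [mul_assoc, mul_self H.group.1 ha, mul_one]
        _ = a * z * a := by rw [h0]
    rw [ea, eb] at h1
    exact (mul_left_cancel (mul_right_cancel h1)).symm
  · have h1 : Commute (z * a * z) (z * b * z) := by
      have h2 := (commute_conj_iff' z a b).2 hab
      rwa [hi hz] at h2
    rw [← ea, ← eb] at h1
    have h2 := (commute_conj_iff' a _ _).2 h1
    rw [hi ha, show a * (a * z * a) * a = a * a * z * (a * a) by group, mul_self H.group.1 ha, one_mul, mul_one] at h2
    rwa [show a * (b * z * b) * a = a * b * z * b * a by group] at h2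

/-- Two translates with a common index. -/
theorem five_translate_commute {z a b c : G} (hz : z ∈ D) (ha : a ∈ D) (hb : b ∈ D) (hc : c ∈ D)
    (hzb : ¬ Commute z b) (hzc : ¬ Commute z c) :
    (Commute (a * b * z * b * a) (a * c * z * c * a) ↔ Commute b c) ∧
      (a * b * z * b * a = a * c * z * c * a ↔ b = c) := by
  have hi : ∀ {u : G}, u ∈ D → u⁻¹ = u := fun hu => inv_eq H.group.1 hu
  have e : ∀ u : G, u ∈ D → ¬ Commute z u → a * u * z * u * a = (a * z) * u * (a * z)⁻¹ := by
    intro u hu hzu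
    rw [_root_.mul_inv_rev, hi ha, hi hz, ← mul_assoc]
    calc a * u * z * u * a = a * (u * z * u) * a := by group
      _ = a * (z * u * z) * a := by rw [braid H.group.1 hu hz (fun h => hzu h.symm)]
      _ = _ := by group
  rw [e b hb hzb, e c hc hzc]
  exact ⟨commute_conj_iff' _ _ _, fun h => mul_left_cancel (mul_right_cancel h), fun h => by rw [h]⟩

/-- A fixed member not commuting with a fixed member commutes with one of the fixed members next to it. -/
theorem five_no_orphan {x d z : G} (hx : orderOf x = 5) (hd : d ∈ D) (hdx : Commute d x) (hz : z ∈ D)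
    (hzx : Commute z x) (hdz : ¬ Commute d z) : ∃ e ∈ perp D d, Commute e x ∧ Commute e z := by
  by_contra hall
  push Not at hall
  obtain ⟨-, φ, -, -, hφ, -, hF1, -, -, -⟩ := five_at H hx hd hdx
  obtain ⟨-, ψ, -, -, hψ, -, hFz, -, -, -⟩ := five_at H hx hz hzx
  -- five neighbours and `d`
  have hm : ∀ k, φ (swapTwentyOne k) ∈ perp D d ∧ Commute (φ (swapTwentyOne k)) x := fun k => (hF1 _).2 ⟨k, rfl⟩
  have hzk : ∀ k, ¬ Commute z (φ (swapTwentyOne k)) := fun k h => hall _ (hm k).1 (hm k).2 h.symm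
  have hcc : ∀ {k l}, comTwentyOne k l = true → Commute (φ (swapTwentyOne k)) (φ (swapTwentyOne l)) :=
    fun {k l} h => (commute_swapTwentyOne hφ k l).2 h
  have hnn : ∀ {k l}, comTwentyOne k l = false → ¬ Commute (φ (swapTwentyOne k)) (φ (swapTwentyOne l)) :=
    fun {k l} h hc => by rw [commute_swapTwentyOne hφ, h] at hc; exact Bool.false_ne_true hc
  have hne : ∀ {k l}, k ≠ l → φ (swapTwentyOne k) ≠ φ (swapTwentyOne l) := fun {k l} h h0 =>
    h (swapTwentyOne_injective (hφ h0))
  have hdk : ∀ k, Commute d (φ (swapTwentyOne k)) ∧ d ≠ φ (swapTwentyOne k) := fun k =>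
    ⟨(hm k).1.2.2, fun h => (hm k).1.2.1 h.symm⟩
  -- the translates, as transpositions at `z`
  have hfix : ∀ {a b : G}, Commute a x → Commute b x → Commute (a * b * z * b * a) x := fun {a b} ha hb =>
    (((ha.mul_left hb).mul_left hzx).mul_left hb).mul_left ha
  have hk1 : ∀ k, ∃ m, d * φ (swapTwentyOne k) * z * φ (swapTwentyOne k) * d = ψ (swapTwentyOne m) := fun k =>
    (hFz _).1 ⟨five_translate H hz hd (hm k).1.1 (hdk k).1 (hdk k).2 (fun h => hdz h.symm) (hzk k),
      hfix hdx (hm k).2⟩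
  have hk2 : ∀ k l, comTwentyOne k l = true → k ≠ l → ∃ m, φ (swapTwentyOne k) * φ (swapTwentyOne l) * z *
      φ (swapTwentyOne l) * φ (swapTwentyOne k) = ψ (swapTwentyOne m) := fun k l h hkl =>
    (hFz _).1 ⟨five_translate H hz (hm k).1.1 (hm l).1.1 (hcc h) (hne hkl) (hzk k) (hzk l),
      hfix (hm k).2 (hm l).2⟩
  choose w hw using hk1
  obtain ⟨v, hv⟩ := hk2 0 11 (by decide) (by decide)
  -- symmetry in the two indices
  have hswap : ∀ {a b : G}, Commute a b → a * b * z * b * a = b * a * z * a * b := fun {a b} h => by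
    rw [mul_assoc (a * b * z), mul_assoc (b * a * z)]
    exact congrArg₂ (fun p q => p * z * q) h.eq h.eq.symm
  have hcom : ∀ {m n : Fin 21} {u u' : G}, u = ψ (swapTwentyOne m) → u' = ψ (swapTwentyOne n) →
      (Commute u u' ↔ comTwentyOne m n = true) ∧ (u = u' ↔ m = n) := fun {m n u u'} e e' => by
    subst e e'
    exact ⟨commute_swapTwentyOne hψ m n, fun h => swapTwentyOne_injective (hψ h), fun h => h ▸ rfl⟩
  -- pairs through `d`
  have hdd : ∀ k l, (comTwentyOne (w k) (w l) = true ↔ comTwentyOne k l = true) ∧ (w k = w l ↔ k = l) := by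
    intro k l
    obtain ⟨h1, h2⟩ := five_translate_commute H hz hd (hm k).1.1 (hm l).1.1 (hzk k) (hzk l)
    obtain ⟨h3, h4⟩ := hcom (hw k) (hw l)
    exact ⟨(h3.symm.trans h1).trans (commute_swapTwentyOne hφ k l),
      (h4.symm.trans h2).trans ⟨fun h => swapTwentyOne_injective (hφ h), fun h => h ▸ rfl⟩⟩
  have hdb : ∀ {k l}, comTwentyOne k l = false → comTwentyOne (w k) (w l) = false := fun {k l} h => by
    rw [← Bool.not_eq_true, (hdd k l).1, h]; exact Bool.false_ne_true
  -- against `v`, the pair (0, 11)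
  have hv0 : comTwentyOne v (w 0) = true ∧ v ≠ w 0 := by
    have e : d * φ (swapTwentyOne 0) * z * φ (swapTwentyOne 0) * d =
        φ (swapTwentyOne 0) * d * z * d * φ (swapTwentyOne 0) := hswap (hdk 0).1
    obtain ⟨h1, h2⟩ := five_translate_commute H hz (a := φ (swapTwentyOne 0)) (hm 0).1.1 (hm 11).1.1 hd (hzk 11)
      (fun h => hdz h.symm)
    obtain ⟨h3, h4⟩ := hcom hv ((e.symm.trans (hw 0)) : _ = ψ (swapTwentyOne (w 0)))
    exact ⟨h3.1 (h1.2 (hdk 11).1.symm), fun h => (hdk 11).2 (h2.1 (h4.2 h)).symm⟩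
  have hv11 : comTwentyOne v (w 11) = true ∧ v ≠ w 11 := by
    have e : d * φ (swapTwentyOne 11) * z * φ (swapTwentyOne 11) * d =
        φ (swapTwentyOne 11) * d * z * d * φ (swapTwentyOne 11) := hswap (hdk 11).1
    have e' : φ (swapTwentyOne 11) * φ (swapTwentyOne 0) * z * φ (swapTwentyOne 0) * φ (swapTwentyOne 11) =
        ψ (swapTwentyOne v) := (hswap (hcc (by decide))).trans hv
    obtain ⟨h1, h2⟩ := five_translate_commute H hz (a := φ (swapTwentyOne 11)) (hm 11).1.1 (hm 0).1.1 hd (hzk 0)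
      (fun h => hdz h.symm)
    obtain ⟨h3, h4⟩ := hcom e' ((e.symm.trans (hw 11)) : _ = ψ (swapTwentyOne (w 11)))
    exact ⟨h3.1 (h1.2 (hdk 0).1.symm), fun h => (hdk 0).2 (h2.1 (h4.2 h)).symm⟩
  have c01 : comTwentyOne (w 0) (w 11) = true := (hdd 0 11).1.2 (by decide)
  have n01 : w 0 ≠ w 11 := fun h => absurd ((hdd 0 11).2.1 h) (by decide)
  have hoff : ∀ k, k ≠ 0 → k ≠ 11 → comTwentyOne k 0 = true → comTwentyOne k 11 = true →
      w k ∈ offTwo (w 0) (w 11) := fun k a b c e =>
    mem_offTwo.2 ⟨fun h => a ((hdd k 0).2.1 h), fun h => b ((hdd k 11).2.1 h), (hdd k 0).1.2 c, (hdd k 11).1.2 e⟩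
  have hvw := swapTwentyOne_cover (w 0) (w 11) n01 c01
    (w 18) (hoff 18 (by decide) (by decide) (by decide) (by decide))
    (w 19) (hoff 19 (by decide) (by decide) (by decide) (by decide)) (hdb (by decide))
    (w 20) (hoff 20 (by decide) (by decide) (by decide) (by decide)) (hdb (by decide)) (hdb (by decide))
    v (mem_offTwo.2 ⟨hv0.2, hv11.2, hv0.1, hv11.1⟩)
  -- the contradiction
  have finish : ∀ h h' h'' : Fin 21, h' ≠ h'' → comTwentyOne h h' = false → comTwentyOne h h'' = false →
      (∀ k ∈ ([h, h', h''] : List (Fin 21)),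
        k ≠ 0 ∧ k ≠ 11 ∧ comTwentyOne 0 k = true ∧ comTwentyOne k 0 = true ∧ comTwentyOne k 11 = true) →
      v = w h → False := by
    intro h h' h'' hne' hc' hc'' hk hvh
    obtain ⟨a0, a11, b0', b0, b11⟩ := hk h (by simp)
    have hu := hoff h a0 a11 b0 b11
    have main : ∀ k, k ∈ ([h, h', h''] : List (Fin 21)) → comTwentyOne h k = false → ∃ m,
        φ (swapTwentyOne 0) * φ (swapTwentyOne k) * z * φ (swapTwentyOne k) * φ (swapTwentyOne 0) =
          ψ (swapTwentyOne m) ∧ m = w 11 := by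
      intro k hkm hck
      obtain ⟨k0, k11, c0', c0, c11⟩ := hk k hkm
      obtain ⟨m, hm'⟩ := hk2 0 k c0' (Ne.symm k0)
      refine ⟨m, hm', ?_⟩
      obtain ⟨h1, h2⟩ := five_translate_commute H hz (a := φ (swapTwentyOne 0)) (hm 0).1.1 (hm k).1.1 hd (hzk k)
        (fun h => hdz h.symm)
      have e : d * φ (swapTwentyOne 0) * z * φ (swapTwentyOne 0) * d =
          φ (swapTwentyOne 0) * d * z * d * φ (swapTwentyOne 0) := hswap (hdk 0).1
      obtain ⟨h3, h4⟩ := hcom hm' ((e.symm.trans (hw 0)) : _ = ψ (swapTwentyOne (w 0)))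
      obtain ⟨h5, -⟩ := five_translate_commute H hz (a := φ (swapTwentyOne 0)) (hm 0).1.1 (hm k).1.1 (hm 11).1.1
        (hzk k) (hzk 11)
      obtain ⟨h7, -⟩ := hcom hm' hv
      obtain ⟨h8, -⟩ := five_translate_commute H hz (a := φ (swapTwentyOne k)) (hm k).1.1 (hm 0).1.1 hd (hzk 0)
        (fun h => hdz h.symm)
      obtain ⟨h9, -⟩ := hcom ((hswap (hcc c0)).trans hm')
        (((hswap (hdk k).1).symm.trans (hw k)) : _ = ψ (swapTwentyOne (w k)))
      refine swapTwentyOne_last (w 0) (w 11) n01 c01 (w h) hu (w k) (hoff k k0 k11 c0 c11) (hdb hck) m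
        (fun h0 => (hdk k).2 (h2.1 (h4.2 h0)).symm) ?_
      rw [← hvh, h3.1 (h1.2 (hdk k).1.symm), h7.1 (h5.2 (hcc c11)), h9.1 (h8.2 (hdk 0).1.symm)]
      rfl
    obtain ⟨m', e', hm'⟩ := main h' (by simp) hc'
    obtain ⟨m'', e'', hm''⟩ := main h'' (by simp) hc''
    refine hne hne' ((five_translate_commute H hz (a := φ (swapTwentyOne 0)) (hm 0).1.1 (hm h').1.1 (hm h'').1.1
      (hzk h') (hzk h'')).2.1 ?_)
    rw [e', e'', hm', hm'']
  rcases hvw with h | h | h
  · exact finish 18 19 20 (by decide) (by decide) (by decide) (by decide) h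
  · exact finish 19 18 20 (by decide) (by decide) (by decide) (by decide) h
  · exact finish 20 18 19 (by decide) (by decide) (by decide) (by decide) h

end M24

end CfsgLib.FischerTypes
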