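import Cfsg.Agent.FischerTypes.M24Centralizer
import Cfsg.Agent.FischerTypes.M22Clique

/-!
# Involutions of a group of type M(24) fix a member, and the uniqueness of the class

If an involution maps every member to a different commuting one, it acts on the quotient of type M(22) at such a
pair in the same way.  Hence it fixes a member and is a product of at most four commuting members.
-/

set_option autoImplicit false
set_option linter.style.haveILetI false
set_option maxHeartbeats 400000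

namespace CfsgLib.FischerTypes

open Cfsg

section six

variable {G : Type*} [Group G] [Finite G] {D : Set G} (H : M23.Hyp G D)

include H

/-- A chain with two common neighbours in type M(23). -/
theorem M23.exists_chain : ∃ a b c d e f, e ∈ D ∧ f ∈ perp D e ∧
    (∀ u ∈ [a, b, c, d], u ∈ perp D e ∧ u ∈ perp D f) ∧
    b ∈ perp D a ∧ d ∈ perp D a ∧ d ∈ perp D c ∧ ¬ Commute a c ∧ ¬ Commute c b ∧ ¬ Commute b d := by
  obtain ⟨d₀, hd₀, -⟩ := H.prim.2.1
  have hQ := M23.quot22 H hd₀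
  obtain ⟨pa, pb, pc, pd, pe, hpe, hpa, hpb, hpc, hpd, hpab, hpad, hpcd, nac, ncb, nbd⟩ :=
    FischerTypes.exists_chain (M23.quotGroup H.group d₀) (M23.quotPrim H hd₀) hQ
  obtain ⟨e, he, rfl⟩ := M23.exists_lift hpe
  obtain ⟨a, ha', rfl⟩ := M23.exists_lift hpa.1
  obtain ⟨b, hb', rfl⟩ := M23.exists_lift hpb.1
  obtain ⟨c, hc', rfl⟩ := M23.exists_lift hpc.1
  obtain ⟨d, hd', rfl⟩ := M23.exists_lift hpd.1
  refine ⟨a, b, c, d, d₀, e, hd₀, he, ?_, (M23.mem_perp_bar H hd₀ ha' hb').1 hpab,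
    (M23.mem_perp_bar H hd₀ ha' hd').1 hpad, (M23.mem_perp_bar H hd₀ hc' hd').1 hpcd,
    fun h0 => nac ((M23.bar_commute H ha' hc').2 h0), fun h0 => ncb ((M23.bar_commute H hc' hb').2 h0),
    fun h0 => nbd ((M23.bar_commute H hb' hd').2 h0)⟩
  intro u hu
  simp only [List.mem_cons, List.not_mem_nil, or_false] at hu
  rcases hu with rfl | rfl | rfl | rfl
  exacts [⟨ha', (M23.mem_perp_bar H hd₀ he ha').1 hpa⟩, ⟨hb', (M23.mem_perp_bar H hd₀ he hb').1 hpb⟩,
    ⟨hc', (M23.mem_perp_bar H hd₀ he hc').1 hpc⟩, ⟨hd', (M23.mem_perp_bar H hd₀ he hd').1 hpd⟩]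

end six

namespace M24

variable {G : Type*} [Group G] [Finite G] {D : Set G} (H : Hyp G D)

include H

/-- An involution fixes a member. -/
theorem exists_fixed_member {j : G} (hj : j * j = 1) : ∃ z ∈ D, Commute j z := by
  by_contra hall
  push Not at hall
  have h := H.group
  have hi : j⁻¹ = j := inv_eq_of_mul_eq_one_right hj
  have hjD : ∀ x ∈ D, j * x * j ∈ D := fun x hx => by
    have := h.2.1 j x hx; rwa [hi] at this
  have hjj : ∀ x : G, j * (j * x * j) * j = x := fun x => by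
    calc j * (j * x * j) * j = (j * j) * x * (j * j) := by group
      _ = x := by rw [hj, one_mul, mul_one]
  have hne : ∀ x ∈ D, j * x * j ≠ x := fun x hx h0 => hall x hx (by
    show j * x = x * j
    calc j * x = j * x * j * j := by rw [mul_assoc (j * x), hj, mul_one]
      _ = x * j := by rw [h0])
  have hcom : ∀ x ∈ D, Commute x (j * x * j) := by
    intro x hx
    by_contra hc
    refine hne _ (FischerTypes.conj_mem h hx (hjD x hx)) ?_
    calc j * (x * (j * x * j) * x) * j = (j * x * j) * (j * (j * x * j) * j) * (j * x * j) := by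
          simp [mul_assoc, show ∀ y : G, j * (j * y) = y from fun y => by rw [← mul_assoc, hj, one_mul]]
      _ = (j * x * j) * x * (j * x * j) := by rw [hjj]
      _ = x * (j * x * j) * x := (braid h.1 hx (hjD x hx) hc).symm
  obtain ⟨d, hd, -⟩ := H.prim.2.1
  set e := j * d * j with he'
  have hde : e ∈ perp D d := ⟨hjD d hd, hne d hd, hcom d hd⟩
  have hQ1 := quot H hd
  have hp := bar_mem H hd hde
  set S := perp D d ∩ perp D e with hS
  set T := perp (img D d) (bar hde) with hT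
  have hST : ∀ {c : G} (hc : c ∈ perp D d), c ∈ S → bar hc ∈ T := fun hc hcS =>
    (mem_perp_bar H hd hde hc).2 hcS.2
  -- the map of `⟨D_d ∩ D_e⟩` onto the quotient of type M(22)
  have hle : Subgroup.closure S ≤ Subgroup.closure (perp D d) := Subgroup.closure_mono Set.inter_subset_left
  let π₁ : ↥(Subgroup.closure S) →* PerpQuot D d :=
    (QuotientGroup.mk' (Subgroup.center ↥(Subgroup.closure (perp D d)))).comp (Subgroup.inclusion hle)
  have hπ₁ : ∀ s, π₁ s ∈ Subgroup.closure T := by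
    rintro ⟨s, hs⟩
    induction hs using Subgroup.closure_induction with
    | mem x hx => exact Subgroup.subset_closure (hST hx.1 hx)
    | one => exact (map_one π₁).symm ▸ one_mem _
    | mul a b ha hb iha ihb => exact map_mul π₁ ⟨a, ha⟩ ⟨b, hb⟩ ▸ mul_mem iha ihb
    | inv a ha iha => exact map_inv π₁ ⟨a, ha⟩ ▸ inv_mem iha
  let π : ↥(Subgroup.closure S) →* PerpQuot (img D d) (bar hde) :=
    (QuotientGroup.mk' (Subgroup.center ↥(Subgroup.closure T))).comp (π₁.codRestrict _ hπ₁)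
  have hπmem : ∀ {c : G} (hc : c ∈ S), π ⟨c, Subgroup.subset_closure hc⟩ = bar (hST hc.1 hc) := fun _ => rfl
  have hlift : ∀ {p : PerpQuot (img D d) (bar hde)}, p ∈ img (img D d) (bar hde) →
      ∃ c, ∃ hc : c ∈ S, π ⟨c, Subgroup.subset_closure hc⟩ = p := by
    intro p hp'
    obtain ⟨q, hq, rfl⟩ := M23.exists_lift hp'
    obtain ⟨c, hc, rfl⟩ := M23.exists_lift hq.1
    exact ⟨c, ⟨hc, (mem_perp_bar H hd hde hc).1 hq⟩, rfl⟩
  have hsurj : Function.Surjective π := by
    rw [← MonoidHom.range_eq_top, eq_top_iff, ← (isThreeTranspositionGroup_img hQ1.group (bar hde)).2.2,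
      Subgroup.closure_le]
    intro p hp'
    obtain ⟨c, hc, rfl⟩ := hlift hp'
    exact ⟨_, rfl⟩
  -- its kernel is the centre
  have hker : ∀ s : ↥(Subgroup.closure S), π s = 1 ↔ ∀ c ∈ S, Commute (s : G) c := by
    intro s
    constructor
    · intro hs c hc
      have h1 : (⟨π₁ s, hπ₁ s⟩ : ↥(Subgroup.closure T)) ∈ Subgroup.center ↥(Subgroup.closure T) :=
        (QuotientGroup.eq_one_iff _).1 hs
      have h2 : Commute (π₁ s) (bar hc.1) :=
        (congrArg Subtype.val (Subgroup.mem_center_iff.1 h1 ⟨_, Subgroup.subset_closure (hST hc.1 hc)⟩)).symm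
      have hsd : Commute (s : G) d := Subgroup.mem_centralizer_singleton_iff.1
        (closure_le_centralizer d (hle s.2))
      have hconj : (s : G) * c * (s : G)⁻¹ ∈ perp D d := conj_mem_perp h hsd hc.1
      have h3 : bar hconj = bar hc.1 := by
        show QuotientGroup.mk _ = _
        rw [show (⟨(s : G) * c * (s : G)⁻¹, mem_perp_closure hconj⟩ : ↥(Subgroup.closure (perp D d))) =
          Subgroup.inclusion hle s * ⟨c, mem_perp_closure hc.1⟩ * (Subgroup.inclusion hle s)⁻¹ from rfl]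
        show π₁ s * bar hc.1 * (π₁ s)⁻¹ = bar hc.1
        rw [h2.eq, mul_inv_cancel_right]
      exact mul_inv_eq_iff_eq_mul.1 (bar_inj H hd hconj hc.1 h3)
    · intro hs
      refine (QuotientGroup.eq_one_iff _).2 ?_
      refine mem_center_closure_iff.2 fun q hq => ?_
      obtain ⟨c, hc, rfl⟩ := M23.exists_lift hq.1
      exact (show Commute (Subgroup.inclusion hle s) ⟨c, mem_perp_closure hc⟩ from
        Subtype.ext (hs c ⟨hc, (mem_perp_bar H hd hde hc).1 hq⟩).eq).map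
          (QuotientGroup.mk' (Subgroup.center ↥(Subgroup.closure (perp D d))))
  -- the conjugation by `j`
  have hconjS : ∀ {c : G}, c ∈ S → j * c * j ∈ S := by
    intro c hc
    have key : ∀ {u : G}, c ∈ perp D u → j * c * j ∈ perp D (j * u * j) := fun {u} hu => by
      have h1 : j * c * j⁻¹ ∈ perp D (j * u * j⁻¹) := ⟨h.2.1 j c hu.1,
        fun h0 => hu.2.1 (mul_left_cancel (mul_right_cancel h0)), (commute_conj_iff' j u c).2 hu.2.2⟩
      rwa [hi] at h1
    exact ⟨hjj d ▸ key hc.2, key hc.1⟩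
  have hmap : (Subgroup.closure S).map (MulAut.conj j).toMonoidHom ≤ Subgroup.closure S := by
    rw [MonoidHom.map_closure, Subgroup.closure_le]
    rintro _ ⟨c, hc, rfl⟩
    exact Subgroup.subset_closure (by simpa [hi] using hconjS hc)
  let cj : ↥(Subgroup.closure S) →* ↥(Subgroup.closure S) :=
    ((MulAut.conj j).toMonoidHom.comp (Subgroup.closure S).subtype).codRestrict _
      fun s => hmap (Subgroup.mem_map_of_mem _ s.2)
  have hcj : ∀ s, (cj s : G) = j * s * j := fun s => by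
    show j * (s : G) * j⁻¹ = _
    rw [hi]
  have hkk : π.ker ≤ (π.comp cj).ker := by
    intro s hs
    rw [MonoidHom.mem_ker] at hs ⊢
    refine (hker (cj s)).2 fun c hc => ?_
    have h1 := (commute_conj_iff' j _ _).2 ((hker s).1 hs _ (hconjS hc))
    rwa [hi, hjj, ← hcj] at h1
  set τ := π.liftOfSurjective hsurj ⟨π.comp cj, hkk⟩ with hτ
  have hτπ : ∀ s, τ (π s) = π (cj s) := fun s =>
    MonoidHom.liftOfRightInverse_comp_apply π _ (Function.rightInverse_surjInv hsurj) _ s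
  have hcjcj : ∀ s, cj (cj s) = s := fun s => Subtype.ext (by rw [hcj, hcj, hjj])
  have hτ2 : ∀ q, τ (τ q) = q := fun q => by
    obtain ⟨s, rfl⟩ := hsurj q
    rw [hτπ, hτπ, hcjcj]
  have hτD : ∀ q ∈ img (img D d) (bar hde), τ q ∈ img (img D d) (bar hde) := by
    intro q hq
    obtain ⟨c, hc, rfl⟩ := hlift hq
    rw [hτπ, show cj ⟨c, Subgroup.subset_closure hc⟩ = ⟨j * c * j, Subgroup.subset_closure (hconjS hc)⟩ from
      Subtype.ext (hcj _), hπmem (hconjS hc)]
    exact M23.bar_mem hQ1 hp (hST (hconjS hc).1 (hconjS hc))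
  obtain ⟨q, hq, hfix⟩ := exists_fixed_of_involutive (M23.quotGroup hQ1.group (bar hde)) (M23.quotPrim hQ1 hp)
    (M23.quot22 hQ1 hp) τ hτ2 hτD
  obtain ⟨c, hc, rfl⟩ := hlift hq
  rw [hτπ, show cj ⟨c, Subgroup.subset_closure hc⟩ = ⟨j * c * j, Subgroup.subset_closure (hconjS hc)⟩ from
    Subtype.ext (hcj _), hπmem (hconjS hc), hπmem hc] at hfix
  exact hne c hc.1.1 (bar_inj H hd (hconjS hc).1 hc.1
    (M23.bar_inj hQ1 hp (hST (hconjS hc).1 (hconjS hc)) (hST hc.1 hc) hfix))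

/-- Commuting quadruples are conjugate. -/
theorem exists_conj_quad {z x y w z' x' y' w' : G} (hz : z ∈ D) (hx : x ∈ perp D z) (hy : y ∈ perp D z)
    (hw : w ∈ perp D z) (hxy : y ∈ perp D x) (hxw : w ∈ perp D x) (hyw : w ∈ perp D y) (hz' : z' ∈ D)
    (hx' : x' ∈ perp D z') (hy' : y' ∈ perp D z') (hw' : w' ∈ perp D z') (hxy' : y' ∈ perp D x')
    (hxw' : w' ∈ perp D x') (hyw' : w' ∈ perp D y') :
    ∃ g : G, g * z * g⁻¹ = z' ∧ g * x * g⁻¹ = x' ∧ g * y * g⁻¹ = y' ∧ g * w * g⁻¹ = w' := by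
  have h := H.group
  obtain ⟨g, hg⟩ := H.prim.1 z hz z' hz'
  have mv : ∀ {u : G}, u ∈ perp D z → g * u * g⁻¹ ∈ perp D z' := fun {u} hu => hg ▸
    ⟨h.2.1 g u hu.1, fun h0 => hu.2.1 (mul_left_cancel (mul_right_cancel h0)), (commute_conj_iff' g z u).2 hu.2.2⟩
  have hQ := quot H hz'
  have inj : ∀ {u v t : G} (hu : u ∈ perp D z') (hv : v ∈ perp D z') (ht : t ∈ perp D z'), v ∈ perp D u →
      t ∈ perp D u → t ∈ perp D v → Function.Injective ![bar hu, bar hv, bar ht] ∧
        ∀ i k, Commute (![bar hu, bar hv, bar ht] i) (![bar hu, bar hv, bar ht] k) := by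
    intro u v t hu hv ht huv hut hvt
    have n1 := ((mem_perp_bar H hz' hu hv).2 huv)
    have n2 := ((mem_perp_bar H hz' hu ht).2 hut)
    have n3 := ((mem_perp_bar H hz' hv ht).2 hvt)
    refine ⟨fun i k hik => ?_, fun i k => ?_⟩
    · fin_cases i <;> fin_cases k <;> simp at hik ⊢
      exacts [n1.2.1 hik.symm, n2.2.1 hik.symm, n1.2.1 hik, n3.2.1 hik.symm, n2.2.1 hik, n3.2.1 hik]
    · fin_cases i <;> fin_cases k <;>
        first
          | exact Commute.refl _
          | exact n1.2.2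
          | exact n1.2.2.symm
          | exact n2.2.2
          | exact n2.2.2.symm
          | exact n3.2.2
          | exact n3.2.2.symm
  have pm : ∀ {u v : G}, v ∈ perp D u → g * v * g⁻¹ ∈ perp D (g * u * g⁻¹) := fun {u v} hv =>
    ⟨h.2.1 g v hv.1, fun h0 => hv.2.1 (mul_left_cancel (mul_right_cancel h0)), (commute_conj_iff' g u v).2 hv.2.2⟩
  obtain ⟨q, hq⟩ := exists_conj_triple23 psu62Facts hQ.group hQ.type
    (inj (mv hx) (mv hy) (mv hw) (pm hxy) (pm hxw) (pm hyw)).1 (inj hx' hy' hw' hxy' hxw' hyw').1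
    (by intro i; fin_cases i; exacts [bar_mem H hz' (mv hx), bar_mem H hz' (mv hy), bar_mem H hz' (mv hw)])
    (by intro i; fin_cases i; exacts [bar_mem H hz' hx', bar_mem H hz' hy', bar_mem H hz' hw'])
    (inj (mv hx) (mv hy) (mv hw) (pm hxy) (pm hxw) (pm hyw)).2 (inj hx' hy' hw' hxy' hxw' hyw').2
  obtain ⟨⟨k, hk⟩, rfl⟩ := QuotientGroup.mk_surjective q
  have hkz : Commute k z' := Subgroup.mem_centralizer_singleton_iff.1 (closure_le_centralizer z' hk)
  have fin : ∀ {u u' : G} (hu : u ∈ perp D z') (hu' : u' ∈ perp D z'),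
      (QuotientGroup.mk ⟨k, hk⟩ : PerpQuot D z') * bar hu * (QuotientGroup.mk ⟨k, hk⟩)⁻¹ = bar hu' →
      k * u * k⁻¹ = u' := fun hu hu' h0 => bar_inj H hz' (conj_mem_perp h hkz hu) hu' h0
  refine ⟨k * g, ?_, ?_, ?_, ?_⟩
  · rw [show k * g * z * (k * g)⁻¹ = k * (g * z * g⁻¹) * k⁻¹ by group, hg, hkz.eq, mul_inv_cancel_right]
  · rw [show k * g * x * (k * g)⁻¹ = k * (g * x * g⁻¹) * k⁻¹ by group]; exact fin (mv hx) hx' (hq 0)
  · rw [show k * g * y * (k * g)⁻¹ = k * (g * y * g⁻¹) * k⁻¹ by group]; exact fin (mv hy) hy' (hq 1)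
  · rw [show k * g * w * (k * g)⁻¹ = k * (g * w * g⁻¹) * k⁻¹ by group]; exact fin (mv hw) hw' (hq 2)

/-- An involution is a member or a product of two, three or four commuting members. -/
theorem involution_eq_prod {j : G} (hj : j * j = 1) (hj1 : j ≠ 1) :
    j ∈ D ∨ (∃ a b, a ∈ D ∧ b ∈ perp D a ∧ j = a * b) ∨
      (∃ a b c, a ∈ D ∧ b ∈ perp D a ∧ c ∈ perp D a ∧ c ∈ perp D b ∧ j = a * b * c) ∨
      ∃ z a b c, z ∈ D ∧ a ∈ perp D z ∧ b ∈ perp D z ∧ c ∈ perp D z ∧ b ∈ perp D a ∧ c ∈ perp D a ∧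
        c ∈ perp D b ∧ j = z * (a * b * c) := by
  have h := H.group
  obtain ⟨z, hz, hjz⟩ := exists_fixed_member H hj
  have hjm : j ∈ Subgroup.closure (perp D z) := by
    rw [← centralizer_eq h H hz]
    exact Subgroup.mem_centralizer_singleton_iff.2 hjz.eq
  set J : ↥(Subgroup.closure (perp D z)) := ⟨j, hjm⟩ with hJ
  have split : ∀ m : ↥(Subgroup.closure (perp D z)),
      (QuotientGroup.mk m : PerpQuot D z) = QuotientGroup.mk J → j = (m : G) ∨ j = z * m := by
    intro m hm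
    have h1 : m⁻¹ * J ∈ Subgroup.center ↥(Subgroup.closure (perp D z)) := QuotientGroup.eq.1 hm
    rcases eq_one_or_eq_of_centralize H hz
        (Subgroup.mem_centralizer_singleton_iff.1 (closure_le_centralizer z (m⁻¹ * J).2))
        (mem_center_closure_iff.1 h1) with h0 | h0
    · exact Or.inl (inv_mul_eq_one.1 h0).symm
    · refine Or.inr ?_
      have hzm : Commute z (m : G) :=
        (Subgroup.mem_centralizer_singleton_iff.mp (closure_le_centralizer z m.2)).symm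
      rw [hzm.eq]
      exact inv_mul_eq_iff_eq_mul.1 h0
  by_cases h1 : (QuotientGroup.mk J : PerpQuot D z) = 1
  · rcases split 1 h1.symm with h0 | h0
    · exact absurd h0 hj1
    · exact Or.inl (by rw [h0, OneMemClass.coe_one, mul_one]; exact hz)
  have hJJ : (QuotientGroup.mk J : PerpQuot D z) * QuotientGroup.mk J = 1 := by
    rw [← QuotientGroup.mk_mul, show J * J = 1 from Subtype.ext hj]; rfl
  rcases M23.involution_eq_prod (quot H hz) hJJ h1 with h0 | ⟨pa, pb, hpa, hpb, h0⟩ |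
    ⟨pa, pb, pc, hpa, hpb, hpc, hpbc, h0⟩
  · obtain ⟨x, hx, hxe⟩ := M23.exists_lift h0
    rcases split ⟨x, mem_perp_closure hx⟩ hxe with e | e
    · exact Or.inl (e ▸ hx.1)
    · exact Or.inr (Or.inl ⟨z, x, hz, hx, e⟩)
  · obtain ⟨x, hx, rfl⟩ := M23.exists_lift hpa
    obtain ⟨y, hy, rfl⟩ := M23.exists_lift hpb.1
    have hxy := (mem_perp_bar H hz hx hy).1 hpb
    rcases split (⟨x, mem_perp_closure hx⟩ * ⟨y, mem_perp_closure hy⟩) (by rw [h0]; rfl) with e | e
    · exact Or.inr (Or.inl ⟨x, y, hx.1, hxy, e⟩)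
    · exact Or.inr (Or.inr (Or.inl ⟨z, x, y, hz, hx, hy, hxy, e.trans (mul_assoc _ _ _).symm⟩))
  · obtain ⟨x, hx, rfl⟩ := M23.exists_lift hpa
    obtain ⟨y, hy, rfl⟩ := M23.exists_lift hpb.1
    obtain ⟨w, hw, rfl⟩ := M23.exists_lift hpc.1
    have hxy := (mem_perp_bar H hz hx hy).1 hpb
    have hxw := (mem_perp_bar H hz hx hw).1 hpc
    have hyw := (mem_perp_bar H hz hy hw).1 hpbc
    rcases split (⟨x, mem_perp_closure hx⟩ * ⟨y, mem_perp_closure hy⟩ * ⟨w, mem_perp_closure hw⟩)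
      (by rw [h0]; rfl)
      with e | e
    · exact Or.inr (Or.inr (Or.inl ⟨x, y, w, hx.1, hxy, hxw, hyw, e⟩))
    · exact Or.inr (Or.inr (Or.inr ⟨z, x, y, w, hz, hx, hy, hw, hxy, hxw, hyw, e⟩))

/-- The only class of 3-transpositions is `D`. -/
theorem threeTranspositionClass_eq {D' : Set G} (hD' : IsThreeTranspositionClass D') : D' = D := by
  obtain ⟨⟨hord, hprod⟩, ⟨j, hj, hjc⟩, -⟩ := hD'
  obtain ⟨hj2, hj1⟩ : j * j = 1 ∧ j ≠ 1 := by
    have h1 := orderOf_eq_iff (show 0 < 2 by norm_num) |>.1 (hord j hj)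
    exact ⟨by rw [← pow_two]; exact h1.1, fun h0 => h1.2 1 (by norm_num) (by norm_num) (by rw [h0, one_pow])⟩
  have hmem : ∀ {g : G}, g * j * g⁻¹ ∈ D' := fun {g} => hjc ▸ isConj_iff.2 ⟨g, rfl⟩
  have h := H.group
  have hpu := pairUnique h.1 (noTwins_of_primitive h H.type.1 H.prim)
  obtain ⟨d₀, hd₀, -⟩ := H.prim.2.1
  obtain ⟨pa, pb, pc, pd, pe, pf, hpe, hpf, hall, hpab, hpad, hpcd, nac, ncb, nbd⟩ :=
    M23.exists_chain (quot H hd₀)
  obtain ⟨a, ha', rfl⟩ := M23.exists_lift (hall pa (by simp)).1.1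
  obtain ⟨b, hb', rfl⟩ := M23.exists_lift (hall pb (by simp)).1.1
  obtain ⟨c, hc', rfl⟩ := M23.exists_lift (hall pc (by simp)).1.1
  obtain ⟨d, hd', rfl⟩ := M23.exists_lift (hall pd (by simp)).1.1
  obtain ⟨e, he, rfl⟩ := M23.exists_lift hpe
  obtain ⟨f, hf', rfl⟩ := M23.exists_lift hpf.1
  have hef := (mem_perp_bar H hd₀ he hf').1 hpf
  have hperp : ∀ {u : G} (hu : u ∈ perp D d₀), bar hu ∈ [bar ha', bar hb', bar hc', bar hd'] →
      u ∈ perp D e ∧ u ∈ perp D f := fun hu hm =>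
    ⟨(mem_perp_bar H hd₀ he hu).1 (hall _ hm).1, (mem_perp_bar H hd₀ hf' hu).1 (hall _ hm).2⟩
  have pA := hperp ha' (by simp)
  have pB := hperp hb' (by simp)
  have pC := hperp hc' (by simp)
  have pD := hperp hd' (by simp)
  have hab := (mem_perp_bar H hd₀ ha' hb').1 hpab
  have hcd := (mem_perp_bar H hd₀ hc' hd').1 hpcd
  have had := (mem_perp_bar H hd₀ ha' hd').1 hpad
  rw [bar_commute H ha' hc'] at nac
  rw [bar_commute H hc' hb'] at ncb
  rw [bar_commute H hb' hd'] at nbd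
  have contra := not_threeTransposition_pairs h hpu pA.1.1 pB.1.1 pC.1.1 pD.1.1 hab.2.2 had.2.2 hcd.2.2 nac ncb
    nbd
  have hef' : f ∈ perp D e := hef
  rcases involution_eq_prod H hj2 hj1 with hjD | ⟨x, y, hx, hxy, rfl⟩ | ⟨x, y, w, hx, hy, hw, hyw, rfl⟩ |
    ⟨z, x, y, w, hz, hx, hy, hw, hxy, hxw, hyw, rfl⟩
  · ext g
    rw [hjc]
    constructor
    · intro hg
      obtain ⟨k, rfl⟩ := isConj_iff.1 hg
      exact h.2.1 k j hjD
    · exact fun hg => isConj_iff.2 (H.prim.1 j hjD g hg)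
  · exfalso
    obtain ⟨u, hu⟩ : (perp D x ∩ perp D y).Nonempty :=
      Set.nonempty_of_ncard_ne_zero (by rw [ncard_perp_perp H hx hxy]; norm_num)
    obtain ⟨v, hv⟩ : (perp D u ∩ (perp D x ∩ perp D y)).Nonempty := by
      refine Set.nonempty_of_ncard_ne_zero ?_
      rw [ncard_perp_commute H hu.1.1 (perp_symm hx hu.1) (perp_symm hxy.1 hu.2) hxy.2.1.symm hxy.2.2]
      norm_num
    obtain ⟨g, -, -, g1, g2⟩ := exists_conj_quad H hu.1.1 hv.1 (perp_symm hx hu.1) (perp_symm hxy.1 hu.2)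
      (perp_symm hx hv.2.1) (perp_symm hxy.1 hv.2.2) hxy he.1 hef' pA.1 pB.1 pA.2 pB.2 hab
    obtain ⟨k, -, -, k1, k2⟩ := exists_conj_quad H hu.1.1 hv.1 (perp_symm hx hu.1) (perp_symm hxy.1 hu.2)
      (perp_symm hx hv.2.1) (perp_symm hxy.1 hv.2.2) hxy he.1 hef' pC.1 pD.1 pC.2 pD.2 hcd
    refine contra ?_
    have := hprod _ (hmem (g := g)) _ (hmem (g := k))
    rwa [show g * (x * y) * g⁻¹ = g * x * g⁻¹ * (g * y * g⁻¹) by group,
      show k * (x * y) * k⁻¹ = k * x * k⁻¹ * (k * y * k⁻¹) by group, g1, g2, k1, k2] at this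
  · exfalso
    obtain ⟨u, hu⟩ : (perp D w ∩ (perp D x ∩ perp D y)).Nonempty := by
      refine Set.nonempty_of_ncard_ne_zero ?_
      rw [ncard_perp_commute H hw.1 (perp_symm hx hw) (perp_symm hy.1 hyw) hy.2.1.symm hy.2.2]
      norm_num
    obtain ⟨g, g0, -, g1, g2⟩ := exists_conj_quad H hw.1 hu.1 (perp_symm hx hw) (perp_symm hy.1 hyw)
      (perp_symm hx hu.2.1) (perp_symm hy.1 hu.2.2) hy he.1 hef' pA.1 pB.1 pA.2 pB.2 hab
    obtain ⟨k, k0, -, k1, k2⟩ := exists_conj_quad H hw.1 hu.1 (perp_symm hx hw) (perp_symm hy.1 hyw)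
      (perp_symm hx hu.2.1) (perp_symm hy.1 hu.2.2) hy he.1 hef' pC.1 pD.1 pC.2 pD.2 hcd
    refine contra ?_
    have := hprod _ (hmem (g := g)) _ (hmem (g := k))
    rw [show g * (x * y * w) * g⁻¹ = g * x * g⁻¹ * (g * y * g⁻¹) * (g * w * g⁻¹) by group,
      show k * (x * y * w) * k⁻¹ = k * x * k⁻¹ * (k * y * k⁻¹) * (k * w * k⁻¹) by group, g1, g2, g0, k1, k2, k0,
      show a * b * e * (c * d * e) = a * b * (c * d) by
        rw [((pC.1.2.2.symm).mul_left pD.1.2.2.symm).eq, mul_assoc, mul_self_cancel h.1 he.1]] at this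
    exact this
  · exfalso
    obtain ⟨g, g0, g3, g1, g2⟩ := exists_conj_quad H hz hx hy hw hxy hxw hyw he.1 hef' pA.1 pB.1 pA.2 pB.2 hab
    obtain ⟨k, k0, k3, k1, k2⟩ := exists_conj_quad H hz hx hy hw hxy hxw hyw he.1 hef' pC.1 pD.1 pC.2 pD.2 hcd
    refine contra ?_
    have := hprod _ (hmem (g := g)) _ (hmem (g := k))
    have c1 : Commute (e * f) (a * b) :=
      (pA.1.2.2.mul_left pA.2.2.2).mul_right (pB.1.2.2.mul_left pB.2.2.2)
    have hee : (e * f) * (e * f) = 1 := by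
      rw [show e * f * (e * f) = e * (f * e) * f by group, ← hef'.2.2.eq, mul_self_cancel h.1 he.1,
        mul_self h.1 hef'.1]
    rw [show g * (z * (x * y * w)) * g⁻¹ =
        g * z * g⁻¹ * (g * x * g⁻¹ * (g * y * g⁻¹) * (g * w * g⁻¹)) by group,
      show k * (z * (x * y * w)) * k⁻¹ =
        k * z * k⁻¹ * (k * x * k⁻¹ * (k * y * k⁻¹) * (k * w * k⁻¹)) by group, g0, g1, g2, g3, k0, k1, k2, k3,
      show e * (f * a * b) * (e * (f * c * d)) = a * b * (c * d) by
        calc e * (f * a * b) * (e * (f * c * d)) = (e * f) * (a * b) * (e * f) * (c * d) := by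
              simp [mul_assoc]
          _ = a * b * ((e * f) * (e * f)) * (c * d) := by rw [c1.eq]; simp [mul_assoc]
          _ = a * b * (c * d) := by rw [hee, mul_one]] at this
    exact this

end M24

end CfsgLib.FischerTypes
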