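import Cfsg.Agent.FischerTypes.M23PrimeLocal
import Cfsg.Agent.Transpositions.TypeM24Parameters

/-!
# Subgroups of prime order in type M(24)

Transfer between the centralizer of a member and its quotient of type M(23), and fixed point counts.
-/

set_option autoImplicit false
set_option linter.style.haveILetI false
set_option maxHeartbeats 400000

namespace CfsgLib.FischerTypes

open Cfsg

namespace M24

section proj

variable {G : Type*} [Group G] [Finite G] {D : Set G} (H : Hyp G D) {d : G} (hd : d ∈ D)

/-- The map of the centralizer of a member onto the quotient of type M(22). -/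
noncomputable def proj : ↥(Subgroup.centralizer ({d} : Set G)) →* PerpQuot D d :=
  (QuotientGroup.mk' (Subgroup.center ↥(Subgroup.closure (perp D d)))).comp
    (MulEquiv.subgroupCongr (centralizer_eq H.group H hd)).toMonoidHom

theorem proj_apply (k : ↥(Subgroup.centralizer ({d} : Set G))) :
    proj H hd k = QuotientGroup.mk (⟨(k : G), centralizer_eq H.group H hd ▸ k.2⟩ :
      ↥(Subgroup.closure (perp D d))) := rfl

theorem proj_surjective : Function.Surjective (proj H hd) :=
  (QuotientGroup.mk'_surjective _).comp (MulEquiv.surjective _)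

theorem proj_eq_one {k : ↥(Subgroup.centralizer ({d} : Set G))} :
    proj H hd k = 1 ↔ (k : G) = 1 ∨ (k : G) = d := by
  rw [proj_apply, QuotientGroup.eq_one_iff, mem_center_closure_iff]
  constructor
  · intro hk
    exact eq_one_or_eq_of_centralize H hd (Subgroup.mem_centralizer_singleton_iff.1 k.2) hk
  · rintro (e | e) y hy
    · show Commute (k : G) y
      rw [e]; exact Commute.one_left y
    · show Commute (k : G) y
      rw [e]; exact hy.2.2

theorem card_proj_ker : Nat.card ↥(proj H hd).ker = 2 := by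
  have hd' : d ∈ Subgroup.centralizer ({d} : Set G) := Subgroup.mem_centralizer_singleton_iff.2 rfl
  have : (proj H hd).ker = Subgroup.zpowers ⟨d, hd'⟩ := by
    refine le_antisymm (fun k hk => ?_) (Subgroup.zpowers_le.2 ((proj_eq_one H hd).2 (Or.inr rfl)))
    rcases (proj_eq_one H hd).1 hk with e | e
    · rw [show k = 1 from Subtype.ext e]; exact one_mem _
    · rw [show k = ⟨d, hd'⟩ from Subtype.ext e]; exact Subgroup.mem_zpowers _
  rw [this, Nat.card_zpowers, ← Subgroup.orderOf_coe]
  exact H.group.1.1 d hd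

theorem card_comap_proj (S : Subgroup (PerpQuot D d)) : Nat.card ↥(S.comap (proj H hd)) = 2 * Nat.card ↥S := by
  have h1 := (S.comap (proj H hd)).card_mul_index
  have h2 := S.card_mul_index
  have h3 : Nat.card ↥(Subgroup.centralizer ({d} : Set G)) = 2 * Nat.card (PerpQuot D d) := by
    rw [Subgroup.card_eq_card_quotient_mul_card_subgroup (proj H hd).ker,
      Nat.card_congr (QuotientGroup.quotientKerEquivOfSurjective _ (proj_surjective H hd)).toEquiv,
      card_proj_ker H hd, mul_comm]
  rw [Subgroup.index_comap_of_surjective S (proj_surjective H hd), h3, ← h2] at h1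
  exact Nat.eq_of_mul_eq_mul_right (Nat.pos_of_ne_zero Subgroup.index_ne_zero_of_finite) (by rw [h1]; ring)

theorem proj_perp {z : G} (hz : z ∈ perp D d) :
    proj H hd ⟨z, Subgroup.mem_centralizer_singleton_iff.2 hz.2.2.symm.eq⟩ = bar hz := rfl

theorem commute_proj_bar {z : G} (hz : z ∈ perp D d) (k : ↥(Subgroup.centralizer ({d} : Set G))) :
    Commute (bar hz) (proj H hd k) ↔ Commute z (k : G) := by
  constructor
  · intro hc
    have hkd : Commute (k : G) d := Subgroup.mem_centralizer_singleton_iff.1 k.2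
    have hz' : (k : G) * z * (k : G)⁻¹ ∈ perp D d := conj_mem_perp H.group hkd hz
    have e1 : bar hz' = proj H hd k * bar hz * (proj H hd k)⁻¹ := rfl
    rw [← hc.eq, mul_inv_cancel_right] at e1
    exact (mul_inv_eq_iff_eq_mul.1 (bar_inj H hd hz' hz e1)).symm
  · intro hc
    exact (show Commute (⟨z, Subgroup.mem_centralizer_singleton_iff.2 hz.2.2.symm.eq⟩ :
      ↥(Subgroup.centralizer ({d} : Set G))) k from Subtype.ext hc.eq).map (proj H hd)

variable {p : ℕ} [hpp : Fact p.Prime] {x : ↥(Subgroup.centralizer ({d} : Set G))}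

theorem orderOf_proj (hx : orderOf (x : G) = p) (hp2 : p ≠ 2) : orderOf (proj H hd x) = p := by
  refine orderOf_eq_prime ?_ fun h0 => ?_
  · rw [← map_pow, ← map_one (proj H hd)]
    exact congrArg _ (Subtype.ext (by simp [← hx, pow_orderOf_eq_one]))
  · rcases (proj_eq_one H hd).1 h0 with e | e
    · exact hpp.out.ne_one (by rw [← hx, e, orderOf_one])
    · exact hp2 (by rw [← hx, e, H.group.1.1 d hd])

omit [Finite G] H hd in
theorem eq_of_eq_mul_member {u v : G} (hu : u ^ p = 1) (hv : v ^ p = 1) (hp2 : p ≠ 2) {z : G}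
    (hz : orderOf z = 2) (hc : Commute v z) (he : u = v * z) : False := by
  rw [he, hc.mul_pow, hv, one_mul] at hu
  have := orderOf_dvd_of_pow_eq_one hu
  rw [hz] at this
  exact hp2 ((Nat.prime_dvd_prime_iff_eq Nat.prime_two hpp.out).1 this).symm

theorem pow_eq_one_of (hx : orderOf (x : G) = p) : (x : G) ^ p = 1 := hx ▸ pow_orderOf_eq_one _

/-- The centralizer of `x` in that of the member is the preimage. -/
theorem comap_centralizer_proj (hx : orderOf (x : G) = p) (hp2 : p ≠ 2) :
    ((Subgroup.centralizer ({proj H hd x} : Set (PerpQuot D d))).comap (proj H hd)).map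
      (Subgroup.centralizer ({d} : Set G)).subtype = Subgroup.centralizer ({(x : G), d} : Set G) := by
  ext k
  constructor
  · rintro ⟨k, hk, rfl⟩
    have hkd : Commute (k : G) d := Subgroup.mem_centralizer_singleton_iff.1 k.2
    have h1 : proj H hd (x⁻¹ * (k * x * k⁻¹)) = 1 := by
      rw [map_mul, map_mul, map_mul, map_inv, map_inv, Subgroup.mem_centralizer_singleton_iff.1 hk,
        mul_inv_cancel_right, inv_mul_cancel]
    rw [Subgroup.mem_centralizer_iff]
    rintro w (rfl | rfl)
    · rcases (proj_eq_one H hd).1 h1 with e | e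
      · push_cast at e
        rw [inv_mul_eq_one] at e
        exact mul_inv_eq_iff_eq_mul.1 e.symm |>.symm
      · exfalso
        push_cast at e
        rw [inv_mul_eq_iff_eq_mul] at e
        refine eq_of_eq_mul_member (p := p) (u := (k : G) * x * (k : G)⁻¹) (v := (x : G)) ?_
          (pow_eq_one_of hx) hp2 (H.group.1.1 d hd) (Subgroup.mem_centralizer_singleton_iff.1 x.2) e
        rw [conj_pow, pow_eq_one_of hx, mul_one, mul_inv_cancel]
    · exact hkd.symm.eq
  · intro hk
    rw [Subgroup.mem_centralizer_iff] at hk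
    refine ⟨⟨k, Subgroup.mem_centralizer_singleton_iff.2 (hk d (by simp)).symm⟩, ?_, rfl⟩
    rw [SetLike.mem_coe, Subgroup.mem_comap, Subgroup.mem_centralizer_singleton_iff, ← map_mul, ← map_mul]
    exact congrArg _ (Subtype.ext (hk x (by simp)).symm)

theorem card_centralizer_pair_eq (hx : orderOf (x : G) = p) (hp2 : p ≠ 2) :
    Nat.card ↥(Subgroup.centralizer ({(x : G), d} : Set G)) =
      2 * Nat.card ↥(Subgroup.centralizer ({proj H hd x} : Set (PerpQuot D d))) := by
  rw [← comap_centralizer_proj H hd hx hp2, Subgroup.card_map_of_injective Subtype.val_injective,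
    card_comap_proj]

/-- Conjugate images give conjugate subgroups. -/
theorem conj_of_proj {y : ↥(Subgroup.centralizer ({d} : Set G))} (hx : orderOf (x : G) = p)
    (hy : orderOf (y : G) = p) (hp2 : p ≠ 2) {g : PerpQuot D d}
    (hg : (Subgroup.zpowers (proj H hd x)).map (MulAut.conj g).toMonoidHom = Subgroup.zpowers (proj H hd y)) :
    ∃ k : G, Commute k d ∧ (Subgroup.zpowers (x : G)).map (MulAut.conj k).toMonoidHom = Subgroup.zpowers (y : G) := by
  obtain ⟨k, rfl⟩ := proj_surjective H hd g
  refine ⟨k, Subgroup.mem_centralizer_singleton_iff.1 k.2, ?_⟩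
  rw [MonoidHom.map_zpowers] at hg ⊢
  obtain ⟨i, hi⟩ := Subgroup.mem_zpowers_iff.1
    (hg ▸ Subgroup.mem_zpowers _ : (MulAut.conj (proj H hd k)).toMonoidHom (proj H hd x) ∈
      Subgroup.zpowers (proj H hd y))
  have h1 : proj H hd ((y ^ i)⁻¹ * (k * x * k⁻¹)) = 1 := by
    rw [map_mul, map_inv, map_zpow, hi, map_mul, map_mul, map_inv]
    exact inv_mul_cancel _
  have hval : (k : G) * x * (k : G)⁻¹ = (y : G) ^ i := by
    rcases (proj_eq_one H hd).1 h1 with e | e
    · push_cast at e
      exact (inv_mul_eq_one.1 e).symm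
    · exfalso
      push_cast at e
      rw [inv_mul_eq_iff_eq_mul] at e
      refine eq_of_eq_mul_member (p := p) (u := (k : G) * x * (k : G)⁻¹) (v := (y : G) ^ i) ?_ ?_ hp2
        (H.group.1.1 d hd) ((show Commute (y : G) d from Subgroup.mem_centralizer_singleton_iff.1 y.2).zpow_left i) e
      · rw [conj_pow, pow_eq_one_of hx, mul_one, mul_inv_cancel]
      · rw [← zpow_natCast, ← zpow_mul, mul_comm, zpow_mul, zpow_natCast, pow_eq_one_of hy, one_zpow]
  refine Subgroup.eq_of_le_of_card_ge (Subgroup.zpowers_le.2 ?_) ?_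
  · exact ⟨i, hval.symm⟩
  · rw [Nat.card_zpowers, Nat.card_zpowers, hy]
    exact ((orderOf_injective (MulAut.conj (k : G)).toMonoidHom (MulAut.conj (k : G)).injective (x : G)).trans hx).ge


omit [hpp : Fact p.Prime] in
theorem eq_of_proj_eq {u v : ↥(Subgroup.centralizer ({d} : Set G))} [Fact p.Prime] (hu : (u : G) ^ p = 1)
    (hv : (v : G) ^ p = 1) (hp2 : p ≠ 2) (he : proj H hd u = proj H hd v) : (u : G) = v := by
  have h1 : proj H hd (v⁻¹ * u) = 1 := by rw [map_mul, map_inv, he, inv_mul_cancel]
  rcases (proj_eq_one H hd).1 h1 with e | e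
  · push_cast at e
    exact (inv_mul_eq_one.1 e).symm
  · exfalso
    push_cast at e
    rw [inv_mul_eq_iff_eq_mul] at e
    exact eq_of_eq_mul_member (p := p) hu hv hp2 (H.group.1.1 d hd)
      (Subgroup.mem_centralizer_singleton_iff.1 v.2) e

/-- The fixed members next to `d`, counted in the quotient. -/
theorem ncard_fixed_perp (k : ↥(Subgroup.centralizer ({d} : Set G))) :
    {z : G | z ∈ perp D d ∧ Commute z (k : G)}.ncard =
      {q : PerpQuot D d | q ∈ img D d ∧ Commute q (proj H hd k)}.ncard :=
  ncard_bar H hd (fun z hz => hz.1) (fun q hq => hq.1) fun z hz =>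
    ⟨fun h => ⟨bar_mem H hd hz, (commute_proj_bar H hd hz k).2 h.2⟩,
      fun h => ⟨hz, (commute_proj_bar H hd hz k).1 h.2⟩⟩

end proj

variable {G : Type*} [Group G] [Finite G] {D : Set G} (H : Hyp G D) {p : ℕ} [hpp : Fact p.Prime]

include H

/-- An element of prime order not dividing the number of members fixes one. -/
theorem exists_fixed {x : G} (hx : orderOf x = p) (hp : ¬ p ∣ 306936) : ∃ d ∈ D, Commute d x := by
  by_contra hall
  push Not at hall
  refine hp (Nat.dvd_of_mod_eq_zero ?_)
  rw [← Transpositions.TypeM24.ncard_D H, ncard_modEq_fixed hx D fun z hz => H.group.2.1 x z hz]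
  rw [show {z : G | z ∈ D ∧ Commute z x} = ∅ from Set.eq_empty_iff_forall_notMem.2 fun z hz => hall z hz.1 hz.2]
  simp

/-- The fixed common neighbours of two fixed non-commuting members. -/
theorem ncard_fixed_common_mod {x d f : G} (hx : orderOf x = p) (hd : d ∈ D) (hf : f ∈ D)
    (hdf : ¬ Commute d f) (hdx : Commute d x) (hfx : Commute f x) :
    {z : G | z ∈ perp D d ∩ perp D f ∧ Commute z x}.ncard % p = 3240 % p := by
  rw [← (Transpositions.TypeM24.mu_props H hd hf hdf).1]
  exact (ncard_modEq_fixed hx (perp D d ∩ perp D f) fun z hz =>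
    ⟨conj_mem_perp H.group hdx.symm hz.1, conj_mem_perp H.group hfx.symm hz.2⟩).symm

end M24

end CfsgLib.FischerTypes
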