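import Cfsg.Agent.FischerTypes.M24Triple
import Cfsg.Agent.Transpositions.TypeM23Structure
import Cfsg.Agent.Transpositions.M22Unique

/-!
# Two commuting members in type M(24)

The even part of the centralizer of a product of two commuting members is `2.Fi₂₂` extended by 2.
-/

set_option autoImplicit false

namespace CfsgLib.FischerTypes

open Cfsg Subgroup

/-- A group over a normal quasisimple subgroup that contains its centralizer, modulo the centre of that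
subgroup, is the automorphism group of the simple quotient once the orders agree. -/
theorem quotient_equiv_aut {C A : Type*} [Group C] [Finite C] [Group A] [Finite A] (N Z : Subgroup C)
    [hN : N.Normal] [hZn : Z.Normal] (hq : Cfsg.IsQuasisimple ↥N) (hC : centralizer (N : Set C) ≤ N)
    (hZ : (center ↥N).map N.subtype = Z) (e : ↥N ⧸ center ↥N ≃* A)
    (hcard : Nat.card (MulAut A) = N.index * Nat.card A) : Nonempty (C ⧸ Z ≃* MulAut A) := by
  let β : C →* MulAut ↥N := MulAut.conjNormal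
  have hβ : ∀ (g : C) (k : ↥N), ((β g k : ↥N) : C) = g * k * g⁻¹ := fun g k => MulAut.conjNormal_apply g k
  have hpres : ∀ g, (center ↥N).map (β g).toMonoidHom = center ↥N := fun g =>
    Subgroup.characteristic_iff_map_eq.1 inferInstance (β g)
  let γ : C →* MulAut (↥N ⧸ center ↥N) :=
    { toFun := fun g => QuotientGroup.congr _ _ (β g) (hpres g)
      map_one' := MulEquiv.ext fun q => by
        obtain ⟨k, rfl⟩ := QuotientGroup.mk_surjective q
        exact congrArg QuotientGroup.mk (by rw [map_one]; rfl)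
      map_mul' := fun a b => MulEquiv.ext fun q => by
        obtain ⟨k, rfl⟩ := QuotientGroup.mk_surjective q
        exact congrArg QuotientGroup.mk (by rw [map_mul]; rfl) }
  let γ' : C →* MulAut A := (MulAut.congr e).toMonoidHom.comp γ
  have hker : γ'.ker = Z := by
    ext g
    rw [MonoidHom.mem_ker]
    constructor
    · intro hg
      have hg' : γ g = 1 := (MulAut.congr e).injective (hg.trans (map_one _).symm)
      have hmove : ∀ k : ↥N, (β g).toMonoidHom k * k⁻¹ ∈ center ↥N := fun k => by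
        have h1 : (QuotientGroup.mk (β g k) : ↥N ⧸ center ↥N) = QuotientGroup.mk k :=
          DFunLike.congr_fun hg' (QuotientGroup.mk k)
        refine (QuotientGroup.eq_one_iff _).1 ?_
        rw [QuotientGroup.mk_mul, QuotientGroup.mk_inv]
        exact mul_inv_eq_one.2 h1
      have hfix := fixed_of_central_moves hq (β g).toMonoidHom hmove
      have hgc : g ∈ centralizer (N : Set C) := mem_centralizer_iff.2 fun x hx =>
        (mul_inv_eq_iff_eq_mul.1 ((hβ g ⟨x, hx⟩).symm.trans (congrArg Subtype.val (hfix ⟨x, hx⟩)))).symm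
      rw [← hZ]
      exact ⟨⟨g, hC hgc⟩, mem_center_iff.2 fun k => Subtype.ext (mem_centralizer_iff.1 hgc k k.2), rfl⟩
    · intro hg
      obtain ⟨z, hz, rfl⟩ : g ∈ (center ↥N).map N.subtype := hZ ▸ hg
      have hg' : γ (N.subtype z) = 1 := by
        refine MulEquiv.ext fun q => ?_
        obtain ⟨k, rfl⟩ := QuotientGroup.mk_surjective q
        refine congrArg QuotientGroup.mk (Subtype.ext ?_)
        show (z : C) * k * (z : C)⁻¹ = k
        rw [show (z : C) * k = k * z from congrArg N.subtype (mem_center_iff.1 hz k).symm, mul_inv_cancel_right]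
      show (MulAut.congr e) (γ (N.subtype z)) = 1
      rw [hg', map_one]
  have hsurj : Function.Surjective γ' := by
    rw [← MonoidHom.range_eq_top]
    refine Subgroup.eq_top_of_card_eq _ ?_
    rw [← Nat.card_congr (QuotientGroup.quotientKerEquivRange γ').toEquiv, hker, hcard]
    have h1 := Subgroup.card_eq_card_quotient_mul_card_subgroup Z
    have h2 := Subgroup.card_eq_card_quotient_mul_card_subgroup (center ↥N)
    have h3 := Subgroup.index_mul_card N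
    rw [Nat.card_congr e.toEquiv] at h2
    have hcz : Nat.card ↥(center ↥N) = Nat.card ↥Z := by
      rw [← hZ]
      exact Nat.card_congr (Subgroup.equivMapOfInjective _ _ N.subtype_injective).toEquiv
    have hpos : 0 < Nat.card ↥Z := Nat.card_pos
    refine Nat.eq_of_mul_eq_mul_right hpos ?_
    rw [← h1, ← h3, h2, hcz, mul_assoc]
  exact ⟨(QuotientGroup.quotientMulEquivOfEq hker.symm).trans
    (QuotientGroup.quotientKerEquivOfSurjective γ' hsurj)⟩

namespace M24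

variable {G : Type*} [Group G] [Finite G] {D : Set G} (H : Hyp G D) {d₁ d₂ : G} (h₁ : d₁ ∈ D)
  (h12 : d₂ ∈ perp D d₁)

include H h₁ h12

/-- The even part of the joint centralizer of two commuting members is quasisimple of type `2.Fi₂₂`. -/
theorem pair_core (L K : Subgroup G) (hL : L = commutator G)
    (hK : K = L ⊓ Subgroup.centralizer ({d₁, d₂} : Set G)) :
    Cfsg.IsQuasisimple ↥K ∧ (Subgroup.center ↥K).map K.subtype = Subgroup.zpowers (d₁ * d₂) ∧
      Nonempty (↥K ⧸ Subgroup.center ↥K ≃* Cfsg.Spor.Fi22) := by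
  have h := H.group
  obtain ⟨χ, hker, hχ⟩ := exists_sign_commutator H
  have hLχ : ∀ {g : G}, g ∈ L ↔ χ g = 1 := fun {g} => by rw [hL, ← hker, MonoidHom.mem_ker]
  have hKmem : ∀ {g : G}, g ∈ K ↔ g ∈ L ∧ Commute g d₁ ∧ Commute g d₂ := fun {g} => by
    rw [hK, Subgroup.mem_inf, Subgroup.mem_centralizer_iff]
    refine ⟨fun ⟨a, b⟩ => ⟨a, (b _ (by simp)).symm, (b _ (by simp)).symm⟩, fun ⟨a, b, c⟩ => ⟨a, ?_⟩⟩
    rintro w (rfl | rfl)
    exacts [b.symm.eq, c.symm.eq]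
  set Hd := Subgroup.closure (perp D d₁) with hHd
  have hKH : K ≤ Hd := fun k hk => by
    rw [hHd, ← centralizer_eq h H h₁, Subgroup.mem_centralizer_singleton_iff]
    exact (hKmem.1 hk).2.1.eq
  have hQ := quot H h₁
  have hb2 := bar_mem H h₁ h12
  set b2 := bar h12 with hb2d
  set K' := Subgroup.closure (perp (img D d₁) b2) with hK'
  have hcl : Subgroup.centralizer ({b2} : Set (PerpQuot D d₁)) = K' := M23.centralizer_eq hQ.group hQ hb2
  have hqs' : Cfsg.IsQuasisimple ↥K' := Transpositions.TypeM23.isQuasisimple_closure hQ hb2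
  have hcen' : Subgroup.center ↥K' = (Subgroup.zpowers b2).subgroupOf K' :=
    Transpositions.TypeStep.center_closure hQ.group hb2
      (fun hw h1 => M23.eq_one_or_eq_of_centralize hQ hb2 hw h1)
  let f₀ : ↥K →* PerpQuot D d₁ := (QuotientGroup.mk' (Subgroup.center ↥Hd)).comp (Subgroup.inclusion hKH)
  have hf₀ : ∀ k, f₀ k ∈ K' := fun k => by
    rw [← hcl, Subgroup.mem_centralizer_singleton_iff]
    obtain ⟨-, -, k2⟩ := hKmem.1 k.2
    exact ((show Commute (Subgroup.inclusion hKH k) ⟨d₂, mem_perp_closure h12⟩ from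
      Subtype.ext k2.eq).map (QuotientGroup.mk' (Subgroup.center ↥Hd))).eq
  let f : ↥K →* ↥K' := f₀.codRestrict K' hf₀
  have hd1H : d₁ ∈ Hd := mem_closure_perp_self H h₁
  have hd1c : (⟨d₁, hd1H⟩ : ↥Hd) ∈ Subgroup.center ↥Hd :=
    mem_center_closure_iff.2 fun y hy => hy.2.2
  have hinj : Function.Injective f := by
    rw [← MonoidHom.ker_eq_bot_iff, Subgroup.eq_bot_iff_forall]
    intro k hk
    have hk0 : f₀ k = 1 := congrArg Subtype.val (MonoidHom.mem_ker.1 hk)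
    refine Subtype.ext ((eq_one_or_eq_of_centralize H h₁ (hKmem.1 k.2).2.1
      (mem_center_closure_iff.1 ((QuotientGroup.eq_one_iff _).1 hk0))).resolve_right fun he => ?_)
    have := hLχ.1 (hKmem.1 k.2).1
    rw [he, hχ d₁ h₁] at this
    exact absurd this (by decide)
  have hsurj : Function.Surjective f := by
    rintro ⟨q, hq⟩
    obtain ⟨⟨w, hw⟩, rfl⟩ := QuotientGroup.mk_surjective q
    rw [← hcl, Subgroup.mem_centralizer_singleton_iff] at hq
    have hwd : Commute w d₁ := Subgroup.mem_centralizer_singleton_iff.1 (closure_le_centralizer d₁ hw)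
    have w2 : Commute w d₂ := by
      refine mul_inv_eq_iff_eq_mul.1 (bar_inj H h₁ (conj_mem_perp h hwd h12) h12 ?_)
      show (QuotientGroup.mk (⟨w, hw⟩ : ↥Hd) : PerpQuot D d₁) * bar h12 *
        (QuotientGroup.mk (⟨w, hw⟩ : ↥Hd) : PerpQuot D d₁)⁻¹ = bar h12
      exact mul_inv_eq_iff_eq_mul.2 hq
    rcases Int.units_eq_one_or (χ w) with hs | hs
    · exact ⟨⟨w, hKmem.2 ⟨hLχ.2 hs, hwd, w2⟩⟩, Subtype.ext rfl⟩
    · refine ⟨⟨w * d₁, hKmem.2 ⟨hLχ.2 (by rw [map_mul, hs, hχ d₁ h₁]; decide),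
        hwd.mul_left (Commute.refl _), w2.mul_left h12.2.2⟩⟩, Subtype.ext ?_⟩
      show (QuotientGroup.mk ((⟨w, hw⟩ : ↥Hd) * ⟨d₁, hd1H⟩) : PerpQuot D d₁) = QuotientGroup.mk ⟨w, hw⟩
      rw [QuotientGroup.mk_mul, (QuotientGroup.eq_one_iff _).2 hd1c, mul_one]
  let e : ↥K ≃* ↥K' := MulEquiv.ofBijective f ⟨hinj, hsurj⟩
  have hqs : Cfsg.IsQuasisimple ↥K := Components.isQuasisimple_congr e.symm hqs'
  have hmapc : (Subgroup.center ↥K).map e.toMonoidHom = Subgroup.center ↥K' := by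
    ext z
    obtain ⟨z, rfl⟩ := e.surjective z
    rw [Subgroup.mem_center_iff, Subgroup.mem_map_equiv]
    simp only [MulEquiv.symm_apply_apply, Subgroup.mem_center_iff]
    exact ⟨fun hz w => by rw [← e.apply_symm_apply w, ← map_mul, ← map_mul, hz],
      fun hz w => e.injective (by rw [map_mul, map_mul, hz])⟩
  have eK : d₁ * d₂ ∈ K := hKmem.2 ⟨hLχ.2 (by rw [map_mul, hχ d₁ h₁, hχ d₂ h12.1]; decide),
    (Commute.refl d₁).mul_left h12.2.2.symm, h12.2.2.mul_left (Commute.refl d₂)⟩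
  have himg : ((f ⟨d₁ * d₂, eK⟩ : ↥K') : PerpQuot D d₁) = b2 := by
    show (QuotientGroup.mk ((⟨d₁, hd1H⟩ : ↥Hd) * ⟨d₂, mem_perp_closure h12⟩) : PerpQuot D d₁) = bar h12
    rw [QuotientGroup.mk_mul, (QuotientGroup.eq_one_iff _).2 hd1c, one_mul]
  have hmem : ∀ z : ↥K, z ∈ Subgroup.center ↥K ↔ ((f z : ↥K') : PerpQuot D d₁) ∈ Subgroup.zpowers b2 := by
    intro z
    rw [← Subgroup.mem_subgroupOf, ← hcen', ← hmapc]
    exact (Subgroup.mem_map_iff_mem (f := e.toMonoidHom) e.injective).symm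
  have hcenter : (Subgroup.center ↥K).map K.subtype = Subgroup.zpowers (d₁ * d₂) := by
    refine le_antisymm ?_ ?_
    · rintro _ ⟨z, hz, rfl⟩
      obtain ⟨i, hi⟩ := (hmem z).1 hz
      refine ⟨i, ?_⟩
      have h1 : f (⟨d₁ * d₂, eK⟩ ^ i) = f z := by
        refine Subtype.ext ?_
        rw [map_zpow, Subgroup.coe_zpow, himg]
        exact hi
      rw [← hinj h1]
      simp
    · rw [Subgroup.zpowers_le]
      exact ⟨⟨_, eK⟩, (hmem _).2 (by rw [himg]; exact Subgroup.mem_zpowers _), rfl⟩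
  refine ⟨hqs, hcenter, ?_⟩
  obtain ⟨e22, -⟩ := Transpositions.M22Unique.exists_equiv (M23.quotGroup hQ.group b2) (M23.quotPrim hQ hb2)
    (M23.quot22 hQ hb2)
  exact ⟨(QuotientGroup.congr (Subgroup.center ↥K) (Subgroup.center ↥K') e hmapc).trans e22.symm⟩

/-- The centralizer of the product swaps the pair. -/
theorem pair_index (L K CL : Subgroup G) (hL : L = commutator G)
    (hK : K = L ⊓ Subgroup.centralizer ({d₁, d₂} : Set G))
    (hCL : CL = L ⊓ Subgroup.centralizer ({d₁ * d₂} : Set G)) :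
    K ≤ CL ∧ (K.subgroupOf CL).index = 2 := by
  have h := H.group
  obtain ⟨χ, hker, hχ⟩ := exists_sign_commutator H
  have hLχ : ∀ {g : G}, g ∈ L ↔ χ g = 1 := fun {g} => by rw [hL, ← hker, MonoidHom.mem_ker]
  have hpu := pairUnique h.1 (noTwins_of_primitive h H.type.1 H.prim)
  have hKmem : ∀ {g : G}, g ∈ K ↔ g ∈ L ∧ Commute g d₁ ∧ Commute g d₂ := fun {g} => by
    rw [hK, Subgroup.mem_inf, Subgroup.mem_centralizer_iff]
    refine ⟨fun ⟨a, b⟩ => ⟨a, (b _ (by simp)).symm, (b _ (by simp)).symm⟩, fun ⟨a, b, c⟩ => ⟨a, ?_⟩⟩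
    rintro w (rfl | rfl)
    exacts [b.symm.eq, c.symm.eq]
  have hCmem : ∀ {g : G}, g ∈ CL ↔ g ∈ L ∧ Commute g (d₁ * d₂) := fun {g} => by
    rw [hCL, Subgroup.mem_inf, Subgroup.mem_centralizer_singleton_iff]; rfl
  have hKCL : K ≤ CL := fun k hk => by
    obtain ⟨a, b, c⟩ := hKmem.1 hk
    exact hCmem.2 ⟨a, b.mul_right c⟩
  refine ⟨hKCL, ?_⟩
  have hcase : ∀ g ∈ CL, (g * d₁ * g⁻¹ = d₁ ∧ g * d₂ * g⁻¹ = d₂) ∨ (g * d₁ * g⁻¹ = d₂ ∧ g * d₂ * g⁻¹ = d₁) := by
    intro g hg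
    have hgc : g * (d₁ * d₂) * g⁻¹ = d₁ * d₂ := mul_inv_eq_iff_eq_mul.2 (hCmem.1 hg).2
    rw [show g * (d₁ * d₂) * g⁻¹ = g * d₁ * g⁻¹ * (g * d₂ * g⁻¹) by group] at hgc
    exact hpu _ (h.2.1 g d₁ h₁) _ (h.2.1 g d₂ h12.1) _ h₁ _ h12.1
      (fun he => h12.2.1 (mul_left_cancel (mul_right_cancel he)).symm)
      ((commute_conj_iff' g d₁ d₂).2 h12.2.2) h12.2.1.symm h12.2.2 hgc
  -- an even element swapping the pair
  obtain ⟨z, hz2, hz1⟩ : ∃ z, z ∈ perp D d₁ ∧ z ∈ perp D d₂ := by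
    obtain ⟨p, hp⟩ : (perp (img D d₁) (bar h12)).Nonempty :=
      Set.nonempty_of_ncard_ne_zero (by rw [M23.ncard_perp (quot H h₁) (bar_mem H h₁ h12)]; norm_num)
    obtain ⟨w, hw, rfl⟩ := M23.exists_lift hp.1
    exact ⟨w, hw, (mem_perp_bar H h₁ h12 hw).1 hp⟩
  obtain ⟨p, hp⟩ : ∃ p, p ∈ perp D d₁ ∧ p ∈ perp D d₂ ∧ p ∈ perp D z := by
    have hzb := (mem_perp_bar H h₁ h12 hz2).2 hz1
    obtain ⟨q, hq⟩ : (perp (img D d₁) (bar h12) ∩ perp (img D d₁) (bar hz2)).Nonempty :=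
      Set.nonempty_of_ncard_ne_zero (by
        rw [M23.ncard_perp_perp (quot H h₁) (bar_mem H h₁ h12) hzb]; norm_num)
    obtain ⟨w, hw, rfl⟩ := M23.exists_lift hq.1.1
    exact ⟨w, hw, (mem_perp_bar H h₁ h12 hw).1 hq.1, (mem_perp_bar H h₁ hz2 hw).1 hq.2⟩
  have h21 := perp_symm h₁ h12
  obtain ⟨g, g1, g2, -, -⟩ := exists_conj_quad H h₁ h12 hz2 hp.1 hz1 hp.2.1 hp.2.2 h12.1 h21 hz1 hp.2.1
    hz2 hp.1 hp.2.2
  obtain ⟨s, hsL, hs1, hs2⟩ : ∃ s ∈ L, s * d₁ * s⁻¹ = d₂ ∧ s * d₂ * s⁻¹ = d₁ := by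
    rcases Int.units_eq_one_or (χ g) with hsg | hsg
    · exact ⟨g, hLχ.2 hsg, g1, g2⟩
    · refine ⟨g * d₁, hLχ.2 (by rw [map_mul, hsg, hχ d₁ h₁]; decide), ?_, ?_⟩
      · rw [show g * d₁ * d₁ * (g * d₁)⁻¹ = g * d₁ * g⁻¹ by group, g1]
      · rw [show g * d₁ * d₂ * (g * d₁)⁻¹ = g * (d₁ * d₂ * d₁⁻¹) * g⁻¹ by group, h12.2.2.eq,
          mul_inv_cancel_right, g2]
  have hsC : s ∈ CL := hCmem.2 ⟨hsL, mul_inv_eq_iff_eq_mul.1 (by
    rw [show s * (d₁ * d₂) * s⁻¹ = s * d₁ * s⁻¹ * (s * d₂ * s⁻¹) by group, hs1, hs2, h12.2.2.eq])⟩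
  rw [Subgroup.index_eq_two_iff]
  refine ⟨⟨s, hsC⟩, fun b => ?_⟩
  simp only [Subgroup.mem_subgroupOf, Subgroup.coe_mul]
  have hmemK : ∀ x ∈ CL, (x ∈ K ↔ x * d₁ * x⁻¹ = d₁) := by
    intro x hx
    refine ⟨fun hxK => mul_inv_eq_iff_eq_mul.2 (hKmem.1 hxK).2.1, fun hx1 => ?_⟩
    rcases hcase x hx with ⟨-, a2⟩ | ⟨a1, -⟩
    · exact hKmem.2 ⟨(hCmem.1 hx).1, mul_inv_eq_iff_eq_mul.1 hx1, mul_inv_eq_iff_eq_mul.1 a2⟩
    · exact absurd (a1.symm.trans hx1) h12.2.1
  rw [hmemK _ (mul_mem b.2 hsC), hmemK _ b.2,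
    show (b : G) * s * d₁ * ((b : G) * s)⁻¹ = b * (s * d₁ * s⁻¹) * (b : G)⁻¹ by group, hs1]
  rcases hcase _ b.2 with ⟨b1, b2⟩ | ⟨b1, b2⟩ <;> rw [b1, b2]
  · exact Or.inr ⟨rfl, fun he => h12.2.1 he⟩
  · exact Or.inl ⟨rfl, fun he => h12.2.1 he⟩

end M24

end CfsgLib.FischerTypes
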