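import Cfsg.Agent.FischerTypes.M24FixedMember
import Cfsg.Agent.FischerTypes.M23Pair
import Cfsg.Agent.Transpositions.TypeM24Sign
import Cfsg.Agent.AltBlocks.QuasiFStar
import Cfsg.Agent.AutPSU.AutOrder
import Cfsg.Agent.AutPSL.FieldAut

/-!
# Three commuting members in type M(24)

The even part of the centralizer of a product of three commuting members is `2².PSU(6,2)` extended by `S₃`.
-/

set_option autoImplicit false

namespace CfsgLib.FischerTypes

open Cfsg Subgroup

section general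

variable {K : Type*} [Group K]

/-- An automorphism moving each element of a quasisimple group by a central one is trivial. -/
theorem fixed_of_central_moves (hq : Cfsg.IsQuasisimple K) (α : K →* K)
    (h : ∀ k, α k * k⁻¹ ∈ center K) : ∀ k, α k = k := by
  let ρ : K →* ↥(center K) :=
    { toFun := fun k => ⟨α k * k⁻¹, h k⟩
      map_one' := Subtype.ext (by simp)
      map_mul' := fun a b => Subtype.ext (by
        show α (a * b) * (a * b)⁻¹ = α a * a⁻¹ * (α b * b⁻¹)
        calc α (a * b) * (a * b)⁻¹ = α a * (α b * b⁻¹) * a⁻¹ := by rw [map_mul]; group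
          _ = (α b * b⁻¹) * α a * a⁻¹ := by rw [mem_center_iff.1 (h b) (α a)]
          _ = α b * b⁻¹ * (α a * a⁻¹) := mul_assoc _ _ _
          _ = α a * a⁻¹ * (α b * b⁻¹) := mem_center_iff.1 (h a) _) }
  have hker : ρ.ker = ⊤ := by
    rw [eq_top_iff, ← hq.1.1, _root_.commutator_def, commutator_le]
    intro a _ b _
    rw [MonoidHom.mem_ker, map_commutatorElement, commutatorElement_eq_one_iff_mul_comm]
    exact Subtype.ext (mem_center_iff.1 (ρ b).2 _)
  intro k
  have : ρ k = 1 := MonoidHom.mem_ker.1 (hker ▸ mem_top k)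
  exact mul_inv_eq_one.1 (congrArg Subtype.val this)

variable {C : Type*} [Group C] [Finite C]

/-- `F*` of a group with a normal quasisimple subgroup containing its centralizer. -/
theorem generalizedFitting_eq_of_quasisimple (N : Subgroup C) [hN : N.Normal]
    (hq : Cfsg.IsQuasisimple ↥N) (hC : centralizer (N : Set C) ≤ N) :
    Cfsg.generalizedFittingSubgroup C = N := by
  have hNc : Cfsg.IsComponent N := ⟨hN.isSubnormal, hq⟩
  refine le_antisymm (sup_le (sSup_le fun L hL => ?_) (sSup_le ?_))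
    ((Components.IsComponent.le_layer hNc).trans le_sup_left)
  · by_contra hLN
    have hne : L ≠ N := fun he => hLN he.le
    have h1 := Components.IsComponent.commutator_eq_bot_of_ne hL hNc hne
    rw [commutator_eq_bot_iff_le_centralizer] at h1
    exact hLN (h1.trans hC)
  · rintro M ⟨hM, hnil⟩
    haveI := hM
    haveI := hnil
    rcases Components.IsQuasisimple.normal_eq_top_or_le_center hq (M.subgroupOf N) with h | h
    · exfalso
      haveI : Group.IsNilpotent ↥N :=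
        Group.nilpotent_of_mulEquiv (Subgroup.subgroupOfEquivOfLe (Subgroup.subgroupOf_eq_top.1 h))
      exact Components.IsQuasisimple.not_isSolvable hq inferInstance
    · intro m hm
      refine hC (mem_centralizer_iff.2 fun n hn => ?_)
      let α : ↥N →* ↥N := (MulAut.conjNormal m).toMonoidHom
      have hmove : ∀ k : ↥N, α k * k⁻¹ ∈ center ↥N := fun k => by
        refine h ?_
        rw [mem_subgroupOf]
        show m * (k : C) * m⁻¹ * (k : C)⁻¹ ∈ M
        rw [show m * (k : C) * m⁻¹ * (k : C)⁻¹ = m * ((k : C) * m⁻¹ * (k : C)⁻¹) by group]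
        exact mul_mem hm (hM.conj_mem _ (inv_mem hm) _)
      have h1 := congrArg Subtype.val (fixed_of_central_moves hq α hmove ⟨n, hn⟩)
      have h2 : m * n * m⁻¹ = n := by simpa [α] using h1
      exact (mul_inv_eq_iff_eq_mul.1 h2).symm

end general

theorem perm_three_cases : ∀ π : Equiv.Perm (Fin 3), (π 0 = 0 ∧ π 1 = 1 ∧ π 2 = 2) ∨ (π 0 = 0 ∧ π 1 = 2 ∧ π 2 = 1) ∨
    (π 0 = 1 ∧ π 1 = 0 ∧ π 2 = 2) ∨ (π 0 = 1 ∧ π 1 = 2 ∧ π 2 = 0) ∨ (π 0 = 2 ∧ π 1 = 0 ∧ π 2 = 1) ∨
    (π 0 = 2 ∧ π 1 = 1 ∧ π 2 = 0) := by decide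

namespace M24

variable {G : Type*} [Group G] [Finite G] {D : Set G} (H : Hyp G D)

include H

omit [Finite G] in
/-- Members are not in the kernel of the sign, and an element is even or becomes even times a member. -/
theorem exists_sign_commutator [Finite G] : ∃ χ : G →* ℤˣ, χ.ker = commutator G ∧ ∀ d ∈ D, χ d = -1 := by
  obtain ⟨χ, hχ⟩ := Transpositions.TypeM24.exists_sign H
  obtain ⟨d, hd, -⟩ := H.prim.2.1
  refine ⟨χ, le_antisymm (fun g hg => ?_) (Abelianization.commutator_subset_ker χ), hχ⟩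
  let q : G →* Abelianization G := Abelianization.of
  have hqD : ∀ x ∈ D, q x = q d := fun x hx => by
    obtain ⟨u, rfl⟩ := H.prim.1 d hd x hx
    rw [map_mul, map_mul, map_inv, mul_comm (q u), mul_inv_cancel_right]
  have hqd : q d * q d = 1 := by rw [← map_mul, mul_self H.group.1 hd, map_one]
  have hall : ∀ y : G, q y = 1 ∨ (q y = q d ∧ χ y = -1) := by
    intro y
    have key : ∀ y ∈ Subgroup.closure D, (q y = 1 ∧ χ y = 1) ∨ (q y = q d ∧ χ y = -1) := by
      intro y hy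
      induction hy using Subgroup.closure_induction with
      | mem x hx => exact Or.inr ⟨hqD x hx, hχ x hx⟩
      | one => exact Or.inl ⟨map_one q, map_one χ⟩
      | mul x y _ _ hx hy =>
        rcases hx with ⟨a1, a2⟩ | ⟨a1, a2⟩ <;> rcases hy with ⟨b1, b2⟩ | ⟨b1, b2⟩ <;>
          simp [map_mul, a1, a2, b1, b2, hqd]
      | inv x _ hx =>
        rcases hx with ⟨a1, a2⟩ | ⟨a1, a2⟩
        · exact Or.inl (by simp [a1, a2])
        · refine Or.inr ⟨?_, by simp [a2]⟩
          rw [map_inv, a1]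
          exact inv_eq_of_mul_eq_one_right hqd
    exact (key y (H.group.2.2 ▸ Subgroup.mem_top y)).imp And.left id
  rw [← Abelianization.ker_of, MonoidHom.mem_ker]
  refine (hall g).resolve_right fun h0 => ?_
  rw [MonoidHom.mem_ker, h0.2] at hg
  exact absurd hg (by decide)

variable {d₁ d₂ d₃ : G} (h₁ : d₁ ∈ D) (h12 : d₂ ∈ perp D d₁) (h13 : d₃ ∈ perp D d₁) (h23 : d₃ ∈ perp D d₂)

include h₁ h12 h13 h23

/-- Centralizing `d₁d₂` and `d₁d₃` means centralizing the three members. -/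
theorem mem_centralizer_pairs {g : G} :
    g ∈ Subgroup.centralizer (Subgroup.closure ({d₁ * d₂, d₁ * d₃} : Set G) : Set G) ↔
      Commute g d₁ ∧ Commute g d₂ ∧ Commute g d₃ := by
  have h := H.group
  have hpu := pairUnique h.1 (noTwins_of_primitive h H.type.1 H.prim)
  constructor
  · intro hg
    have key : ∀ {u : G}, u ∈ perp D d₁ → d₁ * u ∈ ({d₁ * d₂, d₁ * d₃} : Set G) →
        (g * d₁ * g⁻¹ = d₁ ∧ g * u * g⁻¹ = u) ∨ (g * d₁ * g⁻¹ = u ∧ g * u * g⁻¹ = d₁) := by
      intro u hu hmem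
      have hc : g * (d₁ * u) * g⁻¹ = d₁ * u := mul_inv_eq_iff_eq_mul.2
        (mem_centralizer_iff.1 hg _ (Subgroup.subset_closure hmem)).symm
      rw [show g * (d₁ * u) * g⁻¹ = g * d₁ * g⁻¹ * (g * u * g⁻¹) by group] at hc
      exact hpu _ (h.2.1 g d₁ h₁) _ (h.2.1 g u hu.1) _ h₁ _ hu.1
        (fun he => hu.2.1 (mul_left_cancel (mul_right_cancel he)).symm)
        ((commute_conj_iff' g d₁ u).2 hu.2.2) hu.2.1.symm hu.2.2 hc
    rcases key h12 (by simp) with ⟨a1, a2⟩ | ⟨a1, a2⟩ <;> rcases key h13 (by simp) with ⟨b1, b2⟩ | ⟨b1, b2⟩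
    · exact ⟨mul_inv_eq_iff_eq_mul.1 a1, mul_inv_eq_iff_eq_mul.1 a2, mul_inv_eq_iff_eq_mul.1 b2⟩
    · exact absurd (a1.symm.trans b1).symm h13.2.1
    · exact absurd (a1.symm.trans b1) h12.2.1
    · exact absurd (a1.symm.trans b1).symm h23.2.1
  · rintro ⟨a, b, c⟩
    have hle : Subgroup.closure ({d₁ * d₂, d₁ * d₃} : Set G) ≤ Subgroup.centralizer ({g} : Set G) := by
      rw [Subgroup.closure_le]
      rintro w (rfl | rfl) <;> rw [SetLike.mem_coe, Subgroup.mem_centralizer_singleton_iff]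
      exacts [(a.mul_right b).symm.eq, (a.mul_right c).symm.eq]
    exact mem_centralizer_iff.2 fun w hw => Subgroup.mem_centralizer_singleton_iff.1 (hle hw)

/-- The even part of the centralizer of three commuting members is quasisimple of type `2².PSU(6,2)`. -/
theorem triple_core (L E K : Subgroup G) (hL : L = commutator G)
    (hE : E = Subgroup.closure ({d₁ * d₂, d₁ * d₃} : Set G)) (hK : K = L ⊓ Subgroup.centralizer (E : Set G)) :
    Cfsg.IsQuasisimple ↥K ∧ (Subgroup.center ↥K).map K.subtype = E ∧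
      ∃ (F : Type) (_ : Field F) (_ : Fintype F), Fintype.card F = 4 ∧
        Nonempty (↥K ⧸ Subgroup.center ↥K ≃* Cfsg.PSU 6 F 2) := by
  classical
  have h := H.group
  obtain ⟨χ, hker, hχ⟩ := exists_sign_commutator H
  have hLχ : ∀ {g : G}, g ∈ L ↔ χ g = 1 := fun {g} => by rw [hL, ← hker, MonoidHom.mem_ker]
  have hKmem : ∀ {g : G}, g ∈ K ↔ g ∈ L ∧ Commute g d₁ ∧ Commute g d₂ ∧ Commute g d₃ := fun {g} => by
    rw [hK, hE, Subgroup.mem_inf, mem_centralizer_pairs H h₁ h12 h13 h23]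
  set Hd := Subgroup.closure (perp D d₁) with hHd
  have hKH : K ≤ Hd := fun k hk => by
    rw [hHd, ← centralizer_eq h H h₁, Subgroup.mem_centralizer_singleton_iff]
    exact (hKmem.1 hk).2.1.eq
  have hQ := quot H h₁
  have hb2 := bar_mem H h₁ h12
  have hb3 : bar h13 ∈ perp (img D d₁) (bar h12) := (mem_perp_bar H h₁ h12 h13).2 h23
  set b2 := bar h12 with hb2d
  set b3 := bar h13 with hb3d
  set K' := Subgroup.centralizer ({b2, b3} : Set (PerpQuot D d₁)) with hK'
  set C' := Subgroup.centralizer ({b2 * b3} : Set (PerpQuot D d₁)) with hC'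
  set V' := Subgroup.closure ({b2, b3} : Set (PerpQuot D d₁)) with hV'
  have hVn : (V'.subgroupOf C').Normal := by
    have hpu := pairUnique hQ.group.1 (noTwins_of_primitive hQ.group hQ.type.1 hQ.prim)
    refine ⟨fun v hv g => ?_⟩
    rw [mem_subgroupOf] at hv ⊢
    have hle : V'.map (MulAut.conj (g : PerpQuot D d₁)).toMonoidHom ≤ V' := by
      rw [hV', MonoidHom.map_closure, Subgroup.closure_le]
      have hg : (g : PerpQuot D d₁) * (b2 * b3) * (g : PerpQuot D d₁)⁻¹ = b2 * b3 :=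
        mul_inv_eq_iff_eq_mul.2 (Subgroup.mem_centralizer_singleton_iff.1 g.2)
      rw [show (g : PerpQuot D d₁) * (b2 * b3) * (g : PerpQuot D d₁)⁻¹ =
        (g * b2 * (g : PerpQuot D d₁)⁻¹) * (g * b3 * (g : PerpQuot D d₁)⁻¹) by group] at hg
      have hc := hpu _ (hQ.group.2.1 g _ hb2) _ (hQ.group.2.1 g _ hb3.1) _ hb2 _ hb3.1
        (fun he => hb3.2.1 (mul_left_cancel (mul_right_cancel he)).symm)
        ((commute_conj_iff' _ _ _).2 hb3.2.2) hb3.2.1.symm hb3.2.2 hg
      rintro w ⟨x, hx, rfl⟩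
      rcases hx with rfl | rfl <;> rcases hc with ⟨e1, e2⟩ | ⟨e1, e2⟩ <;>
        simp only [MulEquiv.coe_toMonoidHom, MulAut.conj_apply, SetLike.mem_coe] <;>
        first
          | (rw [e1]; exact Subgroup.subset_closure (by simp))
          | (rw [e2]; exact Subgroup.subset_closure (by simp))
    exact hle ⟨v, hv, rfl⟩
  obtain ⟨-, -, hcen', hqs', ⟨F, hF, hFf, hF4, ⟨ePSU⟩⟩, -⟩ :=
    M23.pair_centralizer hQ hb2 hb3 K' C' V' rfl rfl rfl
  let f₀ : ↥K →* PerpQuot D d₁ := (QuotientGroup.mk' (Subgroup.center ↥Hd)).comp (Subgroup.inclusion hKH)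
  have hf₀ : ∀ k, f₀ k ∈ K' := fun k => by
    rw [hK', Subgroup.mem_centralizer_iff]
    obtain ⟨-, -, k2, k3⟩ := hKmem.1 k.2
    rintro w (rfl | rfl)
    · exact ((show Commute ⟨d₂, mem_perp_closure h12⟩ (Subgroup.inclusion hKH k) from
        Subtype.ext k2.symm.eq).map (QuotientGroup.mk' (Subgroup.center ↥Hd))).eq
    · exact ((show Commute ⟨d₃, mem_perp_closure h13⟩ (Subgroup.inclusion hKH k) from
        Subtype.ext k3.symm.eq).map (QuotientGroup.mk' (Subgroup.center ↥Hd))).eq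
  let f : ↥K →* ↥K' := f₀.codRestrict K' hf₀
  have hd1H : d₁ ∈ Hd := mem_closure_perp_self H h₁
  have hd1c : (⟨d₁, hd1H⟩ : ↥Hd) ∈ Subgroup.center ↥Hd :=
    mem_center_closure_iff.2 fun y hy => hy.2.2
  have hinj : Function.Injective f := by
    rw [← MonoidHom.ker_eq_bot_iff, Subgroup.eq_bot_iff_forall]
    intro k hk
    have hk0 : f₀ k = 1 := congrArg Subtype.val (MonoidHom.mem_ker.1 hk)
    refine Subtype.ext ((eq_one_or_eq_of_centralize H h₁ (hKmem.1 k.2).2.1
      (mem_center_closure_iff.1 ((QuotientGroup.eq_one_iff _).1 hk0))).resolve_right fun he => ?_)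
    have := hLχ.1 (hKmem.1 k.2).1
    rw [he, hχ d₁ h₁] at this
    exact absurd this (by decide)
  have hsurj : Function.Surjective f := by
    rintro ⟨q, hq⟩
    obtain ⟨⟨w, hw⟩, rfl⟩ := QuotientGroup.mk_surjective q
    rw [hK', Subgroup.mem_centralizer_iff] at hq
    have hwd : Commute w d₁ := Subgroup.mem_centralizer_singleton_iff.1 (closure_le_centralizer d₁ hw)
    have hfix : ∀ {u : G} (hu : u ∈ perp D d₁), bar hu ∈ ({b2, b3} : Set (PerpQuot D d₁)) → Commute w u := by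
      intro u hu hmem
      refine mul_inv_eq_iff_eq_mul.1 (bar_inj H h₁ (conj_mem_perp h hwd hu) hu ?_)
      show (QuotientGroup.mk (⟨w, hw⟩ : ↥Hd) : PerpQuot D d₁) * bar hu *
        (QuotientGroup.mk (⟨w, hw⟩ : ↥Hd) : PerpQuot D d₁)⁻¹ = bar hu
      exact mul_inv_eq_iff_eq_mul.2 (hq _ hmem).symm
    have w2 := hfix h12 (by simp [hb2d])
    have w3 := hfix h13 (by simp [hb3d])
    rcases Int.units_eq_one_or (χ w) with hs | hs
    · exact ⟨⟨w, hKmem.2 ⟨hLχ.2 hs, hwd, w2, w3⟩⟩, Subtype.ext rfl⟩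
    · refine ⟨⟨w * d₁, hKmem.2 ⟨hLχ.2 (by rw [map_mul, hs, hχ d₁ h₁]; decide),
        hwd.mul_left (Commute.refl _), w2.mul_left h12.2.2, w3.mul_left h13.2.2⟩⟩, Subtype.ext ?_⟩
      show (QuotientGroup.mk ((⟨w, hw⟩ : ↥Hd) * ⟨d₁, hd1H⟩) : PerpQuot D d₁) = QuotientGroup.mk ⟨w, hw⟩
      rw [QuotientGroup.mk_mul, (QuotientGroup.eq_one_iff _).2 hd1c, mul_one]
  let e : ↥K ≃* ↥K' := MulEquiv.ofBijective f ⟨hinj, hsurj⟩
  have hqs : Cfsg.IsQuasisimple ↥K := Components.isQuasisimple_congr e.symm hqs'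
  have hmapc : (Subgroup.center ↥K).map e.toMonoidHom = Subgroup.center ↥K' := by
    ext z
    obtain ⟨z, rfl⟩ := e.surjective z
    rw [Subgroup.mem_center_iff, Subgroup.mem_map_equiv]
    simp only [MulEquiv.symm_apply_apply, Subgroup.mem_center_iff]
    exact ⟨fun hz w => by rw [← e.apply_symm_apply w, ← map_mul, ← map_mul, hz],
      fun hz w => e.injective (by rw [map_mul, map_mul, hz])⟩
  -- the generators of `E`
  have e2K : d₁ * d₂ ∈ K := hKmem.2 ⟨hLχ.2 (by rw [map_mul, hχ d₁ h₁, hχ d₂ h12.1]; decide),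
    (Commute.refl d₁).mul_left h12.2.2.symm, h12.2.2.mul_left (Commute.refl d₂),
    h13.2.2.mul_left h23.2.2⟩
  have e3K : d₁ * d₃ ∈ K := hKmem.2 ⟨hLχ.2 (by rw [map_mul, hχ d₁ h₁, hχ d₃ h13.1]; decide),
    (Commute.refl d₁).mul_left h13.2.2.symm, h12.2.2.mul_left h23.2.2.symm,
    h13.2.2.mul_left (Commute.refl d₃)⟩
  have himg : ∀ {u : G} (hu : u ∈ perp D d₁) (hm : d₁ * u ∈ K), ((f ⟨d₁ * u, hm⟩ : ↥K') : PerpQuot D d₁) = bar hu := by
    intro u hu hm
    show (QuotientGroup.mk ((⟨d₁, hd1H⟩ : ↥Hd) * ⟨u, mem_perp_closure hu⟩) : PerpQuot D d₁) = bar hu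
    rw [QuotientGroup.mk_mul, (QuotientGroup.eq_one_iff _).2 hd1c, one_mul]
  have hEK : E ≤ K := by
    rw [hE, Subgroup.closure_le]
    rintro w (rfl | rfl)
    exacts [e2K, e3K]
  have hV'mem : ∀ z : ↥K, z ∈ Subgroup.center ↥K ↔ ((f z : ↥K') : PerpQuot D d₁) ∈ V' := by
    intro z
    rw [← hcen']
    constructor
    · intro hz
      exact ⟨f z, hmapc ▸ Subgroup.mem_map_of_mem e.toMonoidHom hz, rfl⟩
    · rintro ⟨w, hw, hwz⟩
      rw [← hmapc] at hw
      obtain ⟨z', hz', rfl⟩ := hw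
      rwa [← hinj (Subtype.ext hwz)]
  have hcenter : (Subgroup.center ↥K).map K.subtype = E := by
    refine le_antisymm ?_ ?_
    · rintro w ⟨z, hz, rfl⟩
      have hz' := (hV'mem z).1 hz
      have hle : V' ≤ ((E.subgroupOf K).map f).map K'.subtype := by
        rw [hV', Subgroup.closure_le]
        rintro w (rfl | rfl)
        · exact ⟨f ⟨_, e2K⟩, ⟨⟨_, e2K⟩, Subgroup.mem_subgroupOf.2 (hE ▸ Subgroup.subset_closure (by simp)), rfl⟩,
            himg h12 e2K⟩
        · exact ⟨f ⟨_, e3K⟩, ⟨⟨_, e3K⟩, Subgroup.mem_subgroupOf.2 (hE ▸ Subgroup.subset_closure (by simp)), rfl⟩,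
            himg h13 e3K⟩
      obtain ⟨v, ⟨z', hz'E, rfl⟩, hv⟩ := hle hz'
      rw [← hinj (Subtype.ext hv : f z' = f z)]
      exact hz'E
    · rw [hE, Subgroup.closure_le]
      rintro w (rfl | rfl)
      · exact ⟨⟨_, e2K⟩, (hV'mem _).2 (by rw [himg h12 e2K]; exact Subgroup.subset_closure (by simp [hb2d])), rfl⟩
      · exact ⟨⟨_, e3K⟩, (hV'mem _).2 (by rw [himg h13 e3K]; exact Subgroup.subset_closure (by simp [hb3d])), rfl⟩
  refine ⟨hqs, hcenter, F, hF, hFf, hF4, ⟨?_⟩⟩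
  exact (QuotientGroup.congr (Subgroup.center ↥K) (Subgroup.center ↥K') e hmapc).trans ePSU

/-- The members of a triple are permuted by the centralizer of their product, as the symmetric group. -/
theorem triple_perm (L E K CL : Subgroup G) (hL : L = commutator G)
    (hE : E = Subgroup.closure ({d₁ * d₂, d₁ * d₃} : Set G)) (hK : K = L ⊓ Subgroup.centralizer (E : Set G))
    (hCL : CL = L ⊓ Subgroup.centralizer ({d₁ * d₂ * d₃} : Set G)) :
    K ≤ CL ∧ ∃ σ : ↥CL →* Equiv.Perm (Fin 3), Function.Surjective σ ∧ σ.ker = K.subgroupOf CL := by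
  classical
  have h := H.group
  obtain ⟨χ, hker, hχ⟩ := exists_sign_commutator H
  have hLχ : ∀ {g : G}, g ∈ L ↔ χ g = 1 := fun {g} => by rw [hL, ← hker, MonoidHom.mem_ker]
  have hKmem : ∀ {g : G}, g ∈ K ↔ g ∈ L ∧ Commute g d₁ ∧ Commute g d₂ ∧ Commute g d₃ := fun {g} => by
    rw [hK, hE, Subgroup.mem_inf, mem_centralizer_pairs H h₁ h12 h13 h23]
  have hKCL : K ≤ CL := fun k hk => by
    obtain ⟨a, b, c, e⟩ := hKmem.1 hk
    rw [hCL, Subgroup.mem_inf, Subgroup.mem_centralizer_singleton_iff]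
    exact ⟨a, ((b.mul_right c).mul_right e).eq⟩
  refine ⟨hKCL, ?_⟩
  let v : Fin 3 → G := ![d₁, d₂, d₃]
  have hv : Function.Injective v := by
    intro i k hik
    fin_cases i <;> fin_cases k <;> simp [v] at hik ⊢
    exacts [h12.2.1 hik.symm, h13.2.1 hik.symm, h12.2.1 hik, h23.2.1 hik.symm, h13.2.1 hik, h23.2.1 hik]
  have hvD : ∀ i, v i ∈ D := fun i => by fin_cases i; exacts [h₁, h12.1, h13.1]
  have hvc : ∀ i k, Commute (v i) (v k) := fun i k => by
    fin_cases i <;> fin_cases k <;> simp [v] <;>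
      first
        | exact Commute.refl _
        | exact h12.2.2
        | exact h12.2.2.symm
        | exact h13.2.2
        | exact h13.2.2.symm
        | exact h23.2.2
        | exact h23.2.2.symm
  have hpu := pairUnique h.1 (noTwins_of_primitive h H.type.1 H.prim)
  have h6 := noRel_six_of_M24 psu62Facts h H.prim H.type
  have hperm : ∀ g : ↥CL, ∀ i, ∃ k, (g : G) * v i * (g : G)⁻¹ = v k := by
    intro g i
    have hg : (g : G) * (d₁ * d₂ * d₃) * (g : G)⁻¹ = d₁ * d₂ * d₃ := by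
      have := g.2
      simp only [hCL, Subgroup.mem_inf, Subgroup.mem_centralizer_singleton_iff] at this
      exact mul_inv_eq_iff_eq_mul.2 this.2
    rw [show (g : G) * (d₁ * d₂ * d₃) * (g : G)⁻¹ =
      g * d₁ * (g : G)⁻¹ * (g * d₂ * (g : G)⁻¹) * (g * d₃ * (g : G)⁻¹) by group] at hg
    have hne : ∀ {x y : G}, x ≠ y → (g : G) * x * (g : G)⁻¹ ≠ g * y * (g : G)⁻¹ := fun hxy he =>
      hxy (mul_left_cancel (mul_right_cancel he))
    have hmem := (triple_unique h.1 hpu h6 (a := (g : G) * d₁ * (g : G)⁻¹) (b := (g : G) * d₂ * (g : G)⁻¹)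
      (c := (g : G) * d₃ * (g : G)⁻¹) (a' := d₁) (b' := d₂) (c' := d₃)
      (by
        intro x hx
        simp only [List.mem_cons, List.not_mem_nil, or_false] at hx
        rcases hx with rfl | rfl | rfl | rfl | rfl | rfl
        exacts [h.2.1 _ _ h₁, h.2.1 _ _ h12.1, h.2.1 _ _ h13.1, h₁, h12.1, h13.1])
      (hne h12.2.1.symm) (hne h13.2.1.symm) (hne h23.2.1.symm)
      ((commute_conj_iff' _ _ _).2 h12.2.2) ((commute_conj_iff' _ _ _).2 h13.2.2)
      ((commute_conj_iff' _ _ _).2 h23.2.2) h12.2.1.symm h13.2.1.symm h23.2.1.symm h12.2.2 h13.2.2 h23.2.2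
      hg ((g : G) * v i * (g : G)⁻¹)).1 (by fin_cases i <;> simp [v])
    simp only [List.mem_cons, List.not_mem_nil, or_false] at hmem
    rcases hmem with he | he | he
    exacts [⟨0, he⟩, ⟨1, he⟩, ⟨2, he⟩]
  choose s hs using hperm
  have hs1 : ∀ i, s 1 i = i := fun i => hv (by rw [← hs]; simp)
  have hsm : ∀ a b i, s (a * b) i = s a (s b i) := fun a b i => hv (by
    rw [← hs, ← hs, ← hs, Subgroup.coe_mul]; group)
  let σ : ↥CL →* Equiv.Perm (Fin 3) := MonoidHom.mk'
    (fun g =>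
      { toFun := s g
        invFun := s g⁻¹
        left_inv := fun i => by rw [← hsm, inv_mul_cancel, hs1]
        right_inv := fun i => by rw [← hsm, mul_inv_cancel, hs1] })
    (fun a b => Equiv.ext fun i => hsm a b i)
  refine ⟨σ, ?_, ?_⟩
  · intro π
    obtain ⟨p, hp⟩ : ∃ p, p ∈ perp (img D d₁) (bar h12) ∩ perp (img D d₁) (bar h13) := by
      refine Set.nonempty_of_ncard_ne_zero ?_
      rw [M23.ncard_perp_perp (quot H h₁) (bar_mem H h₁ h12) ((mem_perp_bar H h₁ h12 h13).2 h23)]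
      norm_num
    obtain ⟨w, hw, rfl⟩ := M23.exists_lift hp.1.1
    have hw2 := (mem_perp_bar H h₁ h12 hw).1 hp.1
    have hw3 := (mem_perp_bar H h₁ h13 hw).1 hp.2
    have hwv : ∀ i, w ∈ perp D (v i) := fun i => by fin_cases i; exacts [hw, hw2, hw3]
    have hvp : ∀ i k, i ≠ k → v k ∈ perp D (v i) := fun i k hne =>
      ⟨hvD k, fun he => hne (hv he).symm, hvc i k⟩
    have hne01 : π 0 ≠ π 1 := fun he => absurd (π.injective he) (by decide)
    have hne02 : π 0 ≠ π 2 := fun he => absurd (π.injective he) (by decide)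
    have hne12 : π 1 ≠ π 2 := fun he => absurd (π.injective he) (by decide)
    obtain ⟨g, g0, g1, g2, -⟩ := exists_conj_quad H h₁ h12 h13 hw h23 hw2 hw3 (hvD (π 0))
      (hvp _ _ hne01) (hvp _ _ hne02) (hwv (π 0)) (hvp _ _ hne12) (hwv (π 1)) (hwv (π 2))
    -- adjust the sign by the first member
    obtain ⟨g', hg'L, hg'⟩ : ∃ g' ∈ L, ∀ i, g' * v i * g'⁻¹ = v (π i) := by
      have hgv : ∀ i, g * v i * g⁻¹ = v (π i) := fun i => by fin_cases i; exacts [g0, g1, g2]
      rcases Int.units_eq_one_or (χ g) with hsg | hsg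
      · exact ⟨g, hLχ.2 hsg, hgv⟩
      · refine ⟨g * d₁, hLχ.2 (by rw [map_mul, hsg, hχ d₁ h₁]; decide), fun i => ?_⟩
        rw [← hgv i]
        calc g * d₁ * v i * (g * d₁)⁻¹ = g * (d₁ * v i * d₁⁻¹) * g⁻¹ := by group
          _ = g * v i * g⁻¹ := by rw [show d₁ * v i = v i * d₁ from (hvc 0 i).eq, mul_inv_cancel_right]
    have hz : g' ∈ CL := by
      rw [hCL, Subgroup.mem_inf, Subgroup.mem_centralizer_singleton_iff]
      refine ⟨hg'L, mul_inv_eq_iff_eq_mul.1 ?_⟩
      have e : g' * (v 0 * v 1 * v 2) * g'⁻¹ = v (π 0) * v (π 1) * v (π 2) := by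
        rw [← hg', ← hg', ← hg']; group
      refine e.trans ?_
      show v (π 0) * v (π 1) * v (π 2) = v 0 * v 1 * v 2
      have c01 := (hvc 0 1).eq
      have c02 := (hvc 0 2).eq
      have c12 := (hvc 1 2).eq
      rcases perm_three_cases π with ⟨e0, e1, e2⟩ | ⟨e0, e1, e2⟩ | ⟨e0, e1, e2⟩ | ⟨e0, e1, e2⟩ | ⟨e0, e1, e2⟩ |
          ⟨e0, e1, e2⟩ <;> rw [e0, e1, e2]
      · rw [mul_assoc, ← c12, ← mul_assoc]
      · rw [← c01]
      · rw [((hvc 1 0).mul_left (hvc 2 0)).eq, ← mul_assoc]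
      · rw [mul_assoc, ((hvc 0 2).mul_left (hvc 1 2)).eq]
      · rw [mul_assoc, ← c01, ← ((hvc 0 2).mul_left (hvc 1 2)).eq]
    refine ⟨⟨g', hz⟩, Equiv.ext fun i => hv ?_⟩
    exact (hs ⟨g', hz⟩ i).symm.trans (hg' i)
  · ext g
    rw [MonoidHom.mem_ker, Subgroup.mem_subgroupOf]
    constructor
    · intro hg
      have hc : ∀ i, Commute (g : G) (v i) := fun i => by
        have h1 := hs g i
        rw [show s g i = i from Equiv.congr_fun hg i] at h1
        exact mul_inv_eq_iff_eq_mul.1 h1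
      refine hKmem.2 ⟨?_, hc 0, hc 1, hc 2⟩
      have hgC := g.2
      simp only [hCL, Subgroup.mem_inf] at hgC
      exact hgC.1
    · intro hg
      obtain ⟨-, a, b, c⟩ := hKmem.1 hg
      refine Equiv.ext fun i => hv ?_
      have h1 : (g : G) * v i * (g : G)⁻¹ = v i := by
        fin_cases i
        exacts [mul_inv_eq_iff_eq_mul.2 a.eq, mul_inv_eq_iff_eq_mul.2 b.eq, mul_inv_eq_iff_eq_mul.2 c.eq]
      exact (hs g i).symm.trans h1

end M24

end CfsgLib.FischerTypes
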