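import Cfsg.Agent.FischerTypes.M22Thirteen
import Cfsg.Agent.FischerTypes.M23Thirteen
import Cfsg.Agent.FischerTypes.M24PairNormalizer
import Cfsg.Agent.FischerTypes.M24PrimeLocal

/-!
# Subgroups of order thirteen in type M(24)

An element of order thirteen centralizing four members `a, b, c, d` generating the product of two
symmetric groups of degree three fixes exactly the six members of that product; so its normalizer
normalizes the centralizer of the four members.
-/

set_option autoImplicit false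
set_option linter.style.haveILetI false
set_option maxHeartbeats 1000000

namespace CfsgLib.FischerTypes

open Cfsg

namespace M24

variable {G : Type*} [Group G] [Finite G] {D : Set G} (H : Hyp G D)

include H

/-- The data at a fixed member: three fixed neighbours. -/
theorem thirteen_at {x a : G} (hx : orderOf x = 13) (ha : a ∈ D) (hax : Commute a x) :
    Nat.card ↥(Subgroup.centralizer ({x, a} : Set G)) = 156 ∧
      {z : G | z ∈ perp D a ∧ Commute z x}.ncard = 3 := by
  have : Fact (Nat.Prime 13) := ⟨by norm_num⟩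
  set xa : ↥(Subgroup.centralizer ({a} : Set G)) := ⟨x, Subgroup.mem_centralizer_singleton_iff.2 hax.symm.eq⟩
  have HQ := quot H ha
  have hxo : orderOf (proj H ha xa) = 13 := orderOf_proj H ha hx (by norm_num)
  have hQ : ∀ e ∈ img D a, ∀ y : PerpQuot (img D a) e, orderOf y = 13 →
      Nat.card ↥(Subgroup.centralizer ({y} : Set (PerpQuot (img D a) e))) = 13 :=
    fun e he y hy => Thirteen.card_centralizer_thirteen
      (M23.quotGroup HQ.group e) (M23.quotPrim HQ he) (M23.quot22 HQ he) hy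
  obtain ⟨b, c, hb, hc, hbc, hbx, hcx, hall, -, h78⟩ := M23.thirteen_data HQ hQ hxo
  refine ⟨by rw [card_centralizer_pair_eq (p := 13) H ha (x := xa) hx (by norm_num), h78], ?_⟩
  rw [ncard_fixed_perp H ha xa]
  have hbcb : b * c * b ∈ img D a := by
    have := HQ.group.2.1 b c hc
    rwa [inv_eq HQ.group.1 hb] at this
  have hset : {q : PerpQuot D a | q ∈ img D a ∧ Commute q (proj H ha xa)} = {b, c, b * c * b} := by
    ext q
    simp only [Set.mem_setOf_eq, Set.mem_insert_iff, Set.mem_singleton_iff]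
    refine ⟨fun hq => hall q hq.1 hq.2, ?_⟩
    rintro (rfl | rfl | rfl)
    exacts [⟨hb, hbx⟩, ⟨hc, hcx⟩, ⟨hbcb, (hbx.mul_left hcx).mul_left hbx⟩]
  rw [hset]
  have n1 : b ≠ c := fun h0 => hbc (h0 ▸ Commute.refl b)
  have n2 : b ≠ b * c * b := fun h0 => n1 (by
    calc b = b * b * b := by rw [mul_self HQ.group.1 hb, one_mul]
      _ = b * (b * c * b) * b := by rw [← h0]
      _ = b * b * c * (b * b) := by group
      _ = c := by rw [mul_self HQ.group.1 hb, one_mul, mul_one])
  have n3 : c ≠ b * c * b := fun h0 => hbc (by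
    calc b * c = b * (b * c * b) := by rw [← h0]
      _ = b * b * c * b := by group
      _ = c * b := by rw [mul_self HQ.group.1 hb, one_mul])
  exact Set.ncard_eq_three.2 ⟨b, c, b * c * b, n1, n2, n3, rfl⟩

end M24

/-- A line: three members pairwise not commuting, the third the conjugate of one by another. -/
theorem line_props {G : Type*} [Group G] {D : Set G} (h : IsThreeTranspositionGroup D) {a d : G} (ha : a ∈ D)
    (hd : d ∈ D) (hnc : ¬ Commute a d) :
    a * d * a ∈ D ∧ ({a, d, a * d * a} : Set G).ncard = 3 ∧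
      ∀ u ∈ ({a, d, a * d * a} : Set G), ∀ v ∈ ({a, d, a * d * a} : Set G), u ≠ v → ¬ Commute u v := by
  have haa := mul_self h.1 ha
  have he : a * d * a ∈ D := by
    have := h.2.1 a d hd
    rwa [inv_eq h.1 ha] at this
  have n1 : a ≠ d := fun h0 => hnc (h0 ▸ Commute.refl a)
  have hae : ¬ Commute a (a * d * a) := fun hc => hnc (by
    have h1 : a * (a * d * a) = a * d * a * a := hc.eq
    calc a * d = a * d * a * a := by rw [mul_assoc _ a a, haa, mul_one]
      _ = a * (a * d * a) := h1.symm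
      _ = a * a * d * a := by group
      _ = d * a := by rw [haa, one_mul])
  have hde : ¬ Commute d (a * d * a) := fun hc => hnc (by
    rw [braid h.1 ha hd hnc] at hc
    have hdd := mul_self h.1 hd
    have h1 : d * (d * a * d) = d * a * d * d := hc.eq
    calc a * d = d * d * a * d := by rw [hdd, one_mul]
      _ = d * (d * a * d) := by group
      _ = d * a * d * d := h1
      _ = d * a := by rw [mul_assoc _ d d, hdd, mul_one])
  refine ⟨he, Set.ncard_eq_three.2 ⟨a, d, a * d * a, n1, fun h0 => hae (h0 ▸ Commute.refl a),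
    fun h0 => hde (h0 ▸ Commute.refl d), rfl⟩, ?_⟩
  simp only [Set.mem_insert_iff, Set.mem_singleton_iff]
  rintro u (rfl | rfl | rfl) v (rfl | rfl | rfl) hne hcomm
  all_goals first
    | exact hne rfl
    | exact hnc hcomm
    | exact hnc hcomm.symm
    | exact hae hcomm
    | exact hae hcomm.symm
    | exact hde hcomm
    | exact hde hcomm.symm

namespace M24

variable {G : Type*} [Group G] [Finite G] {D : Set G} (H : Hyp G D)

include H

/-- The normalizer of a subgroup of order thirteen centralizing four members in the pattern of two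
lines, given the order of the centralizer of the four. -/
theorem thirteen_four {a b c d : G} (ha : a ∈ D) (hb : b ∈ D) (hc : c ∈ D) (hd : d ∈ D)
    (hnad : ¬ Commute a d) (hnbc : ¬ Commute b c) (hab : Commute a b) (hac : Commute a c) (hdb : Commute d b)
    (hdc : Commute d c) (T K : Subgroup G) (hT : T = Subgroup.closure ({a, b, c, d} : Set G))
    (hK : K = Subgroup.centralizer (T : Set G)) (hKcard : Nat.card ↥K = 4245696)
    (B : Subgroup G) (hB : B ≤ K) (hBcard : Nat.card B = 13) :
    Subgroup.normalizer ((B : Subgroup G) : Set G) ≤ Subgroup.normalizer ((K : Subgroup G) : Set G) ∧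
      Nat.card ↥(K ⊓ Subgroup.normalizer ((B : Subgroup G) : Set G)) = 78 ∧
      K ⊓ Subgroup.centralizer ((B : Subgroup G) : Set G) = B ∧
      (((K ⊓ Subgroup.normalizer ((B : Subgroup G) : Set G)) ⊔ T).subgroupOf
        (Subgroup.normalizer ((B : Subgroup G) : Set G))).index = 2 := by
  classical
  have : Fact (Nat.Prime 13) := ⟨by norm_num⟩
  have h := H.group
  obtain ⟨⟨x, hxB⟩, hxo⟩ := exists_prime_orderOf_dvd_card' (G := ↥B) 13 (dvd_of_eq hBcard.symm)
  have hx : orderOf x = 13 := by rw [← hxo, ← Subgroup.orderOf_coe]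
  obtain rfl : B = Subgroup.zpowers x := (Subgroup.eq_of_le_of_card_ge (Subgroup.zpowers_le.2 hxB)
    (by rw [Nat.card_zpowers, hx, hBcard])).symm
  rw [Subgroup.zpowers_le] at hB
  have hTx : T ≤ Subgroup.centralizer ({x} : Set G) := by
    intro t ht
    rw [hK] at hB
    exact Subgroup.mem_centralizer_singleton_iff.2 ((Subgroup.mem_centralizer_iff.1 hB) t ht)
  have hmem : ∀ z ∈ ({a, b, c, d} : Set G), z ∈ T := fun z hz => hT ▸ Subgroup.subset_closure hz
  have haT : a ∈ T := hmem a (by simp)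
  have hbT : b ∈ T := hmem b (by simp)
  have hcT : c ∈ T := hmem c (by simp)
  have hdT : d ∈ T := hmem d (by simp)
  have hfix : ∀ {z : G}, z ∈ T → Commute z x := fun hz => Subgroup.mem_centralizer_singleton_iff.1 (hTx hz)
  obtain ⟨he, hL2, hL2nc⟩ := line_props h ha hd hnad
  obtain ⟨hf, hL1, hL1nc⟩ := line_props h hb hc hnbc
  set L2 : Set G := {a, d, a * d * a} with hL2d
  set L1 : Set G := {b, c, b * c * b} with hL1d
  have hcomm : ∀ u ∈ L2, ∀ v ∈ L1, Commute u v := by
    rintro u (rfl | rfl | rfl) v (rfl | rfl | rfl)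
    exacts [hab, hac, (hab.mul_right hac).mul_right hab, hdb, hdc, (hdb.mul_right hdc).mul_right hdb,
      (hab.mul_left hdb).mul_left hab, (hac.mul_left hdc).mul_left hac,
      (((hab.mul_left hdb).mul_left hab).mul_right ((hac.mul_left hdc).mul_left hac)).mul_right
        ((hab.mul_left hdb).mul_left hab)]
  have hne : ∀ u ∈ L2, ∀ v ∈ L1, v ≠ u := by
    intro u hu v hv hvu
    subst hvu
    obtain ⟨w, hw, hwv⟩ := Set.exists_ne_of_one_lt_ncard (s := L1) (by rw [hL1]; norm_num) v
    exact hL1nc v hv w hw hwv.symm (hcomm v hu w hw)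
  have hD2 : ∀ u ∈ L2, u ∈ D ∧ u ∈ T := by
    rintro u (rfl | rfl | rfl)
    exacts [⟨ha, haT⟩, ⟨hd, hdT⟩, ⟨he, mul_mem (mul_mem haT hdT) haT⟩]
  have hD1 : ∀ v ∈ L1, v ∈ D ∧ v ∈ T := by
    rintro v (rfl | rfl | rfl)
    exacts [⟨hb, hbT⟩, ⟨hc, hcT⟩, ⟨hf, mul_mem (mul_mem hbT hcT) hbT⟩]
  have hnb2 : ∀ u ∈ L2, {z : G | z ∈ perp D u ∧ Commute z x} = L1 := by
    intro u hu
    refine (Set.eq_of_subset_of_ncard_le (fun v hv => ?_) ?_ (Set.toFinite _)).symm
    · exact ⟨⟨(hD1 v hv).1, hne u hu v hv, hcomm u hu v hv⟩, hfix (hD1 v hv).2⟩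
    · rw [(thirteen_at H hx (hD2 u hu).1 (hfix (hD2 u hu).2)).2, hL1]
  have hnb1 : ∀ v ∈ L1, {z : G | z ∈ perp D v ∧ Commute z x} = L2 := by
    intro v hv
    refine (Set.eq_of_subset_of_ncard_le (fun u hu => ?_) ?_ (Set.toFinite _)).symm
    · exact ⟨⟨(hD2 u hu).1, (hne u hu v hv).symm, (hcomm u hu v hv).symm⟩, hfix (hD2 u hu).2⟩
    · rw [(thirteen_at H hx (hD1 v hv).1 (hfix (hD1 v hv).2)).2, hL2]
  have ha2 : a ∈ L2 := by simp [hL2d]
  have hd2 : d ∈ L2 := by simp [hL2d]
  have hb1 : b ∈ L1 := by simp [hL1d]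
  have hc1 : c ∈ L1 := by simp [hL1d]
  -- the fixed members
  have hall : ∀ z ∈ D, Commute z x → z ∈ L1 ∨ z ∈ L2 := by
    intro z hz hzx
    by_cases hza : z = a
    · exact Or.inr (hza ▸ ha2)
    by_cases hcz : Commute a z
    · exact Or.inl (hnb2 a ha2 ▸ (⟨⟨hz, hza, hcz⟩, hzx⟩ : z ∈ {w : G | w ∈ perp D a ∧ Commute w x}))
    right
    have h1 := ncard_fixed_common_mod H (p := 13) hx ha hz hcz (hfix haT) hzx
    have hsub : {w : G | w ∈ perp D a ∩ perp D z ∧ Commute w x} ⊆ L1 := fun w hw =>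
      hnb2 a ha2 ▸ (⟨hw.1.1, hw.2⟩ : w ∈ {w : G | w ∈ perp D a ∧ Commute w x})
    have h2 := Set.ncard_le_ncard hsub (Set.toFinite _)
    rw [hL1] at h2
    have heq := Set.eq_of_subset_of_ncard_le hsub (by rw [hL1]; omega) (Set.toFinite _)
    have hbz : b ∈ perp D z := ((heq.symm ▸ hb1 : b ∈ {w : G | w ∈ perp D a ∩ perp D z ∧ Commute w x})).1.2
    exact hnb1 b hb1 ▸ (⟨perp_symm hz hbz, hzx⟩ : z ∈ {w : G | w ∈ perp D b ∧ Commute w x})
  set X := Subgroup.zpowers x with hX
  set N := Subgroup.normalizer ((X : Subgroup G) : Set G) with hN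
  have hCX : Subgroup.centralizer ((X : Subgroup G) : Set G) = Subgroup.centralizer ({x} : Set G) := by
    rw [hX, Subgroup.zpowers_eq_closure, Subgroup.centralizer_closure]
  have hNK : N ≤ Subgroup.normalizer ((K : Subgroup G) : Set G) := by
    intro n hn
    have hnT : ∀ m ∈ N, ∀ t ∈ T, m * t * m⁻¹ ∈ T := by
      intro m hm t ht
      have hle : T ≤ T.comap (MulAut.conj m).toMonoidHom := by
        conv_lhs => rw [hT]
        rw [Subgroup.closure_le]
        intro z hz
        have hzD : z ∈ D := by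
          rcases hz with rfl | rfl | rfl | rfl
          exacts [ha, hb, hc, hd]
        obtain ⟨h1, h2⟩ := normalizer_conj_fixed h hm hzD (hfix (hmem z hz))
        show m * z * m⁻¹ ∈ T
        rcases hall _ h1 h2 with h3 | h3
        exacts [(hD1 _ h3).2, (hD2 _ h3).2]
      exact hle ht
    have hc' : ∀ m ∈ N, ∀ k ∈ K, m * k * m⁻¹ ∈ K := by
      intro m hm k hk
      rw [hK, Subgroup.mem_centralizer_iff] at hk ⊢
      intro t ht
      have h1 : (m⁻¹ * t * m⁻¹⁻¹) * k = k * (m⁻¹ * t * m⁻¹⁻¹) := hk _ (hnT m⁻¹ (inv_mem hm) t ht)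
      calc t * (m * k * m⁻¹) = m * (m⁻¹ * t * m⁻¹⁻¹ * k) * m⁻¹ := by group
        _ = m * k * m⁻¹ * t := by rw [h1]; group
    rw [Subgroup.mem_normalizer_iff]
    intro k
    refine ⟨hc' n hn k, fun hk => ?_⟩
    have := hc' n⁻¹ (inv_mem hn) _ hk
    rwa [show n⁻¹ * (n * k * n⁻¹) * n⁻¹⁻¹ = k by group] at this
  -- the two lines generate the direct product
  obtain ⟨pA, pA2, -, ⟨eA⟩, -⟩ := pair_normalizer h ha hd hnad
    (fun z hz hzinv => mem_line_of_invert H ha hd hnad hz hzinv)
  obtain ⟨-, -, -, ⟨eB⟩, -⟩ := pair_normalizer h hb hc hnbc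
    (fun z hz hzinv => mem_line_of_invert H hb hc hnbc hz hzinv)
  set SA := Subgroup.closure ({a, d} : Set G) with hSA
  set SB := Subgroup.closure ({b, c} : Set G) with hSB
  have hBA : SB ≤ Subgroup.centralizer ({a, d} : Set G) := by
    rw [hSB, Subgroup.closure_le]
    rintro w (rfl | rfl) <;> refine Subgroup.mem_centralizer_iff.2 ?_ <;> rintro v (rfl | rfl)
    exacts [hab.eq, hdb.eq, hac.eq, hdc.eq]
  have hTsup : T = SA ⊔ SB := by
    rw [hT, hSA, hSB, ← Subgroup.closure_union]
    congr 1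
    ext w
    simp only [Set.mem_insert_iff, Set.mem_singleton_iff, Set.mem_union]
    tauto
  have hTdisj : SA ⊓ SB = ⊥ := eq_bot_iff.2 ((inf_le_inf_left SA hBA).trans pA.le)
  have hTcard : Nat.card ↥T = 36 := by
    rw [hTsup, (sup_props SA SB (fun u hu v hv => pA2 u hu v (hBA hv)) hTdisj).2, Nat.card_congr eA.toEquiv,
      Nat.card_congr eB.toEquiv, Nat.card_perm, Nat.card_fin]
    rfl
  have hKT : K ⊓ T = ⊥ := by
    rw [eq_bot_iff]
    intro k hk
    obtain ⟨hkK, hkT⟩ := Subgroup.mem_inf.1 hk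
    rw [hK] at hkK
    obtain ⟨u, hu, v, hv, rfl⟩ := (sup_props SA SB (fun u hu v hv => pA2 u hu v (hBA hv)) hTdisj).1 k (hTsup ▸ hkT)
    have huK : u ∈ Subgroup.centralizer ({a, d} : Set G) := by
      have h1 : u * v ∈ Subgroup.centralizer ({a, d} : Set G) := Subgroup.centralizer_le (by
        rintro w (rfl | rfl); exacts [haT, hdT]) hkK
      exact (Subgroup.mul_mem_cancel_right _ (hBA hv)).1 h1
    have hu1 : u = 1 := Subgroup.mem_bot.1 (pA ▸ Subgroup.mem_inf.2 ⟨hu, huK⟩)
    subst hu1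
    rw [one_mul] at hkK ⊢
    obtain ⟨pB, -, -, -, -⟩ := pair_normalizer h hb hc hnbc
      (fun z hz hzinv => mem_line_of_invert H hb hc hnbc hz hzinv)
    exact Subgroup.mem_bot.2 (Subgroup.mem_bot.1 (pB ▸ Subgroup.mem_inf.2 ⟨hv, Subgroup.centralizer_le (by
        rintro w (rfl | rfl); exacts [hbT, hcT]) hkK⟩))
  -- the centralizer in K
  obtain ⟨h156, -⟩ := thirteen_at H hx ha (hfix haT)
  have hKX : K ⊓ Subgroup.centralizer ({x} : Set G) = X := by
    set P := Subgroup.centralizer ({x, a} : Set G) with hP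
    set Q := Subgroup.zpowers a ⊔ SB with hQd
    have haB : ∀ u ∈ Subgroup.zpowers a, ∀ v ∈ SB, u * v = v * u := fun u hu v hv => by
      obtain ⟨i, rfl⟩ := Subgroup.mem_zpowers_iff.1 hu
      exact pA2 _ (zpow_mem (Subgroup.subset_closure (by simp)) i) v (hBA hv)
    have hQT : Q ≤ T := hTsup ▸ sup_le_sup_right (Subgroup.zpowers_le.2 (Subgroup.subset_closure (by simp))) _
    have hQ12 : Nat.card ↥Q = 12 := by
      rw [hQd, (sup_props _ _ haB (eq_bot_iff.2 ((inf_le_inf_right SB (Subgroup.zpowers_le.2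
        (Subgroup.subset_closure (by simp) : a ∈ SA))).trans hTdisj.le))).2, Nat.card_zpowers, h.1.1 a ha,
        Nat.card_congr eB.toEquiv, Nat.card_perm, Nat.card_fin]
      rfl
    have hQX : ∀ u ∈ X, ∀ v ∈ Q, u * v = v * u := fun u hu v hv => by
      obtain ⟨i, rfl⟩ := Subgroup.mem_zpowers_iff.1 hu
      exact ((hfix (hQT hv)).symm.zpow_left i).eq
    have hXQ : X ⊔ Q = P := by
      refine Subgroup.eq_of_le_of_card_ge (sup_le (Subgroup.zpowers_le.2 ?_) ?_) ?_
      · rw [hP, Subgroup.mem_centralizer_iff]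
        rintro w (rfl | rfl)
        exacts [rfl, (hfix haT).eq]
      · intro q hq
        rw [hP, Subgroup.mem_centralizer_iff]
        intro w hw
        rcases (Set.mem_insert_iff.1 hw).imp id Set.mem_singleton_iff.1 with e | e <;> rw [e]
        · exact (hfix (hQT hq)).eq.symm
        · have hle : Q ≤ Subgroup.centralizer ({a} : Set G) :=
            sup_le (Subgroup.zpowers_le.2 (Subgroup.mem_centralizer_singleton_iff.2 rfl))
              (hBA.trans (Subgroup.centralizer_le (by simp)))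
          exact (Subgroup.mem_centralizer_singleton_iff.1 (hle hq)).symm
      · rw [h156, (sup_props X Q hQX (Subgroup.inf_eq_bot_of_coprime (by
          rw [hQ12, hX, Nat.card_zpowers, hx]; norm_num))).2, hQ12, hX, Nat.card_zpowers, hx]
    refine le_antisymm (fun k hk => ?_) (le_inf (Subgroup.zpowers_le.2 hB)
      (Subgroup.zpowers_le.2 (Subgroup.mem_centralizer_singleton_iff.2 rfl)))
    obtain ⟨hkK, hkx⟩ := Subgroup.mem_inf.1 hk
    have hkP : k ∈ P := by
      rw [hP, Subgroup.mem_centralizer_iff]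
      rintro w (rfl | rfl)
      · exact (Subgroup.mem_centralizer_singleton_iff.1 hkx).symm
      · rw [hK] at hkK; exact (Subgroup.mem_centralizer_iff.1 hkK) _ haT
    obtain ⟨u, hu, v, hv, rfl⟩ := (sup_props X Q hQX (Subgroup.inf_eq_bot_of_coprime (by
      rw [hQ12, hX, Nat.card_zpowers, hx]; norm_num))).1 k (hXQ.symm ▸ hkP)
    have hvK : v ∈ K := (Subgroup.mul_mem_cancel_left K (Subgroup.zpowers_le.2 hB hu)).1 hkK
    rw [Subgroup.mem_bot.1 (hKT ▸ Subgroup.mem_inf.2 ⟨hvK, hQT hv⟩ : v ∈ (⊥ : Subgroup G)), mul_one]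
    exact hu
  -- counting
  have hXcard : Nat.card ↥X = 13 := hBcard
  have hKN : Nat.card ↥(K ⊓ N) = 78 := by
    set X' := X.subgroupOf K with hX'
    have hXK : X ≤ K := Subgroup.zpowers_le.2 hB
    have hX'card : Nat.card ↥X' = 13 := (Nat.card_congr (Subgroup.subgroupOfEquivOfLe hXK).toEquiv).trans hXcard
    obtain ⟨e, he12, hc⟩ := card_normalizer_eq (p := 13) hX'card
    have hC' : Subgroup.centralizer ((X' : Subgroup ↥K) : Set ↥K) = X' := by
      ext k
      have h0 : ((k : G) ∈ K ⊓ Subgroup.centralizer ({x} : Set G)) ↔ (k : G) ∈ X := by rw [hKX]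
      rw [hX', Subgroup.mem_subgroupOf, ← h0, Subgroup.mem_inf, and_iff_right k.2, ← hCX,
        Subgroup.mem_centralizer_iff, Subgroup.mem_centralizer_iff]
      constructor
      · intro hk w hw
        exact congrArg Subtype.val (hk ⟨w, hXK hw⟩ hw)
      · intro hk w hw
        exact Subtype.ext (hk w hw)
    have hm := (sylow_conj_count (p := 13) (M := 326592) (G := ↥K) (by rw [hKcard]) (by norm_num) hX'card).2
    have hmul := (Subgroup.normalizer ((X' : Subgroup ↥K) : Set ↥K)).card_mul_index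
    rw [hc, hC', hX'card, hKcard] at hmul
    rw [hC', hX'card] at hc
    have e' : (Subgroup.normalizer ((X' : Subgroup ↥K) : Set ↥K)) = N.subgroupOf K := by
      ext k
      rw [Subgroup.mem_subgroupOf, hN, Subgroup.mem_normalizer_iff, Subgroup.mem_normalizer_iff]
      constructor
      · intro hk w
        refine ⟨fun hw => ?_, fun hw => ?_⟩
        · exact (hk ⟨w, hXK hw⟩).1 hw
        · have hwK : w ∈ K := by
            have := mul_mem (mul_mem (inv_mem k.2) (hXK hw)) k.2
            simpa [mul_assoc] using this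
          exact (hk ⟨w, hwK⟩).2 hw
      · intro hk w
        exact hk w
    rw [e', show N.subgroupOf K = (K ⊓ N).subgroupOf K by
        ext w; simp [Subgroup.mem_subgroupOf, w.2],
      Nat.card_congr (Subgroup.subgroupOfEquivOfLe (inf_le_left : K ⊓ N ≤ K)).toEquiv] at hc
    rw [hc]
    have he' : e ≤ 12 := Nat.le_of_dvd (by norm_num) he12
    interval_cases e <;> omega
  have hTN : T ≤ N := hTx.trans (hCX ▸ Subgroup.centralizer_le_normalizer _)
  have hF78 : Nat.card ↥((K ⊓ N) ⊔ T) = 2808 := by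
    have hcm : ∀ u ∈ K ⊓ N, ∀ v ∈ T, u * v = v * u := fun u hu v hv => by
      have hu' := (Subgroup.mem_inf.1 hu).1
      rw [hK] at hu'
      exact ((Subgroup.mem_centralizer_iff.1 hu') v hv).symm
    rw [(sup_props (K ⊓ N) T hcm (eq_bot_iff.2 ((inf_le_inf_right T inf_le_left).trans hKT.le))).2, hKN, hTcard]
  have hC : ∃ k, (k = 3 ∨ k = 6) ∧ Nat.card ↥(Subgroup.centralizer ({x} : Set G)) = k * 156 := by
    set C := Subgroup.centralizer ({x} : Set G) with hCd
    have hCN : C ≤ N := hCX ▸ Subgroup.centralizer_le_normalizer _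
    set O := (fun k => k * a * k⁻¹) '' (C : Set G) with hO
    have hcard : Nat.card ↥C = O.ncard * 156 := by
      rw [← h156]
      exact card_eq_ncard_mul_card (H := C) (K := Subgroup.centralizer ({x, a} : Set G))
        (Subgroup.centralizer_le (by simp)) (fun k => k * a * k⁻¹) (S := O)
        (fun k hk => ⟨k, hk, rfl⟩) (fun z hz => hz) fun k hk l hl => by
          rw [conj_eq_conj_iff, Subgroup.mem_centralizer_iff]
          refine ⟨fun hc => ?_, fun hc => (hc a (by simp)).symm⟩
          rintro w (rfl | rfl)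
          · exact (Subgroup.mem_centralizer_singleton_iff.1 (mul_mem (inv_mem hk) hl)).symm
          · exact hc.symm
    have hOsub : O ⊆ L1 ∪ L2 := by
      rintro _ ⟨k, hk, rfl⟩
      exact hall _ (normalizer_conj_fixed h (hCN hk) ha (hfix haT)).1
        (normalizer_conj_fixed h (hCN hk) ha (hfix haT)).2
    have hL2O : L2 ⊆ O := by
      intro u hu
      simp only [hL2d, Set.mem_insert_iff, Set.mem_singleton_iff] at hu
      rcases hu with e | e | e <;> rw [e]
      · exact ⟨1, one_mem C, by simp⟩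
      · refine ⟨a * d, hTx (mul_mem haT hdT), ?_⟩
        show a * d * a * (a * d)⁻¹ = d
        rw [mul_inv_rev, inv_eq h.1 ha, inv_eq h.1 hd,
          show a * d * a * (d * a) = a * (d * a * d) * a by group, ← braid h.1 ha hd hnad,
          show a * (a * d * a) * a = a * a * d * (a * a) by group, mul_self h.1 ha, one_mul, mul_one]
      · refine ⟨d, hTx hdT, ?_⟩
        show d * a * d⁻¹ = a * d * a
        rw [inv_eq h.1 hd, braid h.1 ha hd hnad]
    refine ⟨O.ncard, ?_, hcard⟩
    have h6 : (L1 ∪ L2).ncard = 6 := by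
      rw [Set.ncard_union_eq (Set.disjoint_left.2 fun v hv hv2 => hne v hv2 v hv rfl), hL1, hL2]
    by_cases hsub : O ⊆ L2
    · exact Or.inl (by rw [Set.Subset.antisymm hsub hL2O, hL2])
    · right
      obtain ⟨_, ⟨g, hg, rfl⟩, hz2⟩ := Set.not_subset.1 hsub
      have hz1 : g * a * g⁻¹ ∈ L1 := (hOsub ⟨g, hg, rfl⟩).resolve_right hz2
      have hgmap : ∀ u ∈ L2, g * u * g⁻¹ ∈ L1 := by
        intro u hu
        obtain ⟨h1, h2⟩ := normalizer_conj_fixed h (hCN hg) (hD2 u hu).1 (hfix (hD2 u hu).2)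
        refine (hall _ h1 h2).resolve_right fun h3 => ?_
        by_cases hua : u = a
        · exact hz2 (hua ▸ h3)
        exact hL2nc u hu a ha2 hua ((commute_conj_iff' g u a).1 (hcomm _ h3 _ hz1))
      have himg : (fun u => g * u * g⁻¹) '' L2 = L1 := by
        refine Set.eq_of_subset_of_ncard_le (Set.image_subset_iff.2 hgmap) ?_ (Set.toFinite _)
        rw [Set.ncard_image_of_injective _ (fun u v huv => mul_left_cancel (mul_right_cancel huv)), hL1, hL2]
      rw [show O = L1 ∪ L2 from Set.Subset.antisymm hOsub (Set.union_subset ?_ hL2O), h6]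
      rw [← himg]
      rintro _ ⟨u, hu, rfl⟩
      obtain ⟨l, hl, rfl⟩ := hL2O hu
      exact ⟨g * l, mul_mem hg hl, by group⟩
  have hNcard : Nat.card ↥N = 5616 := by
    obtain ⟨e, he12, hc⟩ := card_normalizer_eq (p := 13) hXcard
    obtain ⟨k, hk, hCk⟩ := hC
    rw [hCX, hCk] at hc
    have hG : Nat.card G = 13 * 193108570644717187891200 := by
      rw [Transpositions.TypeM24.card_group H]
    have hm := (sylow_conj_count hG (by norm_num) hXcard).2
    have hmul := N.card_mul_index
    rw [← hN] at hm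
    rw [hc, hG] at hmul
    have hM : 193108570644717187891200 = k * 12 * e * N.index :=
      Nat.eq_of_mul_eq_mul_left (show 0 < 13 by norm_num) (by rw [← hmul]; ring)
    have hmod : (k * 12 * e) % 13 = 3 := by
      have h1 : (k * 12 * e * N.index) % 13 = 3 := by rw [← hM]
      rwa [Nat.mul_mod _ N.index, hm, mul_one, Nat.mod_mod] at h1
    have he' : e ≤ 12 := Nat.le_of_dvd (by norm_num) he12
    rw [hc]
    rcases hk with rfl | rfl <;> interval_cases e <;> omega
  refine ⟨hNK, hKN, hCX ▸ hKX, ?_⟩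
  have hle : (K ⊓ N) ⊔ T ≤ N := sup_le inf_le_right hTN
  have h1 := (((K ⊓ N) ⊔ T).subgroupOf N).card_mul_index
  rw [Nat.card_congr (Subgroup.subgroupOfEquivOfLe hle).toEquiv, hF78, hNcard] at h1
  omega

end M24

end CfsgLib.FischerTypes
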