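import Cfsg.Prelude.Def_FischerSpaces

/-!
# Relations among commuting 3-transpositions

Elementary facts on a set `D` of 3-transpositions: when a product of two or three commuting members
centralizes a member, twins, and the absence of short relations among pairwise commuting members.
-/

set_option autoImplicit false

namespace CfsgLib.FischerTypes

open Cfsg

variable {G : Type*} [Group G] {D : Set G}

/-- `a` and `b` commute with the same members of `D`. -/
def Twin (D : Set G) (a b : G) : Prop := ∀ z ∈ D, Commute z a ↔ Commute z b

/-- No two different members of `D` are twins. -/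
def NoTwins (D : Set G) : Prop := ∀ a ∈ D, ∀ b ∈ D, Twin D a b → a = b

/-- No member of `D` is central (in the subgroup generated by `D`). -/
def NoCentral (D : Set G) : Prop := ∀ a ∈ D, ∃ x ∈ D, ¬ Commute x a

/-- A pair of commuting members of `D` is determined by its product. -/
def PairUnique (D : Set G) : Prop :=
  ∀ a ∈ D, ∀ b ∈ D, ∀ c ∈ D, ∀ e ∈ D, a ≠ b → Commute a b → c ≠ e → Commute c e → a * b = c * e →
    (a = c ∧ b = e) ∨ (a = e ∧ b = c)

/-- No `n` different pairwise commuting members of `D` have product `1`. -/
def NoRel (D : Set G) (n : ℕ) : Prop :=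
  ∀ l : List G, l.Nodup → l.length = n → (∀ a ∈ l, a ∈ D) → (∀ a ∈ l, ∀ b ∈ l, Commute a b) →
    l.prod ≠ 1

theorem mul_self (h : IsThreeTranspositionSet D) {a : G} (ha : a ∈ D) : a * a = 1 := by
  rw [← sq, ← h.1 a ha, pow_orderOf_eq_one]

theorem inv_eq (h : IsThreeTranspositionSet D) {a : G} (ha : a ∈ D) : a⁻¹ = a :=
  inv_eq_of_mul_eq_one_right (mul_self h ha)

theorem ne_one (h : IsThreeTranspositionSet D) {a : G} (ha : a ∈ D) : a ≠ 1 := by
  intro h1
  simpa [h1] using h.1 a ha

theorem mul_self_cancel (h : IsThreeTranspositionSet D) {a : G} (ha : a ∈ D) (x : G) :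
    a * (a * x) = x := by
  rw [← mul_assoc, mul_self h ha, one_mul]

theorem braid (h : IsThreeTranspositionSet D) {a b : G} (ha : a ∈ D) (hb : b ∈ D)
    (hab : ¬ Commute a b) : a * b * a = b * a * b := by
  have hA := inv_eq h ha
  have hB := inv_eq h hb
  rcases h.2 a ha b hb with h2 | h3
  · refine absurd ?_ hab
    rw [sq, mul_eq_one_iff_eq_inv, mul_inv_rev, hA, hB] at h2
    exact h2
  · have h4 : (a * b * a) * (b * a * b) = 1 := by rw [← h3]; simp [pow_succ, mul_assoc]
    rw [mul_eq_one_iff_eq_inv] at h4
    rw [h4, mul_inv_rev, mul_inv_rev, hA, hB, ← mul_assoc]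

theorem braid' (h : IsThreeTranspositionSet D) {a b : G} (ha : a ∈ D) (hb : b ∈ D)
    (hab : ¬ Commute a b) (x : G) : a * (b * (a * x)) = b * (a * (b * x)) := by
  have := congrArg (· * x) (braid h ha hb hab)
  simpa [mul_assoc] using this

/-- The conjugate `a * x * a` does not commute with `x` when `a` does not. -/
theorem not_commute_conj (h : IsThreeTranspositionSet D) {a x : G} (ha : a ∈ D) (hx : x ∈ D)
    (hax : ¬ Commute a x) : ¬ Commute (a * x * a) x := by
  intro hc
  apply hax
  have hb := braid h ha hx hax
  have h1 : a * x * a * x = x * a := by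
    rw [hb]; simp [mul_assoc, mul_self h hx]
  have h2 : x * (a * x * a) = a * x := by
    rw [hb]; simp [mul_assoc, mul_self_cancel h hx]
  exact h2.symm.trans (hc.eq.symm.trans h1)

/-- If `c`, `e` commute and `x` commutes with neither, then `c * e` conjugates `x` into an element
commuting with `x`. -/
theorem commute_conj_pair (h : IsThreeTranspositionSet D) {c e x : G} (hc : c ∈ D) (he : e ∈ D)
    (hx : x ∈ D) (hce : Commute c e) (hcx : ¬ Commute c x) (hex : ¬ Commute e x) :
    Commute (c * e * x * e * c) x := by
  show c * e * x * e * c * x = x * (c * e * x * e * c)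
  have hec : c * e * c = e := by rw [hce.eq, mul_assoc, mul_self h hc, mul_one]
  have key : x * (c * e * x * e * c) * x = c * e * x * e * c := by
    calc x * (c * e * x * e * c) * x = (x * c) * (e * x * e) * (c * x) := by simp [mul_assoc]
      _ = (x * c) * (x * e * x) * (c * x) := by rw [braid h he hx hex]
      _ = (x * c * x) * e * (x * c * x) := by simp [mul_assoc]
      _ = (c * x * c) * e * (c * x * c) := by rw [braid h hc hx hcx]
      _ = c * x * (c * e * c) * x * c := by simp [mul_assoc]
      _ = c * (x * e * x) * c := by rw [hec]; simp [mul_assoc]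
      _ = c * (e * x * e) * c := by rw [braid h he hx hex]
      _ = c * e * x * e * c := by simp [mul_assoc]
  calc c * e * x * e * c * x = x * (x * (c * e * x * e * c) * x) := by
        simp [mul_assoc, mul_self_cancel h hx]
    _ = x * (c * e * x * e * c) := by rw [key]

theorem conj_mem (h : IsThreeTranspositionGroup D) {a x : G} (ha : a ∈ D) (hx : x ∈ D) :
    a * x * a ∈ D := by
  have := h.2.1 a x hx
  rwa [inv_eq h.1 ha] at this

/-- A member commuting with the product of two different commuting members commutes with both. -/
theorem commute_of_commute_mul (h : IsThreeTranspositionSet D) {a b x : G} (ha : a ∈ D) (hb : b ∈ D)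
    (hx : x ∈ D) (hab : Commute a b) (hne : a ≠ b) (hx2 : Commute x (a * b)) :
    Commute x a ∧ Commute x b := by
  by_cases hxa : Commute x a
  · refine ⟨hxa, ?_⟩
    have := hxa.mul_right hx2
    rwa [mul_self_cancel h ha] at this
  by_cases hxb : Commute x b
  · refine absurd ?_ hxa
    have := hx2.mul_right hxb
    rwa [mul_assoc, mul_self h hb, mul_one] at this
  exfalso
  apply hne
  have h1 : b * x * b = a * x * a := by
    calc b * x * b = a * ((a * b) * x) * b := by simp [mul_assoc, mul_self_cancel h ha]
      _ = a * (x * (a * b)) * b := by rw [hx2.eq]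
      _ = a * x * a := by simp [mul_assoc, mul_self h hb]
  rw [braid h hb hx (fun hh => hxb hh.symm), braid h ha hx (fun hh => hxa hh.symm)] at h1
  exact (mul_left_cancel (mul_right_cancel h1)).symm

/-- A member commuting with the product of three pairwise commuting members, no two of which are
equal, commutes with each of them. -/
theorem commute_of_commute_mul3 (h : IsThreeTranspositionSet D) {d e f x : G} (hd : d ∈ D)
    (he : e ∈ D) (hf : f ∈ D) (hx : x ∈ D) (cde : Commute d e) (cdf : Commute d f)
    (cef : Commute e f) (nde : d ≠ e) (ndf : d ≠ f) (nef : e ≠ f)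
    (hc : Commute x (d * e * f)) : Commute x d := by
  by_contra hxd
  by_cases hxe : Commute x e
  · -- `x` commutes with `d * f`
    have h1 : Commute x (d * f) := by
      have := hc.mul_right hxe
      rwa [show d * e * f * e = d * f from by
        rw [mul_assoc, ← cef.eq, mul_assoc, mul_self_cancel h he]] at this
    exact hxd (commute_of_commute_mul h hd hf hx cdf ndf h1).1
  by_cases hxf : Commute x f
  · have h1 : Commute x (d * e) := by
      have := hc.mul_right hxf
      rwa [mul_assoc, mul_self h hf, mul_one] at this
    exact hxd (commute_of_commute_mul h hd he hx cde nde h1).1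
  -- `x` commutes with none: `(d e) x (e d)` commutes with `x`, `f x f` does not
  apply not_commute_conj h hf hx (fun hh => hxf hh.symm)
  have h2 : f * x * f = d * e * x * e * d := by
    have h3 : d * e * f = f * (d * e) := (cdf.symm.mul_right cef.symm).eq.symm
    have hde : (d * e) * (d * e) = 1 := by
      rw [cde.eq, mul_assoc, ← mul_assoc d e d, cde.eq, mul_assoc e d d, mul_self h hd, mul_one,
        mul_self h he]
    calc f * x * f = (d * e) * ((d * e * f) * x) * f := by
          rw [← mul_assoc (d * e) (d * e * f) x, ← mul_assoc (d * e) (d * e) f, hde, one_mul]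
      _ = (d * e) * (x * (d * e * f)) * f := by rw [hc.eq]
      _ = (d * e) * x * (d * e) := by simp [mul_assoc, mul_self h hf]
      _ = d * e * x * e * d := by rw [mul_assoc _ e d, ← cde.eq]
  rw [h2]
  exact commute_conj_pair h hd he hx cde (fun hh => hxd hh.symm) (fun hh => hxe hh.symm)

/-- The product of two commuting non-central members is not in `D`. -/
theorem mul_not_mem (h : IsThreeTranspositionSet D) (hnc : NoCentral D) {a b : G}
    (ha : a ∈ D) (hb : b ∈ D) (hab : Commute a b) : a * b ∉ D := by
  intro hc
  by_cases hne : a = b
  · subst hne; rw [mul_self h ha] at hc; exact ne_one h hc rfl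
  obtain ⟨x, hx, hxa⟩ := hnc a ha
  have hxc : ¬ Commute x (a * b) := fun hh => hxa (commute_of_commute_mul h ha hb hx hab hne hh).1
  have hb' := braid h hc hx (fun hh => hxc hh.symm)
  have hba : b * a = a * b := hab.eq.symm
  by_cases hxb : Commute x b
  · -- then `b = 1`
    apply ne_one h hb
    have e1 : a * b * x * (a * b) = a * x * a := by
      calc a * b * x * (a * b) = a * (b * x) * (b * a) := by rw [hba]; simp [mul_assoc]
        _ = a * (x * b) * (b * a) := by rw [hxb.eq]
        _ = a * x * a := by simp [mul_assoc, mul_self_cancel h hb]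
    have e2 : x * (a * b) * x = a * x * a * b := by
      calc x * (a * b) * x = x * a * (b * x) := by simp [mul_assoc]
        _ = x * a * (x * b) := by rw [hxb.eq]
        _ = (x * a * x) * b := by simp [mul_assoc]
        _ = a * x * a * b := by rw [braid h hx ha hxa]
    rw [e1, e2] at hb'
    exact (mul_eq_left).mp hb'.symm
  · -- then `(a b) x (a b)` commutes with `x`, impossible
    apply not_commute_conj h hc hx (fun hh => hxc hh.symm)
    have := commute_conj_pair h ha hb hx hab (fun hh => hxa hh.symm) (fun hh => hxb hh.symm)
    rwa [mul_assoc _ b a, hba] at this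

theorem pairUnique (h : IsThreeTranspositionSet D) (hnt : NoTwins D) : PairUnique D := by
  intro a ha b hb c hc e he hab cab hce cce heq
  have hac : Commute a c ∧ Commute a e :=
    commute_of_commute_mul h hc he ha cce hce (heq ▸ (Commute.refl a).mul_right cab)
  by_cases h1 : a = c
  · subst h1; exact Or.inl ⟨rfl, mul_left_cancel heq⟩
  by_cases h2 : a = e
  · subst h2; rw [cce.eq] at heq; exact Or.inr ⟨rfl, mul_left_cancel heq⟩
  exfalso
  -- one direction of twinning
  have key : ∀ a ∈ D, ∀ b ∈ D, a ≠ b → Commute a b → a * b = c * e → a ≠ c → a ≠ e →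
      Commute a c → Commute a e → ∀ x ∈ D, Commute x b → Commute x a := by
    intro a ha b hb hab cab heq h1 h2 cac cae x hx hxb
    by_contra hxa
    have hbx : b * x * b = x := by rw [← hxb.eq, mul_assoc, mul_self h hb, mul_one]
    have hy : a * x * a = c * e * x * e * c := by
      calc a * x * a = a * (b * x * b) * a := by rw [hbx]
        _ = (a * b) * x * (b * a) := by simp [mul_assoc]
        _ = c * e * x * e * c := by rw [heq, ← cab.eq, heq, cce.eq]; simp [mul_assoc]
    by_cases hxc : Commute x c
    · by_cases hxe : Commute x e
      · exact hxa (commute_of_commute_mul h ha hb hx cab hab (heq ▸ hxc.mul_right hxe)).1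
      · apply h2
        have hz : c * x * c = x := by rw [← hxc.eq, mul_assoc, mul_self h hc, mul_one]
        have : a * x * a = e * x * e := by
          calc a * x * a = c * e * x * e * c := hy
            _ = e * c * x * (c * e) := by rw [cce.eq, mul_assoc _ e c]
            _ = e * (c * x * c) * e := by simp [mul_assoc]
            _ = e * x * e := by rw [hz]
        rw [braid h ha hx (fun hh => hxa hh.symm), braid h he hx (fun hh => hxe hh.symm)] at this
        exact mul_left_cancel (mul_right_cancel this)
    · by_cases hxe : Commute x e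
      · apply h1
        have hz : e * x * e = x := by rw [← hxe.eq, mul_assoc, mul_self h he, mul_one]
        have : a * x * a = c * x * c := by
          calc a * x * a = c * e * x * e * c := hy
            _ = c * (e * x * e) * c := by simp [mul_assoc]
            _ = c * x * c := by rw [hz]
        rw [braid h ha hx (fun hh => hxa hh.symm), braid h hc hx (fun hh => hxc hh.symm)] at this
        exact mul_left_cancel (mul_right_cancel this)
      · apply not_commute_conj h ha hx (fun hh => hxa hh.symm)
        rw [hy]
        exact commute_conj_pair h hc he hx cce (fun hh => hxc hh.symm) (fun hh => hxe hh.symm)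
  have hbc : Commute b c ∧ Commute b e :=
    commute_of_commute_mul h hc he hb cce hce (heq ▸ cab.symm.mul_right (Commute.refl b))
  have heq' : b * a = c * e := cab.eq.symm.trans heq
  have h3 : b ≠ c := by
    intro h; subst h; exact h2 (mul_left_cancel heq')
  have h4 : b ≠ e := by
    intro h; subst h; rw [cce.eq] at heq'; exact h1 (mul_left_cancel heq')
  exact hab (hnt a ha b hb fun x hx =>
    ⟨key b hb a ha (Ne.symm hab) cab.symm heq' h3 h4 hbc.1 hbc.2 x hx,
      key a ha b hb hab cab heq h1 h2 hac.1 hac.2 x hx⟩)

theorem noRel_four (h : IsThreeTranspositionSet D) (hnt : NoTwins D) : NoRel D 4 := by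
  intro l hl hlen hD hc hp
  match l, hlen with
  | [a, b, c, e], _ =>
    simp only [List.nodup_cons, List.mem_cons, List.not_mem_nil, or_false, not_or] at hl
    obtain ⟨⟨hab, hac, hae⟩, ⟨hbc, hbe⟩, hce, -, -⟩ := hl
    have hprod : a * b = e * c := by
      have h4 : (a * b) * (c * e) = 1 := by simpa [mul_assoc] using hp
      rw [mul_eq_one_iff_eq_inv, mul_inv_rev, inv_eq h (hD c (by simp)), inv_eq h (hD e (by simp))] at h4
      exact h4
    rcases pairUnique h hnt a (hD a (by simp)) b (hD b (by simp)) e (hD e (by simp)) c (hD c (by simp))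
      hab (hc a (by simp) b (by simp)) (Ne.symm hce) (hc e (by simp) c (by simp)) hprod with hh | hh
    · exact hae hh.1
    · exact hac hh.1

theorem noRel_three (h : IsThreeTranspositionSet D) (hnc : NoCentral D) : NoRel D 3 := by
  intro l hl hlen hD hc hp
  match l, hlen with
  | [a, b, c], _ =>
    apply mul_not_mem h hnc (hD a (by simp)) (hD b (by simp)) (hc a (by simp) b (by simp))
    have h4 : (a * b) * c = 1 := by simpa [mul_assoc] using hp
    rw [mul_eq_one_iff_eq_inv, inv_eq h (hD c (by simp))] at h4
    rw [h4]
    exact hD c (by simp)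

end CfsgLib.FischerTypes
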