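import Cfsg.Agent.FischerTypes.Types

/-!
# Transitivity on commuting pairs and triples in groups of type M(23)
-/

set_option autoImplicit false
set_option maxHeartbeats 400000

namespace CfsgLib.FischerTypes

open Cfsg

variable {G : Type*} [Group G] {D : Set G}

theorem conj_conj (g h x : G) : g * (h * x * h⁻¹) * g⁻¹ = (g * h) * x * (g * h)⁻¹ := by group

theorem eq_of_conj_eq {g a b c : G} (ha : g * a * g⁻¹ = c) (hb : g * b * g⁻¹ = c) : a = b :=
  mul_left_cancel (mul_right_cancel (ha.trans hb.symm))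

/-- In type M(23) a group is transitive on the ordered triples of different pairwise commuting
members of `D`. -/
theorem exists_conj_triple23 [Finite G] (hU : PSU62Facts) (h : IsThreeTranspositionGroup D)
    (h23 : IsOfTypeM23 G D) {v w : Fin 3 → G} (hv : Function.Injective v) (hw : Function.Injective w)
    (hvD : ∀ i, v i ∈ D) (hwD : ∀ i, w i ∈ D) (hvc : ∀ i j, Commute (v i) (v j))
    (hwc : ∀ i j, Commute (w i) (w j)) : ∃ g : G, ∀ i, g * v i * g⁻¹ = w i := by
  obtain ⟨d, hd, hG, hnc, hN, h22⟩ := nice_of_isOfTypeM23 hU h h23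
  obtain ⟨d', hd', -, hnc', hN'⟩ := nice_of_isOfTypeM22 hU hN.isGroup h22
  obtain ⟨⟨e₀, he₀, he₀d⟩, -⟩ := id hd'
  -- normal form of a triple
  have norm : ∀ v : Fin 3 → G, Function.Injective v → (∀ i, v i ∈ D) →
      (∀ i j, Commute (v i) (v j)) →
      ∃ g : G, g * v 0 * g⁻¹ = d ∧ g * v 1 * g⁻¹ = (e₀ : G) ∧ g * v 2 * g⁻¹ ∈ perp D d ∧
        g * v 2 * g⁻¹ ≠ (e₀ : G) ∧ Commute (g * v 2 * g⁻¹) (e₀ : G) := by
    intro v hv hvD hvc
    obtain ⟨g, hg⟩ := isConj_iff.mp (hG.single _ (hvD 0) d hd)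
    have hp : g * v 1 * g⁻¹ ∈ perp D d := by
      refine ⟨h.2.1 g _ (hvD 1), fun he => ?_, ?_⟩
      · exact absurd (hv (eq_of_conj_eq he hg)) (by decide)
      · rw [← hg, commute_conj_iff']; exact hvc 0 1
    obtain ⟨k, hk, hk1⟩ := exists_conj_perp h hnc hN.single hp he₀
    have hkd : k * d * k⁻¹ = d := by
      rw [Subgroup.mem_centralizer_singleton_iff.mp (closure_le_centralizer d hk)]; group
    have h0 : k * g * v 0 * (k * g)⁻¹ = d := by rw [← conj_conj, hg, hkd]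
    have h1 : k * g * v 1 * (k * g)⁻¹ = (e₀ : G) := by rw [← conj_conj, hk1]
    refine ⟨k * g, h0, h1, ⟨h.2.1 _ _ (hvD 2), fun he => ?_, ?_⟩, fun he => ?_, ?_⟩
    · exact absurd (hv (eq_of_conj_eq he h0)) (by decide)
    · rw [← h0, commute_conj_iff']; exact hvc 0 2
    · exact absurd (hv (eq_of_conj_eq he h1)) (by decide)
    · rw [← h1, commute_conj_iff']; exact hvc 2 1
  obtain ⟨g₁, a0, a1, a2, a3, a4⟩ := norm v hv hvD hvc
  obtain ⟨g₂, b0, b1, b2, b3, b4⟩ := norm w hw hwD hwc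
  set e := g₁ * v 2 * g₁⁻¹ with hedef
  set f := g₂ * w 2 * g₂⁻¹ with hfdef
  -- images of the third members in `D_{d'}`
  have himg : ∀ x, ∀ hx : x ∈ perp D d, x ≠ (e₀ : G) → Commute x (e₀ : G) →
      (QuotientGroup.mk (⟨x, mem_perp_closure hx⟩ : ↥(Subgroup.closure (perp D d))) :
        PerpQuot D d) ∈ perp (img D d) d' := by
    intro x hx hne hc
    refine ⟨mk_mem_img hnc hx, fun he => hne ?_, ?_⟩
    · exact congrArg Subtype.val (mk_inj h (x := ⟨x, mem_perp_closure hx⟩) (y := e₀) hx he₀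
        (mk_ne_one hnc hx) (he.trans he₀d.symm))
    · rw [← he₀d, commute_mk_iff h he₀ hx]; exact hc.symm
  obtain ⟨q, hq, hq1⟩ := exists_conj_perp hN.isGroup hnc' hN'.single (himg e a2 a3 a4) (himg f b2 b3 b4)
  have hqd : q * d' * q⁻¹ = d' := by
    rw [Subgroup.mem_centralizer_singleton_iff.mp (closure_le_centralizer d' hq)]; group
  induction q using QuotientGroup.induction_on with
  | H u =>
    rw [← QuotientGroup.mk_inv, ← QuotientGroup.mk_mul, ← QuotientGroup.mk_mul] at hq1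
    rw [← he₀d, ← QuotientGroup.mk_inv, ← QuotientGroup.mk_mul, ← QuotientGroup.mk_mul] at hqd
    have hu0 : (u : G) * d * (u : G)⁻¹ = d := by
      rw [Subgroup.mem_centralizer_singleton_iff.mp (closure_le_centralizer d u.2)]; group
    have hpe : (u : G) * (e₀ : G) * (u : G)⁻¹ ∈ perp D d := conj_mem_perp' h u.2 he₀
    have hu1 : (u : G) * (e₀ : G) * (u : G)⁻¹ = e₀ := congrArg Subtype.val
      (mk_inj h (x := u * e₀ * u⁻¹) (y := e₀) hpe he₀ (mk_ne_one hnc hpe) hqd)
    have hpf : (u : G) * e * (u : G)⁻¹ ∈ perp D d := conj_mem_perp' h u.2 a2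
    have hu2 : (u : G) * e * (u : G)⁻¹ = f := congrArg Subtype.val
      (mk_inj h (x := u * ⟨e, mem_perp_closure a2⟩ * u⁻¹) (y := ⟨f, mem_perp_closure b2⟩) hpf b2
        (mk_ne_one hnc hpf) hq1)
    refine ⟨g₂⁻¹ * ((u : G) * g₁), fun i => ?_⟩
    fin_cases i
    · show g₂⁻¹ * ((u : G) * g₁) * v 0 * (g₂⁻¹ * ((u : G) * g₁))⁻¹ = w 0
      rw [← conj_conj, ← conj_conj, a0, hu0, ← b0]; group
    · show g₂⁻¹ * ((u : G) * g₁) * v 1 * (g₂⁻¹ * ((u : G) * g₁))⁻¹ = w 1
      rw [← conj_conj, ← conj_conj, a1, hu1, ← b1]; group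
    · show g₂⁻¹ * ((u : G) * g₁) * v 2 * (g₂⁻¹ * ((u : G) * g₁))⁻¹ = w 2
      rw [← conj_conj, ← conj_conj, ← hedef, hu2, hfdef]; group

/-- The centralizer of the product of a commuting triple permutes it as the symmetric group. -/
theorem centralizer_triple_quotient [Finite G] (hU : PSU62Facts) (h : IsThreeTranspositionGroup D)
    (h23 : IsOfTypeM23 G D) {d₁ d₂ d₃ : G} (h₁ : d₁ ∈ D) (h₂ : d₂ ∈ D) (h₃ : d₃ ∈ D)
    (h12 : d₁ ≠ d₂) (h13 : d₁ ≠ d₃) (h23' : d₂ ≠ d₃) (c12 : Commute d₁ d₂) (c13 : Commute d₁ d₃)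
    (c23 : Commute d₂ d₃) (K C : Subgroup G)
    (hK : K = Subgroup.centralizer ({d₁, d₂, d₃} : Set G))
    (hC : C = Subgroup.centralizer ({d₁ * d₂ * d₃} : Set G)) :
    K ≤ C ∧ ∃ _ : (K.subgroupOf C).Normal, Nonempty (↥C ⧸ K.subgroupOf C ≃* Equiv.Perm (Fin 3)) := by
  have hKmem : ∀ x : G, x ∈ K ↔ x * d₁ = d₁ * x ∧ x * d₂ = d₂ * x ∧ x * d₃ = d₃ * x := by
    intro x
    rw [hK, Subgroup.mem_centralizer_iff]
    refine ⟨fun hh => ⟨(hh d₁ (by simp)).symm, (hh d₂ (by simp)).symm, (hh d₃ (by simp)).symm⟩, ?_⟩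
    rintro ⟨e1, e2, e3⟩ y (rfl | rfl | rfl)
    exacts [e1.symm, e2.symm, e3.symm]
  have hCmem : ∀ x : G, x ∈ C ↔ x * (d₁ * d₂ * d₃) = d₁ * d₂ * d₃ * x := fun x => by
    rw [hC, Subgroup.mem_centralizer_singleton_iff]
  have hKC : K ≤ C := fun x hx => by
    obtain ⟨e1, e2, e3⟩ := (hKmem x).mp hx
    exact (hCmem x).mpr (((show Commute x d₁ from e1).mul_right e2).mul_right e3).eq
  refine ⟨hKC, ?_⟩
  obtain ⟨d, hd, hG, hnc, hN, h22⟩ := nice_of_isOfTypeM23 hU h h23
  have hpu := pairUnique h.1 hG.noTwins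
  have h6 := (noRel_of_M23 hU h h23).2
  set v : Fin 3 → G := ![d₁, d₂, d₃] with hv
  have hvi : Function.Injective v := by
    intro i j hij
    fin_cases i <;> fin_cases j <;> simp_all [eq_comm]
  have hvD : ∀ i, v i ∈ D := by intro i; fin_cases i <;> assumption
  have hvc : ∀ i j, Commute (v i) (v j) := by
    intro i j
    fin_cases i <;> fin_cases j <;>
      first
        | exact Commute.refl _
        | assumption
        | exact Commute.symm (by assumption)
  have hex : ∀ x : C, ∀ i, ∃ j, v j = (x : G) * v i * (x : G)⁻¹ := by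
    intro x i
    have hx := (hCmem _).mp x.2
    have htr := triple_unique h.1 hpu h6 (a := (x : G) * d₁ * (x : G)⁻¹) (b := (x : G) * d₂ * (x : G)⁻¹)
      (c := (x : G) * d₃ * (x : G)⁻¹) (a' := d₁) (b' := d₂) (c' := d₃)
      (by
        intro y hy
        simp only [List.mem_cons, List.not_mem_nil, or_false] at hy
        rcases hy with rfl | rfl | rfl | rfl | rfl | rfl
        exacts [h.2.1 _ _ h₁, h.2.1 _ _ h₂, h.2.1 _ _ h₃, h₁, h₂, h₃])
      (fun he => h12 (mul_left_cancel (mul_right_cancel he)))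
      (fun he => h13 (mul_left_cancel (mul_right_cancel he)))
      (fun he => h23' (mul_left_cancel (mul_right_cancel he)))
      ((commute_conj_iff' _ _ _).mpr c12) ((commute_conj_iff' _ _ _).mpr c13)
      ((commute_conj_iff' _ _ _).mpr c23) h12 h13 h23' c12 c13 c23
      (by
        calc (x : G) * d₁ * (x : G)⁻¹ * ((x : G) * d₂ * (x : G)⁻¹) * ((x : G) * d₃ * (x : G)⁻¹)
            = (x : G) * (d₁ * d₂ * d₃) * (x : G)⁻¹ := by group
          _ = d₁ * d₂ * d₃ := by rw [hx]; group)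
    have : (x : G) * v i * (x : G)⁻¹ ∈ [d₁, d₂, d₃] := (htr _).mp (by fin_cases i <;> simp [hv])
    simp only [List.mem_cons, List.not_mem_nil, or_false] at this
    rcases this with h' | h' | h'
    exacts [⟨0, h'.symm⟩, ⟨1, h'.symm⟩, ⟨2, h'.symm⟩]
  choose σ hσ using hex
  have hmul : ∀ x y i, σ (x * y) i = σ x (σ y i) := by
    intro x y i
    apply hvi
    rw [hσ, hσ, hσ, Subgroup.coe_mul, conj_conj]
  have hone : ∀ i, σ 1 i = i := by
    intro i; apply hvi; rw [hσ]; simp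
  let φ : ↥C →* Equiv.Perm (Fin 3) :=
    { toFun := fun x => ⟨σ x, σ x⁻¹, fun i => by rw [← hmul, inv_mul_cancel, hone],
        fun i => by rw [← hmul, mul_inv_cancel, hone]⟩
      map_one' := Equiv.ext hone
      map_mul' := fun x y => Equiv.ext (hmul x y) }
  have hker : φ.ker = K.subgroupOf C := by
    ext x
    rw [MonoidHom.mem_ker, Subgroup.mem_subgroupOf, hKmem]
    constructor
    · intro hx
      have : ∀ i, (x : G) * v i = v i * (x : G) := fun i => by
        have h1 : σ x i = i := Equiv.ext_iff.mp hx i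
        have h2 := hσ x i
        rw [h1] at h2
        exact (mul_inv_eq_iff_eq_mul.mp h2.symm)
      exact ⟨this 0, this 1, this 2⟩
    · rintro ⟨e1, e2, e3⟩
      refine Equiv.ext fun i => hvi ((hσ x i).trans ?_)
      fin_cases i
      · show (x : G) * d₁ * (x : G)⁻¹ = d₁; rw [e1]; group
      · show (x : G) * d₂ * (x : G)⁻¹ = d₂; rw [e2]; group
      · show (x : G) * d₃ * (x : G)⁻¹ = d₃; rw [e3]; group
  have hsurj : Function.Surjective φ := by
    intro π
    obtain ⟨g, hg⟩ := exists_conj_triple23 hU h h23 hvi (w := v ∘ π) (hvi.comp π.injective) hvD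
      (fun i => hvD (π i)) hvc (fun i j => hvc _ _)
    have hperm : (List.ofFn (v ∘ π)).prod = (List.ofFn v).prod := by
      refine List.Perm.prod_eq' (Equiv.Perm.ofFn_comp_perm π v) ?_
      simp only [List.pairwise_ofFn]
      intro i j _
      exact hvc _ _
    have hgC : g ∈ C := by
      rw [hCmem]
      have h1 : g * (d₁ * d₂ * d₃) * g⁻¹ = d₁ * d₂ * d₃ := by
        calc g * (d₁ * d₂ * d₃) * g⁻¹ = (g * v 0 * g⁻¹) * (g * v 1 * g⁻¹) * (g * v 2 * g⁻¹) := by
              simp [hv]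
          _ = (v ∘ π) 0 * (v ∘ π) 1 * (v ∘ π) 2 := by rw [hg, hg, hg]
          _ = (List.ofFn (v ∘ π)).prod := by simp [List.ofFn_succ, mul_assoc]
          _ = (List.ofFn v).prod := hperm
          _ = d₁ * d₂ * d₃ := by simp [hv, List.ofFn_succ, mul_assoc]
      exact mul_inv_eq_iff_eq_mul.mp h1
    exact ⟨⟨g, hgC⟩, Equiv.ext fun i => hvi ((hσ _ i).trans (hg i))⟩
  have hn : (K.subgroupOf C).Normal := hker ▸ φ.normal_ker
  exact ⟨hn, ⟨(QuotientGroup.quotientMulEquivOfEq hker.symm).trans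
    (QuotientGroup.quotientKerEquivOfSurjective φ hsurj)⟩⟩

end CfsgLib.FischerTypes
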