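import Cfsg.Agent.FischerTypes.Relations

/-!
# Twins in 3-transposition groups
-/

set_option autoImplicit false

namespace CfsgLib.FischerTypes

open Cfsg

variable {G : Type*} [Group G] {D : Set G}

theorem mem_center_of_forall (h : IsThreeTranspositionGroup D) {g : G}
    (hg : ∀ x ∈ D, Commute g x) : g ∈ Subgroup.center G := by
  rw [Subgroup.mem_center_iff]
  intro y
  have hy : y ∈ Subgroup.closure D := h.2.2 ▸ Subgroup.mem_top y
  have hle : Subgroup.closure D ≤ Subgroup.centralizer ({g} : Set G) :=
    (Subgroup.closure_le _).mpr fun x hx =>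
      Subgroup.mem_centralizer_singleton_iff.mpr (hg x hx).eq.symm
  exact Subgroup.mem_centralizer_singleton_iff.mp (hle hy)

theorem noCentral_of_center_eq_bot (h : IsThreeTranspositionGroup D)
    (hZ : Subgroup.center G = ⊥) : NoCentral D := by
  intro a ha
  by_contra hc
  push Not at hc
  have hm := mem_center_of_forall h (g := a) fun x hx => (hc x hx).symm
  rw [hZ, Subgroup.mem_bot] at hm
  exact ne_one h.1 ha hm

theorem commute_conj_iff' (g a b : G) : Commute (g * a * g⁻¹) (g * b * g⁻¹) ↔ Commute a b :=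
  Commute.conj_iff g

theorem twin_conj (h : IsThreeTranspositionGroup D) {a b : G} (ha : a ∈ D) (hb : b ∈ D)
    (hab : Twin D a b) {x : G} (hx : x ∈ D) : Twin D x (a * b * x * b * a) := by
  have cab : Commute a b := (hab a ha).mp (Commute.refl a)
  have hba : b * a = a * b := cab.eq.symm
  have key : ∀ x ∈ D, ∀ t ∈ D, Commute t x → Commute t (a * b * x * b * a) := by
    intro x hx t ht htx
    by_cases hta : Commute t a
    · have htb := (hab t ht).mp hta
      exact ((((hta.mul_right htb).mul_right htx).mul_right htb).mul_right hta)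
    by_cases hxa : Commute x a
    · have hxb := (hab x hx).mp hxa
      have : a * b * x * b * a = x := by
        calc a * b * x * b * a = a * b * (x * (b * a)) := by simp [mul_assoc]
          _ = a * b * ((b * a) * x) := by rw [(hxb.mul_right hxa).eq]
          _ = x := by simp [mul_assoc, mul_self_cancel h.1 hb, mul_self_cancel h.1 ha]
      rwa [this]
    have htb : ¬ Commute t b := fun hh => hta ((hab t ht).mpr hh)
    have hxb : ¬ Commute x b := fun hh => hxa ((hab x hx).mpr hh)
    have hw := commute_conj_pair h.1 hx ht ha htx.symm hxa hta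
    have hwD : x * t * a * t * x ∈ D := by
      have := conj_mem h hx (conj_mem h ht ha)
      simpa [mul_assoc] using this
    have hwb : Commute (x * t * a * t * x) b := (hab _ hwD).mp hw
    have h1 : Commute (b * x * b) (a * t * a) := by
      rw [braid h.1 hb hx (fun hh => hxb hh.symm), braid h.1 ha ht (fun hh => hta hh.symm)]
      have h2 := (commute_conj_iff' x b (x * t * a * t * x)).mpr hwb.symm
      rw [inv_eq h.1 hx] at h2
      have h3 : x * (x * t * a * t * x) * x = t * a * t := by
        simp [mul_assoc, mul_self h.1 hx, mul_self_cancel h.1 hx]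
      rwa [h3] at h2
    have h2 := (commute_conj_iff' a _ _).mpr h1
    rw [inv_eq h.1 ha] at h2
    have h3 : a * (a * t * a) * a = t := by
      simp [mul_assoc, mul_self h.1 ha, mul_self_cancel h.1 ha]
    rw [h3] at h2
    simpa [mul_assoc] using h2.symm
  intro t ht
  refine ⟨key x hx t ht, fun h2 => ?_⟩
  have hx' : a * b * x * b * a ∈ D := by
    simpa [mul_assoc] using conj_mem h ha (conj_mem h hb hx)
  have := key _ hx' t ht h2
  have h3 : a * b * (a * b * x * b * a) * b * a = x := by
    calc a * b * (a * b * x * b * a) * b * a = (a * b) * (a * b) * x * ((b * a) * (b * a)) := by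
          simp [mul_assoc]
      _ = (a * b) * (b * a) * x * ((b * a) * (a * b)) := by rw [hba]
      _ = x := by simp [mul_assoc, mul_self h.1 ha, mul_self h.1 hb, mul_self_cancel h.1 hb,
            mul_self_cancel h.1 ha]
  rwa [h3] at this

theorem Twin.conj (h : IsThreeTranspositionGroup D) {a b : G} (hab : Twin D a b) (g : G) :
    Twin D (g * a * g⁻¹) (g * b * g⁻¹) := by
  intro z hz
  have hz' : g⁻¹ * z * g ∈ D := by simpa using h.2.1 g⁻¹ z hz
  have hzz : g * (g⁻¹ * z * g) * g⁻¹ = z := by group
  rw [← hzz, commute_conj_iff', commute_conj_iff']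
  exact hab _ hz'

theorem Twin.trans {a b c : G} (h1 : Twin D a b) (h2 : Twin D b c) : Twin D a c :=
  fun z hz => (h1 z hz).trans (h2 z hz)

theorem Twin.symm {a b : G} (h1 : Twin D a b) : Twin D b a := fun z hz => (h1 z hz).symm

/-- The subgroup of elements moving each member of `D` to a twin of it. -/
def twinKernel (h : IsThreeTranspositionGroup D) : Subgroup G where
  carrier := {g | ∀ x ∈ D, Twin D x (g * x * g⁻¹)}
  one_mem' := by intro x _ z _; simp
  mul_mem' := by
    intro g k hg hk x hx
    refine (hk x hx).trans ?_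
    have h1 := hg _ (h.2.1 k x hx)
    simpa [mul_assoc] using h1
  inv_mem' := by
    intro g hg x hx
    have hx' : g⁻¹ * x * g ∈ D := by simpa using h.2.1 g⁻¹ x hx
    have h1 := hg _ hx'
    rw [show g * (g⁻¹ * x * g) * g⁻¹ = x from by group] at h1
    simpa using h1.symm

theorem twinKernel_normal (h : IsThreeTranspositionGroup D) : (twinKernel h).Normal where
  conj_mem g hg k := by
    intro x hx
    have hx' : k⁻¹ * x * k ∈ D := by simpa using h.2.1 k⁻¹ x hx
    have h1 := (hg _ hx').conj h k
    simpa [mul_assoc] using h1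

theorem noTwins_of_simple [IsSimpleGroup G] (h : IsThreeTranspositionGroup D)
    (hZ : Subgroup.center G = ⊥) : NoTwins D := by
  intro a ha b hb hab
  have hm : a * b ∈ twinKernel h := by
    intro x hx
    have := twin_conj h ha hb hab hx
    rwa [mul_inv_rev, inv_eq h.1 ha, inv_eq h.1 hb, ← mul_assoc]
  have := twinKernel_normal h
  rcases this.eq_bot_or_eq_top with hK | hK
  · rw [hK, Subgroup.mem_bot, mul_eq_one_iff_eq_inv, inv_eq h.1 hb] at hm
    exact hm
  · exfalso
    obtain ⟨x, hx, hxa⟩ := noCentral_of_center_eq_bot h hZ a ha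
    have h1 : x ∈ twinKernel h := hK ▸ Subgroup.mem_top x
    have h2 := h1 a ha a ha
    rw [inv_eq h.1 hx] at h2
    exact not_commute_conj h.1 hx ha hxa (h2.mp (Commute.refl a)).symm

theorem noTwins_of_primitive (h : IsThreeTranspositionGroup D) (hZ : Subgroup.center G = ⊥)
    (hp : IsPrimitiveUnderConj D) : NoTwins D := by
  intro a ha b hb hab
  have hblock : ∀ g : G, (fun x => g * x * g⁻¹) '' {x | x ∈ D ∧ Twin D a x} = {x | x ∈ D ∧ Twin D a x} ∨
      Disjoint ((fun x => g * x * g⁻¹) '' {x | x ∈ D ∧ Twin D a x}) {x | x ∈ D ∧ Twin D a x} := by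
    intro g
    by_cases hd : ∃ y, y ∈ (fun x => g * x * g⁻¹) '' {x | x ∈ D ∧ Twin D a x} ∧
        y ∈ {x | x ∈ D ∧ Twin D a x}
    · left
      obtain ⟨y, ⟨u, ⟨huD, hu⟩, rfl⟩, hyD, hy⟩ := hd
      have hga : Twin D a (g * a * g⁻¹) := hy.trans (hu.symm.conj h g)
      ext z
      constructor
      · rintro ⟨v, ⟨hvD, hv⟩, rfl⟩
        exact ⟨h.2.1 g v hvD, hga.trans (hv.conj h g)⟩
      · rintro ⟨hzD, hz⟩
        refine ⟨g⁻¹ * z * g, ⟨by simpa using h.2.1 g⁻¹ z hzD, ?_⟩, by group⟩
        have := (hga.symm.trans hz).conj h g⁻¹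
        simpa [mul_assoc] using this
    · right
      push Not at hd
      exact Set.disjoint_left.mpr hd
  rcases hp.2.2 {x | x ∈ D ∧ Twin D a x} (fun x hx => hx.1) hblock with hB | hB
  · exact hB ⟨ha, fun _ _ => Iff.rfl⟩ ⟨hb, hab⟩
  · exfalso
    obtain ⟨x, hx, hxa⟩ := noCentral_of_center_eq_bot h hZ a ha
    have h1 : x ∈ {x | x ∈ D ∧ Twin D a x} := by rw [hB]; exact hx
    exact hxa ((h1.2 x hx).mpr (Commute.refl x))

theorem isConj_of_not_commute (h : IsThreeTranspositionSet D) {a b : G} (ha : a ∈ D) (hb : b ∈ D)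
    (hab : ¬ Commute a b) : IsConj a b := by
  rw [isConj_iff]
  refine ⟨a * b, ?_⟩
  rw [mul_inv_rev, inv_eq h ha, inv_eq h hb]
  calc a * b * a * (b * a) = a * (b * a * b) * a := by simp [mul_assoc]
    _ = a * (a * b * a) * a := by rw [braid h ha hb hab]
    _ = b := by simp [mul_assoc, mul_self h ha, mul_self_cancel h ha]

end CfsgLib.FischerTypes
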