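import Cfsg.Agent.FischerTypes.U62Model

/-!
# Central extensions of `PSU(6,2)` by a group of order two

Transvections lift to involutions, commuting transvections to commuting involutions, and therefore every
involution lifts to an involution.
-/

set_option autoImplicit false

namespace CfsgLib.U62

open Matrix CfsgLib.RepBounds.Unit
open scoped commutatorElement

variable {F : Type*} [Field F] [Fintype F] (C : ConjField F) (hC : C.q = 2)
  {P S : Type*} [Group P] [Group S] (π : P →* S) (hπ : Function.Surjective π) (hk : π.ker ≤ Subgroup.center P)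
  (φ : suG C I6 →* S)

local notation "ee" => vE C (Fin 2 ⊕ Fin 2)

section centralExt

include hπ hk

omit hπ in
theorem commutes_of_map_one {a : P} (ha : π a = 1) (p : P) : Commute a p :=
  (Subgroup.mem_center_iff.1 (hk ha) p).symm

omit hπ in
/-- Two elements over the same element differ centrally. -/
theorem exists_central_mul {a b : P} (h : π a = π b) : ∃ c ∈ Subgroup.center P, b = a * c :=
  ⟨a⁻¹ * b, hk (show π (a⁻¹ * b) = 1 by rw [map_mul, map_inv, h, inv_mul_cancel]),
    (mul_inv_cancel_left a b).symm⟩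

/-- Commutators in the centraliser of an image lift into the centraliser. -/
theorem commute_lift_of_mem_derived {u : P} {K : Subgroup S} (hK : ∀ s ∈ K, Commute (π u) s) {x : P}
    (hx : π x ∈ ⁅K, K⁆) : Commute u x := by
  have h1 : ⁅K, K⁆ ≤ (Subgroup.centralizer ({u} : Set P)).map π := by
    rw [Subgroup.commutator_le]
    intro a ha b hb
    obtain ⟨a, rfl⟩ := hπ a
    obtain ⟨b, rfl⟩ := hπ b
    refine ⟨⁅a, b⁆, ?_, map_commutatorElement π a b⟩
    rw [SetLike.mem_coe, Subgroup.mem_centralizer_singleton_iff]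
    have key : ∀ y : P, Commute (π u) (π y) → ∃ c ∈ Subgroup.center P, u * y * u⁻¹ = y * c := by
      intro y hy
      refine exists_central_mul π hk ?_
      rw [map_mul, map_mul, map_inv, hy.eq, mul_inv_cancel_right]
    obtain ⟨c, hc, hca⟩ := key a (hK _ ha)
    obtain ⟨c', hc', hcb⟩ := key b (hK _ hb)
    have hinv : u * ⁅a, b⁆ * u⁻¹ = ⁅a, b⁆ := by
      have e : u * ⁅a, b⁆ * u⁻¹ = ⁅u * a * u⁻¹, u * b * u⁻¹⁆ := by simp only [commutatorElement_def]; group
      rw [e, hca, hcb, commutatorElement_def, commutatorElement_def]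
      have h1 : Commute c b := (Subgroup.mem_center_iff.1 hc b).symm
      have h2 : Commute c' a⁻¹ := (Subgroup.mem_center_iff.1 hc' a⁻¹).symm
      calc a * c * (b * c') * (a * c)⁻¹ * (b * c')⁻¹
          = a * (c * b) * (c' * c⁻¹ * a⁻¹) * (c'⁻¹ * b⁻¹) := by group
        _ = a * (b * c) * (c⁻¹ * (c' * a⁻¹)) * (c'⁻¹ * b⁻¹) := by
            rw [h1.eq, show c' * c⁻¹ = c⁻¹ * c' from (Subgroup.mem_center_iff.1 hc' c⁻¹).symm]; group
        _ = a * b * (c' * a⁻¹) * (c'⁻¹ * b⁻¹) := by group
        _ = a * b * a⁻¹ * b⁻¹ := by rw [h2.eq]; group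
    exact ((mul_inv_eq_iff_eq_mul).mp hinv).symm
  obtain ⟨x', hx', hxx⟩ := h1 hx
  obtain ⟨c, hc, rfl⟩ := exists_central_mul π hk hxx
  exact (show Commute u x' from (Subgroup.mem_centralizer_singleton_iff.1 hx').symm).mul_right
    (Subgroup.mem_center_iff.1 hc u)

include hC

/-- Lifts of commuting transvections commute. -/
theorem commute_lift {p q : I6 → F} (hp : herm C p p = 0) (hp0 : p ≠ 0) (hq : herm C q q = 0) (hq0 : q ≠ 0)
    (hpq : herm C q p = 0) {x y : P} (hx : π x = φ (tv C p)) (hy : π y = φ (tv C q)) : Commute x y := by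
  have hbase : ∀ {q : I6 → F}, herm C q q = 0 → q ≠ 0 → herm C q ee = 0 → ∀ {x y : P},
      π x = φ (tv C ee) → π y = φ (tv C q) → Commute x y := by
    intro q hq hq0 hqe x y hx hy
    rcases tv_mem_derived C hC hq hq0 hqe with h | h
    · refine commute_lift_of_mem_derived π hπ hk (K := (stabE C).map φ) ?_ ?_
      · rintro _ ⟨g, hg, rfl⟩
        rw [hx]
        have h1 := conj_tv C hC g (herm_vE_vE C)
        rw [mem_stabE C |>.1 hg, mul_inv_eq_iff_eq_mul] at h1
        exact (Commute.map (show Commute (tv C ee) g from h1.symm) φ)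
      · rw [hy, ← Subgroup.map_commutator]
        exact Subgroup.mem_map_of_mem φ h
    · obtain ⟨c, hc, rfl⟩ := exists_central_mul π hk (hx.trans ((congrArg φ h).symm.trans hy.symm))
      exact (Commute.refl x).mul_right (Subgroup.mem_center_iff.1 hc x)
  obtain ⟨t, ht⟩ := exists_map_eq C hp hp0
  obtain ⟨k, hk'⟩ := hπ (φ t)
  have h := hbase (q := app C t q) (by rw [herm_app, hq])
    (fun h => hq0 (by rw [← app_inv_app C t q, h]; simp [app])) (by rw [← ht, herm_app, hpq])
    (x := k * x * k⁻¹) (y := k * y * k⁻¹)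
    (by rw [map_mul, map_mul, map_inv, hk', hx, ← map_inv, ← map_mul, ← map_mul, conj_tv C hC t hp, ht])
    (by rw [map_mul, map_mul, map_inv, hk', hy, ← map_inv, ← map_mul, ← map_mul, conj_tv C hC t hq])
  exact (Commute.conj_iff k).mp h

variable (hk2 : ∀ a : P, π a = 1 → a * a = 1)
include hk2

/-- Every lift of a transvection is an involution. -/
theorem lift_mul_self {p : I6 → F} (hp : herm C p p = 0) (hp0 : p ≠ 0) {x : P} (hx : π x = φ (tv C p)) :
    x * x = 1 := by
  classical
  have sq : ∀ {a b : P}, π a = π b → a * a = b * b := fun {a b} h => by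
    obtain ⟨c, hc, rfl⟩ := exists_central_mul π hk h
    have hc2 : c * c = 1 := hk2 c (by
      rw [map_mul] at h
      exact mul_left_cancel (h.symm.trans (mul_one _).symm))
    rw [mul_assoc, ← mul_assoc c a c, ← Subgroup.mem_center_iff.1 hc a, mul_assoc a c c, hc2, mul_one]
  obtain ⟨L, hL⟩ : ∃ L : (I6 → F) → P, ∀ v, π (L v) = φ (tv C v) :=
    ⟨fun v => (hπ (φ (tv C v))).choose, fun v => (hπ (φ (tv C v))).choose_spec⟩
  set s := L ee * L ee with hs
  have hs2 : s * s = 1 := by
    refine hk2 s ?_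
    rw [hs, map_mul, hL, ← map_mul, tv_mul_self C hC (herm_vE_vE C), map_one]
  have hall : ∀ v, herm C v v = 0 → v ≠ 0 → L v * L v = s := by
    intro v hv hv0
    obtain ⟨t, ht⟩ := exists_map_eq C hv hv0
    obtain ⟨k, hk'⟩ := hπ (φ t)
    have h : π (k * L v * k⁻¹) = π (L ee) := by
      rw [map_mul, map_mul, map_inv, hk', hL, hL, ← map_inv, ← map_mul, ← map_mul, conj_tv C hC t hv, ht]
    have h2 : k * (L v * L v) * k⁻¹ = s := by
      rw [hs, ← sq h]; group
    have hcen : Commute (L v * L v) k := commutes_of_map_one π hk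
      (by rw [map_mul, hL, ← map_mul, tv_mul_self C hC hv, map_one]) k
    rwa [← hcen.eq, mul_inv_cancel_right] at h2
  suffices h : s = 1 by
    rw [sq (hx.trans (hL p).symm), hall p hp hp0, h]
  obtain ⟨q, hq, heq, hqe⟩ := exists_second C
  obtain ⟨w, hw0, -, hw⟩ := exists_omega C hC
  have hqe' : herm C q ee = 0 := by rw [← conj_herm, heq, map_zero]
  have h0 : ∀ a : F, herm C (ee + a • q) (ee + a • q) = 0 := fun a => by
    simp [herm_add_left, herm_add_right, herm_smul_left, herm_smul_right, herm_vE_vE, hq, heq, hqe']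
  have hn : ∀ a : F, a ≠ 0 → ee + a • q ≠ 0 := by
    intro a ha h
    refine hqe (-a⁻¹) ?_
    have : a • q = -ee := eq_neg_of_add_eq_zero_right h
    rw [neg_smul, ← smul_neg, ← this, inv_smul_smul₀ ha]
  have hn0 : q ≠ 0 := fun h => hqe 0 (by rw [h, zero_smul])
  have hline := tv_line C hC (herm_vE_vE C) hq heq hw
  rw [show ee + q = ee + (1 : F) • q by rw [one_smul]] at hline
  set A := L q; set B := L (ee + (1 : F) • q); set D := L (ee + w • q); set E := L (ee + (w ^ 2) • q)
  have hrel : π (A * B * D * E) = π (L ee) := by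
    simp only [map_mul, hL, A, B, D, E, hline]
  have orth : ∀ a b : F, herm C (ee + a • q) (ee + b • q) = 0 := fun a b => by
    simp [herm_add_left, herm_add_right, herm_smul_left, herm_smul_right, herm_vE_vE, hq, heq, hqe']
  have orth' : ∀ a : F, herm C (ee + a • q) q = 0 := fun a => by
    simp [herm_add_left, herm_smul_left, hq, heq]
  have cc : ∀ a b : F, a ≠ 0 → b ≠ 0 → Commute (L (ee + a • q)) (L (ee + b • q)) := fun a b ha hb =>
    commute_lift C hC π hπ hk φ (h0 a) (hn a ha) (h0 b) (hn b hb) (orth b a) (hL _) (hL _)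
  have ca : ∀ a : F, a ≠ 0 → Commute A (L (ee + a • q)) := fun a ha =>
    commute_lift C hC π hπ hk φ hq hn0 (h0 a) (hn a ha) (orth' a) (hL _) (hL _)
  have h4 : s = A * A * (B * B) * (D * D) * (E * E) := by
    rw [hs, ← sq hrel]
    have hw2 := pow_ne_zero 2 hw0
    have e1 := Commute.mul_mul_mul_comm (ca 1 one_ne_zero).symm A B
    calc A * B * D * E * (A * B * D * E)
        = (A * B) * (D * E) * ((A * B) * (D * E)) := by group
      _ = (A * B) * (A * B) * ((D * E) * (D * E)) := by
          refine Commute.mul_mul_mul_comm ?_ _ _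
          exact (((ca _ hw0).symm.mul_left (ca _ hw2).symm)).mul_right
            ((cc _ _ hw0 one_ne_zero).mul_left (cc _ _ hw2 one_ne_zero))
      _ = _ := by
          rw [e1, Commute.mul_mul_mul_comm (cc _ _ hw2 hw0) D E]; simp only [B, D, E]; group
  rw [hall q hq hn0, hall _ (h0 1) (hn 1 one_ne_zero), hall _ (h0 w) (hn w hw0),
    hall _ (h0 _) (hn _ (pow_ne_zero 2 hw0)), hs2, one_mul, hs2] at h4
  exact h4

end centralExt

include hC hπ hk

/-- Every involution lifts to an involution. -/
theorem exists_lift_involution (hk2 : ∀ a : P, π a = 1 → a * a = 1) (hφ : Function.Surjective φ)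
    (hφk : φ.ker = Subgroup.center (suG C I6)) (x : S) (hx : x * x = 1) :
    ∃ y : P, π y = x ∧ y * y = 1 := by
  obtain ⟨g, rfl⟩ := hφ x
  obtain ⟨h, hh, hgh⟩ := exists_involution_lift C hC (g := g)
    (hφk ▸ (show φ (g * g) = 1 by rw [map_mul, hx]))
  rw [← hφk, MonoidHom.mem_ker, map_mul, map_inv, inv_mul_eq_one] at hgh
  rw [hgh]
  obtain ⟨l, hl, hl'⟩ := exists_list_tv C hC h hh
  have horth : ∀ a ∈ l, ∀ b ∈ l, herm C a b = 0 := by
    intro a ha b hb
    obtain ⟨-, -, u, rfl⟩ := hl a ha
    obtain ⟨-, -, u', rfl⟩ := hl b hb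
    exact herm_image C hC hh u u'
  rw [hl']
  clear hl' hgh
  induction l with
  | nil => exact ⟨1, by simp, one_mul 1⟩
  | cons v l ih =>
    obtain ⟨y, hy, hy2⟩ := ih (fun a ha => hl a (List.mem_cons_of_mem _ ha))
      (fun a ha b hb => horth a (List.mem_cons_of_mem _ ha) b (List.mem_cons_of_mem _ hb))
    obtain ⟨hv, hv0, -⟩ := hl v List.mem_cons_self
    obtain ⟨t, ht⟩ := hπ (φ (tv C v))
    refine ⟨t * y, by rw [map_mul, ht, hy, List.map_cons, List.prod_cons, map_mul], ?_⟩
    have hcomm : Commute t y := by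
      have key : ∀ m : List (I6 → F), (∀ a ∈ m, a ∈ l) → ∃ y', π y' = φ (m.map (tv C)).prod ∧ Commute t y' := by
        intro m hm
        induction m with
        | nil => exact ⟨1, by simp, Commute.one_right t⟩
        | cons a m ihm =>
          obtain ⟨y', h1, h2⟩ := ihm fun b hb => hm b (List.mem_cons_of_mem _ hb)
          obtain ⟨s, hs⟩ := hπ (φ (tv C a))
          have hal := List.mem_cons_of_mem v (hm a List.mem_cons_self)
          refine ⟨s * y', by rw [map_mul, hs, h1, List.map_cons, List.prod_cons, map_mul], ?_⟩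
          exact (commute_lift C hC π hπ hk φ hv hv0 (hl a hal).1 (hl a hal).2.1
            (horth a hal v List.mem_cons_self) ht hs).mul_right h2
      obtain ⟨y', h1, h2⟩ := key l fun a ha => ha
      obtain ⟨c, hc, rfl⟩ := exists_central_mul π hk (h1.trans hy.symm)
      exact h2.mul_right (Subgroup.mem_center_iff.1 hc t)
    rw [Commute.mul_mul_mul_comm hcomm.symm t y, lift_mul_self C hC π hπ hk φ hk2 hv hv0 ht, hy2, one_mul]

end CfsgLib.U62
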